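import Groth.Agent.EGA41Lib.PSeparable
import Groth.Agent.CAlgH.FieldSmooth
import Groth.Agent.AbVarLib.PerfectReduced

/-!
# Separable field extensions and formal smoothness

EGA 0, 19.6.1 and 20.6.3.
-/

set_option autoImplicit false

universe v v' w

open TensorProduct Groth.Agent.EGA41Lib.PB

namespace Groth.Agent.EGA41Lib

variable (R : Type w) [CommRing R] (E : Type v) (F : Type v') [Field E] [Field F] [Algebra E F] [Algebra R E] [Algebra R F]
  [IsScalarTower R E F]

/-- Formal smoothness gives injectivity on differentials. -/
theorem injective_mapBaseChange_of_formallySmooth [Algebra.FormallySmooth E F] :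
    Function.Injective (KaehlerDifferential.mapBaseChange R E F) := by
  rw [injective_iff_map_eq_zero]
  intro x hx
  obtain ⟨y, rfl⟩ := (Algebra.H1Cotangent.exact_δ_mapBaseChange R E F x).mp hx
  rw [Subsingleton.elim y 0, map_zero]

/-- Over a base over which `F` is formally smooth, injectivity on differentials gives formal smoothness. -/
theorem formallySmooth_of_injective [Algebra.FormallySmooth R F]
    (h : Function.Injective (KaehlerDifferential.mapBaseChange R E F)) : Algebra.FormallySmooth E F := by
  refine ⟨inferInstance, subsingleton_of_forall_eq 0 fun y => ?_⟩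
  obtain ⟨z, rfl⟩ := (Algebra.H1Cotangent.exact_map_δ R E F y).mp
    (h (by rw [Algebra.H1Cotangent.exact_δ_mapBaseChange R E F |>.apply_apply_eq_zero, map_zero]))
  rw [Subsingleton.elim z 0, map_zero]

omit [Algebra E F] in
/-- A field extension in characteristic zero is geometrically reduced. -/
theorem isGeometricallyReduced_of_charZero (E F : Type v) [Field E] [Field F] [CharZero E] [Algebra E F] :
    Algebra.IsGeometricallyReduced E F := by
  rw [Algebra.isGeometricallyReduced_field_iff]
  exact AbVarLib.isReduced_field_tensor_perfect E (AlgebraicClosure E) F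

variable {E F} (p : ℕ) [hp : Fact p.Prime] [CharP E p] [CharP F p]

omit [Algebra R F] [IsScalarTower R E F] [CharP F p] in
lemma exists_pow_eq_of_mem_powAlg (hR : ∀ r : R, ∃ e : E, e ^ p = algebraMap R E r) {c : E}
    (hc : c ∈ powAlg p R E) : ∃ e, e ^ p = c := by
  induction hc using Algebra.adjoin_induction with
  | mem y hy => obtain ⟨e, he⟩ := hy; exact ⟨e, he⟩
  | algebraMap r => exact hR r
  | add x y _ _ hx hy =>
    obtain ⟨a, rfl⟩ := hx
    obtain ⟨b, rfl⟩ := hy
    exact ⟨a + b, add_pow_char a b p⟩
  | mul x y _ _ hx hy =>
    obtain ⟨a, rfl⟩ := hx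
    obtain ⟨b, rfl⟩ := hy
    exact ⟨a * b, mul_pow a b p⟩

omit [CharP F p] in
lemma exists_pow_eq_algebraMap_int (r : ℤ) : ∃ e : E, e ^ p = algebraMap ℤ E r :=
  ⟨(r : E), by rw [eq_intCast, ← frobenius_def, map_intCast]⟩

omit [Algebra R F] [IsScalarTower R E F] in
/-- The criterion over a base made of `p`-th powers, e.g. the prime field. -/
theorem macLane_of_injective_prime (hR : ∀ r : R, ∃ e : E, e ^ p = algebraMap R E r) [Algebra R F]
    [IsScalarTower R E F] (h : Function.Injective (KaehlerDifferential.mapBaseChange R E F)) : MacLane p E F :=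
  macLane_of_injective p R h fun t s hs c hc h0 =>
    eq_zero_of_forall_pow p t s hs c (fun i => exists_pow_eq_of_mem_powAlg R p hR (hc i)) h0

variable (E F)

omit hp [CharP E p] [CharP F p] [Algebra R E] [Algebra R F] [IsScalarTower R E F] in
/-- EGA 0 19.6.1. -/
theorem formallySmooth_iff_isGeometricallyReduced_field (E F : Type v) [Field E] [Field F] [Algebra E F] :
    Algebra.FormallySmooth E F ↔ Algebra.IsGeometricallyReduced E F := by
  obtain _ | ⟨p, hp, hpE⟩ := CharP.exists' E
  · exact ⟨fun _ => isGeometricallyReduced_of_charZero E F, fun _ => CAlgH.formallySmooth_of_perfectField_any E F⟩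
  · haveI : CharP F p := charP_of_injective_algebraMap (algebraMap E F).injective p
    let := ZMod.algebra E p
    let := ZMod.algebra F p
    have : IsScalarTower (ZMod p) E F := .of_algebraMap_eq' (RingHom.ext_zmod _ _)
    have hR : ∀ r : ZMod p, ∃ e : E, e ^ p = algebraMap (ZMod p) E r :=
      fun r => ⟨algebraMap (ZMod p) E r, by rw [← map_pow, ZMod.pow_card]⟩
    constructor
    · intro h
      exact isGeometricallyReduced_of_macLane p (macLane_of_injective_prime (ZMod p) p hR
        (injective_mapBaseChange_of_formallySmooth (ZMod p) E F))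
    · intro h
      have : Algebra.FormallySmooth (ZMod p) F := CAlgH.formallySmooth_of_perfectField_any (ZMod p) F
      exact formallySmooth_of_injective (ZMod p) E F
        (injective_mapBaseChange_of_macLane p (ZMod p) (macLane_of_isGeometricallyReduced p))

omit hp [CharP E p] [CharP F p] in
/-- EGA 0 20.6.3 (i). -/
theorem injective_mapBaseChange_of_isGeometricallyReduced [Algebra.IsGeometricallyReduced E F] :
    Function.Injective (KaehlerDifferential.mapBaseChange R E F) := by
  obtain _ | ⟨p, hp, hpE⟩ := CharP.exists' E
  · haveI := CAlgH.formallySmooth_of_perfectField_any E F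
    exact injective_mapBaseChange_of_formallySmooth R E F
  · haveI : CharP F p := charP_of_injective_algebraMap (algebraMap E F).injective p
    exact injective_mapBaseChange_of_macLane p R (macLane_of_isGeometricallyReduced p)

omit hp [CharP E p] [CharP F p] [Algebra R E] [Algebra R F] [IsScalarTower R E F] in
/-- EGA 0 20.6.3 (ii). -/
theorem isGeometricallyReduced_of_injective_mapBaseChange (E F K : Type v) [Field E] [Field F] [Algebra E F]
    [Field K] [Algebra K E] [Algebra K F]
    [IsScalarTower K E F] [Algebra.IsGeometricallyReduced K F]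
    (h : Function.Injective (KaehlerDifferential.mapBaseChange K E F)) : Algebra.IsGeometricallyReduced E F := by
  haveI := (formallySmooth_iff_isGeometricallyReduced_field K F).2 inferInstance
  exact (formallySmooth_iff_isGeometricallyReduced_field E F).1 (formallySmooth_of_injective K E F h)

end Groth.Agent.EGA41Lib
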