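import Groth.Agent.CommAlg6.AtPrime
import Mathlib

/-!
# Dimensions of supports

EGA 0 16.1.8, 16.1.9, 16.3.4: the dimension of the localized support is the height of the prime in
the support, and the dimension of `M/𝔭M` its coheight.
-/

set_option autoImplicit false

universe u v

open Order
open scoped Pointwise

namespace Groth.Agent.EGA41Lib

variable {A : Type u} [CommRing A] {M : Type v} [AddCommGroup M] [Module A M]

theorem supportDim_localizedModule_eq_height (p : PrimeSpectrum A) (hp : p ∈ Module.support A M) :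
    Module.supportDim (Localization.AtPrime p.asIdeal) (LocalizedModule p.asIdeal.primeCompl M) =
      (height (⟨p, hp⟩ : Module.support A M) : ℕ∞) := by
  rw [height_eq_krullDim_Iic, Module.supportDim]
  let P := Localization.AtPrime p.asIdeal
  have hle : ∀ Q : PrimeSpectrum P, Q.comap (algebraMap A P) ≤ p := fun Q ↦
    CommAlg6.under_le p.asIdeal Q.asIdeal
  let f : Module.support P (LocalizedModule p.asIdeal.primeCompl M) →
      Set.Iic (⟨p, hp⟩ : Module.support A M) := fun Q ↦
    ⟨⟨Q.1.comap (algebraMap A P), (CommAlg6.mem_support_localizedModule p.asIdeal Q.1).1 Q.2⟩,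
      show Q.1.comap (algebraMap A P) ≤ p from hle Q.1⟩
  have hcomap : ∀ Q Q' : PrimeSpectrum P,
      Q.comap (algebraMap A P) ≤ Q'.comap (algebraMap A P) ↔ Q ≤ Q' := by
    intro Q Q'
    refine ⟨fun h ↦ ?_, fun h ↦ Ideal.comap_mono h⟩
    change Q.asIdeal ≤ Q'.asIdeal
    rw [← IsLocalization.map_under p.asIdeal.primeCompl P Q.asIdeal,
      ← IsLocalization.map_under p.asIdeal.primeCompl P Q'.asIdeal]
    exact Ideal.map_mono h
  have hinj : Function.Injective f := fun Q Q' h ↦ by
    have h' : Q.1.comap (algebraMap A P) = Q'.1.comap (algebraMap A P) :=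
      congrArg (fun z : Set.Iic (⟨p, hp⟩ : Module.support A M) ↦ z.1.1) h
    exact Subtype.ext (le_antisymm ((hcomap _ _).1 h'.le) ((hcomap _ _).1 h'.ge))
  have hsurj : Function.Surjective f := by
    rintro ⟨⟨q, hq⟩, hqp⟩
    obtain ⟨Q, hQ, hQq⟩ := CommAlg6.exists_under_eq p.asIdeal q.asIdeal (show q ≤ p from hqp)
    have e : (⟨Q, hQ⟩ : PrimeSpectrum P).comap (algebraMap A P) = q := PrimeSpectrum.ext hQq
    exact ⟨⟨⟨Q, hQ⟩, (CommAlg6.mem_support_localizedModule p.asIdeal _).2 (e ▸ hq)⟩,
      Subtype.ext (Subtype.ext e)⟩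
  exact Order.krullDim_eq_of_orderIso
    { toEquiv := Equiv.ofBijective f ⟨hinj, hsurj⟩
      map_rel_iff' := fun {Q Q'} ↦ hcomap Q.1 Q'.1 }

theorem ringKrullDim_quotient_eq_coheight [Module.Finite A M] (p : PrimeSpectrum A)
    (hp : p ∈ Module.support A M) :
    ringKrullDim (A ⧸ p.asIdeal) = (coheight (⟨p, hp⟩ : Module.support A M) : ℕ∞) := by
  rw [coheight_eq_krullDim_Ici, ringKrullDim_quotient]
  refine Order.krullDim_eq_of_orderIso
    { toFun := fun q ↦ ⟨⟨q.1, Module.mem_support_mono (show p ≤ q.1 from q.2) hp⟩, q.2⟩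
      invFun := fun q ↦ ⟨q.1.1, q.2⟩
      left_inv := fun _ ↦ rfl, right_inv := fun _ ↦ rfl, map_rel_iff' := Iff.rfl }

theorem supportDim_quotient_prime [Module.Finite A M] (p : PrimeSpectrum A)
    (hp : p ∈ Module.support A M) :
    Module.supportDim A (M ⧸ (p.asIdeal • (⊤ : Submodule A M))) = ringKrullDim (A ⧸ p.asIdeal) := by
  have : Module.support A (M ⧸ (p.asIdeal • (⊤ : Submodule A M))) =
      PrimeSpectrum.zeroLocus (p.asIdeal : Set A) := by
    rw [Module.support_quotient]
    refine Set.inter_eq_right.2 fun q hq ↦ Module.mem_support_mono (show p ≤ q from hq) hp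
  rw [Module.supportDim, this, ringKrullDim_quotient]

theorem supportDim_localized_add_le [Module.Finite A M] (p : PrimeSpectrum A) :
    Module.supportDim (Localization.AtPrime p.asIdeal) (LocalizedModule p.asIdeal.primeCompl M) +
      Module.supportDim A (M ⧸ (p.asIdeal • (⊤ : Submodule A M))) ≤ Module.supportDim A M := by
  by_cases hp : p ∈ Module.support A M
  · rw [supportDim_localizedModule_eq_height p hp, supportDim_quotient_prime p hp,
      ringKrullDim_quotient_eq_coheight p hp, Module.supportDim]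
    haveI : Nonempty (Module.support A M) := ⟨⟨p, hp⟩⟩
    rw [Order.krullDim_eq_iSup_height_add_coheight_of_nonempty, ← WithBot.coe_add, WithBot.coe_le_coe]
    exact le_iSup (fun a : Module.support A M ↦ height a + coheight a) ⟨p, hp⟩
  · have : Subsingleton (LocalizedModule p.asIdeal.primeCompl M) := by
      rwa [← Module.notMem_support_iff]
    rw [Module.supportDim_eq_bot_of_subsingleton (R := Localization.AtPrime p.asIdeal)
      (M := LocalizedModule p.asIdeal.primeCompl M), WithBot.bot_add]
    exact bot_le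

theorem ringKrullDim_le_add_fibre (A B : Type u) [CommRing A] [CommRing B] [IsLocalRing A] [IsLocalRing B]
    [IsNoetherianRing A] [IsNoetherianRing B] [Algebra A B] [IsLocalHom (algebraMap A B)] :
    ringKrullDim B ≤ ringKrullDim A +
      ringKrullDim (B ⧸ (IsLocalRing.maximalIdeal A).map (algebraMap A B)) := by
  have : (IsLocalRing.maximalIdeal B).LiesOver (IsLocalRing.maximalIdeal A) :=
    ⟨(IsLocalRing.maximalIdeal_comap (algebraMap A B)).symm⟩
  have h := Ideal.height_le_height_add_of_liesOver (IsLocalRing.maximalIdeal A) (IsLocalRing.maximalIdeal B)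
  rw [← IsLocalRing.maximalIdeal_height_eq_ringKrullDim, ← IsLocalRing.maximalIdeal_height_eq_ringKrullDim]
  refine (WithBot.coe_le_coe.2 h).trans ?_
  rw [WithBot.coe_add]
  gcongr
  refine Ideal.height_le_ringKrullDim_of_ne_top fun htop ↦ ?_
  have hle : (IsLocalRing.maximalIdeal A).map (algebraMap A B) ≤ IsLocalRing.maximalIdeal B :=
    IsLocalRing.map_maximalIdeal_le _
  have h1 := congrArg (Ideal.comap (Ideal.Quotient.mk ((IsLocalRing.maximalIdeal A).map (algebraMap A B)))) htop
  rw [Ideal.comap_map_of_surjective _ Ideal.Quotient.mk_surjective, Ideal.comap_top,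
    ← RingHom.ker_eq_comap_bot, Ideal.mk_ker, sup_eq_left.2 hle] at h1
  exact (IsLocalRing.maximalIdeal.isMaximal B).ne_top h1

theorem ringKrullDim_lt_top_of_semilocal (A : Type u) [CommRing A] [IsNoetherianRing A]
    [Finite (MaximalSpectrum A)] : ringKrullDim A < ⊤ := by
  have : ∀ m : MaximalSpectrum A, ∃ n : ℕ, m.asIdeal.height ≤ n := fun m ↦
    ⟨m.asIdeal.height.toNat, (ENat.coe_toNat (Ideal.height_ne_top m.isMaximal.ne_top)).ge⟩
  choose n hn using this
  obtain ⟨N, hN⟩ := (Set.finite_range n).bddAbove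
  refine lt_of_le_of_lt (b := ((N : ℕ∞) : WithBot ℕ∞)) ?_ (WithBot.coe_lt_coe.2 (WithTop.coe_lt_top N))
  rw [ringKrullDim_le_iff_isMaximal_height_le]
  intro m hm
  exact WithBot.coe_le_coe.2 ((hn ⟨m, hm⟩).trans (Nat.cast_le.2 (hN ⟨_, rfl⟩)))

end Groth.Agent.EGA41Lib
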