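import Groth.Agent.EGA41Lib.SupportDim
import Groth.Agent.S5767
import Groth.Agent.CAlgH3.CohenMacaulay
import Mathlib

/-! Systems of parameters for finite modules over Noetherian semi-local rings. -/

set_option autoImplicit false
set_option backward.isDefEq.respectTransparency.types false
universe u

open scoped Pointwise

namespace Groth.Agent.EGA41Lib

variable {A : Type u} [CommRing A] [IsNoetherianRing A]

theorem isFiniteLength_iff_supportDim_le_zero (M : Type u) [AddCommGroup M] [Module A M] [Module.Finite A M] :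
    IsFiniteLength A M ↔ Module.supportDim A M ≤ 0 := by
  rw [isFiniteLength_iff_isNoetherian_isArtinian, Module.supportDim_eq_ringKrullDim_quotient_annihilator]
  have hann : ∀ a ∈ Module.annihilator A M, ∀ m : M, a • m = 0 := fun a ha m => Module.mem_annihilator.1 ha m
  constructor
  · rintro ⟨-, hart⟩
    obtain ⟨n, v, hv⟩ := Module.Finite.exists_fin (R := A) (M := M)
    let f : A →ₗ[A] (Fin n → M) := LinearMap.pi fun i => LinearMap.toSpanSingleton A M (v i)
    have hker : LinearMap.ker f = Module.annihilator A M := by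
      ext a
      rw [LinearMap.mem_ker, Module.mem_annihilator, funext_iff]
      constructor
      · intro h m
        have hle : Submodule.span A (Set.range v) ≤ LinearMap.ker (LinearMap.lsmul A M a) :=
          Submodule.span_le.2 (by rintro _ ⟨i, rfl⟩; simpa [f] using h i)
        exact hle (hv ▸ Submodule.mem_top)
      · intro h i; simp [f, h]
    let g := (Submodule.liftQ (Module.annihilator A M) f hker.ge)
    have hg : Function.Injective g := by
      rw [← LinearMap.ker_eq_bot]; exact Submodule.ker_liftQ_eq_bot _ _ _ hker.le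
    have : IsArtinian A (A ⧸ Module.annihilator A M) := isArtinian_of_injective g hg
    have : IsArtinianRing (A ⧸ Module.annihilator A M) := isArtinian_of_tower A this
    rcases subsingleton_or_nontrivial (A ⧸ Module.annihilator A M) with h | h
    · rw [ringKrullDim_eq_bot_of_subsingleton]; exact bot_le
    · exact Ring.krullDimLE_iff.1 inferInstance
  · intro h
    refine ⟨inferInstance, ?_⟩
    have : Ring.KrullDimLE 0 (A ⧸ Module.annihilator A M) := (Ring.krullDimLE_iff).2 h
    have : IsArtinianRing (A ⧸ Module.annihilator A M) := IsNoetherianRing.isArtinianRing_of_krullDimLE_zero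
    let _ : Module (A ⧸ Module.annihilator A M) M := Module.IsTorsionBySet.module (fun m a => hann a a.2 m)
    have : IsScalarTower A (A ⧸ Module.annihilator A M) M := Module.IsTorsionBySet.isScalarTower _
    have : Module.Finite (A ⧸ Module.annihilator A M) M := Module.Finite.of_restrictScalars_finite A _ _
    exact isArtinian_of_surjective_algebraMap (R := A ⧸ Module.annihilator A M) Ideal.Quotient.mk_surjective

omit [IsNoetherianRing A] in
theorem mem_ideal_jacobson (I : Ideal A) {x : A} (hx : x ∈ Ring.jacobson A) : x ∈ I.jacobson :=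
  Ideal.mem_sInf.2 fun {J} hJ => have := hJ.2; Ring.jacobson_le_of_isMaximal J hx

theorem supportDim_le_quotient_ofList_of_mem_jacobson (xs : List A) :
    ∀ (M : Type u) [AddCommGroup M] [Module A M] [Module.Finite A M], (∀ x ∈ xs, x ∈ Ring.jacobson A) →
    Module.supportDim A M ≤ Module.supportDim A (M ⧸ (Ideal.ofList xs • (⊤ : Submodule A M))) + xs.length := by
  induction xs with
  | nil =>
    intro M _ _ _ _
    have hb : Ideal.ofList ([] : List A) • (⊤ : Submodule A M) = ⊥ := by
      rw [Ideal.ofList_nil, Submodule.bot_smul]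
    rw [Module.supportDim_eq_of_equiv (Submodule.quotEquivOfEqBot _ hb), List.length_nil, Nat.cast_zero, add_zero]
  | cons x xs ih =>
    intro M _ _ _ hxs
    refine (Module.supportDim_le_supportDim_quotSMulTop_succ_of_mem_jacobson (M := M)
      (mem_ideal_jacobson _ (hxs x (by simp)))).trans ?_
    rw [Module.supportDim_eq_of_equiv (Submodule.quotOfListConsSMulTopEquivQuotSMulTopInner M x xs),
      List.length_cons, Nat.cast_add, Nat.cast_one, ← add_assoc]
    exact add_le_add (ih (QuotSMulTop x M) (fun y hy => hxs y (by simp [hy]))) le_rfl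

theorem supportDim_eq_natCast_of_semilocal [Finite (MaximalSpectrum A)] (M : Type u) [AddCommGroup M]
    [Module A M] [Module.Finite A M] [Nontrivial M] :
    ∃ d : ℕ, Module.supportDim A M = ((d : ℕ∞) : WithBot ℕ∞) := by
  have h2 : Module.supportDim A M < ⊤ :=
    (Module.supportDim_le_ringKrullDim A M).trans_lt (ringKrullDim_lt_top_of_semilocal A)
  obtain ⟨e, he⟩ := WithBot.ne_bot_iff_exists.1 (Module.supportDim_ne_bot_of_nontrivial A (M := M))
  rw [← he] at h2 ⊢
  exact ⟨e.toNat, by rw [ENat.coe_toNat (WithBot.coe_lt_coe.1 h2).ne]⟩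

theorem exists_parameter [Finite (MaximalSpectrum A)] (M : Type u) [AddCommGroup M] [Module A M]
    [Module.Finite A M] {d : ℕ} (hd : Module.supportDim A M = ((d : ℕ∞) : WithBot ℕ∞)) (hd0 : 0 < d) :
    ∃ x ∈ Ring.jacobson A, Module.supportDim A (QuotSMulTop x M) + 1 = Module.supportDim A M := by
  let S : Set (PrimeSpectrum A) := {p | p ∈ Module.support A M ∧ ringKrullDim (A ⧸ p.asIdeal) = Module.supportDim A M}
  have hfin : S.Finite := by
    refine Set.Finite.of_finite_image ((Module.annihilator A M).finite_minimalPrimes_of_isNoetherianRing.subset ?_)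
      (fun a _ b _ h => PrimeSpectrum.ext h)
    rintro _ ⟨p, ⟨hp, hpd⟩, rfl⟩
    have hann : Module.annihilator A M ≤ p.asIdeal := by rw [Module.support_eq_zeroLocus] at hp; exact hp
    obtain ⟨q, hq, hqp⟩ := Ideal.exists_minimalPrimes_le hann
    rcases hqp.lt_or_eq with hlt | heq
    · exfalso
      have hq1 := hq.1.1
      let q' : PrimeSpectrum A := ⟨q, hq1⟩
      have hqs : q' ∈ Module.support A M := by rw [Module.support_eq_zeroLocus]; exact hq.1.2
      have h1 : ringKrullDim (A ⧸ p.asIdeal) + 1 ≤ Module.supportDim A M := by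
        have e1 : ringKrullDim (A ⧸ p.asIdeal) + 1 ≤ ringKrullDim (A ⧸ q) :=
          Groth.Agent.CAlgH3.ringKrullDim_quotient_add_one_le (p := q) (q := p.asIdeal) hlt
        have e2 : ringKrullDim (A ⧸ q) ≤ Module.supportDim A M :=
          Groth.Agent.CAlgH3.ringKrullDim_quotient_le_supportDim (p := q') hqs
        exact le_trans e1 e2
      rw [hpd, hd] at h1
      have : d + 1 ≤ d := by exact_mod_cast h1
      omega
    · exact heq ▸ hq
  by_contra hcon
  push Not at hcon
  have hle : (Ring.jacobson A : Set A) ⊆ ⋃ p ∈ (hfin.toFinset : Set (PrimeSpectrum A)), p.asIdeal := by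
    intro x hx
    by_contra hnot
    refine hcon x hx ((Groth.Agent.S5767.result A M x hx).2 fun p hp hpd hxp => hnot ?_)
    exact Set.mem_biUnion (x := p) (by simp [S, hp, hpd]) hxp
  have hS : ∀ p ∈ hfin.toFinset, ¬ (Ring.jacobson A ≤ p.asIdeal) := by
    intro p hp hjp
    rw [Set.Finite.mem_toFinset] at hp
    have := Fintype.ofFinite (MaximalSpectrum A)
    have hJ : (Finset.univ.inf fun m : MaximalSpectrum A => m.asIdeal) ≤ p.asIdeal := by
      refine le_trans ?_ hjp
      rw [Ring.jacobson_eq_sInf_isMaximal]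
      exact le_sInf fun m hm => Finset.inf_le (f := fun m : MaximalSpectrum A => m.asIdeal) (Finset.mem_univ ⟨m, hm⟩)
    obtain ⟨m, -, hm⟩ := (Ideal.IsPrime.inf_le' p.2).1 hJ
    have hpm : m.asIdeal = p.asIdeal := m.2.eq_of_le p.2.ne_top hm
    have hmax : p.asIdeal.IsMaximal := hpm ▸ m.2
    obtain ⟨-, hpd⟩ := hp
    rw [ringKrullDim_eq_zero_of_isField ((Ideal.Quotient.maximal_ideal_iff_isField_quotient _).1 hmax), hd] at hpd
    have : 0 = d := by exact_mod_cast hpd
    omega
  have : Nontrivial M := by
    rw [← Module.supportDim_ne_bot_iff_nontrivial A, hd]; exact WithBot.coe_ne_bot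
  obtain ⟨p0, -⟩ := (Module.nonempty_support_of_nontrivial : (Module.support A M).Nonempty)
  obtain ⟨p, hp, hle'⟩ := (Ideal.subset_union_prime (f := fun p : PrimeSpectrum A => p.asIdeal) p0 p0
    (fun p _ _ _ => p.2)).1 hle
  exact hS p hp hle'

theorem exists_sop [Finite (MaximalSpectrum A)] (d : ℕ) :
    ∀ (M : Type u) [AddCommGroup M] [Module A M] [Module.Finite A M],
      Module.supportDim A M = ((d : ℕ∞) : WithBot ℕ∞) →
      ∃ ys : List A, ys.length = d ∧ (∀ y ∈ ys, y ∈ Ring.jacobson A) ∧
        Module.supportDim A (M ⧸ (Ideal.ofList ys • (⊤ : Submodule A M))) ≤ 0 := by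
  induction d with
  | zero =>
    intro M _ _ _ hd
    refine ⟨[], rfl, by simp, ?_⟩
    exact (Module.supportDim_le_of_surjective _ (Submodule.mkQ_surjective _)).trans (by rw [hd]; rfl)
  | succ d ih =>
    intro M _ _ _ hd
    obtain ⟨x, hx, hxd⟩ := exists_parameter M hd (Nat.succ_pos d)
    rw [hd, Nat.cast_add, Nat.cast_one, WithBot.coe_add, WithBot.coe_one] at hxd
    obtain ⟨ys, h1, h2, h3⟩ := ih (QuotSMulTop x M) (CAlgH3.withBot_add_one_cancel hxd)
    refine ⟨x :: ys, by simp [h1], fun y hy => ?_, ?_⟩
    · rcases List.mem_cons.1 hy with rfl | hy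
      exacts [hx, h2 y hy]
    · rwa [Module.supportDim_eq_of_equiv (Submodule.quotOfListConsSMulTopEquivQuotSMulTopInner M x ys)]

omit [IsNoetherianRing A] in
theorem supportDim_quotient_append (M : Type u) [AddCommGroup M] [Module A M] [Module.Finite A M] (xs ys : List A) :
    Module.supportDim A (M ⧸ (Ideal.ofList (xs ++ ys) • (⊤ : Submodule A M))) =
      Module.supportDim A ((M ⧸ (Ideal.ofList xs • (⊤ : Submodule A M))) ⧸
        (Ideal.ofList ys • (⊤ : Submodule A (M ⧸ (Ideal.ofList xs • (⊤ : Submodule A M)))))) := by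
  simp only [Module.supportDim]
  rw [Module.support_quotient, Module.support_quotient, Module.support_quotient, Ideal.ofList_append,
    PrimeSpectrum.zeroLocus_sup, Set.inter_assoc]

end Groth.Agent.EGA41Lib
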