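import Mathlib
import Groth.Agent.EGA41Lib.SemiLocalSop
import Groth.Agent.LocCoh.Monomial

/-!
# The Hilbert-Samuel polynomial

Eventual polynomiality is proved for families `M n` of finite length modules with commuting maps
`x j : M n → M (n+1)` in which every stable subfamily is generated in bounded degrees. For the associated
graded module that condition is stability of filtrations below a stable one (Artin-Rees).
-/

set_option autoImplicit false

universe u

namespace Groth.Agent.EGA41Lib.HS

/-- `f` is eventually given by a polynomial of degree `< r`, in binomial form. -/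
def EP (f : ℕ → ℤ) (r : ℕ) : Prop :=
  ∃ (a : ℕ → ℤ) (N : ℕ), ∀ n, N ≤ n → f n = ∑ i ∈ Finset.range r, (n.choose i : ℤ) * a i

theorem EP.sub {f g : ℕ → ℤ} {r : ℕ} (hf : EP f r) (hg : EP g r) : EP (fun n => f n - g n) r := by
  obtain ⟨a, N, ha⟩ := hf
  obtain ⟨b, N', hb⟩ := hg
  refine ⟨a - b, max N N', fun n hn => ?_⟩
  show f n - g n = _
  rw [ha n (le_trans (le_max_left _ _) hn), hb n (le_trans (le_max_right _ _) hn), ← Finset.sum_sub_distrib]
  exact Finset.sum_congr rfl fun i _ => by rw [Pi.sub_apply]; ring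

theorem EP.of_diff {f g : ℕ → ℤ} {r : ℕ} (hg : EP g r) (h : ∀ n, f (n + 1) - f n = g n) : EP f (r + 1) := by
  obtain ⟨a, N, ha⟩ := hg
  let F : ℕ → ℤ := fun n => f n - ∑ i ∈ Finset.range r, (n.choose (i + 1) : ℤ) * a i
  refine ⟨fun i => if i = 0 then F N else a (i - 1), N, fun n hn => ?_⟩
  have hF : F n = F N := by
    induction n, hn using Nat.le_induction with
    | base => rfl
    | succ n hn ih =>
      rw [← ih]
      have h1 := h n
      rw [ha n hn] at h1
      simp only [F, Nat.choose_succ_succ, Nat.cast_add, add_mul, Finset.sum_add_distrib]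
      linear_combination h1
  rw [Finset.sum_range_succ']
  simp only [Nat.choose_zero_right, Nat.cast_one, one_mul, if_pos, Nat.succ_ne_zero, if_false, Nat.add_sub_cancel,
    ← hF, F]
  ring

/-- The polynomial of an eventually polynomial function. -/
theorem EP.exists_polynomial {f : ℕ → ℤ} {r : ℕ} (h : EP f (r + 1)) :
    ∃ P : Polynomial ℚ, P.natDegree ≤ r ∧ ∃ N, ∀ n, N ≤ n → (f n : ℚ) = P.eval (n : ℚ) := by
  obtain ⟨a, N, ha⟩ := h
  refine ⟨∑ i ∈ Finset.range (r + 1), Polynomial.C ((a i : ℚ) / (i.factorial : ℚ)) * descPochhammer ℚ i, ?_, N,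
    fun n hn => ?_⟩
  · refine Polynomial.natDegree_sum_le_of_forall_le _ _ fun i hi => (Polynomial.natDegree_C_mul_le _ _).trans ?_
    rw [descPochhammer_natDegree]
    exact Nat.lt_succ_iff.1 (Finset.mem_range.1 hi)
  · rw [ha n hn, Polynomial.eval_finsetSum, Int.cast_sum]
    refine Finset.sum_congr rfl fun i _ => ?_
    rw [Polynomial.eval_mul, Polynomial.eval_C, Int.cast_mul, Int.cast_natCast, Nat.cast_choose_eq_descPochhammer_div]
    ring

variable {A : Type u} [CommRing A]

/-- The length, as a natural number. -/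
noncomputable def lenN (A : Type u) [CommRing A] (M : Type u) [AddCommGroup M] [Module A M] : ℕ :=
  (Module.length A M).toNat

theorem length_eq_lenN (M : Type u) [AddCommGroup M] [Module A M] (h : IsFiniteLength A M) :
    Module.length A M = (lenN A M : ℕ∞) :=
  (ENat.coe_toNat (Module.length_ne_top_iff.2 h)).symm

theorem lenN_add {N M P : Type u} [AddCommGroup N] [Module A N] [AddCommGroup M] [Module A M] [AddCommGroup P]
    [Module A P] (f : N →ₗ[A] M) (g : M →ₗ[A] P) (hf : Function.Injective f) (hg : Function.Surjective g)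
    (hfg : Function.Exact f g) (hM : IsFiniteLength A M) : lenN A M = lenN A N + lenN A P := by
  have h1 := Module.length_eq_add_of_exact f g hf hg hfg
  have hN : IsFiniteLength A N := hM.of_injective hf
  have hP : IsFiniteLength A P := hM.of_surjective hg
  rw [length_eq_lenN M hM, length_eq_lenN N hN, length_eq_lenN P hP, ← Nat.cast_add, Nat.cast_inj] at h1
  exact h1

theorem ep_of_generated : ∀ (r : ℕ) (M : ℕ → Type u) [∀ n, AddCommGroup (M n)] [∀ n, Module A (M n)]
    (x : Fin r → ∀ n, M n →ₗ[A] M (n + 1)), (∀ n, IsFiniteLength A (M n)) →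
    (∀ i j n m, x i (n + 1) (x j n m) = x j (n + 1) (x i n m)) →
    (∀ U : ∀ n, Submodule A (M n), (∀ j n, (U n).map (x j n) ≤ U (n + 1)) →
      ∃ N, ∀ n, N ≤ n → U (n + 1) ≤ ⨆ j, (U n).map (x j n)) →
    EP (fun n => (lenN A (M n) : ℤ)) r := by
  intro r
  induction r with
  | zero =>
    intro M _ _ x _ _ hgen
    obtain ⟨N, hN⟩ := hgen (fun _ => ⊤) (fun j => j.elim0)
    refine ⟨0, N + 1, fun n hn => ?_⟩
    obtain ⟨n, rfl⟩ : ∃ k, n = k + 1 := ⟨n - 1, by omega⟩
    haveI : Subsingleton (M (n + 1)) := by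
      refine subsingleton_of_forall_eq 0 fun z => ?_
      have h := hN n (by omega) (Submodule.mem_top (x := z))
      rwa [iSup_of_empty, Submodule.mem_bot] at h
    show ((Module.length A (M (n + 1))).toNat : ℤ) = _
    rw [Finset.sum_range_zero, Module.length_eq_zero_iff.2 inferInstance]
    rfl
  | succ r ih =>
    intro M _ _ x hfl hcomm hgen
    let L : ∀ n, M n →ₗ[A] M (n + 1) := x (Fin.last r)
    let K : ℕ → Type u := fun n => ↥(LinearMap.ker (L n))
    let C : ℕ → Type u := fun n => M (n + 1) ⧸ LinearMap.range (L n)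
    let xK : Fin r → ∀ n, K n →ₗ[A] K (n + 1) := fun j n =>
      ((x j.castSucc n).comp (LinearMap.ker (L n)).subtype).codRestrict _ fun m => by
        rw [LinearMap.mem_ker]
        show L (n + 1) (x j.castSucc n m.1) = 0
        rw [hcomm, show x (Fin.last r) n m.1 = 0 from m.2, map_zero]
    let xC : Fin r → ∀ n, C n →ₗ[A] C (n + 1) := fun j n =>
      Submodule.mapQ _ _ (x j.castSucc (n + 1)) (by
        rintro _ ⟨m, rfl⟩
        exact ⟨x j.castSucc n m, hcomm _ _ _ _⟩)
    have hK : EP (fun n => (lenN A (K n) : ℤ)) r := by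
      refine ih K xK (fun n => (hfl n).of_injective (Submodule.subtype_injective _))
        (fun i j n m => Subtype.ext (hcomm _ _ _ m.1)) fun U hU => ?_
      obtain ⟨N, hN⟩ := hgen (fun n => (U n).map (LinearMap.ker (L n)).subtype) (fun j n => by
        rintro _ ⟨_, ⟨m, hm, rfl⟩, rfl⟩
        induction j using Fin.lastCases with
        | last => rw [show x (Fin.last r) n (LinearMap.ker (L n) |>.subtype m) = 0 from m.2]; exact zero_mem _
        | cast j => exact ⟨xK j n m, hU j n ⟨m, hm, rfl⟩, rfl⟩)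
      refine ⟨N, fun n hn z hz => ?_⟩
      have h := hN n hn ⟨z, hz, rfl⟩
      have hle : (⨆ j, ((U n).map (LinearMap.ker (L n)).subtype).map (x j n)) ≤
          (⨆ j, (U n).map (xK j n)).map (LinearMap.ker (L (n + 1))).subtype := by
        refine iSup_le fun j => ?_
        rintro _ ⟨_, ⟨m, hm, rfl⟩, rfl⟩
        induction j using Fin.lastCases with
        | last => rw [show x (Fin.last r) n (LinearMap.ker (L n) |>.subtype m) = 0 from m.2]; exact zero_mem _
        | cast j => exact ⟨xK j n m, Submodule.mem_iSup_of_mem j ⟨m, hm, rfl⟩, rfl⟩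
      obtain ⟨w, hw, hwz⟩ := hle h
      exact Subtype.coe_injective hwz ▸ hw
    have hC : EP (fun n => (lenN A (C n) : ℤ)) r := by
      refine ih C xC (fun n => (hfl (n + 1)).of_surjective (Submodule.mkQ_surjective _)) (fun i j n z => by
        obtain ⟨m, rfl⟩ := Submodule.mkQ_surjective _ z
        exact congrArg (Submodule.mkQ _) (hcomm _ _ _ m)) fun U hU => ?_
      let V : ∀ n, Submodule A (M n) := fun n => match n with
        | 0 => ⊥
        | n + 1 => (U n).comap (LinearMap.range (L n)).mkQ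
      have hstab : ∀ n j, (V n).map (x j n) ≤ V (n + 1) := by
        intro n j
        rintro _ ⟨m, hm, rfl⟩
        induction j using Fin.lastCases with
        | last =>
          show (LinearMap.range (L n)).mkQ (x (Fin.last r) n m) ∈ U n
          rw [Submodule.mkQ_apply, (Submodule.Quotient.mk_eq_zero (LinearMap.range (L n))).2 ⟨m, rfl⟩]
          exact zero_mem _
        | cast j =>
          cases n with
          | zero =>
            rw [show m = 0 from (Submodule.mem_bot A).1 hm, map_zero]
            exact zero_mem _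
          | succ n => exact hU j n (Submodule.mem_map_of_mem (f := xC j n) hm)
      obtain ⟨N, hN⟩ := hgen V fun j n => hstab n j
      refine ⟨N, fun n hn z hz => ?_⟩
      obtain ⟨m, rfl⟩ := Submodule.mkQ_surjective _ z
      have h := Submodule.mem_map_of_mem (f := (LinearMap.range (L (n + 1))).mkQ) (hN (n + 1) (by omega) (show m ∈ V (n + 2) from hz))
      rw [Submodule.map_iSup] at h
      refine (show _ ≤ ⨆ j, (U n).map (xC j n) from iSup_le fun j => ?_) h
      rintro _ ⟨_, ⟨w, hw, rfl⟩, rfl⟩
      induction j using Fin.lastCases with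
      | last =>
        rw [Submodule.mkQ_apply, (Submodule.Quotient.mk_eq_zero (LinearMap.range (L (n + 1)))).2 ⟨w, rfl⟩]
        exact zero_mem _
      | cast j => exact Submodule.mem_iSup_of_mem j ⟨_, hw, rfl⟩
    refine (hC.sub hK).of_diff fun n => ?_
    have h1 := lenN_add (LinearMap.ker (L n)).subtype (L n).rangeRestrict (Submodule.subtype_injective _)
      (L n).surjective_rangeRestrict (by
        rw [LinearMap.exact_iff, LinearMap.ker_rangeRestrict, Submodule.range_subtype]) (hfl n)
    have h2 := lenN_add (LinearMap.range (L n)).subtype (LinearMap.range (L n)).mkQ (Submodule.subtype_injective _)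
      (Submodule.mkQ_surjective _) (by
        rw [LinearMap.exact_iff, Submodule.ker_mkQ, Submodule.range_subtype]) (hfl (n + 1))
    show (lenN A (M (n + 1)) : ℤ) - lenN A (M n) = lenN A (C n) - lenN A (K n)
    simp only [K, C]
    omega

section Filtration

variable [IsNoetherianRing A] {M : Type u} [AddCommGroup M] [Module A M] [Module.Finite A M]

theorem isFiniteLength_quotient_pow (J : Ideal A) (h : IsFiniteLength A (M ⧸ J • (⊤ : Submodule A M))) (n : ℕ) :
    IsFiniteLength A (M ⧸ J ^ n • (⊤ : Submodule A M)) := by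
  rw [isFiniteLength_iff_supportDim_le_zero] at h ⊢
  rcases Nat.eq_zero_or_pos n with rfl | hn
  · refine le_trans (le_of_eq ((Module.supportDim_eq_bot_iff_subsingleton A _).2 ?_)) bot_le
    rw [Submodule.Quotient.subsingleton_iff, pow_zero, one_smul]
  · refine le_trans (le_of_eq ?_) h
    unfold Module.supportDim
    rw [Module.support_quotient, Module.support_quotient, PrimeSpectrum.zeroLocus_pow J (Nat.pos_iff_ne_zero.1 hn)]

/-- Eventual polynomiality of `ℓ(M/J^n M)`, of degree at most the number of generators of `J`. -/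
theorem ep_length_quotient_pow (J : Ideal A) {r : ℕ} (g : Fin r → A) (hg : J = Ideal.span (Set.range g))
    (h : IsFiniteLength A (M ⧸ J • (⊤ : Submodule A M))) :
    EP (fun n => (lenN A (M ⧸ J ^ n • (⊤ : Submodule A M)) : ℤ)) (r + 1) := by
  classical
  let F : ℕ → Submodule A M := fun n => J ^ n • ⊤
  have hFanti : ∀ n, F (n + 1) ≤ F n := fun n => Submodule.smul_mono (Ideal.pow_le_pow_right n.le_succ) le_rfl
  have hFsmul : ∀ n, J • F n = F (n + 1) := fun n => by
    show J • (J ^ n • (⊤ : Submodule A M)) = J ^ (n + 1) • ⊤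
    rw [← Submodule.mul_smul, ← pow_succ']
  have hgJ : ∀ j, g j ∈ J := fun j => hg ▸ Ideal.subset_span ⟨j, rfl⟩
  let G : ℕ → Type u := fun n => (↥(F n)) ⧸ (F (n + 1)).comap (F n).subtype
  let y : Fin r → ∀ n, ↥(F n) →ₗ[A] ↥(F (n + 1)) := fun j n =>
    ((g j • LinearMap.id : M →ₗ[A] M).comp (F n).subtype).codRestrict _ fun m => by
      rw [← hFsmul n]
      exact Submodule.smul_mem_smul (hgJ j) m.2
  let x : Fin r → ∀ n, G n →ₗ[A] G (n + 1) := fun j n => Submodule.mapQ _ _ (y j n) fun m hm => by
    show g j • (m : M) ∈ F (n + 1 + 1)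
    rw [← hFsmul (n + 1)]
    exact Submodule.smul_mem_smul (hgJ j) hm
  let π : ∀ n, (M ⧸ F (n + 1)) →ₗ[A] M ⧸ F n := fun n => Submodule.factor (hFanti n)
  let ι : ∀ n, G n →ₗ[A] M ⧸ F (n + 1) := fun n => Submodule.mapQ _ _ (F n).subtype le_rfl
  have hι : ∀ n, Function.Injective (ι n) := fun n => by
    rw [← LinearMap.ker_eq_bot, eq_bot_iff]
    intro z hz
    obtain ⟨m, rfl⟩ := Submodule.mkQ_surjective _ z
    exact (Submodule.Quotient.mk_eq_zero ((F (n + 1)).comap (F n).subtype)).2
      ((Submodule.Quotient.mk_eq_zero (F (n + 1))).1 hz)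
  have hex : ∀ n, Function.Exact (ι n) (π n) := fun n z => by
    obtain ⟨m, rfl⟩ := Submodule.mkQ_surjective _ z
    constructor
    · intro hz
      exact ⟨Submodule.Quotient.mk ⟨m, (Submodule.Quotient.mk_eq_zero (F n)).1 hz⟩, rfl⟩
    · rintro ⟨w, hw⟩
      obtain ⟨w, rfl⟩ := Submodule.mkQ_surjective _ w
      rw [← hw]
      exact (Submodule.Quotient.mk_eq_zero (F n)).2 w.2
  have hfl : ∀ n, IsFiniteLength A (G n) := fun n => (isFiniteLength_quotient_pow J h (n + 1)).of_injective (hι n)
  have hEP := ep_of_generated r G x hfl (fun i j n z => by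
    obtain ⟨m, rfl⟩ := Submodule.mkQ_surjective _ z
    exact congrArg (Submodule.Quotient.mk) (Subtype.ext (smul_comm (g i) (g j) (m : M)))) fun U hU => by
      let W : ℕ → Submodule A M := fun n => ((U n).comap (Submodule.mkQ _)).map (F n).subtype
      have hWF : ∀ n, W n ≤ F n := fun n => Submodule.map_subtype_le _ _
      have hFW : ∀ n, F (n + 1) ≤ W n := fun n m hm => ⟨⟨m, hFanti n hm⟩, by
        show Submodule.Quotient.mk (p := (F (n + 1)).comap (F n).subtype) (⟨m, hFanti n hm⟩ : F n) ∈ U n
        rw [(Submodule.Quotient.mk_eq_zero _).2 (show (⟨m, hFanti n hm⟩ : F n) ∈ (F (n + 1)).comap (F n).subtype from hm)]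
        exact zero_mem _, rfl⟩
      have hgen : ∀ n (T : Submodule A M), (∀ j, ∀ w ∈ W n, g j • w ∈ T) → J • W n ≤ T := fun n T hT =>
        Submodule.smul_le.2 fun a ha w hw => by
          obtain ⟨c, rfl⟩ := Ideal.mem_span_range_iff_exists_fun.1 (hg ▸ ha)
          rw [Finset.sum_smul]
          exact T.sum_mem fun j _ => by rw [mul_smul]; exact T.smul_mem _ (hT j w hw)
      have hWsmul : ∀ n, J • W n ≤ W (n + 1) := fun n => hgen n _ fun j w hw => by
        obtain ⟨m, hm, rfl⟩ := hw
        exact ⟨y j n m, hU j n (Submodule.mem_map_of_mem (f := x j n) hm), rfl⟩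
      let W' : J.Filtration M := ⟨W, fun i => (hWF (i + 1)).trans (hFW i), hWsmul⟩
      obtain ⟨N, hN⟩ := (J.stableFiltration_stable (⊤ : Submodule A M)).of_le (F' := W') fun i => hWF i
      refine ⟨N, fun n hn z hz => ?_⟩
      obtain ⟨m, rfl⟩ := Submodule.mkQ_surjective _ z
      let T : Submodule A M :=
        ((⨆ j, (U n).map (x j n)).comap (Submodule.mkQ _)).map (F (n + 1)).subtype
      have hle : J • W n ≤ T := hgen n _ fun j w hw => by
        obtain ⟨v, hv, rfl⟩ := hw
        exact ⟨y j n v, Submodule.mem_iSup_of_mem j (Submodule.mem_map_of_mem (f := x j n) hv), rfl⟩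
      have hmem : (m : M) ∈ T := hle ((hN n hn).ge (Submodule.mem_map_of_mem (f := (F (n + 1)).subtype) hz))
      obtain ⟨v, hv, hvm⟩ := hmem
      exact Subtype.coe_injective hvm ▸ hv
  refine hEP.of_diff fun n => ?_
  have h1 := lenN_add (ι n) (π n) (hι n) (Submodule.factor_surjective _) (hex n) (isFiniteLength_quotient_pow J h (n + 1))
  show (lenN A (M ⧸ F (n + 1)) : ℤ) - lenN A (M ⧸ F n) = lenN A (G n)
  omega

end Filtration

theorem length_le_restrictScalars {B X : Type u} [CommRing B] [Algebra A B] [AddCommGroup X] [Module A X]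
    [Module B X] [IsScalarTower A B X] : Module.length B X ≤ Module.length A X := by
  rw [← WithBot.coe_le_coe, Module.coe_length, Module.coe_length]
  refine Order.krullDim_le_of_strictMono (fun N => N.restrictScalars A) fun N N' h => ?_
  exact h

theorem natDegree_le_of_le {P Q : Polynomial ℚ} (N : ℕ)
    (h : ∀ n : ℕ, N ≤ n → 0 ≤ P.eval (n : ℚ) ∧ P.eval (n : ℚ) ≤ Q.eval (n : ℚ)) : P.natDegree ≤ Q.natDegree := by
  by_contra hlt
  rw [not_le] at hlt
  have hP : P ≠ 0 := fun h0 => by rw [h0, Polynomial.natDegree_zero] at hlt; omega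
  have hdeg : 0 < P.degree := by
    rw [Polynomial.degree_eq_natDegree hP]
    exact_mod_cast (lt_of_le_of_lt (Nat.zero_le _) hlt)
  rcases le_total 0 P.leadingCoeff with hl | hl
  · have hQP : Q.degree < P.degree := Polynomial.degree_lt_degree hlt
    have h2 : 0 < (P - Q).degree := by rwa [Polynomial.degree_sub_eq_left_of_degree_lt hQP]
    have h3 : 0 ≤ (P - Q).leadingCoeff := by rwa [Polynomial.leadingCoeff_sub_of_degree_lt hQP]
    have h4 := ((P - Q).tendsto_atTop_of_leadingCoeff_nonneg h2 h3).comp (tendsto_natCast_atTop_atTop (R := ℚ))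
    obtain ⟨n, hn, hn'⟩ := ((h4.eventually_gt_atTop 0).and (Filter.eventually_ge_atTop N)).exists
    have h5 : (0 : ℚ) < P.eval (n : ℚ) - Q.eval (n : ℚ) := by simpa using hn
    linarith [(h n hn').2]
  · have h4 := (P.tendsto_atBot_of_leadingCoeff_nonpos hdeg hl).comp (tendsto_natCast_atTop_atTop (R := ℚ))
    obtain ⟨n, hn, hn'⟩ := ((h4.eventually_lt_atBot 0).and (Filter.eventually_ge_atTop N)).exists
    have h5 : P.eval (n : ℚ) < 0 := hn
    linarith [(h n hn').1]

section Degree

variable [IsNoetherianRing A] {M : Type u} [AddCommGroup M] [Module A M] [Module.Finite A M]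

theorem exists_minimal_prime_dim {d : ℕ} (hd : Module.supportDim A M = d) :
    ∃ p : Ideal A, p ∈ (Module.annihilator A M).minimalPrimes ∧ (d : WithBot ℕ∞) ≤ ringKrullDim (A ⧸ p) := by
  obtain ⟨l, hl⟩ := Order.le_krullDim_iff.1 (show (d : WithBot ℕ∞) ≤ Order.krullDim (Module.support A M) from hd.ge)
  haveI : (l.head.1.asIdeal).IsPrime := l.head.1.isPrime
  obtain ⟨p, hp, hpl⟩ := Ideal.exists_minimalPrimes_le
    (Module.mem_support_iff_of_finite.1 l.head.2 : Module.annihilator A M ≤ l.head.1.asIdeal)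
  refine ⟨p, hp, ?_⟩
  rw [ringKrullDim_quotient, ← hl]
  exact Order.LTSeries.length_le_krullDim ({
    length := l.length
    toFun := fun i => ⟨(l i).1, fun a ha => (show l.head.1 ≤ (l i).1 from l.head_le i) (hpl ha)⟩
    step := fun i => l.step i } : LTSeries (PrimeSpectrum.zeroLocus (p : Set A)))

variable [Finite (MaximalSpectrum A)]

theorem exists_lower_bound {d : ℕ} (hd : Module.supportDim A M = d)
    (hfl : ∀ n, IsFiniteLength A (M ⧸ Ring.jacobson A ^ n • (⊤ : Submodule A M))) :
    ∃ C c : ℕ, ∀ n, c < n → (n - c) ^ d ≤ C * lenN A (M ⧸ Ring.jacobson A ^ n • (⊤ : Submodule A M)) := by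
  classical
  let J := Ring.jacobson A
  obtain ⟨p, hp, hdim⟩ := exists_minimal_prime_dim hd
  haveI : p.IsPrime := hp.1.1
  obtain ⟨-, x, hx⟩ := isAssociatedPrime_iff.1
    (Module.associatedPrimes.minimalPrimes_annihilator_subset_associatedPrimes A M hp)
  have hx' : ∀ a, a • x = 0 ↔ a ∈ p := fun a => by rw [hx, Submodule.mem_colon_singleton, Submodule.mem_bot]
  obtain ⟨c, hc⟩ := Ideal.exists_pow_inf_eq_pow_smul (M := M) J (Submodule.span A {x})
  let B := A ⧸ p
  obtain ⟨l, hl⟩ := Order.le_krullDim_iff.1 (show (d : WithBot ℕ∞) ≤ Order.krullDim (PrimeSpectrum B) from hdim)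
  obtain ⟨P, hP, hlP⟩ := Ideal.exists_le_maximal l.last.asIdeal l.last.isPrime.ne_top
  let R := Localization.AtPrime P
  haveI : IsNoetherianRing R := IsLocalization.isNoetherianRing P.primeCompl R inferInstance
  have hR : (d : WithBot ℕ∞) ≤ ringKrullDim R := by
    rw [IsLocalization.AtPrime.ringKrullDim_eq_height P R, ← hl]
    refine WithBot.coe_le_coe.2 (le_trans ?_ (Ideal.height_mono hlP))
    rw [PrimeSpectrum.height_eq_orderHeight]
    exact Order.length_le_height_last
  obtain ⟨C, hC⟩ := LocCoh.exists_pow_le_length_of_dim (I := IsLocalRing.maximalIdeal R) le_rfl hR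
  refine ⟨C, c, fun n hn => ?_⟩
  let t := n - c
  -- the cyclic submodule
  let φ : A →ₗ[A] M ⧸ J ^ n • (⊤ : Submodule A M) := (Submodule.mkQ _).comp (LinearMap.toSpanSingleton A M x)
  have hker : LinearMap.ker φ ≤ J ^ t ⊔ p := fun a ha => by
    have h1 : a • x ∈ J ^ n • (⊤ : Submodule A M) ⊓ Submodule.span A {x} :=
      ⟨(Submodule.Quotient.mk_eq_zero _).1 ha, Submodule.smul_mem _ _ (Submodule.mem_span_singleton_self x)⟩
    rw [hc n hn.le] at h1
    obtain ⟨b, hb, hbx⟩ := Submodule.mem_smul_span_singleton.1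
      (Submodule.smul_mono le_rfl inf_le_right h1)
    rw [← sub_add_cancel a b, add_comm]
    exact Submodule.add_mem_sup hb ((hx' _).1 (by rw [sub_smul, hbx, sub_self]))
  let ψ : A →ₗ[A] B ⧸ P ^ t := (Submodule.mkQ ((P ^ t).restrictScalars A)).comp (Algebra.linearMap A B)
  have hψ : J ^ t ⊔ p ≤ LinearMap.ker ψ := by
    refine sup_le (fun a ha => ?_) fun a ha => ?_
    · refine (Submodule.Quotient.mk_eq_zero _).2 ?_
      show algebraMap A B a ∈ P ^ t
      have h1 : J ≤ P.comap (algebraMap A B) := by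
        haveI := Ideal.comap_isMaximal_of_surjective (algebraMap A B) Ideal.Quotient.mk_surjective (K := P)
        exact Ring.jacobson_le_of_isMaximal _
      exact Ideal.le_comap_pow _ _ (Ideal.pow_right_mono h1 t ha)
    · refine (Submodule.Quotient.mk_eq_zero _).2 ?_
      show algebraMap A B a ∈ P ^ t
      rw [show algebraMap A B a = 0 from Ideal.Quotient.eq_zero_iff_mem.2 ha]
      exact zero_mem _
  have h2 : Module.length A (B ⧸ P ^ t) ≤ Module.length A (M ⧸ J ^ n • (⊤ : Submodule A M)) := by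
    refine le_trans ?_ (Module.length_le_of_injective ((LinearMap.ker φ).liftQ φ le_rfl)
      (LinearMap.ker_eq_bot.1 (Submodule.ker_liftQ_eq_bot _ _ _ le_rfl)))
    refine Module.length_le_of_surjective ((LinearMap.ker φ).liftQ ψ (hker.trans hψ)) fun z => ?_
    obtain ⟨b, rfl⟩ := Ideal.Quotient.mk_surjective z
    obtain ⟨a, rfl⟩ := Ideal.Quotient.mk_surjective b
    exact ⟨Submodule.Quotient.mk a, rfl⟩
  have h3 : Module.length R (R ⧸ IsLocalRing.maximalIdeal R ^ t) ≤ Module.length A (B ⧸ P ^ t) :=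
    (length_le_restrictScalars (A := B)).trans (((IsLocalization.AtPrime.equivQuotMaximalIdealPow P R t).toLinearEquiv.length_eq).ge.trans
      (length_le_restrictScalars (A := A)))
  have h4 := (hC t (by omega)).trans (mul_le_mul_right (h3.trans h2) _)
  rw [length_eq_lenN _ (hfl n), ← Nat.cast_mul, Nat.cast_le] at h4
  exact h4

/-- The Hilbert-Samuel polynomial and its degree. -/
theorem exists_polynomial_degree [Nontrivial M] :
    ∃ P : Polynomial ℚ,
      (∃ N : ℕ, ∀ n : ℕ, N ≤ n →
        ∃ ℓ : ℕ, Module.length A (M ⧸ (Ring.jacobson A ^ n • (⊤ : Submodule A M))) = ℓ ∧ (ℓ : ℚ) = P.eval (n : ℚ)) ∧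
      (P.natDegree : WithBot ℕ∞) = Module.supportDim A M := by
  classical
  obtain ⟨d, hd⟩ := supportDim_eq_natCast_of_semilocal (A := A) M
  obtain ⟨ys, hys, hysJ, hys0⟩ := exists_sop d M hd
  let J := Ring.jacobson A
  let I := Ideal.ofList ys
  have hIJ : I ≤ J := Ideal.span_le.2 fun y hy => hysJ y hy
  have hI : IsFiniteLength A (M ⧸ I • (⊤ : Submodule A M)) := (isFiniteLength_iff_supportDim_le_zero _).2 hys0
  have hJ : IsFiniteLength A (M ⧸ J • (⊤ : Submodule A M)) :=
    hI.of_surjective (f := Submodule.factor (Submodule.smul_mono hIJ le_rfl)) (Submodule.factor_surjective _)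
  have hgI : I = Ideal.span (Set.range fun i : Fin ys.length => ys.get i) := by
    show Ideal.span {a | a ∈ ys} = _
    rw [Set.range_list_get]
  obtain ⟨r, g, hg⟩ := Submodule.fg_iff_exists_fin_generating_family.1 (IsNoetherian.noetherian J)
  obtain ⟨P, -, N, hP⟩ := (ep_length_quotient_pow (M := M) J g hg.symm hJ).exists_polynomial
  obtain ⟨Q, hQd, N', hQ⟩ := (ep_length_quotient_pow (M := M) I _ hgI hI).exists_polynomial
  rw [hys] at hQd
  refine ⟨P, ⟨N, fun n hn => ⟨_, length_eq_lenN _ (isFiniteLength_quotient_pow J hJ n), by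
    rw [← hP n hn, Int.cast_natCast]⟩⟩, ?_⟩
  rw [hd]
  have hup : P.natDegree ≤ d := le_trans (natDegree_le_of_le (max N N') fun n hn => by
    rw [← hP n (le_trans (le_max_left _ _) hn), ← hQ n (le_trans (le_max_right _ _) hn), Int.cast_natCast,
      Int.cast_natCast]
    refine ⟨Nat.cast_nonneg _, Nat.cast_le.2 (ENat.toNat_le_toNat (Module.length_le_of_surjective
      (Submodule.factor (Submodule.smul_mono (Ideal.pow_right_mono hIJ n) le_rfl)) (Submodule.factor_surjective _))
      (Module.length_ne_top_iff.2 (isFiniteLength_quotient_pow I hI n)))⟩) hQd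
  obtain ⟨C, c, hC⟩ := exists_lower_bound (d := d) hd fun n => isFiniteLength_quotient_pow J hJ n
  have hdown : d ≤ P.natDegree := by
    have h1 := natDegree_le_of_le (P := (Polynomial.X - Polynomial.C (c : ℚ)) ^ d) (Q := Polynomial.C (C : ℚ) * P)
      (max N (c + 1)) fun n hn => by
        have hn' : c < n := lt_of_lt_of_le (Nat.lt_succ_self c) (le_trans (le_max_right _ _) hn)
        have h := hC n hn'
        rw [Polynomial.eval_pow, Polynomial.eval_sub, Polynomial.eval_X, Polynomial.eval_C, Polynomial.eval_mul,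
          Polynomial.eval_C, ← hP n (le_trans (le_max_left _ _) hn), Int.cast_natCast, ← Nat.cast_sub hn'.le,
          ← Nat.cast_pow, ← Nat.cast_mul]
        exact ⟨Nat.cast_nonneg _, Nat.cast_le.2 h⟩
    rw [Polynomial.natDegree_pow, Polynomial.natDegree_X_sub_C, mul_one] at h1
    exact h1.trans (Polynomial.natDegree_C_mul_le _ _)
  rw [le_antisymm hup hdown]
  rfl

end Degree

end Groth.Agent.EGA41Lib.HS
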