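import Groth.Agent.CAlgH3.CohenMacaulay
import Groth.Agent.EGA41Lib.SupportDim
import Mathlib.RingTheory.KrullDimension.Regular
import Mathlib.RingTheory.Regular.RegularSequence

/-! Systems of parameters for modules, and Cohen-Macaulay modules. -/

universe u

open IsLocalRing RingTheory.Sequence
open scoped Pointwise

namespace Groth.Agent.EGA41Lib

variable {R : Type u} [CommRing R]

/-- `M ⧸ (x :: xs) M` is `(M ⧸ x M) ⧸ xs (M ⧸ x M)`. -/
noncomputable def quotConsEquiv (M : Type u) [AddCommGroup M] [Module R M] (x : R) (xs : List R) :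
    (M ⧸ (Ideal.ofList (x :: xs) • (⊤ : Submodule R M))) ≃ₗ[R]
      (QuotSMulTop x M ⧸ (Ideal.ofList xs • (⊤ : Submodule R (QuotSMulTop x M)))) :=
  Submodule.quotOfListConsSMulTopEquivQuotSMulTopInner M x xs

theorem supportDim_quotient_nil (M : Type u) [AddCommGroup M] [Module R M] :
    Module.supportDim R (M ⧸ (Ideal.ofList ([] : List R) • (⊤ : Submodule R M))) = Module.supportDim R M :=
  Module.supportDim_eq_of_equiv (Submodule.quotEquivOfEqBot _ (by simp))

theorem withBot_add_natCast_cancel {a b : WithBot ℕ∞} (r : ℕ) (h : a + r = b + r) : a = b := by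
  induction r with
  | zero => simpa using h
  | succ r ih =>
    rw [Nat.cast_add, Nat.cast_one, ← add_assoc, ← add_assoc] at h
    exact ih (CAlgH3.withBot_add_one_cancel h)

variable [IsLocalRing R] [IsNoetherianRing R]

theorem supportDim_le_quotient_ofList (xs : List R) :
    ∀ (M : Type u) [AddCommGroup M] [Module R M] [Module.Finite R M], (∀ x ∈ xs, x ∈ maximalIdeal R) →
    Module.supportDim R M ≤ Module.supportDim R (M ⧸ (Ideal.ofList xs • (⊤ : Submodule R M))) + xs.length := by
  induction xs with
  | nil => intro M _ _ _ _; rw [supportDim_quotient_nil]; simp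
  | cons x xs ih =>
    intro M _ _ _ hxs
    have hx : x ∈ maximalIdeal R := hxs x (by simp)
    refine (Module.supportDim_le_supportDim_quotSMulTop_succ (M := M) hx).trans ?_
    rw [Module.supportDim_eq_of_equiv (quotConsEquiv M x xs), List.length_cons, Nat.cast_add, Nat.cast_one,
      ← add_assoc]
    exact add_le_add (ih (QuotSMulTop x M) (fun y hy => hxs y (by simp [hy]))) le_rfl

theorem cm_regular_sequence (xs : List R) :
    ∀ (M : Type u) [AddCommGroup M] [Module R M] [Module.Finite R M],
      _root_.LocCoh.IsCohenMacaulayModule R M → (∀ x ∈ xs, x ∈ maximalIdeal R) →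
      (IsWeaklyRegular M xs →
        Module.supportDim R (M ⧸ (Ideal.ofList xs • (⊤ : Submodule R M))) + xs.length = Module.supportDim R M ∧
          _root_.LocCoh.IsCohenMacaulayModule R (M ⧸ (Ideal.ofList xs • (⊤ : Submodule R M)))) ∧
      (Module.supportDim R (M ⧸ (Ideal.ofList xs • (⊤ : Submodule R M))) + xs.length ≤ Module.supportDim R M →
        IsWeaklyRegular M xs) := by
  induction xs with
  | nil =>
    intro M _ _ _ hM _
    refine ⟨fun _ => ⟨by rw [supportDim_quotient_nil]; simp, ?_⟩, fun _ => IsWeaklyRegular.nil R M⟩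
    exact (CAlgH3.isCohenMacaulayModule_congr (Submodule.quotEquivOfEqBot _ (by simp))).2 hM
  | cons x xs ih =>
    intro M _ _ _ hM hxs
    have hx : x ∈ maximalIdeal R := hxs x (by simp)
    have hxs' : ∀ y ∈ xs, y ∈ maximalIdeal R := fun y hy => hxs y (by simp [hy])
    have := CAlgH3.nontrivial_of_cm hM
    constructor
    · intro hreg
      rw [isWeaklyRegular_cons_iff] at hreg
      obtain ⟨h1, h2⟩ := (ih (QuotSMulTop x M) ((CAlgH3.isCohenMacaulayModule_quotSMulTop_iff hx hreg.1).2 hM) hxs').1 hreg.2
      refine ⟨?_, (CAlgH3.isCohenMacaulayModule_congr (quotConsEquiv M x xs)).2 h2⟩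
      rw [Module.supportDim_eq_of_equiv (quotConsEquiv M x xs), List.length_cons, Nat.cast_add, Nat.cast_one,
        ← add_assoc, h1, Module.supportDim_quotSMulTop_succ_eq_supportDim hreg.1 hx]
    · intro hdim
      rw [Module.supportDim_eq_of_equiv (quotConsEquiv M x xs), List.length_cons, Nat.cast_add, Nat.cast_one,
        ← add_assoc] at hdim
      have hq := supportDim_le_quotient_ofList xs (QuotSMulTop x M) hxs'
      have h1 : IsSMulRegular M x :=
        CAlgH3.isSMulRegular_of_supportDim_quot hM ((add_le_add hq le_rfl).trans hdim)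
      rw [isWeaklyRegular_cons_iff]
      refine ⟨h1, (ih (QuotSMulTop x M) ((CAlgH3.isCohenMacaulayModule_quotSMulTop_iff hx h1).2 hM) hxs').2 ?_⟩
      rw [← Module.supportDim_quotSMulTop_succ_eq_supportDim h1 hx] at hdim
      exact CAlgH3.withBot_add_one_le_cancel hdim

/-- Converse: unmixedness of all partial systems of parameters forces Cohen-Macaulayness. -/
theorem cm_of_unmixed : ∀ (n : ℕ) (M : Type u) [AddCommGroup M] [Module R M] [Module.Finite R M] [Nontrivial M],
    _root_.LocCoh.depth R M = n →
    (∀ xs : List R, (∀ x ∈ xs, x ∈ maximalIdeal R) →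
      Module.supportDim R (M ⧸ (Ideal.ofList xs • (⊤ : Submodule R M))) + xs.length = Module.supportDim R M →
        ∀ p ∈ associatedPrimes R (M ⧸ (Ideal.ofList xs • (⊤ : Submodule R M))),
          ringKrullDim (R ⧸ p) = Module.supportDim R (M ⧸ (Ideal.ofList xs • (⊤ : Submodule R M)))) →
    _root_.LocCoh.IsCohenMacaulayModule R M := by
  intro n
  induction n with
  | zero =>
    intro M _ _ _ _ hn h
    have hn' : _root_.LocCoh.depth R M = 0 := by simpa using hn
    have hm : maximalIdeal R ∈ associatedPrimes R M := CAlgH3.depth_eq_zero_iff.1 hn'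
    let e : (M ⧸ (Ideal.ofList ([] : List R) • (⊤ : Submodule R M))) ≃ₗ[R] M :=
      Submodule.quotEquivOfEqBot _ (by simp)
    have := h [] (by simp) (by rw [supportDim_quotient_nil]; simp) _
      ((LinearEquiv.AssociatedPrimes.eq e) ▸ hm)
    rw [supportDim_quotient_nil,
      ringKrullDim_eq_zero_of_isField ((Ideal.Quotient.maximal_ideal_iff_isField_quotient _).1 inferInstance)] at this
    rw [_root_.LocCoh.IsCohenMacaulayModule, ← this, hn']; rfl
  | succ n ih =>
    intro M _ _ _ _ hn h
    obtain ⟨x, hx, hreg⟩ := CAlgH3.exists_regular_of_one_le_depth (R := R) (M := M) (by rw [hn]; exact_mod_cast Nat.le_add_left 1 n)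
    have := CAlgH3.nontrivial_quotSMulTop (M := M) hx
    have hd := CAlgH3.depth_quotSMulTop_add_one (M := M) hx hreg
    have hdn : _root_.LocCoh.depth R (QuotSMulTop x M) = n := by
      obtain ⟨m, hm⟩ := CAlgH3.exists_depth_eq_natCast (R := R) (M := QuotSMulTop x M)
      rw [hm, hn] at hd
      have : m = n := by
        have : m + 1 = n + 1 := by exact_mod_cast hd
        omega
      rw [hm, this]
    refine (CAlgH3.isCohenMacaulayModule_quotSMulTop_iff hx hreg).1 (ih _ hdn ?_)
    intro xs hxs hdim p hp
    let e := quotConsEquiv M x xs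
    have := h (x :: xs) (fun y hy => by rcases List.mem_cons.1 hy with rfl | hy; exacts [hx, hxs y hy]) (by
      rw [Module.supportDim_eq_of_equiv e, List.length_cons, Nat.cast_add, Nat.cast_one, ← add_assoc, hdim,
        Module.supportDim_quotSMulTop_succ_eq_supportDim hreg hx]) p ((LinearEquiv.AssociatedPrimes.eq e) ▸ hp)
    rwa [Module.supportDim_eq_of_equiv e] at this

theorem cm_exists_regular_in_prime (r : ℕ) :
    ∀ (M : Type u) [AddCommGroup M] [Module R M] [Module.Finite R M],
      _root_.LocCoh.IsCohenMacaulayModule R M → ∀ p : PrimeSpectrum R, p ∈ Module.support R M →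
      ringKrullDim (R ⧸ p.asIdeal) + r = Module.supportDim R M →
      ∃ xs : List R, xs.length = r ∧ (∀ x ∈ xs, x ∈ p.asIdeal) ∧ IsWeaklyRegular M xs := by
  induction r with
  | zero => intro M _ _ _ _ _ _ _; exact ⟨[], rfl, by simp, IsWeaklyRegular.nil R M⟩
  | succ r ih =>
    intro M _ _ _ hM p hp hr
    have := CAlgH3.nontrivial_of_cm hM
    obtain ⟨n, hn⟩ := CAlgH3.exists_depth_eq_natCast (R := R) (M := M)
    have hreg : ∃ x ∈ p.asIdeal, IsSMulRegular M x := by
      by_contra hcon
      push Not at hcon
      have hle : (p.asIdeal : Set R) ⊆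
          ⋃ q ∈ ((associatedPrimes.finite R M).toFinset : Set (Ideal R)), id q := by
        intro x hx
        have hnot := hcon x hx
        rw [isSMulRegular_iff_right_eq_zero_of_smul] at hnot
        push Not at hnot
        obtain ⟨m, hm1, hm2⟩ := hnot
        simp only [Set.Finite.coe_toFinset, id_eq]
        rw [biUnion_associatedPrimes_eq_zero_divisors]
        exact ⟨m, hm2, hm1⟩
      obtain ⟨q, hq, hle'⟩ := (Ideal.subset_union_prime ⊥ ⊥ (fun q hq _ _ =>
        IsAssociatedPrime.isPrime ((associatedPrimes.finite R M).mem_toFinset.1 hq))).1 hle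
      rw [Set.Finite.mem_toFinset] at hq
      have heq : p.asIdeal = q := CAlgH3.eq_of_le_of_mem_associatedPrimes hM hq hp hle'
      rw [heq, CAlgH3.ringKrullDim_quotient_eq_of_mem_associatedPrimes hM hq, hM, hn] at hr
      have : n + (r + 1) = n := by exact_mod_cast hr
      omega
    obtain ⟨x, hxp, hx⟩ := hreg
    have hxm : x ∈ maximalIdeal R := le_maximalIdeal p.2.ne_top hxp
    have hsupp : p ∈ Module.support R (QuotSMulTop x M) := by
      rw [Module.support_quotSMulTop]; exact ⟨hp, by simpa using hxp⟩
    obtain ⟨xs, h1, h2, h3⟩ := ih (QuotSMulTop x M)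
      ((CAlgH3.isCohenMacaulayModule_quotSMulTop_iff hxm hx).2 hM) p hsupp (by
        rw [← Module.supportDim_quotSMulTop_succ_eq_supportDim hx hxm, Nat.cast_add, Nat.cast_one, ← add_assoc] at hr
        exact CAlgH3.withBot_add_one_cancel hr)
    refine ⟨x :: xs, by simp [h1], ?_, (isWeaklyRegular_cons_iff M x xs).2 ⟨hx, h3⟩⟩
    intro y hy
    rcases List.mem_cons.1 hy with rfl | hy
    exacts [hxp, h2 y hy]

/-- A prime `p` with `dim R/p = dim N` in the support of a finite `N` is a minimal prime of the support. -/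
theorem cm_prime_of_full_dim {N : Type u} [AddCommGroup N] [Module R N] [Module.Finite R N]
    (hN : _root_.LocCoh.IsCohenMacaulayModule R N) (p : PrimeSpectrum R) (hp : p ∈ Module.support R N)
    (hd : ringKrullDim (R ⧸ p.asIdeal) = Module.supportDim R N) :
    p.asIdeal ∈ associatedPrimes R N := by
  have hann : Module.annihilator R N ≤ p.asIdeal := by
    rw [Module.support_eq_zeroLocus] at hp; exact hp
  obtain ⟨q, hq, hqp⟩ := Ideal.exists_minimalPrimes_le hann
  have hqa := Module.associatedPrimes.minimalPrimes_annihilator_subset_associatedPrimes R N hq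
  have hdq := CAlgH3.ringKrullDim_quotient_eq_of_mem_associatedPrimes hN hqa
  rcases hqp.lt_or_eq with hlt | heq
  · exfalso
    have := hq.1.1
    have := CAlgH3.nontrivial_of_cm hN
    obtain ⟨n, hn⟩ := CAlgH3.exists_depth_eq_natCast (R := R) (M := N)
    have h1 := CAlgH3.ringKrullDim_quotient_add_one_le hlt
    have hN' : Module.supportDim R N = ((n : ℕ∞) : WithBot ℕ∞) := by rw [hN, hn]
    rw [hd, hdq, hN'] at h1
    have : n + 1 ≤ n := by exact_mod_cast h1
    omega
  · exact heq ▸ hqa

end Groth.Agent.EGA41Lib
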