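import Groth.Agent.EGA43.PdFlat.Tor
import Groth.Agent.CAlgH3.ProjDim
import Mathlib

/-! Projective dimension and `Tor` with the residue field. -/

set_option autoImplicit false
set_option backward.isDefEq.respectTransparency.types false
universe u

open TensorProduct CategoryTheory CategoryTheory.Limits Function IsLocalRing

namespace Groth.Agent.EGA41Lib

variable {R : Type u} [CommRing R]

theorem dim_unshift {K F : Type u} [AddCommGroup K] [Module R K] [AddCommGroup F] [Module R F] [Module.Flat R F]
    (j : ℕ) : ∀ {X N : Type u} [AddCommGroup X] [Module R X] [AddCommGroup N] [Module R N]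
      (i : K →ₗ[R] F) (q : F →ₗ[R] X), Exact i q → Surjective q → Injective i →
      Tor15.Dim (R := R) j K N → Tor15.Dim (R := R) (j + 1) X N := by
  induction j with
  | zero =>
    intro X N _ _ _ _ i q hiq hq hi h
    let g : (N →₀ R) →ₗ[R] N := Finsupp.linearCombination R id
    have hg : Surjective g := fun m => ⟨Finsupp.single m 1, by simp [g]⟩
    have h1 : FlatCrit.TorVanish R (LinearMap.ker g) X :=
      Tor15.torVanish_shift (j := (LinearMap.ker g).subtype) (LinearMap.exact_subtype_ker_map g) hg
        Subtype.val_injective hiq hq hi (Tor15.torVanish_symm h)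
    exact ⟨_, _, inferInstance, inferInstance, inferInstance, inferInstance, inferInstance,
      (LinearMap.ker g).subtype, g, LinearMap.exact_subtype_ker_map g, hg, Subtype.val_injective, h1⟩
  | succ j ih =>
    intro X N _ _ _ _ i q hiq hq hi h
    obtain ⟨L, P, _, _, _, _, _, i', p', hip', hp', hi', hd⟩ := h
    exact ⟨L, P, inferInstance, inferInstance, inferInstance, inferInstance, inferInstance, i', p',
      hip', hp', hi', ih i q hiq hq hi hd⟩

/-- `Dim` may be computed with any flat presentation. -/
theorem dim_syzygy (n : ℕ) : ∀ {X M K₀ F₀ : Type u} [AddCommGroup X] [Module R X] [AddCommGroup M] [Module R M]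
    [AddCommGroup K₀] [Module R K₀] [AddCommGroup F₀] [Module R F₀] [Module.Flat R F₀]
    (i : K₀ →ₗ[R] F₀) (q : F₀ →ₗ[R] M), Exact i q → Surjective q → Injective i →
      Tor15.Dim (R := R) (n + 1) X M → Tor15.Dim (R := R) n X K₀ := by
  induction n with
  | zero =>
    intro X M K₀ F₀ _ _ _ _ _ _ _ _ _ i q hiq hq hi h
    let g : (X →₀ R) →ₗ[R] X := Finsupp.linearCombination R id
    have hg : Surjective g := fun m => ⟨Finsupp.single m 1, by simp [g]⟩
    have h1 : FlatCrit.TorVanish R M (LinearMap.ker g) :=
      Tor15.dim_shift 0 (LinearMap.ker g).subtype g (LinearMap.exact_subtype_ker_map g) hg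
        (Submodule.injective_subtype _) h
    exact Tor15.torVanish_shift hiq hq hi (LinearMap.exact_subtype_ker_map g) hg
      (Submodule.injective_subtype _) (Tor15.torVanish_symm h1)
  | succ n ih =>
    intro X M K₀ F₀ _ _ _ _ _ _ _ _ _ i q hiq hq hi h
    let g : (X →₀ R) →ₗ[R] X := Finsupp.linearCombination R id
    have hg : Surjective g := fun m => ⟨Finsupp.single m 1, by simp [g]⟩
    have h1 : Tor15.Dim (R := R) (n + 1) (LinearMap.ker g) M :=
      Tor15.dim_shift (n + 1) (LinearMap.ker g).subtype g
        (LinearMap.exact_subtype_ker_map g) hg (Submodule.injective_subtype _) h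
    exact dim_unshift n (LinearMap.ker g).subtype g (LinearMap.exact_subtype_ker_map g) hg
      (Submodule.injective_subtype _) (ih i q hiq hq hi h1)

theorem isZero_tor_of_pd {n : ℕ} (N M : Type u) [AddCommGroup N] [Module R N] [AddCommGroup M] [Module R M]
    (h : CAlgH3.PD R (n + 1) M) (i : ℕ) (hi : n < i) :
    IsZero (((Tor (ModuleCat.{u} R) i).obj (ModuleCat.of R N)).obj (ModuleCat.of R M)) := by
  obtain ⟨k, rfl⟩ : ∃ k, i = k + 1 := ⟨i - 1, by omega⟩
  rcases k with - | k
  · obtain rfl : n = 0 := by omega
    have := CAlgH3.pd_one_iff.1 h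
    exact (CAlgH3.isZero_tor_one_iff N M).2 (Tor15.torVanish_symm FlatCrit.torVanish_of_projective)
  let Pr := projectiveResolution (ModuleCat.of R M)
  let d := fun m => (Pr.complex.d (m + 1) m).hom
  let F₁ := (MonoidalCategory.tensoringLeft (ModuleCat.{u} R)).obj (ModuleCat.of R N)
  have hproj : ∀ m, Module.Projective R (Pr.complex.X m) := fun m =>
    (IsProjective.iff_projective _).2 (Pr.projective m)
  have hd : ∀ m, LinearMap.range (d (m + 1)) = LinearMap.ker (d m) := fun m =>
    (Pr.exact_succ m).moduleCat_range_eq_ker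
  have h0 : LinearMap.range (d 0) = LinearMap.ker (Pr.π.f 0).hom :=
    (ShortComplex.exact_of_g_is_cokernel (ShortComplex.mk _ _ Pr.complex_d_comp_π_f_zero)
      Pr.isColimitCokernelCofork).moduleCat_range_eq_ker
  have hpd : ∀ m, CAlgH3.PD R (n - (m + 1) + 1) (LinearMap.range (d m)) := by
    intro m
    induction m with
    | zero =>
      rw [h0]
      refine (CAlgH3.pd_ker_iff ((ModuleCat.epi_iff_surjective (Pr.π.f 0)).1 inferInstance) _).1 ?_
      exact CAlgH3.pd_mono (by omega) h
    | succ m ih =>
      rw [hd m]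
      refine (CAlgH3.pd_congr (LinearEquiv.ofEq _ _ (LinearMap.ker_rangeRestrict (d m)))).1 ?_
      exact (CAlgH3.pd_ker_iff (d m).surjective_rangeRestrict _).1 (CAlgH3.pd_mono (by omega) ih)
  have := CAlgH3.pd_one_iff.1 (show CAlgH3.PD R 1 (LinearMap.range (d k)) from
    CAlgH3.pd_mono (by omega) (hpd k))
  have hex := (EGA43.PdFlat.torVanish_iff_exact (M := N) (d (k + 2)) (d (k + 1)) (d k) (hd (k + 1)) (hd k)).1
    FlatCrit.torVanish_of_projective
  have e := Pr.isoLeftDerivedObj F₁ (k + 2)
  rw [show ((Tor (ModuleCat.{u} R) (k + 2)).obj (ModuleCat.of R N)).obj (ModuleCat.of R M) =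
      (F₁.leftDerived (k + 2)).obj (ModuleCat.of R M) from rfl, Iso.isZero_iff e,
    HomologicalComplex.homologyFunctor_obj, ← HomologicalComplex.exactAt_iff_isZero_homology,
    HomologicalComplex.exactAt_iff' _ (k + 3) (k + 2) (k + 1) (by simp) (by simp),
    ShortComplex.moduleCat_exact_iff_range_eq_ker]
  exact hex

variable [IsLocalRing R] [IsNoetherianRing R]

theorem pd_of_dim_residue (n : ℕ) : ∀ (M : Type u) [AddCommGroup M] [Module R M] [Module.Finite R M],
    Tor15.Dim (R := R) n (R ⧸ maximalIdeal R) M → CAlgH3.PD R (n + 1) M := by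
  induction n with
  | zero =>
    intro M _ _ _ h
    obtain ⟨m, f, hf, hker⟩ := CAlgH3.exists_minimal_presentation (R := R) M
    have hex : Exact (LinearMap.ker f).subtype f := LinearMap.exact_subtype_ker_map f
    have hinj : Injective ((LinearMap.ker f).subtype.rTensor (R ⧸ maximalIdeal R)) :=
      (Tor15.torVanish_symm h) _ f hex hf Subtype.val_injective
    have hzero : (LinearMap.ker f).subtype.rTensor (R ⧸ maximalIdeal R) = 0 := by
      refine TensorProduct.ext' fun x c => ?_
      rw [LinearMap.rTensor_tmul, LinearMap.zero_apply]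
      exact Submodule.smul_induction_on (p := fun y => y ⊗ₜ[R] c = 0) (hker x.2)
        (fun r hr y _ => by
          have hrc : r • c = 0 := by
            obtain ⟨s, rfl⟩ := Submodule.Quotient.mk_surjective _ c
            rw [← Submodule.Quotient.mk_smul]
            exact (Submodule.Quotient.mk_eq_zero _).2 (Ideal.mul_mem_right _ _ hr)
          rw [TensorProduct.smul_tmul, hrc, TensorProduct.tmul_zero])
        (fun a b ha hb => by rw [TensorProduct.add_tmul, ha, hb, add_zero])
    have hK : LinearMap.ker f = ⊥ := by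
      have hsub : Subsingleton ((LinearMap.ker f) ⊗[R] (R ⧸ maximalIdeal R)) :=
        subsingleton_of_forall_eq 0 fun z => hinj (by rw [hzero]; simp)
      have hsub' : Subsingleton ((LinearMap.ker f) ⧸ (maximalIdeal R • (⊤ : Submodule R (LinearMap.ker f)))) :=
        (TensorProduct.tensorQuotEquivQuotSMul (LinearMap.ker f) (maximalIdeal R)).symm.toEquiv.subsingleton
      have htop := (Submodule.Quotient.subsingleton_iff).1 hsub'
      refine Submodule.eq_bot_of_le_smul_of_le_jacobson_bot (maximalIdeal R) _ (IsNoetherian.noetherian _) ?_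
        (maximalIdeal_le_jacobson _)
      have := congrArg (Submodule.map (LinearMap.ker f).subtype) htop
      rw [Submodule.map_smul'', Submodule.map_top, Submodule.range_subtype] at this
      exact this.ge
    have := Module.Free.of_equiv (LinearEquiv.ofBijective f ⟨LinearMap.ker_eq_bot.1 hK, hf⟩)
    exact CAlgH3.pd_one_iff.2 inferInstance
  | succ n ih =>
    intro M _ _ _ h
    obtain ⟨m, f, hf⟩ := Module.Finite.exists_fin' R M
    rw [show n + 1 + 1 = n + 2 from rfl]
    exact (CAlgH3.pd_ker_iff hf n).2 (ih _
      (dim_syzygy n (LinearMap.ker f).subtype f (LinearMap.exact_subtype_ker_map f) hf Subtype.val_injective h))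

theorem pd_of_isZero_tor {n : ℕ} (M : Type u) [AddCommGroup M] [Module R M] [Module.Finite R M]
    (h : IsZero (((Tor (ModuleCat.{u} R) (n + 1)).obj (ModuleCat.of R (R ⧸ maximalIdeal R))).obj (ModuleCat.of R M))) :
    CAlgH3.PD R (n + 1) M :=
  pd_of_dim_residue n M (EGA43.PdFlat.dim_of_isZero_tor M h)

end Groth.Agent.EGA41Lib
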