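import Groth.Agent.QReg6.Regular
import Mathlib

/-! Quasi-regular sequences in the Jacobson radical are regular. -/

set_option autoImplicit false
set_option backward.isDefEq.respectTransparency.types false
universe u

open MvPolynomial RingTheory.Sequence
open scoped Pointwise

namespace Groth.Agent.EGA41Lib

variable {A : Type u} [CommRing A]

theorem coeff_X_zero_mul_rename {c : ℕ} (Q : MvPolynomial (Fin (c + 1)) A) (d : Fin c →₀ ℕ) :
    (X (R := A) (0 : Fin (c + 1)) * Q).coeff (d.mapDomain Fin.succ) = 0 := by
  classical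
  rw [coeff_X_mul', if_neg]
  rw [Finsupp.notMem_support_iff, Finsupp.mapDomain_of_notMem_range]
  rintro ⟨i, hi⟩
  exact Fin.succ_ne_zero i hi

theorem mem_pow_of_mul_mem {c : ℕ} {f : Fin (c + 1) → A} (hq : CAlgX.IsQuasiRegular f) :
    ∀ (m n : ℕ) (a : A), m + 1 ≤ n → a * f 0 ∈ Ideal.span (Set.range f) ^ n → a ∈ Ideal.span (Set.range f) ^ m := by
  intro m
  induction m with
  | zero => intro n a _ _; simp
  | succ m ih =>
    intro n a hn ha
    have ham := ih n a (by omega) ha
    obtain ⟨Q, hQ, rfl⟩ := QReg6.exists_homogeneous_eval f ham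
    have h1 : ∀ d, Q.coeff d ∈ Ideal.span (Set.range f) := by
      intro d
      have := hq (m + 1) (X 0 * Q) (by rw [add_comm m 1]; exact (isHomogeneous_X A 0).mul hQ)
        (Ideal.pow_le_pow_right (show m + 1 + 1 ≤ n by omega) (by rw [map_mul, eval_X, mul_comm]; exact ha))
        (Finsupp.single 0 1 + d)
      rwa [coeff_X_mul] at this
    classical
    rw [eval_eq, pow_succ']
    refine Submodule.sum_mem _ fun d hd => Ideal.mul_mem_mul (h1 d) ?_
    have := QReg6.eval_mem_pow f (P := monomial d (1 : A)) (n := m) (by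
      refine isHomogeneous_monomial _ ?_
      have h2 := hQ (mem_support_iff.mp hd)
      rw [← h2]; simp [Finsupp.weight_apply, Finsupp.degree_apply, Finsupp.sum])
    simpa [eval_monomial, Finsupp.prod] using this

theorem isWeaklyRegular_of_isQuasiRegular : ∀ (c : ℕ) (A : Type u) [CommRing A] [IsNoetherianRing A]
    (f : Fin c → A), (∀ i (m : Ideal A), m.IsMaximal → f i ∈ m) → CAlgX.IsQuasiRegular f →
    IsWeaklyRegular A (List.ofFn f) := by
  intro c
  induction c with
  | zero => intro A _ _ f _ _; rw [List.ofFn_zero]; exact IsWeaklyRegular.nil A A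
  | succ c ih =>
    intro A _ _ f hf hq
    classical
    let J := Ideal.span (Set.range f)
    have hJ : J ≤ (⊥ : Ideal A).jacobson := Ideal.span_le.2 (by
      rintro _ ⟨i, rfl⟩
      exact Ideal.mem_sInf.2 fun {m} hm => hf i m hm.2)
    have hreg : IsSMulRegular A (f 0) := by
      refine isSMulRegular_iff_right_eq_zero_of_smul.2 fun a ha => ?_
      have ha' : a * f 0 = 0 := by rw [mul_comm]; exact ha
      have : a ∈ (⨅ n : ℕ, J ^ n • (⊤ : Submodule A A)) := Submodule.mem_iInf _ |>.2 fun n => by
        rw [smul_eq_mul, Ideal.mul_top]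
        exact mem_pow_of_mul_mem hq n (n + 1) a le_rfl (by rw [ha']; exact Ideal.zero_mem _)
      rwa [Ideal.iInf_pow_smul_eq_bot_of_le_jacobson J hJ] at this
    rw [List.ofFn_succ, isWeaklyRegular_cons_iff']
    refine ⟨hreg, ?_⟩
    let I := Ideal.span {f 0}
    let g : Fin c → A ⧸ I := fun i => Ideal.Quotient.mk I (f i.succ)
    have hJmap : J.map (Ideal.Quotient.mk I) = Ideal.span (Set.range g) := by
      rw [Ideal.map_span, ← Set.range_comp]
      apply le_antisymm
      · rw [Ideal.span_le]
        rintro _ ⟨i, rfl⟩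
        refine Fin.cases ?_ (fun i => ?_) i
        · show Ideal.Quotient.mk I (f 0) ∈ Ideal.span (Set.range g)
          rw [Ideal.Quotient.eq_zero_iff_mem.2 (Ideal.mem_span_singleton_self (f 0))]; exact Submodule.zero_mem _
        · exact Ideal.subset_span ⟨i, rfl⟩
      · exact Ideal.span_mono (by rintro _ ⟨i, rfl⟩; exact ⟨i.succ, rfl⟩)
    have hgq : CAlgX.IsQuasiRegular g := by
      intro n P hP hmem d
      choose σ hσ using Ideal.Quotient.mk_surjective (I := I)
      let P' : MvPolynomial (Fin c) A := ∑ e ∈ P.support, monomial e (σ (P.coeff e))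
      have hP' : P'.IsHomogeneous n := IsHomogeneous.sum _ _ _ fun e he => isHomogeneous_monomial _ (by
        rw [← hP (mem_support_iff.mp he)]; simp [Finsupp.weight_apply, Finsupp.degree_apply, Finsupp.sum])
      have hmap : P'.map (Ideal.Quotient.mk I) = P := by
        simp only [P', map_sum, map_monomial, hσ]
        exact P.as_sum.symm
      have hev : eval g P = Ideal.Quotient.mk I (eval (f ∘ Fin.succ) P') := by
        rw [← hmap, eval_map, show g = Ideal.Quotient.mk I ∘ (f ∘ Fin.succ) from rfl, ← eval₂_comp]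
      rw [hev, ← hJmap, ← Ideal.map_pow] at hmem
      have hmem' : eval (f ∘ Fin.succ) P' ∈ Ideal.comap (Ideal.Quotient.mk I) ((J ^ (n + 1)).map (Ideal.Quotient.mk I)) := hmem
      rw [Ideal.comap_map_of_surjective _ Ideal.Quotient.mk_surjective, ← RingHom.ker_eq_comap_bot, Ideal.mk_ker] at hmem'
      obtain ⟨z, hz, w, hw, hzw⟩ := Submodule.mem_sup.1 hmem'
      obtain ⟨a, rfl⟩ := Ideal.mem_span_singleton'.1 hw
      have hren : eval f (rename Fin.succ P') = eval (f ∘ Fin.succ) P' := eval_rename _ _ _
      suffices hc : P'.coeff d ∈ J by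
        rw [← hJmap, ← hmap, coeff_map]
        exact Ideal.mem_map_of_mem _ hc
      rcases n with - | n
      · have : P' = C (P'.coeff 0) := by
          refine MvPolynomial.ext _ _ fun e => ?_
          rw [coeff_C]
          split_ifs with he
          · rw [he]
          · by_contra hne
            have h0 := hP' hne
            simp [Finsupp.weight_apply, Finsupp.sum] at h0
            exact he (Finsupp.ext fun i => by
              by_contra hi
              exact hi (h0 i)).symm
        by_cases hd : d = 0
        · subst hd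
          rw [this, eval_C] at hzw
          rw [← hzw]
          exact J.add_mem (Ideal.pow_le_self one_ne_zero hz) (Ideal.mul_mem_left _ _ (Ideal.subset_span ⟨0, rfl⟩))
        · rw [this, coeff_C, if_neg (Ne.symm hd)]; exact J.zero_mem
      · have hev' : eval (f ∘ Fin.succ) P' ∈ J ^ (n + 1) := by
          rw [← hren]; exact QReg6.eval_mem_pow f (hP'.rename_isHomogeneous (f := Fin.succ))
        have ha : a * f 0 ∈ J ^ (n + 1) := by
          rw [eq_sub_of_add_eq' hzw]
          exact Submodule.sub_mem _ hev' (Ideal.pow_le_pow_right (Nat.le_succ _) hz)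
        obtain ⟨Q, hQ, rfl⟩ := QReg6.exists_homogeneous_eval f (mem_pow_of_mul_mem hq n (n + 1) a le_rfl ha)
        have h := hq (n + 1) (rename Fin.succ P' - X 0 * Q)
          ((hP'.rename_isHomogeneous (f := Fin.succ)).sub (by rw [add_comm n 1]; exact (isHomogeneous_X A 0).mul hQ))
          (by rw [map_sub, map_mul, eval_X, hren, ← hzw, mul_comm (f 0), add_sub_cancel_right]; exact hz)
          (d.mapDomain Fin.succ)
        rwa [coeff_sub, coeff_rename_mapDomain _ (Fin.succ_injective c), coeff_X_zero_mul_rename, sub_zero] at h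
    have hmax : ∀ i (m : Ideal (A ⧸ I)), m.IsMaximal → g i ∈ m := fun i m hm =>
      hf i.succ _ (Ideal.comap_isMaximal_of_surjective _ Ideal.Quotient.mk_surjective (K := m))
    have key := ih (A ⧸ I) g hmax hgq
    rw [List.map_ofFn]
    let e₀ : QuotSMulTop (f 0) A ≃ₗ[A] A ⧸ I :=
      Submodule.quotEquivOfEq _ _ (by rw [← Submodule.ideal_span_singleton_smul, smul_eq_mul, Ideal.mul_top])
    let e : QuotSMulTop (f 0) A ≃ₗ[A ⧸ I] A ⧸ I :=
      { e₀ with
        map_smul' := fun r z => by
          obtain ⟨s, rfl⟩ := Ideal.Quotient.mk_surjective r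
          exact e₀.map_smul s z }
    exact (LinearEquiv.isWeaklyRegular_congr e _).2 key

end Groth.Agent.EGA41Lib
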