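import Mathlib

/-!
# Powers of regular sequences

EGA 0 15.1.20: regular sequences are stable under extensions and under taking powers.
-/

set_option autoImplicit false

universe u v

open RingTheory.Sequence
open scoped Pointwise

namespace Groth.Agent.EGA41Lib

variable {R : Type u} [CommRing R]

theorem isWeaklyRegular_of_ses : ∀ (rs : List R) {M' M M'' : Type v} [AddCommGroup M'] [Module R M']
    [AddCommGroup M] [Module R M] [AddCommGroup M''] [Module R M''] (i : M' →ₗ[R] M) (g : M →ₗ[R] M''),
    Function.Injective i → Function.Exact i g → Function.Surjective g →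
      IsWeaklyRegular M' rs → IsWeaklyRegular M'' rs → IsWeaklyRegular M rs := by
  intro rs
  induction rs with
  | nil => intros; exact IsWeaklyRegular.nil R _
  | cons r rs ih =>
    intro M' M M'' _ _ _ _ _ _ i g hi hex hg h' h''
    rw [isWeaklyRegular_cons_iff] at h' h'' ⊢
    refine ⟨?_, ih (QuotSMulTop.map r i) (QuotSMulTop.map r g) ?_ (QuotSMulTop.map_exact r hex hg)
      (QuotSMulTop.map_surjective r hg) h'.2 h''.2⟩
    · refine (isSMulRegular_iff_right_eq_zero_of_smul).mpr fun m hm => ?_
      have hgm : g m = 0 := h''.1.right_eq_zero_of_smul (by rw [← map_smul, hm, map_zero])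
      obtain ⟨z, rfl⟩ := (hex m).1 hgm
      rw [← map_smul, ← map_zero i] at hm
      rw [h'.1.right_eq_zero_of_smul (hi hm), map_zero]
    · rw [← LinearMap.ker_eq_bot, Submodule.eq_bot_iff]
      intro x hx
      obtain ⟨x, rfl⟩ := Submodule.Quotient.mk_surjective _ x
      have hx' : i x ∈ r • (⊤ : Submodule R M) :=
        (Submodule.Quotient.mk_eq_zero _).1 hx
      obtain ⟨y, -, hy⟩ := (Submodule.mem_smul_pointwise_iff_exists _ r _).1 hx'
      have hgy : g y = 0 := h''.1.right_eq_zero_of_smul (by
        rw [← map_smul, hy, (hex _).2 ⟨x, rfl⟩])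
      obtain ⟨z, rfl⟩ := (hex y).1 hgy
      rw [← map_smul] at hy
      rw [Submodule.Quotient.mk_eq_zero, ← hi hy]
      exact Submodule.smul_mem_pointwise_smul _ r _ trivial

theorem isWeaklyRegular_quotSMulTop_pow {M : Type v} [AddCommGroup M] [Module R M] {r : R}
    (hr : IsSMulRegular M r) {rs : List R} (h : IsWeaklyRegular (QuotSMulTop r M) rs) :
    ∀ v : ℕ, IsWeaklyRegular (QuotSMulTop (r ^ (v + 1)) M) rs := by
  intro v
  induction v with
  | zero => rwa [zero_add, pow_one]
  | succ v ih =>
    let i : QuotSMulTop (r ^ (v + 1)) M →ₗ[R] QuotSMulTop (r ^ (v + 1 + 1)) M :=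
      Submodule.mapQ _ _ (r • LinearMap.id) (by
        intro x hx
        obtain ⟨y, -, rfl⟩ := (Submodule.mem_smul_pointwise_iff_exists _ _ _).1 hx
        rw [Submodule.mem_comap, LinearMap.smul_apply, LinearMap.id_apply, smul_smul, ← pow_succ']
        exact Submodule.smul_mem_pointwise_smul _ _ _ trivial)
    let g : QuotSMulTop (r ^ (v + 1 + 1)) M →ₗ[R] QuotSMulTop r M :=
      Submodule.factor (by
        intro x hx
        obtain ⟨y, -, rfl⟩ := (Submodule.mem_smul_pointwise_iff_exists _ _ _).1 hx
        rw [pow_succ', mul_smul]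
        exact Submodule.smul_mem_pointwise_smul _ _ _ trivial)
    refine isWeaklyRegular_of_ses rs i g ?_ ?_ (Submodule.factor_surjective _) ih h
    · rw [← LinearMap.ker_eq_bot, Submodule.eq_bot_iff]
      intro x hx
      obtain ⟨x, rfl⟩ := Submodule.Quotient.mk_surjective _ x
      have hx' : r • x ∈ r ^ (v + 1 + 1) • (⊤ : Submodule R M) := (Submodule.Quotient.mk_eq_zero _).1 hx
      obtain ⟨y, -, hy⟩ := (Submodule.mem_smul_pointwise_iff_exists _ _ _).1 hx'
      rw [pow_succ', mul_smul] at hy
      rw [Submodule.Quotient.mk_eq_zero, ← hr hy]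
      exact Submodule.smul_mem_pointwise_smul _ _ _ trivial
    · intro y
      constructor
      · obtain ⟨y, rfl⟩ := Submodule.Quotient.mk_surjective _ y
        intro hy
        have hy' : y ∈ r • (⊤ : Submodule R M) := (Submodule.Quotient.mk_eq_zero _).1 hy
        obtain ⟨z, -, rfl⟩ := (Submodule.mem_smul_pointwise_iff_exists _ _ _).1 hy'
        exact ⟨Submodule.Quotient.mk z, rfl⟩
      · rintro ⟨x, rfl⟩
        obtain ⟨x, rfl⟩ := Submodule.Quotient.mk_surjective _ x
        exact (Submodule.Quotient.mk_eq_zero _).2 (Submodule.smul_mem_pointwise_smul _ _ _ trivial)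

theorem isWeaklyRegular_pow : ∀ (n : ℕ) {M : Type v} [AddCommGroup M] [Module R M] (f : Fin n → R)
    (v : Fin n → ℕ), (∀ i, 1 ≤ v i) → IsWeaklyRegular M (List.ofFn f) →
      IsWeaklyRegular M (List.ofFn fun i => f i ^ v i) := by
  intro n
  induction n with
  | zero => intro M _ _ f v _ h; simpa using h
  | succ n ih =>
    intro M _ _ f v hv h
    rw [List.ofFn_succ, isWeaklyRegular_cons_iff] at h ⊢
    obtain ⟨w, hw⟩ := Nat.exists_eq_add_of_le (hv 0)
    refine ⟨h.1.pow _, ih (fun i => f i.succ) (fun i => v i.succ) (fun i => hv _) ?_⟩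
    rw [show v 0 = w + 1 by omega]
    exact isWeaklyRegular_quotSMulTop_pow h.1 h.2 w

end Groth.Agent.EGA41Lib
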