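import Groth.Agent.FlatCrit.Tor
import Groth.Agent.FlatCrit.Inj
import Mathlib

/-! Flatness and regular sequences: descent along `M ↦ M/fM`. -/

set_option autoImplicit false
set_option backward.isDefEq.respectTransparency.types false
universe u

open TensorProduct Function RingTheory.Sequence
open scoped Pointwise

namespace Groth.Agent.EGA41Lib

variable {A : Type u} [CommRing A]

theorem smul_rTensor (M N : Type u) [AddCommGroup M] [Module A M] [AddCommGroup N] [Module A N] (x : A) :
    (x • (LinearMap.id : N →ₗ[A] N)).rTensor M = x • (LinearMap.id : N ⊗[A] M →ₗ[A] N ⊗[A] M) := by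
  rw [LinearMap.rTensor_smul, LinearMap.rTensor_id]

/-- Multiplication by `x` on `N ⊗ M` is injective if it is so on `N` and `M` is flat. -/
theorem isSMulRegular_tensor_of_flat (M N : Type u) [AddCommGroup M] [Module A M] [AddCommGroup N] [Module A N]
    [Module.Flat A M] {x : A} (hx : IsSMulRegular N x) : IsSMulRegular (N ⊗[A] M) x := by
  have := Module.Flat.rTensor_preserves_injective_linearMap (M := M) (x • (LinearMap.id : N →ₗ[A] N))
    (fun a b h => hx h)
  rw [smul_rTensor] at this
  exact fun a b h => this h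

theorem isSMulRegular_quot_iff (M : Type u) [AddCommGroup M] [Module A M] (I : Ideal A) (x : A) :
    IsSMulRegular ((A ⧸ I) ⊗[A] M) x ↔ IsSMulRegular (M ⧸ (I • (⊤ : Submodule A M))) x :=
  (TensorProduct.quotTensorEquivQuotSMul M I).isSMulRegular_congr x

theorem isSMulRegular_self_quot_iff (I : Ideal A) (x : A) :
    IsSMulRegular (A ⧸ (I • (⊤ : Submodule A A))) x ↔ IsSMulRegular (A ⧸ I) x :=
  (Submodule.quotEquivOfEq _ _ (by simp)).isSMulRegular_congr x

theorem ofList_take_succ (fs : List A) (k : ℕ) (hk : k < fs.length) :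
    Ideal.ofList (fs.take (k + 1)) = Ideal.ofList (fs.take k) ⊔ Ideal.span {fs[k]} := by
  rw [List.take_add_one, List.getElem?_eq_getElem hk, Option.toList_some, Ideal.ofList_append,
    Ideal.ofList_singleton]

theorem isWeaklyRegular_of_flat (M : Type u) [AddCommGroup M] [Module A M] [Module.Flat A M] {fs : List A}
    (h : IsWeaklyRegular A fs) : IsWeaklyRegular M fs := by
  rw [isWeaklyRegular_iff_Fin] at h ⊢
  intro i
  exact (isSMulRegular_quot_iff M _ _).1
    (isSMulRegular_tensor_of_flat M _ ((isSMulRegular_self_quot_iff _ _).1 (h i)))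

theorem torVanish_quot_ofList (M : Type u) [AddCommGroup M] [Module A M] {fs : List A}
    (hM : IsWeaklyRegular M fs) :
    ∀ k ≤ fs.length, FlatCrit.TorVanish A M (A ⧸ Ideal.ofList (fs.take k)) := by
  intro k
  induction k with
  | zero =>
    intro _
    exact (FlatCrit.torVanish_of_projective (R := A) (M := M) (N := A)).of_linearEquiv
      (Submodule.quotEquivOfEqBot (Ideal.ofList (fs.take 0)) (by simp)).symm
  | succ k ih =>
    intro hk
    have hk' : k < fs.length := hk
    let I := Ideal.ofList (fs.take k)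
    let x : A := fs[k]
    let J := Ideal.ofList (fs.take (k + 1))
    have hIJ : I ≤ J := by rw [show J = _ from ofList_take_succ fs k hk']; exact le_sup_left
    let f : (A ⧸ I) →ₗ[A] (A ⧸ I) := x • LinearMap.id
    let g : (A ⧸ I) →ₗ[A] (A ⧸ J) := Submodule.factor hIJ
    have hex : Exact f g := by
      intro y
      obtain ⟨a, rfl⟩ := Submodule.Quotient.mk_surjective _ y
      constructor
      · intro h
        have ha : a ∈ J := (Submodule.Quotient.mk_eq_zero _).1 h
        rw [show J = _ from ofList_take_succ fs k hk'] at ha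
        obtain ⟨i, hi, z, hz, rfl⟩ := Submodule.mem_sup.1 ha
        obtain ⟨c, rfl⟩ := Ideal.mem_span_singleton'.1 hz
        refine ⟨Submodule.Quotient.mk c, ?_⟩
        show x • (Submodule.Quotient.mk c : A ⧸ I) = _
        rw [← Submodule.Quotient.mk_smul, Submodule.Quotient.eq]
        have : x • c - (i + c * fs[k]) = -i := by simp only [x, smul_eq_mul]; ring
        rw [this]; exact I.neg_mem hi
      · rintro ⟨z, hz⟩
        obtain ⟨c, rfl⟩ := Submodule.Quotient.mk_surjective _ z
        rw [← hz]
        show g (x • (Submodule.Quotient.mk c : A ⧸ I)) = 0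
        rw [← Submodule.Quotient.mk_smul]
        refine (Submodule.Quotient.mk_eq_zero J).2 ?_
        rw [show J = _ from ofList_take_succ fs k hk', smul_eq_mul]
        exact Submodule.mem_sup_right (Ideal.mul_mem_right _ _ (Ideal.subset_span rfl))
    refine FlatCrit.TorVanish.of_presentation f g hex (Submodule.factor_surjective hIJ) (ih (by omega)) ?_
    have h1 : IsSMulRegular ((A ⧸ I) ⊗[A] M) x :=
      (isSMulRegular_quot_iff M I x).2 ((isWeaklyRegular_iff_Fin M fs).1 hM ⟨k, hk'⟩)
    rw [show f.rTensor M = x • LinearMap.id from smul_rTensor M _ x]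
    exact fun a b h => h1 h

theorem rTensor_injective_ofList (M : Type u) [AddCommGroup M] [Module A M] {fs : List A}
    (hM : IsWeaklyRegular M fs) :
    Injective ((Ideal.ofList fs).subtype.rTensor M) := by
  have h := torVanish_quot_ofList M hM fs.length le_rfl
  rw [List.take_length] at h
  refine h (Ideal.ofList fs).subtype (Submodule.mkQ (Ideal.ofList fs)) ?_ (Submodule.mkQ_surjective _) Subtype.val_injective
  rw [LinearMap.exact_iff, Submodule.ker_mkQ, Submodule.range_subtype]

variable {B : Type u} [CommRing B] [Algebra A B] [IsLocalRing A] [IsLocalRing B] [IsNoetherianRing A]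
  [IsNoetherianRing B] [IsLocalHom (algebraMap A B)]

theorem map_le_jacobson_of_le (I : Ideal A) (hI : I ≤ IsLocalRing.maximalIdeal A) :
    I.map (algebraMap A B) ≤ Ideal.jacobson ⊥ := by
  rw [IsLocalRing.jacobson_eq_maximalIdeal ⊥ bot_ne_top]
  exact (Ideal.map_mono hI).trans (((IsLocalRing.local_hom_TFAE (algebraMap A B)).out 0 2).1
    (inferInstance : IsLocalHom (algebraMap A B)))

theorem flat_iff_quot_flat_and_regular (M : Type u) [AddCommGroup M] [Module B M] [Module A M] [IsScalarTower A B M]
    [Module.Finite B M] (fs : List A) (hfs : ∀ f ∈ fs, f ∈ IsLocalRing.maximalIdeal A) (hA : IsWeaklyRegular A fs) :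
    Module.Flat A M ↔
      Module.Flat (A ⧸ Ideal.ofList fs) (M ⧸ (Ideal.ofList fs • (⊤ : Submodule A M))) ∧ IsWeaklyRegular M fs := by
  let I := Ideal.ofList fs
  let e : (A ⧸ I) ⊗[A] M ≃ₗ[A ⧸ I] M ⧸ (I • (⊤ : Submodule A M)) :=
    { TensorProduct.quotTensorEquivQuotSMul M I with
      map_smul' := fun r z => by
        obtain ⟨c, rfl⟩ := Ideal.Quotient.mk_surjective r
        exact (TensorProduct.quotTensorEquivQuotSMul M I).map_smul c z }
  constructor
  · intro h
    exact ⟨Module.Flat.of_linearEquiv e.symm, isWeaklyRegular_of_flat M hA⟩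
  · rintro ⟨h1, h2⟩
    exact FlatCrit.flat_of_rTensor_injective (S := B) I
      (map_le_jacobson_of_le I (Ideal.span_le.2 hfs)) (rTensor_injective_ofList M h2)
      (FlatCrit.quotFlat_of_flat I (Module.Flat.of_linearEquiv e))

/-- If `f` is `N`-regular and `N/fN` is `A`-flat, then `N` is `A`-flat. -/
theorem flat_of_flat_quotSMulTop (N : Type u) [AddCommGroup N] [Module B N] [Module A N] [IsScalarTower A B N]
    [Module.Finite B N] {f : B} (hf : f ∈ IsLocalRing.maximalIdeal B) (hreg : IsSMulRegular N f)
    [Module.Flat A (QuotSMulTop f N)] : Module.Flat A N := by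
  let m := IsLocalRing.maximalIdeal A
  refine FlatCrit.flat_of_rTensor_injective (S := B) m (map_le_jacobson_of_le m le_rfl) ?_ (FlatCrit.quotFlat_of_field m)
  let μ : N →ₗ[A] N := (LinearMap.lsmul B N f).restrictScalars A
  let π : N →ₗ[A] QuotSMulTop f N := (Submodule.mkQ (f • (⊤ : Submodule B N))).restrictScalars A
  have hex : Exact μ π := by
    intro y
    rw [show π y = 0 ↔ y ∈ f • (⊤ : Submodule B N) from Submodule.Quotient.mk_eq_zero _,
      Submodule.mem_smul_pointwise_iff_exists]
    exact ⟨fun ⟨b, _, hb⟩ => ⟨b, hb⟩, fun ⟨b, hb⟩ => ⟨b, trivial, hb⟩⟩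
  let φ : N ⊗[A] m →ₗ[B] N ⊗[A] A := AlgebraTensorModule.lTensor B N m.subtype
  have hfin : Module.Finite A m := Module.IsNoetherian.finite A m
  have : Module.Finite B (N ⊗[A] m) := Module.Finite.equiv (AlgebraTensorModule.cancelBaseChange A B B N m)
  have hsub : LinearMap.ker φ ≤ (Ideal.span {f}) • LinearMap.ker φ := by
    intro z hz
    have hz' : φ z = 0 := hz
    have h0 : π.rTensor A (φ z) = m.subtype.lTensor (QuotSMulTop f N) (π.rTensor m z) := by
      show π.rTensor A (m.subtype.lTensor N z) = _
      rw [← LinearMap.comp_apply, ← LinearMap.comp_apply, LinearMap.rTensor_comp_lTensor, LinearMap.lTensor_comp_rTensor]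
    rw [hz', map_zero] at h0
    have h1 : π.rTensor m z = 0 := (injective_iff_map_eq_zero _).1
      (Module.Flat.lTensor_preserves_injective_linearMap m.subtype Subtype.val_injective) _ h0.symm
    obtain ⟨w, hw⟩ := (rTensor_exact m hex (Submodule.mkQ_surjective _) z).1 h1
    have hμ : ∀ (P : Type u) [AddCommGroup P] [Module A P] (v : N ⊗[A] P), μ.rTensor P v = f • v := by
      intro P _ _ v
      induction v with
      | zero => simp
      | tmul n p => rw [LinearMap.rTensor_tmul, TensorProduct.smul_tmul']; rfl
      | add a b ha hb => rw [map_add, ha, hb, smul_add]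
    rw [hμ] at hw
    have hreg' : IsSMulRegular (N ⊗[A] A) f :=
      ((AlgebraTensorModule.rid A B N).isSMulRegular_congr f).2 hreg
    have hw0 : φ w = 0 := by
      apply hreg'
      show f • φ w = f • (0 : N ⊗[A] A)
      rw [← map_smul, hw, hz', smul_zero]
    rw [← hw]
    exact Submodule.smul_mem_smul (Ideal.subset_span rfl) hw0
  have hker : LinearMap.ker φ = ⊥ :=
    Submodule.eq_bot_of_le_smul_of_le_jacobson_bot (Ideal.span {f}) _ (IsNoetherian.noetherian _) hsub (by
      rw [IsLocalRing.jacobson_eq_maximalIdeal ⊥ bot_ne_top, Ideal.span_singleton_le_iff_mem]; exact hf)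
  exact (LinearMap.lTensor_inj_iff_rTensor_inj N m.subtype).1 (LinearMap.ker_eq_bot.1 hker : Injective φ)

theorem flat_quotient_take (fs : List B) :
    ∀ (M : Type u) [AddCommGroup M] [Module B M] [Module A M] [IsScalarTower A B M] [Module.Finite B M],
      (∀ f ∈ fs, f ∈ IsLocalRing.maximalIdeal B) → IsWeaklyRegular M fs →
      Module.Flat A (M ⧸ (Ideal.ofList fs • (⊤ : Submodule B M))) →
      ∀ i ≤ fs.length, Module.Flat A (M ⧸ (Ideal.ofList (fs.take i) • (⊤ : Submodule B M))) := by
  induction fs with
  | nil => intro M _ _ _ _ _ _ _ h i hi; rw [List.take_nil]; exact h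
  | cons f fs ih =>
    intro M _ _ _ _ _ hmem hreg h
    rw [isWeaklyRegular_cons_iff] at hreg
    obtain ⟨h1, h2⟩ := hreg
    let e := fun l => (Submodule.quotOfListConsSMulTopEquivQuotSMulTopInner M f l).restrictScalars A
    have key := ih (QuotSMulTop f M) (fun y hy => hmem y (by simp [hy])) h2
      (Module.Flat.of_linearEquiv (e fs).symm)
    rintro (_ | i) hi
    · have h0 := key 0 (Nat.zero_le _)
      have : Module.Flat A (QuotSMulTop f M) := Module.Flat.of_linearEquiv
        ((Submodule.quotEquivOfEqBot (Ideal.ofList (fs.take 0) • (⊤ : Submodule B (QuotSMulTop f M))) (by simp)).restrictScalars A).symm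
      have hM := flat_of_flat_quotSMulTop (A := A) M (hmem f (by simp)) h1
      exact Module.Flat.of_linearEquiv
        ((Submodule.quotEquivOfEqBot (Ideal.ofList ((f :: fs).take 0) • (⊤ : Submodule B M)) (by simp)).restrictScalars A)
    · have hk := key i (by simpa using hi)
      rw [List.take_succ_cons]
      exact Module.Flat.of_linearEquiv (e (fs.take i))

end Groth.Agent.EGA41Lib
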