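import Groth.Agent.EGA41Lib.CartierSimple
import Mathlib.RingTheory.Smooth.Field
import Mathlib.RingTheory.Unramified.Field
import Mathlib.RingTheory.AlgebraicIndependent.AlgebraicClosure

/-!
# The Cartier equality

EGA 0, 21.7.1: for a finitely generated field extension `L/K`,
`rank Ω_{L/K} - rank Υ_{L/K/R} ≥ trdeg_K L`, with equality for `R` made of `p`-th powers.
-/

set_option autoImplicit false

universe u w

open TensorProduct Polynomial

namespace Groth.Agent.EGA41Lib

variable (R : Type w) [CommRing R]

/-- A purely transcendental simple extension has index one. -/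
theorem indexProp_transcendental {K L : Type u} [Field K] [Field L] [Algebra R K] [Algebra R L] [Algebra K L]
    [IsScalarTower R K L] (x : L) (hx : Transcendental K x)
    (hgen : IntermediateField.adjoin K ({x} : Set L) = ⊤) : IndexProp R K L 1 := by
  have hai : AlgebraicIndependent K (fun _ : Unit => x) := algebraicIndependent_unique_type_iff.2 hx
  have hrange : IntermediateField.adjoin K (Set.range fun _ : Unit => x) = ⊤ := by rw [Set.range_const, hgen]
  haveI : Algebra.FormallySmooth K L := Algebra.FormallySmooth.of_algebraicIndependent hai hrange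
  have h0 : EGA41.imperfection R K L = ⊥ := LinearMap.ker_eq_bot.2 (injective_mapBaseChange_of_formallySmooth R K L)
  have hmem : ∀ ω : Ω[L⁄K], ω ∈ Submodule.span L {KaehlerDifferential.D K L x} := by
    intro ω
    have hω : ω ∈ Submodule.span L (Set.range (KaehlerDifferential.D K L)) := by
      rw [KaehlerDifferential.span_range_derivation]; trivial
    refine Submodule.span_le.2 ?_ hω
    rintro _ ⟨y, rfl⟩
    have hy : y ∈ IntermediateField.adjoin K ({x} : Set L) := hgen ▸ IntermediateField.mem_top
    induction hy using IntermediateField.adjoin_induction with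
    | mem z hz => rw [Set.mem_singleton_iff.1 hz]; exact Submodule.subset_span rfl
    | algebraMap a => rw [SetLike.mem_coe, Derivation.map_algebraMap]; exact Submodule.zero_mem _
    | add z z' _ _ hz hz' => rw [SetLike.mem_coe, map_add]; exact Submodule.add_mem _ hz hz'
    | inv z _ hz => rw [SetLike.mem_coe, Derivation.leibniz_inv]; exact Submodule.smul_mem _ _ hz
    | mul z z' _ _ hz hz' =>
      rw [SetLike.mem_coe, Derivation.leibniz]
      exact Submodule.add_mem _ (Submodule.smul_mem _ _ hz') (Submodule.smul_mem _ _ hz)
  have hne : KaehlerDifferential.D K L x ≠ 0 := by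
    intro h
    haveI : Subsingleton Ω[L⁄K] := subsingleton_of_forall_eq 0 fun ω => by
      have := hmem ω
      rwa [h, Submodule.span_zero_singleton, Submodule.mem_bot] at this
    haveI : Algebra.EssFiniteType K L := by
      have : Algebra.EssFiniteType K (⊤ : IntermediateField K L) := by
        rw [← hgen]; exact IntermediateField.essFiniteType_iff.2 ⟨{x}, by simp⟩
      exact Algebra.EssFiniteType.of_surjective
        (IntermediateField.topEquiv (F := K) (E := L)).toAlgHom IntermediateField.topEquiv.surjective
    haveI : Algebra.FormallyUnramified K L := ⟨inferInstance⟩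
    haveI := Algebra.FormallyUnramified.isSeparable K L
    exact hx (Algebra.IsAlgebraic.isAlgebraic x)
  have htop : (⊤ : Submodule L Ω[L⁄K]) = Submodule.span L {KaehlerDifferential.D K L x} :=
    le_antisymm (fun ω _ => hmem ω) le_top
  haveI hfin : Module.Finite L Ω[L⁄K] := ⟨by rw [htop]; exact Submodule.fg_span_singleton _⟩
  have h1 : Module.finrank L Ω[L⁄K] = 1 := by rw [← finrank_top, htop, finrank_span_singleton hne]
  refine ⟨hfin, by rw [h0]; infer_instance, ?_, fun _ => ?_⟩ <;> rw [h0, finrank_bot, h1]

/-- Towers. -/
theorem IndexProp.trans {K E L : Type u} [Field K] [Field E] [Field L] [Algebra R K] [Algebra R E]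
    [Algebra R L] [Algebra K E] [Algebra K L] [Algebra E L] [IsScalarTower R K E] [IsScalarTower R K L]
    [IsScalarTower R E L] [IsScalarTower K E L] {d d' : ℕ} (h : IndexProp R K E d) (h' : IndexProp R E L d') :
    IndexProp R K L (d + d') := by
  obtain ⟨h1, h2, h3, h4⟩ := h
  obtain ⟨h1', h2', h3', h4'⟩ := h'
  obtain ⟨g1, g2, g3⟩ := index_tower R K E L
  refine ⟨g1, g2, by omega, fun hR => ?_⟩
  have hE : IsPowBase R E := fun p hp _ r => by
    haveI : CharP K p := (algebraMap K E).charP (algebraMap K E).injective p
    obtain ⟨e, he⟩ := hR p hp inferInstance r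
    exact ⟨algebraMap K E e, by rw [← map_pow, he, ← IsScalarTower.algebraMap_apply]⟩
  have := h4 hR
  have := h4' hE
  omega

/-- EGA 0 21.7.1, by the number of generators. -/
theorem exists_indexProp_of_card : ∀ (n : ℕ) (K L : Type u) [Field K] [Field L] [Algebra R K] [Algebra R L]
    [Algebra K L] [IsScalarTower R K L] (s : Finset L), s.card ≤ n →
    IntermediateField.adjoin K (s : Set L) = ⊤ →
    ∃ d : ℕ, Algebra.trdeg K L = d ∧ IndexProp R K L d := by
  classical
  intro n
  induction n with
  | zero =>
    intro K L _ _ _ _ _ _ s hs htop
    rw [Finset.card_eq_zero.1 (Nat.le_zero.1 hs), Finset.coe_empty, IntermediateField.adjoin_empty] at htop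
    have hsurj : Function.Surjective (Polynomial.aeval (0 : L) : K[X] →ₐ[K] L) := fun y => by
      obtain ⟨a, rfl⟩ := IntermediateField.mem_bot.1 (htop ▸ IntermediateField.mem_top (x := y))
      exact ⟨C a, Polynomial.aeval_C _ _⟩
    haveI : Algebra.IsAlgebraic K L := ⟨fun y => by
      obtain ⟨a, rfl⟩ := IntermediateField.mem_bot.1 (htop ▸ IntermediateField.mem_top (x := y))
      exact isAlgebraic_algebraMap a⟩
    exact ⟨0, by rw [trdeg_eq_zero, Nat.cast_zero], indexProp_of_surjective R 0 isIntegral_zero hsurj⟩
  | succ n ih =>
    intro K L _ _ _ _ _ _ s hs htop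
    rcases s.eq_empty_or_nonempty with rfl | ⟨x, hxs⟩
    · exact ih K L ∅ (by simp) htop
    let E := IntermediateField.adjoin K ({x} : Set L)
    let g : E := ⟨x, IntermediateField.subset_adjoin K _ rfl⟩
    have hgen : IntermediateField.adjoin K ({g} : Set E) = ⊤ := by
      apply IntermediateField.map_injective E.val
      rw [IntermediateField.adjoin_map, Set.image_singleton, ← AlgHom.fieldRange_eq_map,
        IntermediateField.fieldRange_val]
      rfl
    have hEL : IntermediateField.adjoin E ((s.erase x : Finset L) : Set L) = ⊤ := by
      refine _root_.eq_top_iff.2 fun y _ => ?_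
      have hle : IntermediateField.adjoin K (s : Set L) ≤
          (IntermediateField.adjoin E ((s.erase x : Finset L) : Set L)).restrictScalars K := by
        refine IntermediateField.adjoin_le_iff.2 fun z hz => ?_
        rw [SetLike.mem_coe, IntermediateField.mem_restrictScalars]
        by_cases hzx : z = x
        · rw [hzx, show x = algebraMap E L g from rfl]
          exact IntermediateField.algebraMap_mem _ g
        · exact IntermediateField.subset_adjoin _ _ (Finset.mem_erase.2 ⟨hzx, hz⟩)
      exact hle (htop ▸ IntermediateField.mem_top)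
    letI : Algebra R E := ((algebraMap K E).comp (algebraMap R K)).toAlgebra
    haveI : IsScalarTower R K E := .of_algebraMap_eq fun _ => rfl
    haveI : IsScalarTower R E L := .of_algebraMap_eq fun r => IsScalarTower.algebraMap_apply R K L r
    obtain ⟨d', hd', hE⟩ := ih E L (s.erase x) (by rw [Finset.card_erase_of_mem hxs]; omega) hEL
    obtain ⟨d, hd, hK⟩ : ∃ d : ℕ, Algebra.trdeg K E = d ∧ IndexProp R K E d := by
      by_cases hx : IsIntegral K g
      · have hsurj : Function.Surjective (Polynomial.aeval g : K[X] →ₐ[K] E) := by
          intro y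
          have hy : y ∈ (IntermediateField.adjoin K ({g} : Set E)).toSubalgebra := by rw [hgen]; trivial
          rw [IntermediateField.adjoin_simple_toSubalgebra_of_isAlgebraic hx.isAlgebraic,
            Algebra.adjoin_singleton_eq_range_aeval] at hy
          exact hy
        haveI : Algebra.IsAlgebraic K E := ⟨fun y => by
          obtain ⟨f, rfl⟩ := hsurj y
          refine IsIntegral.isAlgebraic ?_
          induction f using Polynomial.induction_on' with
          | add f f' hf hf' => rw [map_add]; exact hf.add hf'
          | monomial i a => rw [Polynomial.aeval_monomial]; exact isIntegral_algebraMap.mul (hx.pow i)⟩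
        exact ⟨0, by rw [trdeg_eq_zero, Nat.cast_zero], indexProp_of_surjective R g hx hsurj⟩
      · have htr : Transcendental K g := fun h => hx h.isIntegral
        have hai : AlgebraicIndependent K (fun _ : Unit => g) := algebraicIndependent_unique_type_iff.2 htr
        refine ⟨1, ?_, indexProp_transcendental R g htr hgen⟩
        haveI : Algebra.IsAlgebraic (IntermediateField.adjoin K (Set.range fun _ : Unit => g)) E :=
          ⟨fun y => by
            have hy : y ∈ IntermediateField.adjoin K (Set.range fun _ : Unit => g) := by
              rw [Set.range_const, hgen]; trivial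
            exact isAlgebraic_algebraMap (⟨y, hy⟩ : IntermediateField.adjoin K (Set.range fun _ : Unit => g))⟩
        have htb : IsTranscendenceBasis K (fun _ : Unit => g) := by
          rw [AlgebraicIndependent.isTranscendenceBasis_iff_isAlgebraic hai, ← IntermediateField.isAlgebraic_adjoin_iff_top]
          infer_instance
        have := htb.lift_cardinalMk_eq_trdeg
        simpa using this.symm
    refine ⟨d + d', ?_, hK.trans R hE⟩
    rw [← trdeg_add_eq (R := K) (S := E) (A := L), hd, hd', Nat.cast_add]

/-- EGA 0 21.7.1. -/
theorem exists_indexProp (K L : Type u) [Field K] [Field L] [Algebra R K] [Algebra R L] [Algebra K L]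
    [IsScalarTower R K L] [Algebra.EssFiniteType K L] :
    ∃ d : ℕ, Algebra.trdeg K L = d ∧ IndexProp R K L d := by
  haveI : Algebra.EssFiniteType K (⊤ : IntermediateField K L) :=
    Algebra.EssFiniteType.of_surjective (IntermediateField.topEquiv (F := K) (E := L)).symm.toAlgHom
      IntermediateField.topEquiv.symm.surjective
  obtain ⟨s, hs⟩ := IntermediateField.essFiniteType_iff.1 this
  exact exists_indexProp_of_card R s.card K L s le_rfl hs

end Groth.Agent.EGA41Lib
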