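import Groth.Agent.CommAlg6.FlatLocalModule

/-!
# Sequences regular on the closed fibre

EGA 0 15.1.16: a sequence regular on the closed fibre of a flat finite module is regular on the
module, with flat successive quotients.
-/

set_option autoImplicit false

universe u

open IsLocalRing RingTheory.Sequence
open scoped Pointwise

namespace Groth.Agent.EGA41Lib

theorem isWeaklyRegular_and_flat_of_fibre {A B : Type u} [CommRing A] [CommRing B] [IsLocalRing A]
    [IsLocalRing B] [IsNoetherianRing A] [IsNoetherianRing B] [Algebra A B]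
    [IsLocalHom (algebraMap A B)] : ∀ (fs : List B) {N : Type u} [AddCommGroup N] [Module B N]
    [Module A N] [IsScalarTower A B N] [Module.Finite B N] [Module.Flat A N],
    IsWeaklyRegular (N ⧸ ((maximalIdeal A).map (algebraMap A B) • (⊤ : Submodule B N))) fs →
      IsWeaklyRegular N fs ∧
        ∀ i ≤ fs.length, Module.Flat A (N ⧸ (Ideal.ofList (fs.take i) • (⊤ : Submodule B N))) := by
  intro fs
  induction fs with
  | nil =>
    intro N _ _ _ _ _ _ _
    refine ⟨IsWeaklyRegular.nil B N, fun i _ => ?_⟩
    rw [List.take_nil, Ideal.ofList_nil, Submodule.bot_smul]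
    exact Module.Flat.of_linearEquiv
      ((Submodule.quotEquivOfEqBot (⊥ : Submodule B N) rfl).restrictScalars A)
  | cons y fs ih =>
    intro N _ _ _ _ _ _ h
    rw [isWeaklyRegular_cons_iff] at h
    obtain ⟨hy, hrest⟩ := h
    let I := (maximalIdeal A).map (algebraMap A B)
    obtain ⟨hflat, hreg⟩ := CommAlg6.isSMulRegular_tensor_and_flat (A := A) N hy
    have hyN : IsSMulRegular N y := by
      let e : N ≃ₗ[B] TensorProduct A N A := (TensorProduct.AlgebraTensorModule.rid A B N).symm
      exact (e.isSMulRegular_congr y).2 (hreg A)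
    haveI : Module.Flat A (QuotSMulTop y N) := hflat
    let g : N →ₗ[B] QuotSMulTop y N ⧸ (I • (⊤ : Submodule B (QuotSMulTop y N))) :=
      (I • (⊤ : Submodule B (QuotSMulTop y N))).mkQ ∘ₗ (y • (⊤ : Submodule B N)).mkQ
    let k : N →ₗ[B] QuotSMulTop y (N ⧸ (I • (⊤ : Submodule B N))) :=
      (y • (⊤ : Submodule B (N ⧸ (I • (⊤ : Submodule B N))))).mkQ ∘ₗ (I • (⊤ : Submodule B N)).mkQ
    have hg : LinearMap.ker g = y • ⊤ ⊔ I • ⊤ := by
      rw [LinearMap.ker_comp, Submodule.ker_mkQ]
      have : I • (⊤ : Submodule B (QuotSMulTop y N)) =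
          Submodule.map (y • (⊤ : Submodule B N)).mkQ (I • ⊤) := by
        rw [Submodule.map_smul'', Submodule.map_top, Submodule.range_mkQ]
      rw [this, Submodule.comap_map_mkQ]
    have hk : LinearMap.ker k = y • ⊤ ⊔ I • ⊤ := by
      rw [LinearMap.ker_comp, Submodule.ker_mkQ]
      have : y • (⊤ : Submodule B (N ⧸ (I • (⊤ : Submodule B N)))) =
          Submodule.map (I • (⊤ : Submodule B N)).mkQ (y • ⊤) := by
        rw [Submodule.map_pointwise_smul, Submodule.map_top, Submodule.range_mkQ]
      rw [this, Submodule.comap_map_mkQ, sup_comm]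
    let e' := (k.quotKerEquivOfSurjective
        ((Submodule.mkQ_surjective _).comp (Submodule.mkQ_surjective _))).symm.trans
      ((Submodule.quotEquivOfEq _ _ (hk.trans hg.symm)).trans (g.quotKerEquivOfSurjective
        ((Submodule.mkQ_surjective _).comp (Submodule.mkQ_surjective _))))
    obtain ⟨h1, h2⟩ := ih (N := QuotSMulTop y N) ((e'.isWeaklyRegular_congr fs).1 hrest)
    refine ⟨(isWeaklyRegular_cons_iff N y fs).2 ⟨hyN, h1⟩, fun i hi => ?_⟩
    rcases i with _ | i
    · rw [List.take_zero, Ideal.ofList_nil, Submodule.bot_smul]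
      exact Module.Flat.of_linearEquiv
        ((Submodule.quotEquivOfEqBot (⊥ : Submodule B N) rfl).restrictScalars A)
    · rw [List.take_succ_cons]
      haveI := h2 i (by simpa using hi)
      exact Module.Flat.of_linearEquiv
        ((Submodule.quotOfListConsSMulTopEquivQuotSMulTopInner N y (fs.take i)).restrictScalars A)

end Groth.Agent.EGA41Lib
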