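import Groth.Agent.EGA41Lib.PBasisField

/-!
# `p`-independence and differentials

EGA 0, 21.4.5: over any base `A`, a family in a field of characteristic `p` is `p`-independent iff
its differentials are independent, `p`-generating iff they span.
-/

set_option autoImplicit false

universe u v w z

namespace Groth.Agent.EGA41Lib.PB

variable (p : ℕ) [hp : Fact p.Prime] (A : Type w) {K : Type v} [CommRing A] [Field K] [Algebra A K] [CharP K p]
  {ι : Type u}

variable (K) in
/-- `A[K^p]`. -/
abbrev powAlg : Subalgebra A K := Algebra.adjoin A (Set.range fun y : K => y ^ p)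

omit hp [CharP K p] in
lemma pow_mem_range_powAlg (b : K) : b ^ p ∈ Set.range (algebraMap (powAlg p A K) K) :=
  ⟨⟨b ^ p, Algebra.subset_adjoin ⟨b, rfl⟩⟩, rfl⟩

variable {p A}

omit [CharP K p] in
lemma powAlg_injective : Function.Injective (algebraMap (powAlg p A K) K) := Subtype.val_injective

/-- The differential of an element of a generated subalgebra lies in the span of those of the generators. -/
theorem D_mem_span_of_mem_adjoin {s : Set K} {b : K} (hb : b ∈ Algebra.adjoin (powAlg p A K) s) :
    KaehlerDifferential.D A K b ∈ Submodule.span K (KaehlerDifferential.D A K '' s) := by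
  induction hb using Algebra.adjoin_induction with
  | mem y hy => exact Submodule.subset_span ⟨y, hy, rfl⟩
  | algebraMap m =>
    rw [show KaehlerDifferential.D A K (algebraMap (powAlg p A K) K m) = 0 from
      derivation_eq_zero_of_mem_adjoin_pow _ m.2]
    exact Submodule.zero_mem _
  | add y y' _ _ hy hy' => rw [map_add]; exact Submodule.add_mem _ hy hy'
  | mul y y' _ _ hy hy' =>
    rw [Derivation.leibniz]
    exact Submodule.add_mem _ (Submodule.smul_mem _ _ hy') (Submodule.smul_mem _ _ hy)

variable (p A) in
/-- A `p`-independent set of indices extends to one whose differentials form part of a basis. -/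
theorem linearIndependent_D_of_indOn (x : ι → K) (s : Set ι) (h : IndOn p (powAlg p A K) x s) :
    LinearIndependent K fun i : s => KaehlerDifferential.D A K (x i) := by
  let y : ι ⊕ K → K := Sum.elim x id
  have hL : IndOn p (powAlg p A K) y (Set.range fun i : s => (Sum.inl i.1 : ι ⊕ K)) :=
    indOn_range_of_linearIndependent (pow_mem_range_powAlg p A) _ powAlg_injective
      (linearIndependent_comp_of_indOn (x := x) (Subtype.val : s → ι) Subtype.val_injective (fun i => i.2) h)
  obtain ⟨B, hLB, -, hB, hgen⟩ :=
    exists_indOn_between (pow_mem_range_powAlg p A) powAlg_injective y (Set.subset_univ _) hL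
  have hind := linearIndependent_comp_of_indOn (x := y) (Subtype.val : B → ι ⊕ K) Subtype.val_injective (fun i => i.2) hB
  have htop : Algebra.adjoin (powAlg p A K) (Set.range (y ∘ (Subtype.val : B → ι ⊕ K))) = ⊤ := by
    rw [Set.range_comp, Subtype.range_coe, _root_.eq_top_iff]
    exact fun k _ => hgen (Sum.inr k) (Set.mem_univ _)
  obtain ⟨b, hb⟩ := exists_basis_kaehler (A := A) (fun m => m.2) _
    (fun i => pow_mem_range_powAlg p A _) hind htop
  let j : s → B := fun i => ⟨Sum.inl i.1, hLB ⟨i, rfl⟩⟩
  have hj : Function.Injective j := fun a a' h => Subtype.ext (Sum.inl_injective (congrArg Subtype.val h))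
  have := b.linearIndependent.comp j hj
  have he : (fun i : s => KaehlerDifferential.D A K (x i)) = ⇑b ∘ j := funext fun i => by
    rw [Function.comp_apply, hb]
    rfl
  rw [he]
  exact this

variable (p A) in
/-- EGA 0 21.4.5. -/
theorem linearIndependent_mon_iff_D (x : ι → K) :
    (LinearIndependent (powAlg p A K) fun e : Red p ι => mon x e.1) ↔
      LinearIndependent K fun i => KaehlerDifferential.D A K (x i) := by
  constructor
  · intro h
    have := linearIndependent_D_of_indOn p A x Set.univ ((indOn_univ_iff x).2 h)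
    exact this.comp (fun i => ⟨i, Set.mem_univ i⟩) fun a b h => congrArg Subtype.val h
  · intro h
    rw [linearIndependent_iff_forall_not_mem (pow_mem_range_powAlg p A) powAlg_injective]
    intro a ha
    refine h.notMem_span_image (x := a) (s := {b | b ≠ a}) (fun h => h rfl) ?_
    have := D_mem_span_of_mem_adjoin ha
    rwa [← Set.image_comp] at this

variable (p A) in
/-- An element has zero differential iff it lies in `A[K^p]`. -/
theorem D_eq_zero_iff_mem (b : K) : KaehlerDifferential.D A K b = 0 ↔ b ∈ powAlg p A K := by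
  refine ⟨fun h => ?_, derivation_eq_zero_of_mem_adjoin_pow _⟩
  by_contra hb
  have hind : LinearIndependent (powAlg p A K) fun e : Red p Unit => mon (fun _ => b) e.1 := by
    rw [linearIndependent_iff_forall_not_mem (pow_mem_range_powAlg p A) powAlg_injective]
    intro a ha
    apply hb
    rw [show {c : Unit | c ≠ a} = ∅ from Set.eq_empty_of_forall_notMem fun c hc => hc rfl, Set.image_empty,
      Algebra.adjoin_empty, Algebra.mem_bot] at ha
    obtain ⟨m, hm⟩ := ha
    exact hm ▸ m.2
  exact ((linearIndependent_mon_iff_D p A _).1 hind).ne_zero () h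

variable (p A) in
/-- EGA 0 21.4.5: generation. -/
theorem adjoin_eq_top_iff_span_D (x : ι → K) :
    Algebra.adjoin (powAlg p A K) (Set.range x) = ⊤ ↔
      Submodule.span K (Set.range fun i => KaehlerDifferential.D A K (x i)) = ⊤ := by
  constructor
  · intro h
    rw [_root_.eq_top_iff, ← KaehlerDifferential.span_range_derivation, Submodule.span_le]
    rintro _ ⟨b, rfl⟩
    have := D_mem_span_of_mem_adjoin (A := A) (s := Set.range x) (b := b) (h ▸ Algebra.mem_top)
    rwa [← Set.range_comp] at this
  · intro h
    by_contra hne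
    obtain ⟨k, hk⟩ : ∃ k, k ∉ Algebra.adjoin (powAlg p A K) (Set.range x) := by
      by_contra! hall; exact hne (_root_.eq_top_iff.2 fun k _ => hall k)
    let y : ι ⊕ K → K := Sum.elim x id
    obtain ⟨B, -, hBS, hB, hgen⟩ := exists_indOn_between (pow_mem_range_powAlg p A) powAlg_injective y
      (Set.empty_subset (Set.range Sum.inl)) (indOn_empty (pow_mem_range_powAlg p A) powAlg_injective y)
    have hk' : y (Sum.inr k) ∉ Algebra.adjoin (powAlg p A K) (y '' B) := fun hmem => hk
      (Algebra.adjoin_mono (by rintro _ ⟨i, hi, rfl⟩; obtain ⟨j, rfl⟩ := hBS hi; exact ⟨j, rfl⟩) hmem)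
    have hli := linearIndependent_D_of_indOn p A y _
      (indOn_insert (pow_mem_range_powAlg p A) powAlg_injective hB hk')
    have hkB : Sum.inr k ∉ B := fun hmem => by obtain ⟨j, hj⟩ := hBS hmem; simp at hj
    refine hli.notMem_span_image (x := ⟨Sum.inr k, Set.mem_insert _ _⟩) (s := {i | i.1 ∈ B}) hkB ?_
    have himg : (fun i : ↥(insert (Sum.inr k) B) => KaehlerDifferential.D A K (y i)) '' {i | i.1 ∈ B} =
        KaehlerDifferential.D A K '' (y '' B) := by
      ext ω
      constructor
      · rintro ⟨i, hi, rfl⟩; exact ⟨_, ⟨_, hi, rfl⟩, rfl⟩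
      · rintro ⟨_, ⟨i, hi, rfl⟩, rfl⟩; exact ⟨⟨i, Set.mem_insert_of_mem _ hi⟩, hi, rfl⟩
    rw [himg]
    have hle : Submodule.span K (Set.range fun i => KaehlerDifferential.D A K (x i)) ≤
        Submodule.span K (KaehlerDifferential.D A K '' (y '' B)) :=
      Submodule.span_le.2 (Set.range_subset_iff.2 fun i =>
        D_mem_span_of_mem_adjoin (hgen (Sum.inl i) ⟨i, rfl⟩))
    exact hle (h ▸ Submodule.mem_top)

variable (p A) in
/-- EGA 0 21.4.5: `p`-bases and bases of the differentials. -/
theorem exists_basis_iff (x : ι → K) :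
    ((LinearIndependent (powAlg p A K) fun e : Red p ι => mon x e.1) ∧
      Algebra.adjoin (powAlg p A K) (Set.range x) = ⊤) ↔
      ∃ b : Module.Basis ι K Ω[K⁄A], ∀ i, b i = KaehlerDifferential.D A K (x i) := by
  rw [linearIndependent_mon_iff_D p A, adjoin_eq_top_iff_span_D p A]
  constructor
  · rintro ⟨h1, h2⟩
    exact ⟨Module.Basis.mk h1 h2.ge, fun i => Module.Basis.mk_apply h1 _ i⟩
  · rintro ⟨b, hb⟩
    have : (fun i => KaehlerDifferential.D A K (x i)) = b := funext fun i => (hb i).symm
    rw [this]
    exact ⟨b.linearIndependent, b.span_eq⟩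

variable (p A K) in
/-- EGA 0 21.4.3: every field of characteristic `p` has a `p`-basis over any base. -/
theorem exists_pBasis :
    ∃ B : Set K, (LinearIndependent (powAlg p A K) fun e : Red p B => mon (Subtype.val : B → K) e.1) ∧
      Algebra.adjoin (powAlg p A K) B = ⊤ := by
  obtain ⟨B, -, -, hB, hgen⟩ := exists_indOn_between (pow_mem_range_powAlg p A) powAlg_injective (id : K → K)
    (Set.empty_subset Set.univ) (indOn_empty (pow_mem_range_powAlg p A) powAlg_injective _)
  refine ⟨B, linearIndependent_comp_of_indOn (x := (id : K → K)) Subtype.val Subtype.val_injective (fun i => i.2) hB,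
    _root_.eq_top_iff.2 fun k _ => ?_⟩
  simpa using hgen k (Set.mem_univ k)

end Groth.Agent.EGA41Lib.PB
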