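import Groth.Agent.EGA41Lib.SupportDim
import Groth.Agent.Matlis6.CompletionNoetherian
import Groth.Agent.FSchLib.Completion
import Mathlib

/-! Dimension of the Jacobson-adic completion of a semi-local Noetherian ring. -/

set_option autoImplicit false
universe u

namespace Groth.Agent.EGA41Lib

variable {A B : Type u} [CommRing A] [CommRing B] [Algebra A B]

/-- A flat extension whose maximal ideals are exactly the extensions of those of `A` preserves the
dimension of quotients by extended ideals. -/
theorem ringKrullDim_quotient_map_of_maximal_extend [IsNoetherianRing A] [IsNoetherianRing B] [Module.Flat A B]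
    (hmax : ∀ m : Ideal A, m.IsMaximal → (m.map (algebraMap A B)).IsMaximal)
    (hext : ∀ n : Ideal B, n.IsMaximal → ∃ m : Ideal A, m.IsMaximal ∧ n = m.map (algebraMap A B))
    (I : Ideal A) :
    ringKrullDim (B ⧸ I.map (algebraMap A B)) = ringKrullDim (A ⧸ I) := by
  have hcomap : ∀ m : Ideal A, m.IsMaximal → (m.map (algebraMap A B)).comap (algebraMap A B) = m := fun m hm =>
    (hm.eq_of_le (Ideal.comap_ne_top _ (hmax m hm).ne_top) Ideal.le_comap_map).symm
  apply le_antisymm
  · rw [ringKrullDim_quotient, Order.krullDim]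
    refine iSup_le fun l => le_trans (WithBot.coe_le_coe.2 (Order.length_le_height_last (p := l))) ?_
    generalize l.last = Q
    let J := I.map (algebraMap A B)
    obtain ⟨n, hn, hQn⟩ := Ideal.exists_le_maximal _ Q.1.2.ne_top
    obtain ⟨m, hm, rfl⟩ := hext n hn
    have hIm : I ≤ m := fun a ha => (hcomap m hm).le (hQn (Q.2 (Ideal.mem_map_of_mem _ ha)))
    let N : PrimeSpectrum.zeroLocus (J : Set B) := ⟨⟨m.map (algebraMap A B), hn.isPrime⟩, Ideal.map_mono hIm⟩
    refine le_trans (WithBot.coe_le_coe.2 (Order.height_mono (show Q ≤ N from hQn))) ?_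
    let fA : A ⧸ I →+* B ⧸ J := Ideal.quotientMap J (algebraMap A B) Ideal.le_comap_map
    let _ : Algebra (A ⧸ I) (B ⧸ J) := fA.toAlgebra
    let m' := m.map (Ideal.Quotient.mk I)
    let n' := (m.map (algebraMap A B)).map (Ideal.Quotient.mk J)
    have hmapn : m'.map (algebraMap (A ⧸ I) (B ⧸ J)) = n' := by
      show (m.map (Ideal.Quotient.mk I)).map fA = _
      rw [Ideal.map_map]; show m.map _ = (m.map (algebraMap A B)).map _
      rw [Ideal.map_map]; rfl
    have hm' : m'.IsMaximal := Ideal.IsMaximal.map_of_surjective_of_ker_le Ideal.Quotient.mk_surjective (by simpa using hIm)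
    have hn' : n'.IsMaximal := Ideal.IsMaximal.map_of_surjective_of_ker_le Ideal.Quotient.mk_surjective
      (by rw [Ideal.mk_ker]; exact Ideal.map_mono hIm)
    have : n'.LiesOver m' := ⟨hm'.eq_of_le (Ideal.comap_ne_top _ hn'.ne_top) (Ideal.map_le_iff_le_comap.1 hmapn.le)⟩
    have h0 : (n'.map (Ideal.Quotient.mk (m'.map (algebraMap (A ⧸ I) (B ⧸ J))))).height = 0 := by
      rw [hmapn, Ideal.map_quotient_self]
      have : Nontrivial ((B ⧸ J) ⧸ n') := Ideal.Quotient.nontrivial_iff.2 hn'.ne_top
      let _ : Field ((B ⧸ J) ⧸ n') := Ideal.Quotient.field n'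
      exact Ideal.height_bot
    have hle : n'.height ≤ m'.height := by
      have := Ideal.height_le_height_add_of_liesOver (R := A ⧸ I) (S := B ⧸ J) m' n'
      rwa [h0, add_zero] at this
    have : Nontrivial (A ⧸ I) := Ideal.Quotient.nontrivial_iff.2 (fun h => hm.ne_top (top_le_iff.1 (h ▸ hIm)))
    refine le_trans (WithBot.coe_le_coe.2 ?_) (Ideal.height_le_ringKrullDim_of_ne_top hm'.ne_top)
    refine le_trans ?_ hle
    rw [(⟨n', hn'.isPrime⟩ : PrimeSpectrum (B ⧸ J)).height_eq_orderHeight]
    let e := Ideal.primeSpectrumQuotientOrderIsoZeroLocus J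
    have he : e ⟨n', hn'.isPrime⟩ = N := by
      apply Subtype.ext; apply PrimeSpectrum.ext
      show n'.comap (Ideal.Quotient.mk J) = _
      rw [Ideal.comap_map_of_surjective _ Ideal.Quotient.mk_surjective, ← RingHom.ker_eq_comap_bot, Ideal.mk_ker]
      exact sup_eq_left.2 (Ideal.map_mono hIm)
    rw [← he, Order.height_orderIso]
  · rw [ringKrullDim_quotient, ringKrullDim_quotient, Order.krullDim]
    refine iSup_le fun l => ?_
    let l' : LTSeries (PrimeSpectrum A) := l.map Subtype.val fun _ _ h => h
    obtain ⟨m, hm, hlm⟩ := Ideal.exists_le_maximal _ l'.last.2.ne_top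
    have := hmax m hm
    have : (m.map (algebraMap A B)).LiesOver m := ⟨(hcomap m hm).symm⟩
    obtain ⟨Q, -, hQp, hQo⟩ := Ideal.exists_ideal_le_liesOver_of_le (m.map (algebraMap A B)) hlm
    obtain ⟨L, hlen, -, hspec⟩ := Ideal.exists_ltSeries_of_hasGoingDown l' Q
    have hmem : ∀ i, I.map (algebraMap A B) ≤ (L i).asIdeal := by
      intro i
      refine le_trans (Ideal.map_le_iff_le_comap.2 ?_) (L.monotone (Fin.zero_le i))
      have h0 : PrimeSpectrum.comap (algebraMap A B) L.head = l'.head := by
        rw [← L.toList_getElem_zero_eq_head, ← l'.toList_getElem_zero_eq_head]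
        simp [← hspec]
      have hI : I ≤ l'.head.asIdeal := l.head.2
      exact hI.trans (congrArg PrimeSpectrum.asIdeal h0).ge
    let L' : LTSeries (PrimeSpectrum.zeroLocus ((I.map (algebraMap A B) : Ideal B) : Set B)) :=
      ⟨L.length, fun i => ⟨L i, hmem i⟩, fun i => L.step i⟩
    calc (l.length : WithBot ℕ∞) = L'.length := by simp [L', hlen, l']
      _ ≤ _ := Order.LTSeries.length_le_krullDim L'

open TensorProduct in
/-- The annihilator commutes with flat base change for finite modules. -/
theorem annihilator_baseChange_of_flat [Module.Flat A B] (M : Type u) [AddCommGroup M] [Module A M] [Module.Finite A M] :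
    Module.annihilator B (B ⊗[A] M) = (Module.annihilator A M).map (algebraMap A B) := by
  classical
  apply le_antisymm
  · intro b hb
    obtain ⟨n, v, hv⟩ := Module.Finite.exists_fin (R := A) (M := M)
    let f : A →ₗ[A] (Fin n → M) := LinearMap.pi fun i => LinearMap.toSpanSingleton A M (v i)
    have hker : LinearMap.ker f = Module.annihilator A M := by
      ext a
      rw [LinearMap.mem_ker, Module.mem_annihilator, funext_iff]
      constructor
      · intro h m
        have hle : Submodule.span A (Set.range v) ≤ LinearMap.ker (LinearMap.lsmul A M a) :=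
          Submodule.span_le.2 (by rintro _ ⟨i, rfl⟩; simpa [f] using h i)
        exact hle (hv ▸ Submodule.mem_top)
      · intro h i; simp [f, h]
    have hex : Function.Exact (Module.annihilator A M).subtype f := by
      rw [LinearMap.exact_iff, Submodule.range_subtype]; exact hker
    have h0 : f.lTensor B (b ⊗ₜ[A] (1 : A)) = 0 := by
      apply (TensorProduct.piRight A A B (fun _ : Fin n => M)).injective
      ext i
      simp only [LinearMap.lTensor_tmul, TensorProduct.piRight_apply, TensorProduct.piRightHom_tmul, map_zero,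
        Pi.zero_apply, f, LinearMap.pi_apply, LinearMap.toSpanSingleton_apply, one_smul]
      have := Module.mem_annihilator.1 hb ((1 : B) ⊗ₜ[A] v i)
      rwa [TensorProduct.smul_tmul', smul_eq_mul, mul_one] at this
    obtain ⟨z, hz⟩ := (Module.Flat.lTensor_exact B hex (b ⊗ₜ[A] (1 : A))).1 h0
    have hb' : b = TensorProduct.rid A B ((Module.annihilator A M).subtype.lTensor B z) := by
      rw [hz]; simp
    rw [hb']
    clear hz hb' h0
    induction z using TensorProduct.induction_on with
    | zero => simp
    | tmul x a =>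
      simp only [LinearMap.lTensor_tmul, Submodule.coe_subtype, TensorProduct.rid_tmul, Algebra.smul_def]
      exact Ideal.mul_mem_right _ _ (Ideal.mem_map_of_mem _ a.2)
    | add x y hx hy => rw [map_add, map_add]; exact Ideal.add_mem _ hx hy
  · refine Ideal.map_le_iff_le_comap.2 fun a ha => Module.mem_annihilator.2 fun z => ?_
    rw [algebraMap_smul]
    induction z using TensorProduct.induction_on with
    | zero => simp
    | tmul x y => rw [← TensorProduct.tmul_smul, Module.mem_annihilator.1 ha y, TensorProduct.tmul_zero]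
    | add x y hx hy => rw [smul_add, hx, hy, add_zero]

theorem jacobson_le_of_isMaximal' (m : Ideal A) (hm : m.IsMaximal) : Ring.jacobson A ≤ m :=
  have := hm
  Ring.jacobson_le_of_isMaximal m

theorem completion_maximal [IsNoetherianRing A] (r : Ideal A) :
    (∀ m : Ideal A, m.IsMaximal → r ≤ m → (m.map (algebraMap A (AdicCompletion r A))).IsMaximal) ∧
    ∀ n : Ideal (AdicCompletion r A), n.IsMaximal →
      ∃ m : Ideal A, m.IsMaximal ∧ r ≤ m ∧ n = m.map (algebraMap A (AdicCompletion r A)) := by
  have hfg : r.FG := IsNoetherian.noetherian r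
  have h1 : ∀ m : Ideal A, m.IsMaximal → r ≤ m → (m.map (algebraMap A (AdicCompletion r A))).IsMaximal := fun m hm hr => by
    have := hm
    exact AdicCompletion.isMaximal_map_of_le r m hr hfg
  refine ⟨h1, fun n hn => ?_⟩
  have hrn : r.map (algebraMap A (AdicCompletion r A)) ≤ n :=
    (Groth.Agent.FSchLib.map_le_jacobson r hfg).trans (sInf_le ⟨bot_le, hn⟩)
  have hsurj : Function.Surjective
      ((Ideal.Quotient.mk (r.map (algebraMap A (AdicCompletion r A)))).comp (algebraMap A (AdicCompletion r A))) := by
    intro x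
    obtain ⟨y, rfl⟩ := Ideal.Quotient.mk_surjective x
    obtain ⟨a, ha⟩ := Ideal.Quotient.mk_surjective (AdicCompletion.evalOneₐ r y)
    refine ⟨a, ?_⟩
    rw [RingHom.comp_apply, Ideal.Quotient.eq, ← AdicCompletion.ker_evalOneₐ_eq_map r hfg, RingHom.mem_ker,
      map_sub, sub_eq_zero]
    refine Eq.trans ?_ ha
    exact RingHom.congr_fun (AdicCompletion.evalOneₐ_comp_algebraMap_eq_mk (I := r)) a
  let m := n.comap (algebraMap A (AdicCompletion r A))
  have hnm : n.map (Ideal.Quotient.mk (r.map (algebraMap A (AdicCompletion r A)))) =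
      (Ideal.map ((Ideal.Quotient.mk (r.map (algebraMap A (AdicCompletion r A)))).comp
        (algebraMap A (AdicCompletion r A))) m) := by
    apply le_antisymm
    · intro z hz
      obtain ⟨y, hy, rfl⟩ := (Ideal.mem_map_iff_of_surjective _ Ideal.Quotient.mk_surjective).1 hz
      obtain ⟨a, ha⟩ := hsurj (Ideal.Quotient.mk _ y)
      rw [← ha]
      refine Ideal.mem_map_of_mem _ ?_
      rw [RingHom.comp_apply, Ideal.Quotient.eq] at ha
      exact (Submodule.sub_mem_iff_left n hy).1 (hrn ha)
    · rw [← Ideal.map_map]; exact Ideal.map_mono Ideal.map_comap_le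
  obtain ⟨m', hm', hmm⟩ := Ideal.exists_le_maximal m (Ideal.comap_ne_top _ hn.ne_top)
  have hrm : r ≤ m' := le_trans (Ideal.map_le_iff_le_comap.1 hrn) hmm
  refine ⟨m', hm', hrm, hn.eq_of_le (h1 m' hm' hrm).ne_top ?_⟩
  have h3 : n ≤ m'.map (algebraMap A (AdicCompletion r A)) ⊔ r.map (algebraMap A (AdicCompletion r A)) := by
    intro y hy
    have hy' : Ideal.Quotient.mk (r.map (algebraMap A (AdicCompletion r A))) y ∈
        (m'.map (algebraMap A (AdicCompletion r A))).map (Ideal.Quotient.mk (r.map (algebraMap A (AdicCompletion r A)))) := by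
      have := Ideal.mem_map_of_mem (Ideal.Quotient.mk (r.map (algebraMap A (AdicCompletion r A)))) hy
      rw [hnm, ← Ideal.map_map] at this
      exact Ideal.map_mono (Ideal.map_mono hmm) this
    have : y ∈ Ideal.comap (Ideal.Quotient.mk _) ((m'.map (algebraMap A (AdicCompletion r A))).map
      (Ideal.Quotient.mk (r.map (algebraMap A (AdicCompletion r A))))) := hy'
    rwa [Ideal.comap_map_of_surjective _ Ideal.Quotient.mk_surjective, ← RingHom.ker_eq_comap_bot, Ideal.mk_ker] at this
  exact h3.trans (sup_le le_rfl (Ideal.map_mono hrm))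

theorem completion_jacobson_maximal [IsNoetherianRing A] :
    (∀ m : Ideal A, m.IsMaximal → (m.map (algebraMap A (AdicCompletion (Ring.jacobson A) A))).IsMaximal) ∧
    ∀ n : Ideal (AdicCompletion (Ring.jacobson A) A), n.IsMaximal →
      ∃ m : Ideal A, m.IsMaximal ∧ n = m.map (algebraMap A (AdicCompletion (Ring.jacobson A) A)) := by
  obtain ⟨h1, h2⟩ := completion_maximal (A := A) (Ring.jacobson A)
  refine ⟨fun m hm => h1 m hm (jacobson_le_of_isMaximal' m hm), fun n hn => ?_⟩
  obtain ⟨m, hm, -, he⟩ := h2 n hn
  exact ⟨m, hm, he⟩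

end Groth.Agent.EGA41Lib
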