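import Groth.Agent.CAlgH3.RegularCore
import Groth.Agent.CAlgH.AdicSmoothField
import Groth.Agent.EGA41Lib.SemiLocalCompletion
import Mathlib

/-! Lifting regularity through a regular element of the Jacobson radical; power series rings. -/

set_option autoImplicit false
set_option backward.isDefEq.respectTransparency.types false
universe u

open IsLocalRing

namespace Groth.Agent.EGA41Lib

/-- If `x` is a nonzerodivisor lying in every maximal ideal and `R/xR` is regular, then `R` is regular. -/
theorem isRegularRing_of_quotient (R : Type u) [CommRing R] [IsNoetherianRing R] {x : R}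
    (hx : ∀ m : Ideal R, m.IsMaximal → x ∈ m) (hreg : IsSMulRegular R x)
    [IsRegularRing (R ⧸ Ideal.span {x})] : IsRegularRing R := by
  refine CAlgH.AdicSmooth.isRegularRing_of_maximals R fun m _ => ?_
  have hIm : Ideal.span {x} ≤ m := (Ideal.span_singleton_le_iff_mem m).2 (hx m inferInstance)
  let S := Localization.AtPrime m
  let mbar := m.map (Ideal.Quotient.mk (Ideal.span {x}))
  have hcm : mbar.comap (Ideal.Quotient.mk (Ideal.span {x})) = m := by
    rw [Ideal.comap_map_of_surjective _ Ideal.Quotient.mk_surjective, ← RingHom.ker_eq_comap_bot, Ideal.mk_ker]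
    exact sup_eq_left.2 hIm
  have hmbar : mbar.IsMaximal :=
    Ideal.IsMaximal.map_of_surjective_of_ker_le Ideal.Quotient.mk_surjective (by rwa [Ideal.mk_ker])
  have hsub : Algebra.algebraMapSubmonoid (R ⧸ Ideal.span {x}) m.primeCompl = mbar.primeCompl := by
    ext y
    constructor
    · rintro ⟨a, ha, rfl⟩ h
      exact ha (hcm.le h)
    · intro hy
      obtain ⟨a, rfl⟩ := Ideal.Quotient.mk_surjective y
      exact ⟨a, fun ha => hy (Ideal.mem_map_of_mem _ ha), rfl⟩
  let Q := S ⧸ (Ideal.span {x}).map (algebraMap R S)
  have : IsLocalization mbar.primeCompl Q :=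
    hsub ▸ (inferInstance : IsLocalization (Algebra.algebraMapSubmonoid (R ⧸ Ideal.span {x}) m.primeCompl) Q)
  have hQ : IsRegularLocalRing Q :=
    IsRegularLocalRing.of_ringEquiv (R := Localization.AtPrime mbar)
      (IsLocalization.algEquiv mbar.primeCompl (Localization.AtPrime mbar) Q).toRingEquiv
  have : IsRegularLocalRing (S ⧸ Ideal.span {algebraMap R S x}) :=
    IsRegularLocalRing.of_ringEquiv (R := Q) (Ideal.quotEquivOfEq (by rw [Ideal.map_span, Set.image_singleton]))
  refine CAlgH3.isRegularLocalRing_of_quotient (x := algebraMap R S x) ?_ ?_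
  · rw [← Localization.AtPrime.map_eq_maximalIdeal]
    exact Ideal.mem_map_of_mem _ (hx m inferInstance)
  · exact hreg.of_isLocalizedModule S m.primeCompl (Algebra.linearMap R S)

theorem isRegularRing_powerSeries (A : Type u) [CommRing A] [IsRegularRing A] : IsRegularRing (PowerSeries A) := by
  let e : (PowerSeries A ⧸ Ideal.span {(PowerSeries.X : PowerSeries A)}) ≃+* A :=
    (Ideal.quotEquivOfEq (by
      ext f; rw [Ideal.mem_span_singleton, PowerSeries.X_dvd_iff, RingHom.mem_ker])).trans
      (RingHom.quotientKerEquivOfSurjective (f := PowerSeries.constantCoeff (R := A))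
        (fun a => ⟨PowerSeries.C a, PowerSeries.constantCoeff_C a⟩))
  have := IsRegularRing.of_ringEquiv e.symm
  refine isRegularRing_of_quotient (PowerSeries A) (x := PowerSeries.X) (fun m hm => ?_) ?_
  · by_contra h
    obtain ⟨y, hy⟩ := hm.exists_inv h
    obtain ⟨i, hi, h1⟩ := hy
    have : IsUnit i := by
      rw [PowerSeries.isUnit_iff_constantCoeff]
      have := congrArg (PowerSeries.constantCoeff (R := A)) h1
      simp at this
      rw [this]; exact isUnit_one
    exact hm.ne_top (Ideal.eq_top_of_isUnit_mem _ hi this)
  · intro a b h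
    have h' : (PowerSeries.X : PowerSeries A) * a = PowerSeries.X * b := h
    exact PowerSeries.X_mul_cancel h'

theorem isRegularRing_mvPowerSeries (A : Type u) [CommRing A] [IsRegularRing A] :
    ∀ n : ℕ, IsRegularRing (MvPowerSeries (Fin n) A) := by
  intro n
  induction n with
  | zero => exact IsRegularRing.of_ringEquiv (MvPowerSeries.isEmptyEquiv (Fin 0) A).toRingEquiv.symm
  | succ n ih =>
    have := isRegularRing_powerSeries (MvPowerSeries (Fin n) A)
    exact IsRegularRing.of_ringEquiv (MvPowerSeries.finSuccEquiv A n).toRingEquiv.symm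

/-- A flat extension in which every maximal ideal is extended from a maximal ideal preserves regularity. -/
theorem isRegularRing_of_maximal_extend (A B : Type u) [CommRing A] [CommRing B] [Algebra A B] [IsRegularRing A]
    [IsNoetherianRing B] [Module.Flat A B]
    (hext : ∀ n : Ideal B, n.IsMaximal → ∃ m : Ideal A, m.IsMaximal ∧ n = m.map (algebraMap A B)) :
    IsRegularRing B := by
  classical
  refine CAlgH.AdicSmooth.isRegularRing_of_maximals B fun n hn => ?_
  obtain ⟨m, hm, hnm⟩ := hext n hn
  have hover : n.LiesOver m := ⟨hm.eq_of_le (Ideal.comap_ne_top _ hn.ne_top) (Ideal.map_le_iff_le_comap.1 hnm.ge)⟩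
  let S := Localization.AtPrime m
  let T := Localization.AtPrime n
  let f : S →+* T := Localization.localRingHom m n (algebraMap A B) hover.over
  have : IsRegularLocalRing S := isRegularRing_iff.1 inferInstance m
  have hmax : maximalIdeal T = (maximalIdeal S).map f := by
    rw [← Localization.AtPrime.map_eq_maximalIdeal, ← Localization.AtPrime.map_eq_maximalIdeal,
      congrArg (Ideal.map (algebraMap B T)) hnm, Ideal.map_map, Ideal.map_map]
    congr 1
    ext a
    exact (Localization.localRingHom_to_map m n (algebraMap A B) hover.over a).symm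
  apply IsRegularLocalRing.of_spanFinrank_maximalIdeal_le
  obtain ⟨s, hcard, hs⟩ := (IsNoetherian.noetherian (maximalIdeal S)).exists_span_finset_card_eq_spanFinrank
  replace hs : Ideal.span (↑s : Set S) = maximalIdeal S := hs
  have hle : (maximalIdeal T).spanFinrank ≤ (maximalIdeal S).spanFinrank := by
    rw [hmax, ← hs, Ideal.map_span, hs, ← hcard]
    refine (Submodule.spanFinrank_span_le_ncard_of_finite (s.finite_toSet.image f)).trans ?_
    rw [← Set.ncard_coe_finset s]
    exact Set.ncard_image_le s.finite_toSet
  refine le_trans (WithBot.coe_le_coe.2 (Nat.cast_le.2 hle)) ?_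
  refine le_trans (IsRegularLocalRing.spanFinrank_maximalIdeal (R := S)).le ?_
  rw [IsLocalization.AtPrime.ringKrullDim_eq_height m S, IsLocalization.AtPrime.ringKrullDim_eq_height n T,
    WithBot.coe_le_coe, (⟨m, inferInstance⟩ : PrimeSpectrum A).height_eq_orderHeight,
    (⟨n, inferInstance⟩ : PrimeSpectrum B).height_eq_orderHeight, Order.height_le_iff']
  intro l hl
  have : n.LiesOver l.last.asIdeal := by rw [hl]; exact hover
  obtain ⟨L, hlen, hlast, -⟩ := Ideal.exists_ltSeries_of_hasGoingDown l n
  rw [← hlen]
  exact Order.length_le_height hlast.le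

theorem isRegularRing_adicCompletion (A : Type u) [CommRing A] [IsRegularRing A] (J : Ideal A) :
    IsRegularRing (AdicCompletion J A) := by
  have : IsNoetherianRing (AdicCompletion J A) := Matlis6.isNoetherianRing_adicCompletion J
  refine isRegularRing_of_maximal_extend A (AdicCompletion J A) fun n hn => ?_
  obtain ⟨m, hm, -, he⟩ := (completion_maximal J).2 n hn
  exact ⟨m, hm, he⟩

end Groth.Agent.EGA41Lib
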