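import Mathlib

/-!
# Formal smoothness of localisations of a quotient of a formally smooth algebra
-/

set_option autoImplicit false

universe u

open TensorProduct

namespace Groth.Agent.EGA41Lib.SQL

variable {A B C : Type u} [CommRing A] [CommRing B] [CommRing C] [Algebra A B] [Algebra B C] [Algebra A C]
  [IsScalarTower A B C]

variable (A B C) in
/-- `b` times the canonical map of the conormal module extends to a derivation. -/
def Good (b : B) : Prop :=
  ∃ D : Derivation A B (RingHom.ker (algebraMap B C)).Cotangent,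
    ∀ x : RingHom.ker (algebraMap B C), D x = b • (RingHom.ker (algebraMap B C)).toCotangent x

variable (A B C) in
/-- These elements form an ideal. -/
def goodIdeal : Ideal B where
  carrier := {b | Good A B C b}
  zero_mem' := ⟨0, fun x => by rw [zero_smul]; rfl⟩
  add_mem' := fun {a b} ⟨D, hD⟩ ⟨E, hE⟩ => ⟨D + E, fun x => by rw [add_smul, ← hD, ← hE]; rfl⟩
  smul_mem' := fun c b ⟨D, hD⟩ => ⟨c • D, fun x => by
    rw [Derivation.smul_apply, hD, smul_eq_mul, mul_smul]⟩

theorem ker_le_goodIdeal : RingHom.ker (algebraMap B C) ≤ goodIdeal A B C := fun b hb =>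
  ⟨0, fun x => by
    rw [← map_smul]
    refine ((Ideal.toCotangent_eq_zero _ _).2 ?_).symm
    rw [sq]
    exact Ideal.mul_mem_mul hb x.2⟩

theorem formallySmooth_of_good [Algebra.FormallySmooth A B] (hsurj : Function.Surjective (algebraMap B C))
    (S : Submonoid C) (C' : Type u) [CommRing C'] [Algebra C C'] [Algebra A C'] [IsScalarTower A C C']
    [IsLocalization S C'] (b : B) (hbS : algebraMap B C b ∈ S) (hb : Good A B C b) :
    Algebra.FormallySmooth A C' := by
  obtain ⟨D, hD⟩ := hb
  refine Algebra.FormallySmooth.of_comp_surjective fun T _ _ I hI ψ => ?_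
  let J := RingHom.ker (algebraMap B C)
  have hIn : IsNilpotent I := ⟨2, hI⟩
  let ψB : B →ₐ[A] T ⧸ I := ψ.comp ((IsScalarTower.toAlgHom A C C').comp (IsScalarTower.toAlgHom A B C))
  let χ : B →ₐ[A] T := Algebra.FormallySmooth.lift I hIn ψB
  have hχ : ∀ y, Ideal.Quotient.mk I (χ y) = ψ (algebraMap C C' (algebraMap B C y)) := fun y =>
    Algebra.FormallySmooth.mk_lift I hIn ψB y
  have hII : ∀ x ∈ I, ∀ y ∈ I, x * y = 0 := fun x hx y hy => by
    have := Ideal.mul_mem_mul hx hy
    rwa [← sq, hI, Ideal.mem_bot] at this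
  have hχJ : ∀ x ∈ J, χ x ∈ I := fun x hx => by
    rw [← Ideal.Quotient.eq_zero_iff_mem, hχ, RingHom.mem_ker.1 hx, map_zero, map_zero]
  have hχJ2 : ∀ x ∈ J ^ 2, χ x = 0 := fun x hx => by
    rw [sq] at hx
    refine Submodule.mul_induction_on hx (fun y hy z hz => ?_) fun y z hy hz => by rw [map_add, hy, hz, add_zero]
    rw [map_mul, hII _ (hχJ y hy) _ (hχJ z hz)]
  choose g hg using J.toCotangent_surjective
  have hθ : ∀ (p : J.Cotangent) (x : J), J.toCotangent x = p → χ (g p : B) = χ x := fun p x hx => by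
    rw [← sub_eq_zero, ← map_sub]
    exact hχJ2 _ (J.toCotangent_eq.1 ((hg p).trans hx.symm))
  have hθsmul : ∀ (c : B) (p : J.Cotangent), χ (g (c • p) : B) = χ c * χ (g p : B) := fun c p => by
    rw [hθ (c • p) (c • g p) (by rw [map_smul, hg]), Submodule.coe_smul, smul_eq_mul, map_mul]
  have hθadd : ∀ p q : J.Cotangent, χ (g (p + q) : B) = χ (g p : B) + χ (g q : B) := fun p q => by
    rw [hθ (p + q) (g p + g q) (by rw [map_add, hg, hg]), Submodule.coe_add, map_add]
  have hθ0 : χ (g 0 : B) = 0 := by rw [hθ 0 0 (map_zero _), ZeroMemClass.coe_zero, map_zero]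
  obtain ⟨u, hu⟩ : IsUnit (χ b) := by
    refine (IsNilpotent.isUnit_quotient_mk_iff hIn).1 ?_
    rw [hχ]
    exact (IsLocalization.map_units C' ⟨_, hbS⟩).map ψ
  let d : B → T := fun y => (↑u⁻¹ : T) * χ (g (D y) : B)
  have hdI : ∀ y, d y ∈ I := fun y => Ideal.mul_mem_left _ _ (hχJ _ (g (D y)).2)
  have hmul : ∀ x y, d (x * y) = χ x * d y + χ y * d x := fun x y => by
    simp only [d]
    rw [Derivation.leibniz, hθadd, hθsmul, hθsmul]
    ring
  have hdA : ∀ a, d (algebraMap A B a) = 0 := fun a => by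
    simp only [d]
    rw [Derivation.map_algebraMap, hθ0, mul_zero]
  let χ' : B →ₐ[A] T :=
    { toFun := fun y => χ y - d y
      map_one' := by rw [map_one, ← map_one (algebraMap A B), hdA, sub_zero]
      map_zero' := by rw [map_zero, ← map_zero (algebraMap A B), hdA, sub_zero]
      map_add' := fun x y => by simp only [d, map_add, hθadd]; ring
      map_mul' := fun x y => by
        rw [map_mul, hmul]
        linear_combination - hII _ (hdI x) _ (hdI y)
      commutes' := fun a => by rw [AlgHom.commutes, hdA, sub_zero] }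
  have hker : RingHom.ker (IsScalarTower.toAlgHom A B C) ≤ RingHom.ker χ' := fun x hx => by
    rw [RingHom.mem_ker]
    show χ x - (↑u⁻¹ : T) * χ (g (D x) : B) = 0
    rw [hD ⟨x, hx⟩, hθsmul, hθ _ ⟨x, hx⟩ rfl, ← hu, ← mul_assoc, Units.inv_mul, one_mul, sub_self]
  let χC : C →ₐ[A] T := AlgHom.liftOfSurjective (IsScalarTower.toAlgHom A B C) hsurj χ' hker
  have hmk : ∀ c, Ideal.Quotient.mk I (χC c) = ψ (algebraMap C C' c) := fun c => by
    obtain ⟨y, rfl⟩ := hsurj c
    rw [show χC (algebraMap B C y) = χ' y from AlgHom.liftOfSurjective_apply _ _ _ _ y]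
    show Ideal.Quotient.mk I (χ y - d y) = _
    rw [map_sub, Ideal.Quotient.eq_zero_iff_mem.2 (hdI y), sub_zero, hχ]
  have hunit : ∀ s : S, IsUnit (χC s) := fun s => by
    refine (IsNilpotent.isUnit_quotient_mk_iff hIn).1 ?_
    rw [hmk]
    exact (IsLocalization.map_units C' s).map ψ
  refine ⟨IsLocalization.liftAlgHom hunit, IsLocalization.algHom_ext S (AlgHom.ext fun c => ?_)⟩
  show Ideal.Quotient.mk I (IsLocalization.liftAlgHom hunit (algebraMap C C' c)) = ψ (algebraMap C C' c)
  rw [IsLocalization.liftAlgHom_apply, IsLocalization.lift_eq]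
  exact hmk c

theorem exists_good_of_formallySmooth [Algebra.FormallySmooth A B] (hsurj : Function.Surjective (algebraMap B C))
    [Module.Finite B (RingHom.ker (algebraMap B C)).Cotangent]
    (S : Submonoid C) (C' : Type u) [CommRing C'] [Algebra C C'] [Algebra A C'] [IsScalarTower A C C']
    [IsLocalization S C'] [Algebra.FormallySmooth A C'] :
    ∃ b : B, algebraMap B C b ∈ S ∧ Good A B C b := by
  classical
  let J := RingHom.ker (algebraMap B C)
  let π₂ : B ⧸ J ^ 2 →+* C := Ideal.Quotient.lift (J ^ 2) (algebraMap B C) fun x hx =>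
    RingHom.mem_ker.1 (Ideal.pow_le_self two_ne_zero hx)
  let T := Localization (S.comap π₂)
  let q : B →ₐ[A] T := (IsScalarTower.toAlgHom A (B ⧸ J ^ 2) T).comp (Ideal.Quotient.mkₐ A (J ^ 2))
  let πT : T →+* C' := IsLocalization.map C' π₂ (fun x hx => hx : S.comap π₂ ≤ S.comap π₂)
  have hπq : ∀ y, πT (q y) = algebraMap C C' (algebraMap B C y) := fun y =>
    IsLocalization.map_eq (fun x hx => hx : S.comap π₂ ≤ S.comap π₂) (Ideal.Quotient.mk (J ^ 2) y)
  let πA : T →ₐ[A] C' :=
    { πT with
      commutes' := fun a => by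
        show πT (algebraMap A T a) = algebraMap A C' a
        rw [show algebraMap A T a = q (algebraMap A B a) from (AlgHom.commutes q a).symm, hπq,
          ← IsScalarTower.algebraMap_apply A B C, ← IsScalarTower.algebraMap_apply A C C'] }
  have hπs : Function.Surjective πA := fun y => by
    obtain ⟨c, s, rfl⟩ := IsLocalization.exists_mk'_eq S y
    obtain ⟨c', hc⟩ := hsurj c
    obtain ⟨s', hs⟩ := hsurj s
    refine ⟨IsLocalization.mk' T (Ideal.Quotient.mk (J ^ 2) c') (⟨Ideal.Quotient.mk (J ^ 2) s', ?_⟩ : S.comap π₂), ?_⟩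
    · show algebraMap B C s' ∈ S
      rw [hs]; exact s.2
    · show πT _ = _
      rw [IsLocalization.map_mk']
      congr 1
      exact Subtype.ext hs
  -- fractions in the kernel
  have hex : ∀ z : T, πT z = 0 → ∃ t : B, algebraMap B C t ∈ S ∧ ∃ j : J, z * q t = q j := fun z hz => by
    obtain ⟨x, s, rfl⟩ := IsLocalization.exists_mk'_eq (S.comap π₂) z
    obtain ⟨x', rfl⟩ := Ideal.Quotient.mk_surjective x
    obtain ⟨s', hs'⟩ := Ideal.Quotient.mk_surjective (s : B ⧸ J ^ 2)
    rw [IsLocalization.map_mk', IsLocalization.mk'_eq_zero_iff] at hz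
    obtain ⟨c, hc⟩ := hz
    obtain ⟨c', hc'⟩ := hsurj c
    have hsS : algebraMap B C s' ∈ S := by
      have h := s.2
      rwa [Submonoid.mem_comap, ← hs'] at h
    refine ⟨s' * c', by rw [map_mul]; exact S.mul_mem hsS (hc' ▸ c.2), ⟨x' * c', ?_⟩, ?_⟩
    · rw [RingHom.mem_ker, map_mul, hc', mul_comm]; exact hc
    · show IsLocalization.mk' T _ s * q (s' * c') = q (x' * c')
      rw [map_mul, map_mul, ← mul_assoc]
      congr 1
      show IsLocalization.mk' T _ s * algebraMap (B ⧸ J ^ 2) T (Ideal.Quotient.mk (J ^ 2) s') = _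
      rw [hs', IsLocalization.mk'_spec]
      rfl
  have hqu : ∀ t : B, algebraMap B C t ∈ S → IsUnit (q t) := fun t ht =>
    IsLocalization.map_units T (⟨Ideal.Quotient.mk (J ^ 2) t, ht⟩ : S.comap π₂)
  have hq0 : ∀ x : B, q x = 0 → ∃ t : B, algebraMap B C t ∈ S ∧ t * x ∈ J ^ 2 := fun x hx => by
    obtain ⟨⟨m, hm⟩, hmx⟩ := (IsLocalization.map_eq_zero_iff (S.comap π₂) T (Ideal.Quotient.mk (J ^ 2) x)).1 hx
    obtain ⟨t, rfl⟩ := Ideal.Quotient.mk_surjective m
    exact ⟨t, hm, by rw [← Ideal.Quotient.eq_zero_iff_mem, map_mul]; exact hmx⟩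
  have hkerπ : RingHom.ker πA ^ 2 = ⊥ := by
    rw [← le_bot_iff, pow_two (RingHom.ker πA), Ideal.mul_le]
    intro z hz w hw
    obtain ⟨t, ht, j, hj⟩ := hex z hz
    obtain ⟨t', ht', j', hj'⟩ := hex w hw
    rw [Ideal.mem_bot, ← ((hqu t ht).mul (hqu t' ht')).mul_left_eq_zero,
      show z * w * (q t * q t') = (z * q t) * (w * q t') by ring, hj, hj', ← map_mul]
    show algebraMap (B ⧸ J ^ 2) T (Ideal.Quotient.mk (J ^ 2) (j * j' : B)) = 0
    rw [Ideal.Quotient.eq_zero_iff_mem.2 (by rw [sq]; exact Ideal.mul_mem_mul j.2 j'.2), map_zero]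
  let χ : C' →ₐ[A] T := Algebra.FormallySmooth.liftOfSurjective (AlgHom.id A C') πA hπs ⟨2, hkerπ⟩
  have hχ : ∀ y, πT (χ y) = y := fun y =>
    Algebra.FormallySmooth.liftOfSurjective_apply (AlgHom.id A C') πA hπs ⟨2, hkerπ⟩ y
  have hII : ∀ z w, πT z = 0 → πT w = 0 → z * w = 0 := fun z w hz hw => by
    have := Ideal.mul_mem_mul (RingHom.mem_ker.2 hz : z ∈ RingHom.ker πA) (RingHom.mem_ker.2 hw : w ∈ RingHom.ker πA)
    rwa [← sq, hkerπ, Ideal.mem_bot] at this
  have hsmulB : ∀ (y : B) (z : T), y • z = q y * z := fun y z => by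
    rw [← algebraMap_smul T y z, smul_eq_mul, IsScalarTower.algebraMap_apply B (B ⧸ J ^ 2) T]
    rfl
  let v : B →ₐ[A] T := χ.comp ((IsScalarTower.toAlgHom A C C').comp (IsScalarTower.toAlgHom A B C))
  have hv : ∀ y, πT (q y - v y) = 0 := fun y => by
    rw [map_sub, hπq, sub_eq_zero]
    exact (hχ _).symm
  let D₀ : Derivation A B T := Derivation.mk' (q.toLinearMap - v.toLinearMap) fun x y => by
    rw [hsmulB, hsmulB]
    show q (x * y) - v (x * y) = q x * (q y - v y) + q y * (q x - v x)
    rw [map_mul, map_mul]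
    linear_combination (-1 : T) * hII _ _ (hv x) (hv y)
  let F : Type u := Ω[B⁄A] →₀ B
  let pr : F →ₗ[B] Ω[B⁄A] := Finsupp.linearCombination B id
  obtain ⟨ι, hι⟩ := Module.projective_lifting_property pr LinearMap.id
    (Finsupp.linearCombination_surjective _ Function.surjective_id)
  obtain ⟨n, gen, hgen⟩ := Module.Finite.exists_fin (R := B) (M := J.Cotangent)
  choose x hx using fun i => J.toCotangent_surjective (gen i)
  let supp : Finset (Ω[B⁄A]) := Finset.univ.biUnion fun i => (ι (KaehlerDifferential.D A B (x i))).support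
  have hL : ∀ e : Ω[B⁄A], ∃ t : B, algebraMap B C t ∈ S ∧ ∃ j : J, D₀.liftKaehlerDifferential e * q t = q j := fun e => by
    refine hex _ ?_
    have he : e ∈ Submodule.span B (Set.range (KaehlerDifferential.D A B)) := by
      rw [KaehlerDifferential.span_range_derivation]; trivial
    induction he using Submodule.span_induction with
    | mem w hw => obtain ⟨y, rfl⟩ := hw; rw [Derivation.liftKaehlerDifferential_comp_D]; exact hv y
    | zero => rw [map_zero, map_zero]
    | add a b _ _ ha hb => rw [map_add, map_add, ha, hb, add_zero]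
    | smul c a _ ha => rw [map_smul, hsmulB, map_mul, ha, mul_zero]
  choose t htS j hj using hL
  let P := ∏ e ∈ supp, t e
  let val : Ω[B⁄A] → J.Cotangent := fun e =>
    if e ∈ supp then J.toCotangent ((∏ e' ∈ supp.erase e, t e') • j e) else 0
  let D' : Derivation A B J.Cotangent :=
    ((Finsupp.linearCombination B val) ∘ₗ ι).compDer (KaehlerDifferential.D A B)
  have hkey : ∀ i, ∃ s : B, algebraMap B C s ∈ S ∧ s • (D' (x i) - P • gen i) = 0 := fun i => by
    let c := ι (KaehlerDifferential.D A B (x i))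
    have hsub : c.support ⊆ supp := fun e he => Finset.mem_biUnion.2 ⟨i, Finset.mem_univ _, he⟩
    let j' : J := ∑ e ∈ supp, c e • ((∏ e' ∈ supp.erase e, t e') • j e)
    have hD' : D' (x i) = J.toCotangent j' := by
      show Finsupp.linearCombination B val c = _
      rw [Finsupp.linearCombination_apply, Finsupp.sum_of_support_subset _ hsub _ (by simp), map_sum]
      refine Finset.sum_congr rfl fun e he => ?_
      simp only [val, if_pos he, map_smul]
    have hLx : q (x i : B) = ∑ e ∈ supp, q (c e) * D₀.liftKaehlerDifferential e := by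
      have h1 : D₀.liftKaehlerDifferential (pr c) = q (x i : B) := by
        rw [show pr c = KaehlerDifferential.D A B (x i) from LinearMap.congr_fun hι _,
          Derivation.liftKaehlerDifferential_comp_D]
        show q (x i : B) - v (x i : B) = _
        rw [show v (x i : B) = 0 by
          show χ (algebraMap C C' (algebraMap B C (x i : B))) = 0
          rw [RingHom.mem_ker.1 (x i).2, map_zero, map_zero], sub_zero]
      rw [← h1, Finsupp.linearCombination_apply, Finsupp.sum_of_support_subset _ hsub _ (by simp), map_sum]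
      refine Finset.sum_congr rfl fun e _ => ?_
      rw [map_smul, hsmulB]
      rfl
    have hq : q ((j' : B) - P * x i) = 0 := by
      rw [map_sub, map_mul, hLx, Finset.mul_sum, Submodule.coe_sum, map_sum, sub_eq_zero]
      refine Finset.sum_congr rfl fun e he => ?_
      rw [Submodule.coe_smul, Submodule.coe_smul, smul_eq_mul, smul_eq_mul, map_mul, map_mul, ← hj e,
        show P = t e * ∏ e' ∈ supp.erase e, t e' from (Finset.mul_prod_erase supp t he).symm, map_mul]
      ring
    obtain ⟨s, hs, hs2⟩ := hq0 _ hq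
    refine ⟨s, hs, ?_⟩
    rw [hD', ← hx, ← map_smul, ← map_sub, ← map_smul, Ideal.toCotangent_eq_zero]
    simpa using hs2
  choose s hsS hs using hkey
  let Q := ∏ i, s i
  refine ⟨Q * P, ?_, Q • D', fun y => ?_⟩
  · rw [map_mul, map_prod, map_prod]
    exact S.mul_mem (prod_mem fun i _ => hsS i) (prod_mem fun e _ => htS e)
  -- linearity on the ideal
  have hlin : ∀ (c : B) (y : J), D' (c * y) = c • D' y := fun c y => by
    rw [Derivation.leibniz]
    refine add_eq_left.2 ?_
    obtain ⟨w, hw⟩ := J.toCotangent_surjective (D' c)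
    rw [← hw, ← map_smul, Ideal.toCotangent_eq_zero, sq]
    exact Ideal.mul_mem_mul y.2 w.2
  have hsq : ∀ y ∈ J ^ 2, D' y = 0 := fun y hy => by
    rw [sq] at hy
    refine Submodule.mul_induction_on hy (fun a ha b hb => ?_) fun a b ha hb => by rw [map_add, ha, hb, add_zero]
    rw [hlin a ⟨b, hb⟩]
    obtain ⟨w, hw⟩ := J.toCotangent_surjective (D' b)
    rw [← hw, ← map_smul, Ideal.toCotangent_eq_zero, sq]
    exact Ideal.mul_mem_mul ha w.2
  rw [Derivation.smul_apply]
  obtain ⟨c, hc⟩ := (Submodule.mem_span_range_iff_exists_fun B).1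
    (show J.toCotangent y ∈ Submodule.span B (Set.range gen) by rw [hgen]; trivial)
  have hy2 : (y : B) - ∑ i, c i * x i ∈ J ^ 2 := by
    have h : J.toCotangent y = J.toCotangent (∑ i, c i • x i) := by
      rw [← hc, map_sum]; simp only [map_smul, hx]
    have h2 := J.toCotangent_eq.1 h
    simpa [Submodule.coe_sum] using h2
  have hDy : D' y = ∑ i, c i • D' (x i) := by
    have h3 := hsq _ hy2
    rw [map_sub, sub_eq_zero, map_sum] at h3
    rw [h3]
    exact Finset.sum_congr rfl fun i _ => hlin _ _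
  rw [hDy, ← hc, Finset.smul_sum, Finset.smul_sum]
  refine Finset.sum_congr rfl fun i _ => ?_
  obtain ⟨r, hr⟩ : s i ∣ Q := Finset.dvd_prod_of_mem _ (Finset.mem_univ i)
  rw [← sub_eq_zero, mul_smul, smul_comm P (c i), ← smul_sub, ← smul_sub, hr, mul_comm (s i) r, mul_smul,
    smul_comm (s i) (c i), hs i, smul_zero, smul_zero]

theorem isOpen_setOf_formallySmooth [Algebra.FormallySmooth A B] (hsurj : Function.Surjective (algebraMap B C))
    [Module.Finite B (RingHom.ker (algebraMap B C)).Cotangent] :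
    IsOpen {p : PrimeSpectrum C | Algebra.FormallySmooth A (Localization.AtPrime p.asIdeal)} := by
  have h : {p : PrimeSpectrum C | Algebra.FormallySmooth A (Localization.AtPrime p.asIdeal)} =
      (PrimeSpectrum.zeroLocus (((goodIdeal A B C).map (algebraMap B C)) : Set C))ᶜ := by
    ext p
    rw [Set.mem_compl_iff, PrimeSpectrum.mem_zeroLocus, SetLike.coe_subset_coe, Ideal.map_le_iff_le_comap]
    constructor
    · intro hp hle
      haveI : Algebra.FormallySmooth A (Localization.AtPrime p.asIdeal) := hp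
      obtain ⟨b, hb, hgood⟩ := exists_good_of_formallySmooth (A := A) hsurj p.asIdeal.primeCompl
        (Localization.AtPrime p.asIdeal)
      exact hb (hle hgood)
    · intro hp
      obtain ⟨b, hgood, hb⟩ := SetLike.not_le_iff_exists.1 hp
      exact formallySmooth_of_good hsurj p.asIdeal.primeCompl _ b hb hgood
  rw [h]
  exact (PrimeSpectrum.isClosed_zeroLocus _).isOpen_compl

theorem formallySmooth_iff_forall_isMaximal [Algebra.FormallySmooth A B]
    (hsurj : Function.Surjective (algebraMap B C)) [Module.Finite B (RingHom.ker (algebraMap B C)).Cotangent] :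
    Algebra.FormallySmooth A C ↔
      ∀ (m : Ideal C) [m.IsMaximal], Algebra.FormallySmooth A (Localization.AtPrime m) := by
  constructor
  · intro h m _
    haveI := h
    haveI : IsLocalization (⊥ : Submonoid C) C := IsLocalization.self (by simp)
    obtain ⟨b, hb, hgood⟩ := exists_good_of_formallySmooth (A := A) hsurj (⊥ : Submonoid C) C
    refine formallySmooth_of_good hsurj m.primeCompl _ b ?_ hgood
    rw [Submonoid.mem_bot.1 hb]
    exact one_mem _
  · intro h
    haveI : IsLocalization (⊥ : Submonoid C) C := IsLocalization.self (by simp)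
    have htop : (goodIdeal A B C).map (algebraMap B C) = ⊤ := by
      by_contra hne
      obtain ⟨m, hm, hle⟩ := Ideal.exists_le_maximal _ hne
      haveI := hm
      haveI := h m
      obtain ⟨b, hb, hgood⟩ := exists_good_of_formallySmooth (A := A) hsurj m.primeCompl (Localization.AtPrime m)
      exact hb (hle (Ideal.mem_map_of_mem _ hgood))
    obtain ⟨b, hgood, hb⟩ := (Ideal.mem_map_iff_of_surjective _ hsurj).1 (htop.symm ▸ Submodule.mem_top (x := (1 : C)))
    exact formallySmooth_of_good hsurj (⊥ : Submonoid C) C b (by rw [hb]; exact one_mem _) hgood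

end Groth.Agent.EGA41Lib.SQL
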