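import Mathlib
import Groth.Agent.EGA41Lib.SmoothQuotientLocus

/-!
# Zariski's Jacobian criterion
-/

set_option autoImplicit false

universe u

open IsLocalRing

namespace Groth.Agent.EGA41Lib.SQL

theorem exists_mul_mem_of_map_le {R : Type u} [CommRing R] (S : Submonoid R) (T : Type u) [CommRing T]
    [Algebra R T] [IsLocalization S T] {J I : Ideal R} (hJ : J.FG)
    (h : J.map (algebraMap R T) ≤ I.map (algebraMap R T)) : ∃ s ∈ S, ∀ x ∈ J, s * x ∈ I := by
  classical
  obtain ⟨t, rfl⟩ := hJ
  have h1 : ∀ x ∈ t, ∃ s ∈ S, s * x ∈ I := fun x hx =>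
    (IsLocalization.algebraMap_mem_map_algebraMap_iff S T I x).1
      (h (Ideal.mem_map_of_mem _ (Ideal.subset_span hx)))
  choose s hs hsx using h1
  refine ⟨∏ x ∈ t.attach, s x.1 x.2, Submonoid.prod_mem _ fun x _ => hs _ _, fun x hx => ?_⟩
  induction hx using Submodule.span_induction with
  | mem y hy =>
    rw [Finset.prod_eq_prod_sdiff_singleton_mul (Finset.mem_attach t ⟨y, hy⟩) (fun z => s z.1 z.2), mul_assoc]
    exact I.mul_mem_left _ (hsx y hy)
  | zero => rw [mul_zero]; exact I.zero_mem
  | add a b _ _ ha hb => rw [mul_add]; exact I.add_mem ha hb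
  | smul a b _ hb => rw [smul_eq_mul, mul_left_comm]; exact I.mul_mem_left _ hb

variable {A B C : Type u} [CommRing A] [CommRing B] [CommRing C] [Algebra A B] [Algebra B C] [Algebra A C]
  [IsScalarTower A B C]

theorem good_of_det {m : ℕ} (f : Fin m → RingHom.ker (algebraMap B C)) (D : Fin m → Derivation A B B) {s : B}
    (hs : ∀ x ∈ RingHom.ker (algebraMap B C), s * x ∈ Ideal.span (Set.range fun i => (f i : B))) :
    Good A B C (s * Matrix.det (Matrix.of fun i j => D j (f i))) := by
  classical
  let J := RingHom.ker (algebraMap B C)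
  let M : Matrix (Fin m) (Fin m) B := Matrix.of fun i j => D j (f i)
  let E : Fin m → Derivation A B B := fun l => ∑ j, M.adjugate j l • D j
  have happ : ∀ l y, E l y = ∑ j, M.adjugate j l * D j y := fun l y => by
    show (⇑(∑ j, M.adjugate j l • D j)) y = _
    rw [← Derivation.coeFnAddMonoidHom_apply, map_sum, Finset.sum_apply]
    rfl
  have hE : ∀ i l, E l (f i) = if i = l then M.det else 0 := fun i l => by
    rw [happ]
    have h1 := congrFun (congrFun M.mul_adjugate i) l
    rw [Matrix.smul_apply, Matrix.one_apply, smul_eq_mul, Matrix.mul_apply] at h1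
    rw [mul_ite, mul_one, mul_zero] at h1
    rw [← h1]
    exact Finset.sum_congr rfl fun j _ => mul_comm _ _
  let G : Derivation A B J.Cotangent := ∑ l, (LinearMap.toSpanSingleton B _ (J.toCotangent (f l))).compDer (E l)
  have hG : ∀ y, G y = ∑ l, E l y • J.toCotangent (f l) := fun y => by
    show (⇑(∑ l, (LinearMap.toSpanSingleton B _ (J.toCotangent (f l))).compDer (E l))) y = _
    rw [← Derivation.coeFnAddMonoidHom_apply, map_sum, Finset.sum_apply]
    rfl
  have hkill : ∀ j : J, ∀ z : J.Cotangent, (j : B) • z = 0 := fun j z => by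
    obtain ⟨z, rfl⟩ := J.toCotangent_surjective z
    rw [← map_smul, Ideal.toCotangent_eq_zero, sq, Submodule.coe_smul, smul_eq_mul]
    exact Ideal.mul_mem_mul j.2 z.2
  refine ⟨s • G, fun x => ?_⟩
  obtain ⟨c, hc⟩ := Ideal.mem_span_range_iff_exists_fun.1 (hs x x.2)
  have hc' : s • x = ∑ l, c l • f l := Subtype.ext (by
    rw [Submodule.coe_smul, AddSubmonoidClass.coe_finsetSum, smul_eq_mul, ← hc]
    exact Finset.sum_congr rfl fun l _ => rfl)
  have h1 : G (s * x) = s • G x := by rw [G.leibniz, hkill, add_zero]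
  have h2 : G (s * x) = M.det • s • J.toCotangent x := by
    rw [← hc, map_sum, ← map_smul J.toCotangent, hc', map_sum, Finset.smul_sum]
    refine Finset.sum_congr rfl fun l _ => ?_
    rw [G.leibniz, hkill, add_zero, hG, map_smul, smul_comm]
    congr 1
    simp only [hE, ite_smul, zero_smul, Finset.sum_ite_eq, Finset.mem_univ, if_true]
  show s • G x = _
  rw [← h1, h2, smul_smul, mul_comm]

theorem exists_det_of_good [Algebra.FormallySmooth A B] [IsNoetherianRing B] (q : Ideal B) [q.IsPrime]
    (hJq : RingHom.ker (algebraMap B C) ≤ q) {b : B} (hb : b ∉ q) (hgood : Good A B C b) :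
    ∃ (m : ℕ) (f : Fin m → B) (D : Fin m → Derivation A B B), (∀ i, f i ∈ RingHom.ker (algebraMap B C)) ∧
      (RingHom.ker (algebraMap B C)).map (algebraMap B (Localization.AtPrime q)) =
        Ideal.span (Set.range fun i => algebraMap B (Localization.AtPrime q) (f i)) ∧
      Matrix.det (Matrix.of fun i j => D j (f i)) ∉ q := by
  classical
  let J := RingHom.ker (algebraMap B C)
  let L := Localization.AtPrime q
  haveI : IsNoetherianRing L := IsLocalization.isNoetherianRing q.primeCompl L inferInstance
  have hex : ∃ m, ∃ f : Fin m → B, (∀ i, f i ∈ J) ∧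
      J.map (algebraMap B L) = Ideal.span (Set.range fun i => algebraMap B L (f i)) := by
    obtain ⟨m, f, hf⟩ := Submodule.fg_iff_exists_fin_generating_family.1 (IsNoetherian.noetherian J)
    refine ⟨m, f, fun i => hf ▸ Submodule.subset_span ⟨i, rfl⟩, ?_⟩
    rw [← hf, Submodule.span_range_eq_iSup]
    rw [← Submodule.span_range_eq_iSup, Ideal.map_span, ← Set.range_comp]
    rfl
  obtain ⟨m, hm⟩ : ∃ m, Nat.find hex = m := ⟨_, rfl⟩
  obtain ⟨f, hfJ, hspan⟩ := hm ▸ Nat.find_spec hex
  let g : Fin m → L := fun i => algebraMap B L (f i)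
  obtain ⟨s, hs, hsJ⟩ := exists_mul_mem_of_map_le q.primeCompl L (I := Ideal.span (Set.range f))
    (IsNoetherian.noetherian J) (by rw [hspan, Ideal.map_span, ← Set.range_comp]; rfl)
  let π : (Fin m → B) →ₗ[B] J.Cotangent := Fintype.linearCombination B fun i => J.toCotangent ⟨f i, hfJ i⟩
  have hπ : ∀ z : J.Cotangent, s • z ∈ LinearMap.range π := fun z => by
    obtain ⟨x, rfl⟩ := J.toCotangent_surjective z
    obtain ⟨c, hc⟩ := Ideal.mem_span_range_iff_exists_fun.1 (hsJ x x.2)
    refine ⟨c, ?_⟩
    rw [Fintype.linearCombination_apply, ← map_smul J.toCotangent]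
    simp only [← map_smul, ← map_sum]
    congr 1
    refine Subtype.ext ?_
    rw [AddSubmonoidClass.coe_finsetSum, Submodule.coe_smul, smul_eq_mul, ← hc]
    exact Finset.sum_congr rfl fun i _ => rfl
  obtain ⟨D, hD⟩ := hgood
  obtain ⟨l, hl⟩ := Module.projective_lifting_property π.rangeRestrict
    (LinearMap.codRestrict (LinearMap.range π) (s • D.liftKaehlerDifferential) fun z => hπ _)
    π.surjective_rangeRestrict
  let Ds : Fin m → Derivation A B B := fun j => ((LinearMap.proj j).comp l).compDer (KaehlerDifferential.D A B)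
  refine ⟨m, f, Ds, hfJ, hspan, fun hdet => ?_⟩
  have hrel : ∀ i, (∑ j, (Ds j (f i) - (if j = i then s * b else 0)) * f j) ∈ J ^ 2 := fun i => by
    let x : J := ⟨f i, hfJ i⟩
    have h1 : π (l (KaehlerDifferential.D A B (f i))) = (s * b) • J.toCotangent x := by
      have := congrArg Subtype.val (LinearMap.congr_fun hl (KaehlerDifferential.D A B (f i)))
      simp only [LinearMap.comp_apply] at this
      rw [show (π.rangeRestrict (l (KaehlerDifferential.D A B (f i))) : J.Cotangent) =
        π (l (KaehlerDifferential.D A B (f i))) from rfl] at this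
      rw [this, LinearMap.codRestrict_apply, LinearMap.smul_apply, Derivation.liftKaehlerDifferential_comp_D, hD x,
        smul_smul]
    have h2 : J.toCotangent (∑ j, (Ds j (f i) - (if j = i then s * b else 0)) • (⟨f j, hfJ j⟩ : J)) = 0 := by
      simp only [map_sum, map_smul, map_sub, sub_smul, Finset.sum_sub_distrib, ite_smul, zero_smul, Finset.sum_ite_eq',
        Finset.mem_univ, if_true, sub_eq_zero]
      rw [← h1, Fintype.linearCombination_apply]
      exact Finset.sum_congr rfl fun j _ => rfl
    have h3 := (Ideal.toCotangent_eq_zero _ _).1 h2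
    rw [AddSubmonoidClass.coe_finsetSum] at h3
    exact h3
  -- all the coefficients are in `q`, by minimality of `m`
  have hmem : ∀ i j, Ds j (f i) - (if j = i then s * b else 0) ∈ q := fun i j => by
    by_contra hnot
    let a : Fin m → L := fun j => algebraMap B L (Ds j (f i) - (if j = i then s * b else 0))
    have hu : IsUnit (a j) := IsLocalization.map_units L
      (⟨Ds j (f i) - (if j = i then s * b else 0), hnot⟩ : q.primeCompl)
    let JL := J.map (algebraMap B L)
    have hsum : ∑ k, a k * g k ∈ maximalIdeal L * JL := by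
      have h1 := Ideal.mem_map_of_mem (algebraMap B L) (hrel i)
      simp only [map_sum, map_mul, sq] at h1
      rw [Ideal.map_mul (algebraMap B L)] at h1
      refine Ideal.mul_mono_left ?_ h1
      rw [← IsLocalization.AtPrime.map_eq_maximalIdeal q L]
      exact Ideal.map_mono hJq
    obtain ⟨n, hn⟩ : ∃ n, m = n + 1 := ⟨m - 1, by have := j.pos; omega⟩
    let K := Ideal.span (g '' {k | k ≠ j})
    have hgj : g j ∈ K ⊔ maximalIdeal L • JL := by
      have h2 : a j * g j ∈ K ⊔ maximalIdeal L * JL := by
        rw [← Finset.add_sum_erase _ _ (Finset.mem_univ j)] at hsum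
        have h3 : ∑ k ∈ Finset.univ.erase j, a k * g k ∈ K ⊔ maximalIdeal L * JL := Ideal.mem_sup_left
          (K.sum_mem fun k hk => K.mul_mem_left _ (Ideal.subset_span ⟨k, (Finset.mem_erase.1 hk).1, rfl⟩))
        exact (add_mem_cancel_right h3).1 (Ideal.mem_sup_right hsum)
      rw [smul_eq_mul]
      exact (Ideal.unit_mul_mem_iff_mem _ hu).1 h2
    have hle : JL ≤ K := by
      refine Submodule.le_of_le_smul_of_le_jacobson_bot (IsNoetherian.noetherian JL)
        (IsLocalRing.maximalIdeal_le_jacobson _) ?_
      rw [show JL = Ideal.span (Set.range g) from hspan, Ideal.span_le]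
      rintro _ ⟨k, rfl⟩
      by_cases hk : k = j
      · subst hk
        rw [show JL = Ideal.span (Set.range g) from hspan] at hgj
        exact hgj
      · exact Ideal.mem_sup_left (Ideal.subset_span ⟨k, hk, rfl⟩)
    refine Nat.find_min hex (show n < Nat.find hex by omega) ?_
    refine ⟨fun k => f ((j.cast hn).succAbove k |>.cast hn.symm), fun k => hfJ _, le_antisymm ?_ ?_⟩
    · refine hle.trans (Ideal.span_mono ?_)
      rintro _ ⟨k, hk, rfl⟩
      obtain ⟨k', hk'⟩ := Fin.exists_succAbove_eq (x := k.cast hn) (y := j.cast hn)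
        (fun h => hk (Fin.cast_injective _ h))
      refine ⟨k', ?_⟩
      show algebraMap B L (f (Fin.cast hn.symm ((j.cast hn).succAbove k'))) = g k
      rw [hk']
      rfl
    · rw [show J.map (algebraMap B (Localization.AtPrime q)) = _ from hspan]
      refine Ideal.span_mono ?_
      rintro _ ⟨k, rfl⟩
      exact ⟨_, rfl⟩
  -- so the determinant is congruent to a power of `s * b`
  have h1 : Ideal.Quotient.mk q (Matrix.det (Matrix.of fun i j => Ds j (f i))) = Ideal.Quotient.mk q (s * b) ^ m := by
    have h2 : (Ideal.Quotient.mk q).mapMatrix (Matrix.of fun i j => Ds j (f i)) =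
        Matrix.diagonal fun _ => Ideal.Quotient.mk q (s * b) := by
      ext i j
      have := Ideal.Quotient.eq.2 (hmem i j)
      rw [RingHom.mapMatrix_apply, Matrix.map_apply, Matrix.of_apply, this, Matrix.diagonal_apply]
      by_cases h : i = j
      · rw [if_pos h.symm, if_pos h]
      · rw [if_neg fun h' => h h'.symm, if_neg h, map_zero]
    rw [RingHom.map_det, h2, Matrix.det_diagonal, Finset.prod_const, Finset.card_univ, Fintype.card_fin]
  rw [Ideal.Quotient.eq_zero_iff_mem.2 hdet] at h1
  have h3 : Ideal.Quotient.mk q (s * b) = 0 := eq_zero_of_pow_eq_zero h1.symm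
  rw [Ideal.Quotient.eq_zero_iff_mem] at h3
  exact (‹q.IsPrime›.mem_or_mem h3).elim hs hb

/-- Zariski's Jacobian criterion for a quotient of a formally smooth Noetherian algebra. -/
theorem formallySmooth_iff_exists_det [Algebra.FormallySmooth A B] [IsNoetherianRing B]
    (hsurj : Function.Surjective (algebraMap B C)) (p : Ideal C) [p.IsPrime] (q : Ideal B) [q.IsPrime]
    (hq : ∀ y, algebraMap B C y ∈ p ↔ y ∈ q) (J : Ideal B) (hJ : RingHom.ker (algebraMap B C) = J) :
    Algebra.FormallySmooth A (Localization.AtPrime p) ↔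
      ∃ (m : ℕ) (f : Fin m → B) (D : Fin m → Derivation A B B), (∀ i, f i ∈ J) ∧
        J.map (algebraMap B (Localization.AtPrime q)) =
          Ideal.span (Set.range fun i => algebraMap B (Localization.AtPrime q) (f i)) ∧
        Matrix.det (Matrix.of fun i j => D j (f i)) ∉ q := by
  subst hJ
  have hJq : RingHom.ker (algebraMap B C) ≤ q := fun x hx => (hq x).1 (by
    rw [RingHom.mem_ker.1 hx]; exact p.zero_mem)
  haveI : Module.Finite B (RingHom.ker (algebraMap B C)).Cotangent :=
    Module.Finite.of_surjective (RingHom.ker (algebraMap B C)).toCotangent (Ideal.toCotangent_surjective _)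
  constructor
  · intro h
    obtain ⟨b, hb, hgood⟩ := exists_good_of_formallySmooth (A := A) hsurj p.primeCompl (Localization.AtPrime p)
    exact exists_det_of_good q hJq (fun hm => hb ((hq b).2 hm)) hgood
  · rintro ⟨m, f, D, hf, hspan, hdet⟩
    obtain ⟨s, hs, hsJ⟩ := exists_mul_mem_of_map_le q.primeCompl (Localization.AtPrime q)
      (I := Ideal.span (Set.range f)) (IsNoetherian.noetherian (RingHom.ker (algebraMap B C)))
      (by rw [hspan, Ideal.map_span, ← Set.range_comp]; rfl)
    exact formallySmooth_of_good hsurj p.primeCompl (Localization.AtPrime p) _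
      (fun hm => (‹q.IsPrime›.mem_or_mem ((hq _).1 hm)).elim hs hdet)
      (good_of_det (fun i => ⟨f i, hf i⟩) D hsJ)

end Groth.Agent.EGA41Lib.SQL
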