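import Groth.Prelude.Def_EGA41
import Groth.Agent.S4537
import Groth.Agent.CAlgH.AdicSmoothCompletion
import Mathlib.RingTheory.AdicCompletion.RingHom

/-!
# Formal smoothness for adic topologies: comparison, lifting to complete rings, derivations
-/

set_option autoImplicit false

universe u

open IsLocalRing TensorProduct

namespace Groth.Agent.EGA41Lib

variable {A B : Type u} [CommRing A] [CommRing B] [Algebra A B]

/-- With a continuous structure map, formal smoothness over an adic base is formal smoothness over the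
discrete base. -/
theorem isFormallySmoothAdic_iff {𝔞 : Ideal A} {𝔟 : Ideal B}
    (hAB : ∃ k : ℕ, (𝔞 ^ k).map (algebraMap A B) ≤ 𝔟) :
    EGA41.IsFormallySmoothAdic A 𝔞 B 𝔟 ↔ CAlgX.IsAdicFormallySmooth A B 𝔟 := by
  constructor
  · intro h C _ _ J hJ ψ ⟨k, hk⟩
    obtain ⟨c, hc⟩ := hAB
    refine h C J ⟨2, hJ⟩ ⟨c * k + c * k, ?_⟩ ψ ⟨k, hk⟩
    rw [eq_bot_iff]
    refine le_trans ?_ hJ.le
    rw [pow_add, Ideal.map_mul, pow_two]
    have h1 : (𝔞 ^ (c * k)).map (algebraMap A C) ≤ J := Ideal.map_le_iff_le_comap.2 fun a ha => by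
      rw [Ideal.mem_comap, ← Ideal.Quotient.eq_zero_iff_mem, Ideal.Quotient.mk_algebraMap, ← ψ.commutes]
      refine hk _ (Ideal.pow_right_mono hc k ?_)
      rw [← Ideal.map_pow, ← pow_mul]
      exact Ideal.mem_map_of_mem _ ha
    exact Ideal.mul_mono h1 h1
  · intro h C _ _ J hJ _ u hu
    exact (S4537.result 𝔟).1 h C J hJ ⟨1, by rw [pow_one, Ideal.map_bot]⟩ u hu

/-- A local homomorphism is continuous. -/
theorem exists_map_pow_maximalIdeal_le [IsLocalRing A] [IsLocalRing B] [IsLocalHom (algebraMap A B)] :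
    ∃ k : ℕ, (maximalIdeal A ^ k).map (algebraMap A B) ≤ maximalIdeal B :=
  ⟨1, by
    rw [pow_one, Ideal.map_le_iff_le_comap]
    intro x hx
    rw [Ideal.mem_comap, IsLocalRing.mem_maximalIdeal, mem_nonunits_iff]
    exact fun hu => hx (IsLocalHom.map_nonunit x hu)⟩

/-- A lift modulo a nilpotent ideal of a map killing a power of `𝔟` kills a power of `𝔟`. -/
theorem exists_pow_kill {C : Type u} [CommRing C] (v : B →+* C) {K : Ideal C} (hK : IsNilpotent K) {𝔟 : Ideal B} {k : ℕ}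
    (hv : ∀ x ∈ 𝔟 ^ k, v x ∈ K) : ∃ m, ∀ x ∈ 𝔟 ^ m, v x = 0 := by
  obtain ⟨r, hr⟩ := hK
  refine ⟨k * r, fun x hx => ?_⟩
  have h1 : v x ∈ ((𝔟 ^ k).map v) ^ r := by
    rw [← Ideal.map_pow, ← pow_mul]; exact Ideal.mem_map_of_mem _ hx
  have h2 := Ideal.pow_right_mono (Ideal.map_le_iff_le_comap.2 fun y hy => hv y hy) r h1
  rw [hr] at h2
  exact h2

/-- Two algebra maps into quotients that agree modulo the sum glue to the quotient by the intersection. -/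
theorem exists_algHom_inf {C : Type u} [CommRing C] [Algebra A C] (I I' : Ideal C) (f : B →ₐ[A] C ⧸ I)
    (g : B →ₐ[A] C ⧸ I') (h : ∀ b c c', Ideal.Quotient.mk I c = f b → Ideal.Quotient.mk I' c' = g b → c - c' ∈ I ⊔ I') :
    ∃ w : B →ₐ[A] C ⧸ (I ⊓ I'), ∀ b c, Ideal.Quotient.mk (I ⊓ I') c = w b →
      Ideal.Quotient.mk I c = f b ∧ Ideal.Quotient.mk I' c = g b := by
  have hex : ∀ b, ∃ c, Ideal.Quotient.mk I c = f b ∧ Ideal.Quotient.mk I' c = g b := fun b => by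
    obtain ⟨c, hc⟩ := Ideal.Quotient.mk_surjective (f b)
    obtain ⟨c', hc'⟩ := Ideal.Quotient.mk_surjective (g b)
    obtain ⟨i, hi, j, hj, hij⟩ := Submodule.mem_sup.1 (h b c c' hc hc')
    refine ⟨c - i, by rw [map_sub, Ideal.Quotient.eq_zero_iff_mem.2 hi, sub_zero, hc], ?_⟩
    rw [show c - i = c' + j by linear_combination -hij, map_add, Ideal.Quotient.eq_zero_iff_mem.2 hj, add_zero, hc']
  choose s hs hs' using hex
  have key : ∀ b c, Ideal.Quotient.mk I c = f b → Ideal.Quotient.mk I' c = g b →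
      Ideal.Quotient.mk (I ⊓ I') (s b) = Ideal.Quotient.mk (I ⊓ I') c := fun b c h1 h2 => by
    rw [Ideal.Quotient.mk_eq_mk_iff_sub_mem, Submodule.mem_inf]
    exact ⟨(Ideal.Quotient.mk_eq_mk_iff_sub_mem _ _).1 ((hs b).trans h1.symm),
      (Ideal.Quotient.mk_eq_mk_iff_sub_mem _ _).1 ((hs' b).trans h2.symm)⟩
  let W : B →+* C ⧸ (I ⊓ I') :=
    { toFun := fun b => Ideal.Quotient.mk _ (s b)
      map_one' := by rw [key 1 1 (by rw [map_one, map_one]) (by rw [map_one, map_one]), map_one]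
      map_mul' := fun a b => by
        rw [key (a * b) (s a * s b) (by rw [map_mul, map_mul, hs, hs]) (by rw [map_mul, map_mul, hs', hs']), map_mul]
      map_zero' := by rw [key 0 0 (by rw [map_zero, map_zero]) (by rw [map_zero, map_zero]), map_zero]
      map_add' := fun a b => by
        rw [key (a + b) (s a + s b) (by rw [map_add, map_add, hs, hs]) (by rw [map_add, map_add, hs', hs']), map_add] }
  refine ⟨{ toRingHom := W, commutes' := fun a => ?_ }, fun b c hc => ?_⟩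
  · exact key (algebraMap A B a) (algebraMap A C a) (by rw [f.commutes, Ideal.Quotient.mk_algebraMap])
      (by rw [g.commutes, Ideal.Quotient.mk_algebraMap])
  · have hc' : c - s b ∈ I ⊓ I' := (Ideal.Quotient.mk_eq_mk_iff_sub_mem _ _).1 hc
    exact ⟨((Ideal.Quotient.mk_eq_mk_iff_sub_mem _ _).2 hc'.1).trans (hs b),
      ((Ideal.Quotient.mk_eq_mk_iff_sub_mem _ _).2 hc'.2).trans (hs' b)⟩

/-- One step of the successive lifting. -/
theorem exists_lift_step {C : Type u} [CommRing C] [Algebra A C] {𝔞 : Ideal A} {𝔟 : Ideal B} {𝔠 : Ideal C}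
    (hB : EGA41.IsFormallySmoothAdic A 𝔞 B 𝔟) (hAC : ∃ k : ℕ, (𝔞 ^ k).map (algebraMap A C) ≤ 𝔠)
    (J : Ideal C) (n : ℕ) (u : B →ₐ[A] C ⧸ (J ⊔ 𝔠 ^ (n + 2))) (hu : ∃ k : ℕ, ∀ x ∈ 𝔟 ^ k, u x = 0)
    (v : B →ₐ[A] C ⧸ 𝔠 ^ (n + 1)) (hv : ∃ k : ℕ, ∀ x ∈ 𝔟 ^ k, v x = 0)
    (huv : ∀ b c c', Ideal.Quotient.mk (𝔠 ^ (n + 1)) c = v b → Ideal.Quotient.mk (J ⊔ 𝔠 ^ (n + 2)) c' = u b →
      c - c' ∈ J ⊔ 𝔠 ^ (n + 1)) :
    ∃ v' : B →ₐ[A] C ⧸ 𝔠 ^ (n + 2), (∃ k : ℕ, ∀ x ∈ 𝔟 ^ k, v' x = 0) ∧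
      ∀ b c, Ideal.Quotient.mk (𝔠 ^ (n + 2)) c = v' b →
        Ideal.Quotient.mk (𝔠 ^ (n + 1)) c = v b ∧ Ideal.Quotient.mk (J ⊔ 𝔠 ^ (n + 2)) c = u b := by
  let I := 𝔠 ^ (n + 1)
  let I' := J ⊔ 𝔠 ^ (n + 2)
  have hle : 𝔠 ^ (n + 2) ≤ I ⊓ I' := le_inf (Ideal.pow_le_pow_right (by omega)) le_sup_right
  obtain ⟨w, hw⟩ := exists_algHom_inf I I' v u (fun b c c' h1 h2 => sup_le_sup_left le_sup_left I
    (by rw [sup_comm]; exact huv b c c' h1 h2))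
  let K : Ideal (C ⧸ 𝔠 ^ (n + 2)) := (I ⊓ I').map (Ideal.Quotient.mk (𝔠 ^ (n + 2)))
  have hK : IsNilpotent K := by
    refine ⟨2, eq_bot_iff.2 (le_trans (Ideal.pow_right_mono (Ideal.map_mono inf_le_left) 2) ?_)⟩
    rw [← Ideal.map_pow, ← pow_mul, Ideal.map_le_iff_le_comap]
    intro x hx
    rw [Ideal.mem_comap, Submodule.mem_bot]
    exact Ideal.Quotient.eq_zero_iff_mem.2 (Ideal.pow_le_pow_right (by omega) hx)
  let e := DoubleQuot.quotQuotEquivQuotOfLEₐ A hle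
  obtain ⟨c₀, hc₀⟩ := hAC
  obtain ⟨k₁, hk₁⟩ := hu
  obtain ⟨k₂, hk₂⟩ := hv
  have hwk : ∀ x ∈ 𝔟 ^ max k₁ k₂, w x = 0 := fun x hx => by
    obtain ⟨c, hc⟩ := Ideal.Quotient.mk_surjective (w x)
    obtain ⟨h1, h2⟩ := hw x c hc
    rw [hk₂ x (Ideal.pow_le_pow_right (le_max_right _ _) hx)] at h1
    rw [hk₁ x (Ideal.pow_le_pow_right (le_max_left _ _) hx)] at h2
    rw [← hc]
    exact Ideal.Quotient.eq_zero_iff_mem.2 ⟨Ideal.Quotient.eq_zero_iff_mem.1 h1, Ideal.Quotient.eq_zero_iff_mem.1 h2⟩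
  obtain ⟨v', hv'⟩ := hB (C ⧸ 𝔠 ^ (n + 2)) K hK ⟨c₀ * (n + 2), by
    rw [eq_bot_iff, Ideal.map_le_iff_le_comap]
    intro a ha
    rw [Ideal.mem_comap, Submodule.mem_bot, ← Ideal.Quotient.mk_algebraMap, Ideal.Quotient.eq_zero_iff_mem]
    refine Ideal.pow_right_mono hc₀ (n + 2) ?_
    rw [← Ideal.map_pow, ← pow_mul]
    exact Ideal.mem_map_of_mem _ ha⟩ (e.symm.toAlgHom.comp w) ⟨max k₁ k₂, fun x hx => by
      change e.symm (w x) = 0
      rw [hwk x hx, map_zero]⟩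
  have hv'' : ∀ b c, Ideal.Quotient.mk (𝔠 ^ (n + 2)) c = v' b → Ideal.Quotient.mk (I ⊓ I') c = w b := fun b c hc => by
    have h1 := congrArg e (DFunLike.congr_fun hv' b)
    simp only [AlgHom.comp_apply, Ideal.Quotient.mkₐ_eq_mk, ← hc] at h1
    exact h1.trans (e.apply_symm_apply _)
  refine ⟨v', exists_pow_kill v'.toRingHom hK (k := max k₁ k₂) fun x hx => ?_, fun b c hc => hw b c (hv'' b c hc)⟩
  obtain ⟨c, hc⟩ := Ideal.Quotient.mk_surjective (v' x)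
  have h1 := hv'' x c hc
  rw [hwk x hx, Ideal.Quotient.eq_zero_iff_mem] at h1
  change v' x ∈ K
  rw [← hc]
  exact Ideal.mem_map_of_mem _ h1

/-- The maps into `C/𝔠^(n+1)` compatible with `u`. -/
def LiftInv {C : Type u} [CommRing C] [Algebra A C] (𝔟 : Ideal B) (𝔠 J : Ideal C) (u : B →ₐ[A] C ⧸ J) (n : ℕ)
    (v : B →ₐ[A] C ⧸ 𝔠 ^ (n + 1)) : Prop :=
  (∃ k, ∀ x ∈ 𝔟 ^ k, v x = 0) ∧
    ∀ b c d, Ideal.Quotient.mk (𝔠 ^ (n + 1)) c = v b → Ideal.Quotient.mk J d = u b → c - d ∈ J ⊔ 𝔠 ^ (n + 1)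

theorem factor_kill {C : Type u} [CommRing C] [Algebra A C] {𝔟 : Ideal B} {𝔠 J : Ideal C} (u : B →ₐ[A] C ⧸ J) {k : ℕ}
    (hk : (𝔟 ^ k).map u.toRingHom ≤ 𝔠.map (Ideal.Quotient.mk J)) (m : ℕ) :
    ∀ x ∈ 𝔟 ^ (k * m), (Ideal.Quotient.factorₐ A (le_sup_left : J ≤ J ⊔ 𝔠 ^ m)).comp u x = 0 := fun x hx => by
  obtain ⟨c, hc⟩ := Ideal.Quotient.mk_surjective (u x)
  change Ideal.Quotient.factor le_sup_left (u x) = 0
  rw [← hc, Ideal.Quotient.factor_mk, Ideal.Quotient.eq_zero_iff_mem]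
  have h1 : u x ∈ ((𝔟 ^ k).map u.toRingHom) ^ m := by
    rw [← Ideal.map_pow, ← pow_mul]; exact Ideal.mem_map_of_mem u.toRingHom hx
  have h2 : Ideal.Quotient.mk J c ∈ (𝔠 ^ m).map (Ideal.Quotient.mk J) := by
    rw [hc, Ideal.map_pow]; exact Ideal.pow_right_mono hk m h1
  rwa [Ideal.mem_quotient_iff_mem_sup, sup_comm] at h2

theorem exists_lift_succ {C : Type u} [CommRing C] [Algebra A C] {𝔞 : Ideal A} {𝔟 : Ideal B} {𝔠 J : Ideal C}
    (hB : EGA41.IsFormallySmoothAdic A 𝔞 B 𝔟) (hAC : ∃ k : ℕ, (𝔞 ^ k).map (algebraMap A C) ≤ 𝔠)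
    (u : B →ₐ[A] C ⧸ J) {k : ℕ} (hk : (𝔟 ^ k).map u.toRingHom ≤ 𝔠.map (Ideal.Quotient.mk J))
    (n : ℕ) (v : B →ₐ[A] C ⧸ 𝔠 ^ (n + 1)) (hv : LiftInv 𝔟 𝔠 J u n v) :
    ∃ v' : B →ₐ[A] C ⧸ 𝔠 ^ (n + 2), LiftInv 𝔟 𝔠 J u (n + 1) v' ∧
      ∀ b c, Ideal.Quotient.mk (𝔠 ^ (n + 2)) c = v' b → Ideal.Quotient.mk (𝔠 ^ (n + 1)) c = v b := by
  have hle : J ⊔ 𝔠 ^ (n + 2) ≤ J ⊔ 𝔠 ^ (n + 1) :=
    sup_le_sup_left (Ideal.pow_le_pow_right (show n + 1 ≤ n + 2 by omega)) J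
  have hu' : ∀ b d, Ideal.Quotient.mk J d = u b →
      Ideal.Quotient.mk (J ⊔ 𝔠 ^ (n + 2)) d = (Ideal.Quotient.factorₐ A (le_sup_left : J ≤ J ⊔ 𝔠 ^ (n + 2))).comp u b :=
    fun b d hd => by
      change _ = Ideal.Quotient.factor le_sup_left (u b)
      rw [← hd, Ideal.Quotient.factor_mk]
  obtain ⟨v', h1, h2⟩ := exists_lift_step hB hAC J n _ ⟨_, factor_kill u hk (n + 2)⟩ v hv.1 (fun b c c' hc hc' => by
    obtain ⟨d, hd⟩ := Ideal.Quotient.mk_surjective (u b)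
    rw [← hu' b d hd, Ideal.Quotient.mk_eq_mk_iff_sub_mem] at hc'
    have h3 := Submodule.sub_mem _ (hv.2 b c d hc hd) (hle hc')
    rwa [show (c - d) - (c' - d) = c - c' by ring] at h3)
  refine ⟨v', ⟨h1, fun b c d hc hd => ?_⟩, fun b c hc => (h2 b c hc).1⟩
  have h3 := (h2 b c hc).2
  rwa [← hu' b d hd, Ideal.Quotient.mk_eq_mk_iff_sub_mem] at h3

theorem exists_lift_zero {C : Type u} [CommRing C] [Algebra A C] {𝔞 : Ideal A} {𝔟 : Ideal B} {𝔠 J : Ideal C}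
    (hB : EGA41.IsFormallySmoothAdic A 𝔞 B 𝔟) (hAC : ∃ k : ℕ, (𝔞 ^ k).map (algebraMap A C) ≤ 𝔠)
    (hJ : ∃ t : ℕ, J ^ t ≤ 𝔠) (u : B →ₐ[A] C ⧸ J) {k : ℕ}
    (hk : (𝔟 ^ k).map u.toRingHom ≤ 𝔠.map (Ideal.Quotient.mk J)) : ∃ v, LiftInv 𝔟 𝔠 J u 0 v := by
  obtain ⟨c₀, hc₀⟩ := hAC
  have hle : 𝔠 ^ 1 ≤ J ⊔ 𝔠 ^ 1 := le_sup_right
  let e := DoubleQuot.quotQuotEquivQuotOfLEₐ A hle
  let K : Ideal (C ⧸ 𝔠 ^ 1) := (J ⊔ 𝔠 ^ 1).map (Ideal.Quotient.mk (𝔠 ^ 1))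
  have hK : IsNilpotent K := by
    obtain ⟨t, ht⟩ := hJ
    refine ⟨t, eq_bot_iff.2 ?_⟩
    change ((J ⊔ 𝔠 ^ 1).map (Ideal.Quotient.mk (𝔠 ^ 1))) ^ t ≤ ⊥
    rw [Ideal.map_sup, Ideal.map_quotient_self, sup_bot_eq, ← Ideal.map_pow, Ideal.map_le_iff_le_comap]
    intro x hx
    rw [Ideal.mem_comap, Submodule.mem_bot, Ideal.Quotient.eq_zero_iff_mem, pow_one]
    exact ht hx
  obtain ⟨v, hv⟩ := hB (C ⧸ 𝔠 ^ 1) K hK ⟨c₀, by
    rw [eq_bot_iff, Ideal.map_le_iff_le_comap]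
    intro a ha
    rw [Ideal.mem_comap, Submodule.mem_bot, ← Ideal.Quotient.mk_algebraMap, Ideal.Quotient.eq_zero_iff_mem, pow_one]
    exact hc₀ (Ideal.mem_map_of_mem _ ha)⟩
      (e.symm.toAlgHom.comp ((Ideal.Quotient.factorₐ A (le_sup_left : J ≤ J ⊔ 𝔠 ^ 1)).comp u)) ⟨k * 1, fun x hx => by
      change e.symm ((Ideal.Quotient.factorₐ A (le_sup_left : J ≤ J ⊔ 𝔠 ^ 1)).comp u x) = 0
      rw [factor_kill u hk 1 x hx, map_zero]⟩
  have hv' : ∀ b c, Ideal.Quotient.mk (𝔠 ^ 1) c = v b → Ideal.Quotient.mk (J ⊔ 𝔠 ^ 1) c =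
      (Ideal.Quotient.factorₐ A (le_sup_left : J ≤ J ⊔ 𝔠 ^ 1)).comp u b := fun b c hc => by
    have h1 := congrArg e (DFunLike.congr_fun hv b)
    simp only [AlgHom.comp_apply, Ideal.Quotient.mkₐ_eq_mk, ← hc] at h1
    exact h1.trans (e.apply_symm_apply _)
  refine ⟨v, exists_pow_kill v.toRingHom hK (k := k * 1) fun x hx => ?_, fun b c d hc hd => ?_⟩
  · obtain ⟨c, hc⟩ := Ideal.Quotient.mk_surjective (v x)
    have h1 := hv' x c hc
    rw [factor_kill u hk 1 x hx, Ideal.Quotient.eq_zero_iff_mem] at h1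
    change v x ∈ K
    rw [← hc]
    exact Ideal.mem_map_of_mem _ h1
  · rw [← Ideal.Quotient.mk_eq_mk_iff_sub_mem, hv' b c hc]
    change Ideal.Quotient.factor le_sup_left (u b) = _
    rw [← hd, Ideal.Quotient.factor_mk]

theorem exists_seq {α : ℕ → Sort*} {P : ∀ n, α n → Prop} {R : ∀ n, α (n + 1) → α n → Prop} (a : α 0) (ha : P 0 a)
    (step : ∀ n x, P n x → ∃ y, P (n + 1) y ∧ R n y x) : ∃ V : ∀ n, α n, (∀ n, P n (V n)) ∧ ∀ n, R n (V (n + 1)) (V n) := by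
  choose next hnext hrel using step
  let V : ∀ n, PSigma fun x : α n => PLift (P n x) := fun n =>
    Nat.rec ⟨a, ⟨ha⟩⟩ (fun n x => ⟨next n x.1 x.2.down, ⟨hnext n x.1 x.2.down⟩⟩) n
  exact ⟨fun n => (V n).1, fun n => (V n).2.down, fun n => hrel n (V n).1 (V n).2.down⟩

/-- Lifting into complete rings. -/
theorem exists_lift_adicComplete {C : Type u} [CommRing C] [Algebra A C] (𝔞 : Ideal A) (𝔟 : Ideal B) (𝔠 : Ideal C)
    (hB : EGA41.IsFormallySmoothAdic A 𝔞 B 𝔟) [IsAdicComplete 𝔠 C]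
    (hAC : ∃ k : ℕ, (𝔞 ^ k).map (algebraMap A C) ≤ 𝔠)
    (J : Ideal C) (hJ : ∃ t : ℕ, J ^ t ≤ 𝔠) [IsHausdorff (𝔠.map (Ideal.Quotient.mk J)) (C ⧸ J)]
    (u : B →ₐ[A] C ⧸ J) (hu : ∃ k : ℕ, (𝔟 ^ k).map u.toRingHom ≤ 𝔠.map (Ideal.Quotient.mk J)) :
    ∃ v : B →ₐ[A] C, (∃ k : ℕ, (𝔟 ^ k).map v.toRingHom ≤ 𝔠) ∧ (Ideal.Quotient.mkₐ A J).comp v = u := by
  obtain ⟨k, hk⟩ := hu
  obtain ⟨v₀, hv₀⟩ := exists_lift_zero hB hAC hJ u hk
  obtain ⟨V, hV, hcompat⟩ := exists_seq (α := fun n => B →ₐ[A] C ⧸ 𝔠 ^ (n + 1)) (P := fun n v => LiftInv 𝔟 𝔠 J u n v)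
    (R := fun n v' v => ∀ b c, Ideal.Quotient.mk (𝔠 ^ (n + 2)) c = v' b → Ideal.Quotient.mk (𝔠 ^ (n + 1)) c = v b)
    v₀ hv₀ (exists_lift_succ hB hAC u hk)
  have ha : StrictMono fun n : ℕ => n + 1 := fun a b h => Nat.add_lt_add_right h 1
  have hf : ∀ {m : ℕ}, (Ideal.Quotient.factorPow 𝔠 (ha.monotone m.le_succ)).comp ((V (m + 1)).toRingHom) =
      (V m).toRingHom := fun {m} => RingHom.ext fun b => by
    obtain ⟨c, hc⟩ := Ideal.Quotient.mk_surjective ((V (m + 1)) b)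
    change Ideal.Quotient.factorPow 𝔠 (ha.monotone m.le_succ) ((V (m + 1)) b) = (V m) b
    rw [← hc, ← hcompat m b c hc]
    exact Ideal.Quotient.factor_mk _ c
  let F := IsAdicComplete.StrictMono.liftRingHom 𝔠 ha (fun n => (V n).toRingHom) hf
  have hF : ∀ n b, Ideal.Quotient.mk (𝔠 ^ (n + 1)) (F b) = (V n) b := fun n b =>
    IsAdicComplete.StrictMono.mk_liftRingHom 𝔠 ha (fun n => (V n).toRingHom) hf (n := n) b
  let v : B →ₐ[A] C :=
    { toRingHom := F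
      commutes' := fun a => by
        refine IsHausdorff.eq_iff_smodEq (I := 𝔠).2 fun n => ?_
        rw [SModEq.sub_mem, smul_eq_mul, Ideal.mul_top]
        refine Ideal.pow_le_pow_right n.le_succ ((Ideal.Quotient.mk_eq_mk_iff_sub_mem _ _).1 ?_)
        exact (hF n _).trans (((V n).commutes a).trans (Ideal.Quotient.mk_algebraMap _ _ a).symm) }
  refine ⟨v, ?_, AlgHom.ext fun b => ?_⟩
  · obtain ⟨m, hm⟩ := (hV 0).1
    refine ⟨m, Ideal.map_le_iff_le_comap.2 fun x hx => ?_⟩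
    have h1 := hF 0 x
    rw [hm x hx, Ideal.Quotient.eq_zero_iff_mem, pow_one] at h1
    exact h1
  · refine IsHausdorff.eq_iff_smodEq (I := 𝔠.map (Ideal.Quotient.mk J)).2 fun n => ?_
    obtain ⟨d, hd⟩ := Ideal.Quotient.mk_surjective (u b)
    rw [SModEq.sub_mem, smul_eq_mul, Ideal.mul_top]
    change Ideal.Quotient.mk J (F b) - u b ∈ _
    refine Ideal.pow_le_pow_right n.le_succ ?_
    rw [← hd, ← map_sub, ← Ideal.map_pow, Ideal.mem_quotient_iff_mem_sup, sup_comm]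
    exact (hV n).2 b (F b) d (hF n b) hd

/-- The square zero extension of `R` by a module, as an abstract algebra. -/
theorem exists_derivation_lift {𝔞 : Ideal A} {𝔟 : Ideal B} (hAB : ∃ k : ℕ, (𝔞 ^ k).map (algebraMap A B) ≤ 𝔟)
    (h : EGA41.IsFormallySmoothAdic A 𝔞 B 𝔟) (𝔄 : Ideal B) (h𝔄 : ∃ n : ℕ, 𝔟 ^ n ≤ 𝔄)
    {P Q : Type u} [AddCommGroup P] [Module (B ⧸ 𝔄) P] [Module B P] [IsScalarTower B (B ⧸ 𝔄) P] [Module A P] [IsScalarTower A B P]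
    [AddCommGroup Q] [Module (B ⧸ 𝔄) Q] [Module B Q] [IsScalarTower B (B ⧸ 𝔄) Q] [Module A Q] [IsScalarTower A B Q]
    (φ : P →ₗ[B ⧸ 𝔄] Q) (hφ : Function.Surjective φ) (D : Derivation A B Q) :
    ∃ D' : Derivation A B P, ∀ b, φ (D' b) = D b := by
  haveI : IsScalarTower A (B ⧸ 𝔄) P := ⟨fun a r p => by
    obtain ⟨b, rfl⟩ := Ideal.Quotient.mk_surjective r
    rw [show a • (Ideal.Quotient.mk 𝔄 b) = Ideal.Quotient.mk 𝔄 (a • b) from rfl]
    rw [show ∀ c : B, (Ideal.Quotient.mk 𝔄 c) • p = c • p from fun c => algebraMap_smul (B ⧸ 𝔄) c p]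
    rw [show ∀ c : B, (Ideal.Quotient.mk 𝔄 c) • p = c • p from fun c => algebraMap_smul (B ⧸ 𝔄) c p, smul_assoc]⟩
  letI : Module (B ⧸ 𝔄)ᵐᵒᵖ P := Module.compHom P ((RingHom.id (B ⧸ 𝔄)).fromOpposite fun x y => mul_comm _ _)
  haveI : IsCentralScalar (B ⧸ 𝔄) P := ⟨fun _ _ => rfl⟩
  let E := TrivSqZeroExt (B ⧸ 𝔄) P
  let J : Ideal E :=
    { carrier := {x | x.fst = 0 ∧ φ x.snd = 0}
      add_mem' := fun {x y} hx hy => ⟨by rw [TrivSqZeroExt.fst_add, hx.1, hy.1, add_zero],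
        by rw [TrivSqZeroExt.snd_add, map_add, hx.2, hy.2, add_zero]⟩
      zero_mem' := ⟨TrivSqZeroExt.fst_zero, by rw [TrivSqZeroExt.snd_zero, map_zero]⟩
      smul_mem' := fun r x hx => ⟨by rw [smul_eq_mul, TrivSqZeroExt.fst_mul, hx.1, mul_zero], by
        rw [smul_eq_mul, TrivSqZeroExt.snd_mul, hx.1, map_add, map_smul, hx.2, smul_zero, zero_add,
          MulOpposite.op_zero, zero_smul, map_zero]⟩ }
  have hJ : J ^ 2 = ⊥ := by
    rw [pow_two, eq_bot_iff, Ideal.mul_le]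
    intro x hx y hy
    rw [Submodule.mem_bot]
    ext
    · rw [TrivSqZeroExt.fst_mul, hx.1, zero_mul, TrivSqZeroExt.fst_zero]
    · rw [TrivSqZeroExt.snd_mul, hx.1, hy.1, MulOpposite.op_zero, zero_smul, zero_smul, add_zero, TrivSqZeroExt.snd_zero]
  choose σ hσ using hφ
  let U : B → E ⧸ J := fun b => Ideal.Quotient.mk J (TrivSqZeroExt.inl (Ideal.Quotient.mk 𝔄 b) + TrivSqZeroExt.inr (σ (D b)))
  have hU : ∀ (b : B) (x : E), x.fst = Ideal.Quotient.mk 𝔄 b → φ x.snd = D b → U b = Ideal.Quotient.mk J x := by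
    intro b x h1 h2
    refine (Ideal.Quotient.mk_eq_mk_iff_sub_mem _ _).2 ⟨?_, ?_⟩
    · rw [TrivSqZeroExt.fst_sub, TrivSqZeroExt.fst_add, TrivSqZeroExt.fst_inl, TrivSqZeroExt.fst_inr, h1, add_zero, sub_self]
    · rw [TrivSqZeroExt.snd_sub, TrivSqZeroExt.snd_add, TrivSqZeroExt.snd_inl, TrivSqZeroExt.snd_inr, zero_add, map_sub,
        h2, hσ, sub_self]
  have hfst : ∀ b, (TrivSqZeroExt.inl (Ideal.Quotient.mk 𝔄 b) + TrivSqZeroExt.inr (σ (D b)) : E).fst = Ideal.Quotient.mk 𝔄 b :=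
    fun b => by rw [TrivSqZeroExt.fst_add, TrivSqZeroExt.fst_inl, TrivSqZeroExt.fst_inr, add_zero]
  have hsnd : ∀ b, φ (TrivSqZeroExt.inl (Ideal.Quotient.mk 𝔄 b) + TrivSqZeroExt.inr (σ (D b)) : E).snd = D b :=
    fun b => by rw [TrivSqZeroExt.snd_add, TrivSqZeroExt.snd_inl, TrivSqZeroExt.snd_inr, zero_add, hσ]
  let u : B →+* E ⧸ J :=
    { toFun := U
      map_one' := by rw [hU 1 1 (by simp) (by simp), map_one]
      map_mul' := fun a b => by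
        rw [hU (a * b) ((TrivSqZeroExt.inl (Ideal.Quotient.mk 𝔄 a) + TrivSqZeroExt.inr (σ (D a))) *
          (TrivSqZeroExt.inl (Ideal.Quotient.mk 𝔄 b) + TrivSqZeroExt.inr (σ (D b))))
          (by rw [TrivSqZeroExt.fst_mul, hfst, hfst, map_mul]) (by
            rw [TrivSqZeroExt.snd_mul, hfst, hfst, op_smul_eq_smul, map_add, map_smul, map_smul, hsnd, hsnd,
              Derivation.leibniz]
            exact congrArg₂ (· + ·) (algebraMap_smul (B ⧸ 𝔄) a (D b)) (algebraMap_smul (B ⧸ 𝔄) b (D a))), map_mul]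
      map_zero' := by rw [hU 0 0 (by simp) (by simp), map_zero]
      map_add' := fun a b => by
        rw [hU (a + b) ((TrivSqZeroExt.inl (Ideal.Quotient.mk 𝔄 a) + TrivSqZeroExt.inr (σ (D a))) +
          (TrivSqZeroExt.inl (Ideal.Quotient.mk 𝔄 b) + TrivSqZeroExt.inr (σ (D b))))
          (by rw [TrivSqZeroExt.fst_add, hfst, hfst, map_add])
          (by rw [TrivSqZeroExt.snd_add, map_add, hsnd, hsnd, map_add]), map_add] }
  have hualg : ∀ a : A, u (algebraMap A B a) = algebraMap A (E ⧸ J) a := fun a => by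
    change U _ = _
    rw [hU (algebraMap A B a) (algebraMap A E a) rfl (by rw [Derivation.map_algebraMap]; exact map_zero φ)]
    rfl
  let uₐ : B →ₐ[A] E ⧸ J := { toRingHom := u, commutes' := hualg }
  obtain ⟨n, hn⟩ := h𝔄
  obtain ⟨c, hc⟩ := hAB
  have hD : ∀ x ∈ 𝔄 * 𝔄, D x = 0 := fun x hx => by
    refine Submodule.mul_induction_on hx (fun a ha b hb => ?_) (fun a b ha hb => by rw [map_add, ha, hb, add_zero])
    rw [Derivation.leibniz, ← algebraMap_smul (B ⧸ 𝔄) a (D b), ← algebraMap_smul (B ⧸ 𝔄) b (D a)]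
    rw [show algebraMap B (B ⧸ 𝔄) a = 0 from Ideal.Quotient.eq_zero_iff_mem.2 ha,
      show algebraMap B (B ⧸ 𝔄) b = 0 from Ideal.Quotient.eq_zero_iff_mem.2 hb, zero_smul, zero_smul, add_zero]
  obtain ⟨v, hv⟩ := h E J ⟨2, hJ⟩ ⟨c * n, by
    rw [eq_bot_iff, Ideal.map_le_iff_le_comap]
    intro a ha
    rw [Ideal.mem_comap, Submodule.mem_bot]
    change (TrivSqZeroExt.inlHom (B ⧸ 𝔄) P) (algebraMap A (B ⧸ 𝔄) a) = 0
    rw [IsScalarTower.algebraMap_apply A B (B ⧸ 𝔄)]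
    rw [show algebraMap B (B ⧸ 𝔄) (algebraMap A B a) = 0 from Ideal.Quotient.eq_zero_iff_mem.2 (hn (by
      refine Ideal.pow_right_mono hc n ?_
      rw [← Ideal.map_pow, ← pow_mul]
      exact Ideal.mem_map_of_mem _ ha)), map_zero]⟩ uₐ ⟨n + n, fun x hx => by
    change U x = 0
    rw [pow_add] at hx
    have hx𝔄 : x ∈ 𝔄 * 𝔄 := Ideal.mul_mono hn hn hx
    rw [hU x 0 (by
      rw [TrivSqZeroExt.fst_zero]
      exact (Ideal.Quotient.eq_zero_iff_mem.2 (Ideal.mul_le_left hx𝔄)).symm)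
      (by rw [TrivSqZeroExt.snd_zero, map_zero, hD x hx𝔄]), map_zero]⟩
  have hv' : ∀ b, (v b).fst = Ideal.Quotient.mk 𝔄 b ∧ φ (v b).snd = D b := fun b => by
    have h1 : Ideal.Quotient.mk J (v b) = U b := DFunLike.congr_fun hv b
    have h2 := (Ideal.Quotient.mk_eq_mk_iff_sub_mem _ _).1 h1
    refine ⟨?_, ?_⟩
    · have h3 := h2.1
      rwa [TrivSqZeroExt.fst_sub, hfst, sub_eq_zero] at h3
    · have h3 := h2.2
      rwa [TrivSqZeroExt.snd_sub, map_sub, hsnd, sub_eq_zero] at h3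
  refine ⟨Derivation.mk'
    { toFun := fun b => (v b).snd
      map_add' := fun a b => by rw [map_add, TrivSqZeroExt.snd_add]
      map_smul' := fun a b => by rw [map_smul, TrivSqZeroExt.snd_smul]; rfl }
    (fun a b => ?_), fun b => (hv' b).2⟩
  change (v (a * b)).snd = a • (v b).snd + b • (v a).snd
  rw [map_mul, TrivSqZeroExt.snd_mul, (hv' a).1, (hv' b).1, op_smul_eq_smul]
  exact congrArg₂ (· + ·) (algebraMap_smul (B ⧸ 𝔄) a _) (algebraMap_smul (B ⧸ 𝔄) b _)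

/-- The differentials modulo an open ideal form a projective module. -/
theorem projective_kaehler_mod {𝔞 : Ideal A} {𝔟 : Ideal B} (hAB : ∃ k : ℕ, (𝔞 ^ k).map (algebraMap A B) ≤ 𝔟)
    (h : EGA41.IsFormallySmoothAdic A 𝔞 B 𝔟) (𝔄 : Ideal B) (h𝔄 : ∃ n : ℕ, 𝔟 ^ n ≤ 𝔄) :
    Module.Projective (B ⧸ 𝔄) ((B ⧸ 𝔄) ⊗[B] Ω[B⁄A]) := by
  refine Module.Projective.of_lifting_property (fun {P Q} _ _ _ _ φ g hφ => ?_)
  letI : Module B P := Module.compHom P (Ideal.Quotient.mk 𝔄)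
  haveI : IsScalarTower B (B ⧸ 𝔄) P := .of_algebraMap_smul fun _ _ => rfl
  letI : Module A P := Module.compHom P (algebraMap A B)
  haveI : IsScalarTower A B P := .of_algebraMap_smul fun _ _ => rfl
  letI : Module B Q := Module.compHom Q (Ideal.Quotient.mk 𝔄)
  haveI : IsScalarTower B (B ⧸ 𝔄) Q := .of_algebraMap_smul fun _ _ => rfl
  letI : Module A Q := Module.compHom Q (algebraMap A B)
  haveI : IsScalarTower A B Q := .of_algebraMap_smul fun _ _ => rfl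
  let g' : Ω[B⁄A] →ₗ[B] Q := (g.restrictScalars B) ∘ₗ TensorProduct.mk B (B ⧸ 𝔄) Ω[B⁄A] 1
  obtain ⟨D', hD'⟩ := exists_derivation_lift hAB h 𝔄 h𝔄 φ hφ (g'.compDer (KaehlerDifferential.D A B))
  refine ⟨D'.liftKaehlerDifferential.liftBaseChange (B ⧸ 𝔄), LinearMap.ext fun z => ?_⟩
  induction z with
  | zero => simp
  | add x y hx hy => simp only [map_add, hx, hy]
  | tmul r ω =>
    have hω : ω ∈ Submodule.span B (Set.range (KaehlerDifferential.D A B)) := by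
      rw [KaehlerDifferential.span_range_derivation]; trivial
    induction hω using Submodule.span_induction generalizing r with
    | mem y hy =>
      obtain ⟨b, rfl⟩ := hy
      rw [LinearMap.comp_apply, LinearMap.liftBaseChange_tmul, Derivation.liftKaehlerDifferential_comp_D, map_smul, hD']
      change r • g ((1 : B ⧸ 𝔄) ⊗ₜ[B] KaehlerDifferential.D A B b) = _
      rw [← map_smul, TensorProduct.smul_tmul', smul_eq_mul, mul_one]
    | zero => simp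
    | add y y' _ _ hy hy' => simp only [TensorProduct.tmul_add, map_add, hy r, hy' r]
    | smul b y _ hy => rw [← TensorProduct.smul_tmul]; exact hy (b • r)

end Groth.Agent.EGA41Lib
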