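import Mathlib
import Groth.Prelude.Def_CAlgX
import Groth.Agent.EGA41Lib.AdicBridge

/-!
# Adic formal smoothness of a quotient of an adically smooth Noetherian algebra

The derivation form of the Jacobian criterion (EGA 0, 22.6.1): with `Qb` an ideal of definition of the
quotient, `B ⧸ J` is formally smooth iff some derivation `B → J ⧸ Qb J` extends the canonical map.
-/

set_option autoImplicit false

universe u

open TensorProduct

namespace Groth.Agent.EGA41Lib.SplitJac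

variable {A B : Type u} [CommRing A] [CommRing B] [Algebra A B]

theorem exists_derivation_of_sqZero {T : Type u} [CommRing T] [Algebra A T] {M : Ideal T} (hM : M ^ 2 = ⊥)
    {J Qb : Ideal B} (q v : B →ₐ[A] T) (hqv : ∀ y, q y - v y ∈ M) (hv : ∀ x ∈ J, v x = 0)
    (hsurj : ∀ z ∈ M, ∃ x : J, q x = z) (hker : ∀ x : J, q x = 0 → x ∈ Qb • (⊤ : Submodule B J)) :
    ∃ d : Derivation A B (J ⧸ Qb • (⊤ : Submodule B J)), ∀ x : J, d x = Submodule.Quotient.mk x := by
  choose s hs using fun y => hsurj _ (hqv y)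
  have key : ∀ (y : B) (x : J), q x = q y - v y →
      Submodule.Quotient.mk (p := Qb • (⊤ : Submodule B J)) (s y) = Submodule.Quotient.mk x := fun y x hx => by
    rw [Submodule.Quotient.eq]
    exact hker _ (by rw [Submodule.coe_sub, map_sub, hs, hx, sub_self])
  refine ⟨Derivation.mk'
    { toFun := fun y => Submodule.Quotient.mk (s y)
      map_add' := fun x y => by
        rw [← Submodule.Quotient.mk_add]
        exact key _ _ (by rw [Submodule.coe_add, map_add, hs, hs, map_add, map_add]; ring)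
      map_smul' := fun a y => by
        rw [RingHom.id_apply, ← Submodule.Quotient.mk_smul]
        exact key _ _ (by rw [Submodule.coe_smul_of_tower, map_smul, hs, map_smul, map_smul, smul_sub]) }
    fun x y => ?_, fun x => key _ x (by rw [hv _ x.2, sub_zero])⟩
  show Submodule.Quotient.mk (s (x * y)) = x • Submodule.Quotient.mk (s y) + y • Submodule.Quotient.mk (s x)
  rw [← Submodule.Quotient.mk_smul, ← Submodule.Quotient.mk_smul, ← Submodule.Quotient.mk_add]
  refine key _ _ ?_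
  have h0 : (q x - v x) * (q y - v y) = 0 := by
    have := Ideal.mul_mem_mul (hqv x) (hqv y)
    rwa [← sq, hM, Ideal.mem_bot] at this
  rw [Submodule.coe_add, Submodule.coe_smul, Submodule.coe_smul, smul_eq_mul, smul_eq_mul, map_add, map_mul, map_mul,
    hs, hs, map_mul, map_mul]
  linear_combination h0

theorem exists_derivation_of_adicSmooth [IsNoetherianRing B] {I J Qb : Ideal B} (hJQ : J ≤ Qb) {n : ℕ}
    (hIQ : I ^ n ≤ Qb) (hC : CAlgX.IsAdicFormallySmooth A (B ⧸ J) (I.map (Ideal.Quotient.mk J))) :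
    ∃ d : Derivation A B (J ⧸ Qb • (⊤ : Submodule B J)), ∀ x : J, d x = Submodule.Quotient.mk x := by
  obtain ⟨k, hk⟩ := Ideal.exists_pow_inf_eq_pow_smul (M := B) I J
  let N := k + n
  have hAR : I ^ N ⊓ J ≤ Qb * J := by
    have h1 := hk N (Nat.le_add_right k n)
    simp only [smul_eq_mul, Ideal.mul_top] at h1
    rw [h1, show N - k = n from Nat.add_sub_cancel_left k n]
    exact Ideal.mul_mono hIQ inf_le_right
  let S := Qb * J ⊔ I ^ N
  let M : Ideal (B ⧸ S) := J.map (Ideal.Quotient.mk S)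
  have hM : M ^ 2 = ⊥ := by
    rw [sq, ← Ideal.map_mul, eq_bot_iff, Ideal.map_le_iff_le_comap]
    intro x hx
    rw [Ideal.mem_comap, Ideal.mem_bot, Ideal.Quotient.eq_zero_iff_mem]
    exact Ideal.mem_sup_left (Ideal.mul_mono_left hJQ hx)
  let q : B →ₐ[A] B ⧸ S := Ideal.Quotient.mkₐ A S
  let qM : B →ₐ[A] (B ⧸ S) ⧸ M := (Ideal.Quotient.mkₐ A M).comp q
  let ψ : B ⧸ J →ₐ[A] (B ⧸ S) ⧸ M := Ideal.Quotient.liftₐ J qM fun x hx =>
    Ideal.Quotient.eq_zero_iff_mem.2 (Ideal.mem_map_of_mem _ hx)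
  obtain ⟨χ, hχ⟩ := hC (B ⧸ S) M hM ψ ⟨N, fun x hx => by
    rw [← Ideal.map_pow, Ideal.mem_map_iff_of_surjective _ Ideal.Quotient.mk_surjective] at hx
    obtain ⟨y, hy, rfl⟩ := hx
    show Ideal.Quotient.mk M (Ideal.Quotient.mk S y) = 0
    rw [Ideal.Quotient.eq_zero_iff_mem.2 (Ideal.mem_sup_right hy : y ∈ S), map_zero]⟩
  refine exists_derivation_of_sqZero hM q (χ.comp (Ideal.Quotient.mkₐ A J)) (fun y => ?_) (fun x hx => ?_)
    (fun z hz => ?_) (fun x hx => ?_)
  · refine Ideal.Quotient.eq.1 ?_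
    exact (AlgHom.congr_fun hχ (Ideal.Quotient.mk J y)).symm
  · show χ (Ideal.Quotient.mk J x) = 0
    rw [Ideal.Quotient.eq_zero_iff_mem.2 hx, map_zero]
  · obtain ⟨x, hx, rfl⟩ := (Ideal.mem_map_iff_of_surjective _ Ideal.Quotient.mk_surjective).1 hz
    exact ⟨⟨x, hx⟩, rfl⟩
  · have h1 : (x : B) ∈ S := Ideal.Quotient.eq_zero_iff_mem.1 hx
    obtain ⟨a, ha, b, hb, hab⟩ := Submodule.mem_sup.1 h1
    have h2 : (x : B) ∈ Qb * J := by
      rw [← hab]
      refine add_mem ha (hAR ⟨hb, ?_⟩)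
      show b ∈ J
      rw [show b = (x : B) - a by rw [← hab]; ring]
      exact J.sub_mem x.2 (Ideal.mul_le_inf ha).2
    obtain ⟨h3, h4⟩ : ∃ h : (x : B) ∈ J, (⟨x, h⟩ : J) ∈ Qb • (⊤ : Submodule B J) := by
      refine Submodule.mul_induction_on h2 (fun a ha b hb => ?_) fun a b ⟨ha, ha'⟩ ⟨hb, hb'⟩ => ?_
      · exact ⟨J.mul_mem_left _ hb, Submodule.smul_mem_smul ha (Submodule.mem_top (x := (⟨b, hb⟩ : J)))⟩
      · exact ⟨J.add_mem ha hb, add_mem ha' hb'⟩
    exact h4

theorem top_le_range_sup_pow {R : Type u} [CommRing R] {N : Type u} [AddCommGroup N] [Module R N] (e : N →ₗ[R] N)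
    (Q : Ideal R) (h : ∀ z, e z - z ∈ Q • (⊤ : Submodule R N)) (i : ℕ) :
    (⊤ : Submodule R N) ≤ LinearMap.range e ⊔ Q ^ i • ⊤ := by
  have h1 : (⊤ : Submodule R N) ≤ LinearMap.range e ⊔ Q • ⊤ := fun z _ => by
    rw [show z = e z - (e z - z) by abel]
    exact Submodule.sub_mem _ (Submodule.mem_sup_left ⟨z, rfl⟩) (Submodule.mem_sup_right (h z))
  induction i with
  | zero => rw [pow_zero, one_smul]; exact le_sup_right
  | succ i ih =>
    refine ih.trans (sup_le le_sup_left ?_)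
    calc Q ^ i • (⊤ : Submodule R N) ≤ Q ^ i • (LinearMap.range e ⊔ Q • ⊤) := Submodule.smul_mono le_rfl h1
      _ = Q ^ i • LinearMap.range e ⊔ Q ^ (i + 1) • ⊤ := by rw [Submodule.smul_sup, ← Submodule.mul_smul, ← pow_succ]
      _ ≤ LinearMap.range e ⊔ Q ^ (i + 1) • ⊤ := sup_le_sup_right Submodule.smul_le_right _

theorem exists_derivation_pow [IsNoetherianRing B] {I J Qb : Ideal B} (hB : CAlgX.IsAdicFormallySmooth A B I)
    {n : ℕ} (hIQ : I ^ n ≤ Qb)
    (d₀ : Derivation A B (J ⧸ Qb • (⊤ : Submodule B J))) (hd₀ : ∀ x : J, d₀ x = Submodule.Quotient.mk x)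
    (R : Ideal B) (hJR : J ≤ R) (hRQ : R ≤ Qb) {i : ℕ} (hQR : Qb ^ i ≤ R) :
    ∃ d : Derivation A B (J ⧸ R • (⊤ : Submodule B J)), ∀ x : J, d x = Submodule.Quotient.mk x := by
  let N := J ⧸ R • (⊤ : Submodule B J)
  let N₀ := J ⧸ Qb • (⊤ : Submodule B J)
  have htors : Module.IsTorsionBySet B N₀ (R : Set B) := fun x a => by
    obtain ⟨x, rfl⟩ := Submodule.Quotient.mk_surjective _ x
    show (a : B) • Submodule.Quotient.mk x = 0
    rw [← Submodule.Quotient.mk_smul, Submodule.Quotient.mk_eq_zero]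
    exact Submodule.smul_mem_smul (hRQ a.2) Submodule.mem_top
  letI : Module (B ⧸ R) N₀ := htors.module
  haveI : IsScalarTower B (B ⧸ R) N₀ := htors.isScalarTower
  let φ0 : N →ₗ[B] N₀ := Submodule.factor (Submodule.smul_mono hRQ le_rfl)
  let φ : N →ₗ[B ⧸ R] N₀ :=
    { toFun := φ0
      map_add' := φ0.map_add
      map_smul' := fun r z => by
        obtain ⟨b, rfl⟩ := Ideal.Quotient.mk_surjective r
        exact φ0.map_smul b z }
  have hφ : Function.Surjective φ := fun z => by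
    obtain ⟨x, rfl⟩ := Submodule.Quotient.mk_surjective _ z
    exact ⟨Submodule.Quotient.mk x, rfl⟩
  obtain ⟨d, hd⟩ := exists_derivation_lift (A := A) (B := B) (𝔞 := ⊥) (𝔟 := I) ⟨1, by simp⟩
    ((isFormallySmoothAdic_iff ⟨1, by simp⟩).2 hB) R ⟨n * i, by
      rw [pow_mul]; exact (Ideal.pow_right_mono hIQ i).trans hQR⟩ φ hφ d₀
  have hkill : ∀ a ∈ R, ∀ z : N, a • z = 0 := fun a ha z => by
    obtain ⟨z, rfl⟩ := Submodule.Quotient.mk_surjective _ z
    rw [← Submodule.Quotient.mk_smul, Submodule.Quotient.mk_eq_zero]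
    exact Submodule.smul_mem_smul ha Submodule.mem_top
  let e0 : J →ₗ[B] N :=
    { toFun := fun x => d x
      map_add' := fun x y => by rw [Submodule.coe_add, map_add]
      map_smul' := fun b x => by
        rw [Submodule.coe_smul, smul_eq_mul, d.leibniz, hkill _ (hJR x.2) (d b), add_zero, RingHom.id_apply] }
  let e : N →ₗ[B] N := Submodule.liftQ _ e0 (Submodule.smul_le.2 fun a ha x _ => by
    rw [LinearMap.mem_ker, map_smul, hkill a ha])
  have he : ∀ z, e z - z ∈ Qb • (⊤ : Submodule B N) := fun z => by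
    obtain ⟨x, rfl⟩ := Submodule.Quotient.mk_surjective _ z
    obtain ⟨w, hw⟩ := Submodule.Quotient.mk_surjective _ (d (x : B) - Submodule.Quotient.mk x)
    have h1 : φ0 (d (x : B) - Submodule.Quotient.mk x) = 0 := by
      rw [map_sub, show φ0 (d (x : B)) = d₀ (x : B) from hd _, hd₀]
      exact sub_self _
    rw [← hw] at h1
    have h2 : w ∈ Qb • (⊤ : Submodule B J) := (Submodule.Quotient.mk_eq_zero _).1 h1
    show d (x : B) - Submodule.Quotient.mk x ∈ _
    rw [← hw]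
    have h3 := Submodule.mem_map_of_mem (f := (R • (⊤ : Submodule B J)).mkQ) h2
    rw [Submodule.map_smul''] at h3
    exact Submodule.smul_mono le_rfl le_top h3
  have hsurj : Function.Surjective e := LinearMap.range_eq_top.1 (eq_top_iff.2
    ((top_le_range_sup_pow e Qb he i).trans (sup_le le_rfl (Submodule.smul_le.2 fun a ha z _ => by
      rw [hkill a (hQR ha) z]; exact zero_mem _))))
  let e' := LinearEquiv.ofBijective e ⟨OrzechProperty.injective_of_surjective_endomorphism e hsurj, hsurj⟩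
  refine ⟨e'.symm.toLinearMap.compDer d, fun x => ?_⟩
  show e'.symm (d (x : B)) = _
  rw [LinearEquiv.symm_apply_eq]
  rfl

theorem adicSmooth_of_exists_derivation [IsNoetherianRing B] {I J Qb : Ideal B}
    (hB : CAlgX.IsAdicFormallySmooth A B I) (hJQ : J ≤ Qb) {n m : ℕ} (hIQ : I ^ n ≤ Qb) (hQI : Qb ^ m ≤ I ⊔ J)
    (d₀ : Derivation A B (J ⧸ Qb • (⊤ : Submodule B J))) (hd₀ : ∀ x : J, d₀ x = Submodule.Quotient.mk x) :
    CAlgX.IsAdicFormallySmooth A (B ⧸ J) (I.map (Ideal.Quotient.mk J)) := by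
  intro T _ _ M hM ψ ⟨k, hk⟩
  obtain ⟨v, hv⟩ := hB T M hM (ψ.comp (Ideal.Quotient.mkₐ A J)) ⟨k, fun x hx => by
    show ψ (Ideal.Quotient.mk J x) = 0
    exact hk _ (by rw [← Ideal.map_pow]; exact Ideal.mem_map_of_mem _ hx)⟩
  have hv' : ∀ y, Ideal.Quotient.mk M (v y) = ψ (Ideal.Quotient.mk J y) := AlgHom.congr_fun hv
  have hvJ : ∀ x ∈ J, v x ∈ M := fun x hx => by
    rw [← Ideal.Quotient.eq_zero_iff_mem, hv', Ideal.Quotient.eq_zero_iff_mem.2 hx, map_zero]
  let R := J ⊔ Qb ^ (m * k + 1)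
  have hvR : ∀ x ∈ R, v x ∈ M := fun x hx => by
    rw [← Ideal.Quotient.eq_zero_iff_mem, hv']
    refine hk _ ?_
    have h1 : R.map (Ideal.Quotient.mk J) ≤ (I.map (Ideal.Quotient.mk J)) ^ k := by
      rw [Ideal.map_sup, Ideal.map_quotient_self, bot_sup_eq]
      calc (Qb ^ (m * k + 1)).map (Ideal.Quotient.mk J) ≤ ((I ⊔ J) ^ k).map (Ideal.Quotient.mk J) :=
            Ideal.map_mono ((Ideal.pow_le_pow_right (Nat.le_succ _)).trans
              ((pow_mul Qb m k).le.trans (Ideal.pow_right_mono hQI k)))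
        _ = (I.map (Ideal.Quotient.mk J)) ^ k := by
            rw [Ideal.map_pow, Ideal.map_sup, Ideal.map_quotient_self, sup_bot_eq]
    exact h1 (Ideal.mem_map_of_mem _ hx)
  obtain ⟨d, hd⟩ := exists_derivation_pow hB hIQ d₀ hd₀ R le_sup_left
    (sup_le hJQ (Ideal.pow_le_self (Nat.succ_ne_zero _))) (i := m * k + 1) le_sup_right
  have hMM : ∀ a ∈ M, ∀ b ∈ M, a * b = 0 := fun a ha b hb => by
    have := Ideal.mul_mem_mul ha hb
    rwa [← sq, hM, Ideal.mem_bot] at this
  letI : Algebra B T := v.toRingHom.toAlgebra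
  haveI : IsScalarTower A B T := IsScalarTower.of_algebraMap_eq fun a => (v.commutes a).symm
  let h : (J ⧸ R • (⊤ : Submodule B J)) →ₗ[B] T := Submodule.liftQ _
    ((Algebra.linearMap B T).comp J.subtype) (Submodule.smul_le.2 fun a ha x _ => by
      rw [LinearMap.mem_ker]
      show v ((a • x : J) : B) = 0
      rw [Submodule.coe_smul, smul_eq_mul, map_mul]
      exact hMM _ (hvR a ha) _ (hvJ _ x.2))
  have hh : ∀ z, h z ∈ M := fun z => by
    obtain ⟨x, rfl⟩ := Submodule.Quotient.mk_surjective _ z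
    exact hvJ _ x.2
  let χ₀ : B →ₐ[A] T := AlgHom.ofLinearMap (v.toLinearMap - (h.restrictScalars A) ∘ₗ (d : B →ₗ[A] _))
    (by show v 1 - h (d 1) = 1; rw [map_one, d.map_one_eq_zero, map_zero, sub_zero])
    fun x y => by
      show v (x * y) - h (d (x * y)) = (v x - h (d x)) * (v y - h (d y))
      rw [d.leibniz, map_add, map_smul, map_smul, map_mul]
      show v x * v y - (v x * h (d y) + v y * h (d x)) = _
      linear_combination - hMM _ (hh (d x)) _ (hh (d y))
  refine ⟨Ideal.Quotient.liftₐ J χ₀ fun x hx => ?_, ?_⟩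
  · show v x - h (d x) = 0
    rw [show d x = Submodule.Quotient.mk (⟨x, hx⟩ : J) from hd ⟨x, hx⟩]
    exact sub_self _
  · refine AlgHom.ext fun z => ?_
    obtain ⟨y, rfl⟩ := Ideal.Quotient.mk_surjective z
    show Ideal.Quotient.mk M (v y - h (d y)) = _
    rw [map_sub, hv', Ideal.Quotient.eq_zero_iff_mem.2 (hh _), sub_zero]

variable {C : Type u} [CommRing C] [Algebra B C] [Algebra A C] [IsScalarTower A B C]

theorem exists_derivation_iff_leftInverse (Q : Ideal C) (Qb : Ideal B)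
    (hQb : ∀ x, x ∈ Qb ↔ algebraMap B C x ∈ Q) (hKQ : RingHom.ker (algebraMap B C) ≤ Qb)
    (hs : Function.Surjective (algebraMap B C)) :
    (∃ d : Derivation A B (RingHom.ker (algebraMap B C) ⧸ Qb • (⊤ : Submodule B (RingHom.ker (algebraMap B C)))),
      ∀ x : RingHom.ker (algebraMap B C), d x = Submodule.Quotient.mk x) ↔
      ∃ g : (C ⧸ Q) ⊗[B] (C ⊗[B] Ω[B⁄A]) →ₗ[C ⧸ Q] (C ⧸ Q) ⊗[B] (RingHom.ker (algebraMap B C)).Cotangent,
        g ∘ₗ LinearMap.baseChange (C ⧸ Q) (KaehlerDifferential.kerCotangentToTensor A B C) = LinearMap.id := by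
  let K := RingHom.ker (algebraMap B C)
  let π0 : (K ⧸ Qb • (⊤ : Submodule B K)) →ₗ[B] (C ⧸ Q) ⊗[B] K.Cotangent := Submodule.liftQ _
    ((TensorProduct.mk B (C ⧸ Q) K.Cotangent 1).comp K.toCotangent) (Submodule.smul_le.2 fun a ha x _ => by
      rw [LinearMap.mem_ker, map_smul, LinearMap.comp_apply, TensorProduct.mk_apply, TensorProduct.smul_tmul',
        Algebra.smul_def, mul_one, IsScalarTower.algebraMap_apply B C (C ⧸ Q), Ideal.Quotient.algebraMap_eq,
        Ideal.Quotient.eq_zero_iff_mem.2 ((hQb a).1 ha), TensorProduct.zero_tmul])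
  constructor
  · rintro ⟨d, hd⟩
    let L : Ω[B⁄A] →ₗ[B] (C ⧸ Q) ⊗[B] K.Cotangent := π0 ∘ₗ d.liftKaehlerDifferential
    refine ⟨LinearMap.liftBaseChange (C ⧸ Q) ((LinearMap.liftBaseChange C L).restrictScalars B), ?_⟩
    refine TensorProduct.AlgebraTensorModule.curry_injective (LinearMap.ext_ring (LinearMap.ext fun z => ?_))
    obtain ⟨x, rfl⟩ := K.toCotangent_surjective z
    show LinearMap.liftBaseChange (C ⧸ Q) ((LinearMap.liftBaseChange C L).restrictScalars B)
      ((1 : C ⧸ Q) ⊗ₜ[B] KaehlerDifferential.kerCotangentToTensor A B C (K.toCotangent x)) = (1 : C ⧸ Q) ⊗ₜ[B] K.toCotangent x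
    rw [KaehlerDifferential.kerCotangentToTensor_toCotangent, LinearMap.liftBaseChange_tmul, one_smul,
      LinearMap.restrictScalars_apply, LinearMap.liftBaseChange_tmul, one_smul, LinearMap.comp_apply,
      Derivation.liftKaehlerDifferential_comp_D, hd]
    rfl
  · rintro ⟨g, hg⟩
    let e : (C ⧸ Q) ≃ₗ[B] (B ⧸ Qb) := ((Submodule.quotEquivOfEq _ _ (by
        ext x
        rw [LinearMap.mem_ker, Algebra.linearMap_apply, IsScalarTower.algebraMap_apply B C (C ⧸ Q),
          Ideal.Quotient.algebraMap_eq, Ideal.Quotient.eq_zero_iff_mem]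
        exact (hQb x))).trans ((Algebra.linearMap B (C ⧸ Q)).quotKerEquivOfSurjective (by
          intro z
          obtain ⟨c, rfl⟩ := Ideal.Quotient.mk_surjective z
          obtain ⟨b, rfl⟩ := hs c
          exact ⟨b, (IsScalarTower.algebraMap_apply B C (C ⧸ Q) b)⟩))).symm
    have he : e 1 = Submodule.Quotient.mk 1 := by
      rw [LinearEquiv.symm_apply_eq]
      exact (map_one (algebraMap B (C ⧸ Q))).symm
    let c2 : (K.Cotangent ⧸ Qb • (⊤ : Submodule B K.Cotangent)) →ₗ[B] K ⧸ Qb • (⊤ : Submodule B K) :=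
      Submodule.liftQ _ (Submodule.liftQ (K • (⊤ : Submodule B K)) (Qb • (⊤ : Submodule B K)).mkQ (by
        rw [Submodule.ker_mkQ]; exact Submodule.smul_mono hKQ le_rfl)) (Submodule.smul_le.2 fun a ha z _ => by
        obtain ⟨x, rfl⟩ := K.toCotangent_surjective z
        rw [LinearMap.mem_ker, map_smul]
        show a • Submodule.Quotient.mk x = 0
        rw [← Submodule.Quotient.mk_smul, Submodule.Quotient.mk_eq_zero]
        exact Submodule.smul_mem_smul ha Submodule.mem_top)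
    let φ : (C ⧸ Q) ⊗[B] K.Cotangent →ₗ[B] K ⧸ Qb • (⊤ : Submodule B K) :=
      c2 ∘ₗ (TensorProduct.congr e (LinearEquiv.refl B K.Cotangent) ≪≫ₗ
        TensorProduct.quotTensorEquivQuotSMul K.Cotangent Qb).toLinearMap
    have hφ : ∀ x : K, φ ((1 : C ⧸ Q) ⊗ₜ[B] K.toCotangent x) = Submodule.Quotient.mk x := fun x => by
      show c2 (TensorProduct.quotTensorEquivQuotSMul K.Cotangent Qb (e 1 ⊗ₜ[B] K.toCotangent x)) = _
      rw [he]
      erw [TensorProduct.quotTensorEquivQuotSMul_mk_tmul]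
      rw [one_smul]
    let L : Ω[B⁄A] →ₗ[B] K ⧸ Qb • (⊤ : Submodule B K) :=
      φ ∘ₗ g.restrictScalars B ∘ₗ (TensorProduct.mk B (C ⧸ Q) _ 1) ∘ₗ (TensorProduct.mk B C Ω[B⁄A] 1)
    refine ⟨L.compDer (KaehlerDifferential.D A B), fun x => ?_⟩
    have h1 := LinearMap.congr_fun hg ((1 : C ⧸ Q) ⊗ₜ[B] K.toCotangent x)
    rw [LinearMap.comp_apply, LinearMap.baseChange_tmul, KaehlerDifferential.kerCotangentToTensor_toCotangent,
      LinearMap.id_apply] at h1
    show φ (g ((1 : C ⧸ Q) ⊗ₜ[B] ((1 : C) ⊗ₜ[B] KaehlerDifferential.D A B x))) = _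
    rw [h1, hφ]

end Groth.Agent.EGA41Lib.SplitJac
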