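import Groth.Prelude.Def_EGA41
import Mathlib.RingTheory.Flat.Basic
import Mathlib.RingTheory.Kaehler.Basic
import Mathlib.LinearAlgebra.Dimension.Constructions

/-!
# Kernels of the comparison of differentials over two subfields

EGA 0, 20.6.21 ff.
-/

set_option autoImplicit false

universe u u' w

open TensorProduct

namespace Groth.Agent.EGA41Lib

variable {R : Type u} {S : Type u'} {K L : Type w} [CommRing R] [CommRing S] [CommRing K] [CommRing L]
  [Algebra R S] [Algebra R K] [Algebra S K] [IsScalarTower R S K] [Algebra K L] [Algebra R L] [Algebra S L]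
  [IsScalarTower R K L] [IsScalarTower S K L] [IsScalarTower R S L]

variable (R S K L) in
/-- The span in `L ⊗_K Ω_{K/R}` of the differentials of the elements of `S`. -/
noncomputable def dSpan : Submodule L (L ⊗[K] Ω[K⁄R]) :=
  Submodule.span L (Set.range fun a : S => (1 : L) ⊗ₜ[K] KaehlerDifferential.D R K (algebraMap S K a))

omit [Algebra R L] [Algebra S L] [IsScalarTower R K L] [IsScalarTower S K L] [IsScalarTower R S L] in
theorem baseChange_map_eq_zero_of_mem_dSpan {z : L ⊗[K] Ω[K⁄R]} (hz : z ∈ dSpan R S K L) :
    (KaehlerDifferential.map R S K K).baseChange L z = 0 := by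
  induction hz using Submodule.span_induction with
  | mem x hx =>
    obtain ⟨a, rfl⟩ := hx
    rw [LinearMap.baseChange_tmul, KaehlerDifferential.map_D, Algebra.algebraMap_self, RingHom.id_apply,
      Derivation.map_algebraMap, TensorProduct.tmul_zero]
  | zero => simp
  | add x y _ _ hx hy => rw [map_add, hx, hy, add_zero]
  | smul c x _ hx => rw [map_smul, hx, smul_zero]

omit [Algebra R L] [Algebra S L] [IsScalarTower R K L] [IsScalarTower S K L] [IsScalarTower R S L] in
theorem range_baseChange_le_dSpan (y : L ⊗[K] (K ⊗[S] Ω[S⁄R])) :
    (KaehlerDifferential.mapBaseChange R S K).baseChange L y ∈ dSpan R S K L := by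
  induction y with
  | zero => simp
  | add x y hx hy => rw [map_add]; exact Submodule.add_mem _ hx hy
  | tmul c w =>
    induction w with
    | zero => simp
    | add x y hx hy => rw [TensorProduct.tmul_add, map_add]; exact Submodule.add_mem _ hx hy
    | tmul k ω =>
      have hω : ω ∈ Submodule.span S (Set.range (KaehlerDifferential.D R S)) := by
        rw [KaehlerDifferential.span_range_derivation]; trivial
      induction hω using Submodule.span_induction generalizing k with
      | mem x hx =>
        obtain ⟨a, rfl⟩ := hx
        rw [LinearMap.baseChange_tmul, KaehlerDifferential.mapBaseChange_tmul, KaehlerDifferential.map_D,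
          ← TensorProduct.smul_tmul, show (k • c : L) = (k • c) • (1 : L) by rw [smul_eq_mul, mul_one],
          ← TensorProduct.smul_tmul']
        exact Submodule.smul_mem _ _ (Submodule.subset_span ⟨a, rfl⟩)
      | zero => simp
      | add x y _ _ hx hy =>
        rw [TensorProduct.tmul_add, TensorProduct.tmul_add, map_add]
        exact Submodule.add_mem _ (hx k) (hy k)
      | smul a x _ hx => rw [← TensorProduct.smul_tmul (R := S)]; exact hx (a • k)

omit [Algebra R L] [Algebra S L] [IsScalarTower R K L] [IsScalarTower S K L] [IsScalarTower R S L] in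
/-- The kernel of `L ⊗ Ω_{K/R} → L ⊗ Ω_{K/S}`. -/
theorem baseChange_map_eq_zero_iff (z : L ⊗[K] Ω[K⁄R]) :
    (KaehlerDifferential.map R S K K).baseChange L z = 0 ↔ z ∈ dSpan R S K L := by
  refine ⟨fun h => ?_, baseChange_map_eq_zero_of_mem_dSpan⟩
  obtain ⟨y, rfl⟩ := (lTensor_exact (R := K) L (KaehlerDifferential.exact_mapBaseChange_map R S K)
    (KaehlerDifferential.map_surjective R S K) z).1 h
  exact range_baseChange_le_dSpan y

/-- The kernel of `Ω_{L/R} → Ω_{L/S}` is hit by `dSpan`. -/
theorem exists_mem_dSpan_mapBaseChange_eq (η : Ω[L⁄R]) (hη : KaehlerDifferential.map R S L L η = 0) :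
    ∃ v ∈ dSpan R S K L, KaehlerDifferential.mapBaseChange R K L v = η := by
  obtain ⟨u, rfl⟩ := (KaehlerDifferential.exact_mapBaseChange_map R S L η).1 hη
  change KaehlerDifferential.mapBaseChange R S L u ∈
    (dSpan R S K L).map (KaehlerDifferential.mapBaseChange R K L)
  induction u with
  | zero => simp
  | add x y hx hy =>
    rw [map_add]
    exact Submodule.add_mem _ (hx (by rw [(KaehlerDifferential.exact_mapBaseChange_map R S L).apply_apply_eq_zero]))
      (hy (by rw [(KaehlerDifferential.exact_mapBaseChange_map R S L).apply_apply_eq_zero]))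
  | tmul c ω =>
    clear hη
    have hω : ω ∈ Submodule.span S (Set.range (KaehlerDifferential.D R S)) := by
      rw [KaehlerDifferential.span_range_derivation]; trivial
    induction hω using Submodule.span_induction generalizing c with
    | mem x hx =>
      obtain ⟨a, rfl⟩ := hx
      refine ⟨c • ((1 : L) ⊗ₜ[K] KaehlerDifferential.D R K (algebraMap S K a)),
        Submodule.smul_mem _ _ (Submodule.subset_span ⟨a, rfl⟩), ?_⟩
      rw [map_smul, KaehlerDifferential.mapBaseChange_tmul, KaehlerDifferential.mapBaseChange_tmul,
        KaehlerDifferential.map_D, KaehlerDifferential.map_D, one_smul, ← IsScalarTower.algebraMap_apply S K L]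
    | zero => simp
    | add x y _ _ hx hy => rw [TensorProduct.tmul_add, map_add]; exact Submodule.add_mem _ (hx c) (hy c)
    | smul a x _ hx => rw [← TensorProduct.smul_tmul]; exact hx (a • c)

/-- Compatibility of the base change maps. -/
theorem mapBaseChange_comp_baseChange_map (z : L ⊗[K] Ω[K⁄R]) :
    KaehlerDifferential.mapBaseChange S K L ((KaehlerDifferential.map R S K K).baseChange L z) =
      KaehlerDifferential.map R S L L (KaehlerDifferential.mapBaseChange R K L z) := by
  induction z with
  | zero => simp
  | add x y hx hy => rw [map_add, map_add, map_add, map_add, hx, hy]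
  | tmul c ω =>
    rw [LinearMap.baseChange_tmul, KaehlerDifferential.mapBaseChange_tmul,
      KaehlerDifferential.mapBaseChange_tmul, map_smul]
    congr 1
    have hω : ω ∈ Submodule.span K (Set.range (KaehlerDifferential.D R K)) := by
      rw [KaehlerDifferential.span_range_derivation]; trivial
    induction hω using Submodule.span_induction with
    | mem x hx =>
      obtain ⟨a, rfl⟩ := hx
      simp only [KaehlerDifferential.map_D, Algebra.algebraMap_self, RingHom.id_apply]
    | zero => simp
    | add x y _ _ hx hy => simp only [map_add, hx, hy]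
    | smul a x _ hx =>
      rw [map_smul, map_smul, map_smul, hx, LinearMap.map_smul_of_tower]

omit [Algebra R L] [Algebra S L] [IsScalarTower R K L] [IsScalarTower S K L] [IsScalarTower R S L] in
/-- Transitivity of the comparison maps. -/
theorem baseChange_map_comp {T : Type*} [CommRing T] [Algebra R T] [Algebra S T] [Algebra T K]
    [IsScalarTower R S T] [IsScalarTower R T K] [IsScalarTower S T K] (z : L ⊗[K] Ω[K⁄R]) :
    (KaehlerDifferential.map S T K K).baseChange L ((KaehlerDifferential.map R S K K).baseChange L z) =
      (KaehlerDifferential.map R T K K).baseChange L z := by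
  induction z with
  | zero => simp
  | add x y hx hy => rw [map_add, map_add, map_add, hx, hy]
  | tmul c ω =>
    rw [LinearMap.baseChange_tmul, LinearMap.baseChange_tmul, LinearMap.baseChange_tmul]
    congr 1
    have hω : ω ∈ Submodule.span K (Set.range (KaehlerDifferential.D R K)) := by
      rw [KaehlerDifferential.span_range_derivation]; trivial
    induction hω using Submodule.span_induction with
    | mem x hx =>
      obtain ⟨a, rfl⟩ := hx
      simp only [KaehlerDifferential.map_D, Algebra.algebraMap_self, RingHom.id_apply]
    | zero => simp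
    | add x y _ _ hx hy => simp only [map_add, hx, hy]
    | smul a x _ hx => simp only [map_smul, hx]

end Groth.Agent.EGA41Lib
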