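import Groth.Agent.EGA41Lib.PBasisKaehler
import Groth.Agent.EGA41Lib.Admissible
import Mathlib.FieldTheory.IntermediateField.Adjoin.Basic
import Mathlib.RingTheory.TensorProduct.Free

/-!
# Decreasing families of subfields and differentials

EGA 0, 21.7–21.8.
-/

set_option autoImplicit false

universe u w

open TensorProduct

namespace Groth.Agent.EGA41Lib

open PB

variable {p : ℕ} [hp : Fact p.Prime] {k₀ K : Type u} [Field k₀] [Field K] [Algebra k₀ K] [CharP K p]

variable (p) in
/-- `F(K^p)`, for a subfield `F`. -/
noncomputable abbrev powField (F : IntermediateField k₀ K) : IntermediateField k₀ K :=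
  F ⊔ IntermediateField.adjoin k₀ (Set.range fun y : K => y ^ p)

variable (p) in
/-- `k₀(K^p)`. -/
noncomputable abbrev powField₀ : IntermediateField k₀ K :=
  IntermediateField.adjoin k₀ (Set.range fun y : K => y ^ p)

omit [CharP K p] in
lemma mem_powField₀_iff (x : K) : x ∈ powField₀ p (k₀ := k₀) ↔ x ∈ powAlg p k₀ K := by
  constructor
  · intro hx
    let S := (powAlg p k₀ K).toIntermediateField fun b hb =>
      (subfieldOf (powAlg p k₀ K) (fun b => Algebra.subset_adjoin ⟨b, rfl⟩)).inv_mem hb
    exact (IntermediateField.adjoin_le_iff (F := k₀) (T := S)).2 (fun y hy => Algebra.subset_adjoin hy) hx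
  · exact fun hx => IntermediateField.algebra_adjoin_le_adjoin k₀ _ hx

omit [CharP K p] in
lemma mem_powField_iff (F : IntermediateField k₀ K) (x : K) :
    x ∈ powField p F ↔ x ∈ powAlg p F K := by
  constructor
  · intro hx
    let S := ((powAlg p F K).restrictScalars k₀).toIntermediateField fun b hb =>
      (subfieldOf (powAlg p F K) (fun b => Algebra.subset_adjoin ⟨b, rfl⟩)).inv_mem hb
    have hle : powField p F ≤ S :=
      sup_le (fun y hy => (powAlg p F K).algebraMap_mem ⟨y, hy⟩)
        (IntermediateField.adjoin_le_iff.2 fun y hy => Algebra.subset_adjoin (R := F) hy)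
    exact hle hx
  · intro hx
    induction hx using Algebra.adjoin_induction with
    | mem y hy =>
      exact (le_sup_right : powField₀ p ≤ powField p F) (IntermediateField.subset_adjoin k₀ _ hy)
    | algebraMap a => exact (le_sup_left : F ≤ powField p F) a.2
    | add y z _ _ hy hz => exact add_mem hy hz
    | mul y z _ _ hy hz => exact mul_mem hy hz

variable {ι : Type*}

omit hp [CharP K p] in
/-- Vectors independent over an intersection of a decreasing family of subfields are independent over one of them. -/
theorem exists_stage_indep [Nonempty ι] (M : ι → IntermediateField k₀ K) (hM : ∀ a b, ∃ c, M c ≤ M a ∧ M c ≤ M b)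
    {η : Type*} (v : η → K) (t : Finset η)
    (h : ∀ c : η → K, (∀ e, c e ∈ ⨅ i, M i) → ∑ e ∈ t, c e * v e = 0 → ∀ e ∈ t, c e = 0) :
    ∃ i, ∀ c : η → K, (∀ e, c e ∈ M i) → ∑ e ∈ t, c e * v e = 0 → ∀ e ∈ t, c e = 0 := by
  classical
  induction t using Finset.induction with
  | empty => exact ⟨Classical.arbitrary ι, fun _ _ _ e he => absurd he (Finset.notMem_empty e)⟩
  | insert a t hat ih =>
    obtain ⟨i₀, hi₀⟩ := ih fun c hc h0 e he => by
      have := h (fun e => if e = a then 0 else c e) (fun e => by
        split
        · exact zero_mem _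
        · exact hc e) (by
        rw [Finset.sum_insert hat, if_pos rfl, zero_mul, zero_add]
        refine Eq.trans ?_ h0
        exact Finset.sum_congr rfl fun e he => by rw [if_neg (fun hea : e = a => hat (hea ▸ he))]) e (Finset.mem_insert_of_mem he)
      rwa [if_neg (fun hea : e = a => hat (hea ▸ he))] at this
    by_contra! hall
    have hrel : ∀ i, M i ≤ M i₀ → ∃ c : η → K, (∀ e, c e ∈ M i) ∧ v a + ∑ e ∈ t, c e * v e = 0 := by
      intro i hi
      obtain ⟨c, hc, h0, e, he, hne⟩ := hall i
      rw [Finset.sum_insert hat] at h0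
      have hca : c a ≠ 0 := by
        intro hca
        rw [hca, zero_mul, zero_add] at h0
        rcases Finset.mem_insert.1 he with rfl | he'
        · exact hne hca
        · exact hne (hi₀ c (fun e => hi (hc e)) h0 e he')
      refine ⟨fun e => c e / c a, fun e => div_mem (hc e) (hc a), ?_⟩
      calc v a + ∑ e ∈ t, c e / c a * v e = (c a)⁻¹ * (c a * v a + ∑ e ∈ t, c e * v e) := by
            rw [mul_add, ← mul_assoc, inv_mul_cancel₀ hca, one_mul, Finset.mul_sum]
            exact congrArg _ (Finset.sum_congr rfl fun e _ => by rw [div_eq_inv_mul, mul_assoc])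
        _ = 0 := by rw [h0, mul_zero]
    obtain ⟨c, hc, h0⟩ := hrel i₀ le_rfl
    have hmem : ∀ e ∈ t, c e ∈ ⨅ i, M i := by
      intro e he
      refine IntermediateField.mem_carrier.1 ?_
      rw [show (⨅ i, M i).carrier = ((⨅ i, M i : IntermediateField k₀ K) : Set K) from rfl,
        IntermediateField.coe_iInf, Set.mem_iInter]
      intro j
      obtain ⟨i, hij, hi⟩ := hM j i₀
      obtain ⟨d, hd, hd0⟩ := hrel i hi
      have h1 : ∑ e ∈ t, (c e - d e) * v e = 0 := by
        simp only [sub_mul, Finset.sum_sub_distrib]
        linear_combination h0 - hd0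
      have := hi₀ _ (fun e => sub_mem (hc e) (hi (hd e))) h1 e he
      rw [sub_eq_zero] at this
      exact this ▸ hij (hd e)
    have := h (fun e => if e = a then 1 else if e ∈ t then c e else 0) (fun e => by
      split_ifs with h1 h2
      · exact one_mem _
      · exact hmem e h2
      · exact zero_mem _) (by
      rw [Finset.sum_insert hat, if_pos rfl, one_mul]
      refine Eq.trans ?_ h0
      exact congrArg _ (Finset.sum_congr rfl fun e he => by rw [if_neg (fun hea : e = a => hat (hea ▸ he)), if_pos he]))
      a (Finset.mem_insert_self a t)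
    simp at this

/-- Differentials independent over `k₀` stay independent over a member of the family. -/
theorem exists_stage_linearIndependent [Nonempty ι] (k : ι → IntermediateField k₀ K)
    (hk : ∀ a b, ∃ c, k c ≤ k a ∧ k c ≤ k b)
    (h : (⨅ i, powField p (k i)) = powField₀ p) {η : Type*} [Finite η] (x : η → K)
    (hx : LinearIndependent K fun j => KaehlerDifferential.D k₀ K (x j)) :
    ∃ i, LinearIndependent K fun j => KaehlerDifferential.D (k i) K (x j) := by
  classical
  haveI : Finite (Red p η) := Finite.of_injective (fun e : Red p η => fun j => (⟨e.1 j, e.2 j⟩ : Fin p))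
    fun e e' hee => Subtype.ext (Finsupp.ext fun j => congrArg Fin.val (congrFun hee j))
  letI := Fintype.ofFinite (Red p η)
  rw [← linearIndependent_mon_iff_D p k₀] at hx
  obtain ⟨i, hi⟩ := exists_stage_indep (fun i => powField p (k i))
    (fun a b => by
      obtain ⟨c, hca, hcb⟩ := hk a b
      exact ⟨c, sup_le_sup_right hca _, sup_le_sup_right hcb _⟩)
    (fun e : Red p η => mon x e.1) Finset.univ (fun c hc h0 e _ => by
      have := linearIndependent_iff'.1 hx Finset.univ
        (fun e => ⟨c e, (mem_powField₀_iff _).1 (h ▸ hc e)⟩)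
        (by rw [← h0]; exact Finset.sum_congr rfl fun e _ => rfl) e (Finset.mem_univ e)
      exact congrArg Subtype.val this)
  refine ⟨i, (linearIndependent_mon_iff_D p (k i) x).1 (Fintype.linearIndependent_iff.2 fun g hg e => ?_)⟩
  exact Subtype.ext (hi (fun e => (g e : K)) (fun e => (mem_powField_iff _ _).2 (g e).2)
    (by rw [← hg]; rfl) e (Finset.mem_univ e))

variable {L : Type w} [Field L] [Algebra K L]

omit hp [CharP K p] in
/-- If the differentials of a set of `p`-basis elements stay independent, the comparison map is injective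
on tensors supported on that set. -/
theorem eq_zero_of_linearIndependent {S : Type*} [CommRing S] [Algebra k₀ S] [Algebra S K] [IsScalarTower k₀ S K]
    {B : Type*} (x : B → K) (b : Module.Basis B K Ω[K⁄k₀]) (hb : ∀ j, b j = KaehlerDifferential.D k₀ K (x j))
    (F : Finset B) (hF : LinearIndependent K fun j : F => KaehlerDifferential.D S K (x j))
    {z : L ⊗[K] Ω[K⁄k₀]}
    (hz : ∀ j ∈ ((Algebra.TensorProduct.basis L b).repr z).support, j ∈ F)
    (h0 : (KaehlerDifferential.map k₀ S K K).baseChange L z = 0) : z = 0 := by
  classical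
  let g := (Finsupp.linearCombination K fun j : F => KaehlerDifferential.D S K (x j))
  obtain ⟨r, hr⟩ := g.exists_leftInverse_of_injective (LinearMap.ker_eq_bot.2 hF)
  let h : Ω[K⁄S] →ₗ[K] Ω[K⁄k₀] := (Finsupp.linearCombination K fun j : F => b j) ∘ₗ r
  have hh : ∀ j ∈ F, h (KaehlerDifferential.map k₀ S K K (b j)) = b j := by
    intro j hj
    have h1 : g (Finsupp.single ⟨j, hj⟩ 1) = KaehlerDifferential.map k₀ S K K (b j) := by
      simp [g, hb]
    rw [← h1, LinearMap.comp_apply, ← LinearMap.comp_apply r g, hr]
    simp
  have hfix : (h.baseChange L) ((KaehlerDifferential.map k₀ S K K).baseChange L z) = z := by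
    conv_rhs => rw [← (Algebra.TensorProduct.basis L b).linearCombination_repr z]
    conv_lhs => rw [← (Algebra.TensorProduct.basis L b).linearCombination_repr z]
    rw [Finsupp.linearCombination_apply, Finsupp.sum, map_sum, map_sum]
    refine Finset.sum_congr rfl fun j hj => ?_
    rw [map_smul, map_smul, Algebra.TensorProduct.basis_apply, LinearMap.baseChange_tmul,
      LinearMap.baseChange_tmul, hh j (hz j hj)]
  rw [h0, map_zero] at hfix
  exact hfix.symm

/-- EGA 0 21.7: a finite-dimensional space of tensors is detected by one member of the family. -/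
theorem exists_stage_injOn [Nonempty ι] (k : ι → IntermediateField k₀ K)
    (hk : ∀ a b, ∃ c, k c ≤ k a ∧ k c ≤ k b)
    (h : (⨅ i, powField p (k i)) = powField₀ p) (U : Submodule L (L ⊗[K] Ω[K⁄k₀])) (hU : U.FG) :
    ∃ i, ∀ z ∈ U, (KaehlerDifferential.map k₀ (k i) K K).baseChange L z = 0 → z = 0 := by
  classical
  obtain ⟨B, hind, hgen⟩ := exists_pBasis p k₀ K
  obtain ⟨b, hb⟩ := (exists_basis_iff p k₀ (Subtype.val : B → K)).1 ⟨hind, by rwa [Subtype.range_coe]⟩
  obtain ⟨T, rfl⟩ := hU
  let F : Finset B := T.biUnion fun z => ((Algebra.TensorProduct.basis L b).repr z).support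
  have hli : LinearIndependent K fun j : F => KaehlerDifferential.D k₀ K ((j : B) : K) := by
    have := b.linearIndependent.comp (Subtype.val : F → B) Subtype.val_injective
    have he : (fun j : F => KaehlerDifferential.D k₀ K ((j : B) : K)) = b ∘ Subtype.val :=
      funext fun j => (hb j).symm
    rw [he]
    exact this
  obtain ⟨i, hi⟩ := exists_stage_linearIndependent k hk h _ hli
  refine ⟨i, fun z hz => eq_zero_of_linearIndependent _ b hb F hi ?_⟩
  have hle : Submodule.span L (T : Set (L ⊗[K] Ω[K⁄k₀])) ≤
      (Finsupp.supported L L (F : Set B)).comap (Algebra.TensorProduct.basis L b).repr.toLinearMap := by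
    refine Submodule.span_le.2 fun y hy => ?_
    intro j hj
    exact Finset.mem_biUnion.2 ⟨y, hy, hj⟩
  exact fun j hj => hle hz hj

end Groth.Agent.EGA41Lib
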