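import Groth.Prelude.Def_EGA41
import Mathlib.LinearAlgebra.Dimension.Constructions
import Mathlib.LinearAlgebra.FiniteDimensional.Lemmas
import Mathlib.RingTheory.Flat.Basic

/-!
# Additivity of the index of differentials in towers

EGA 0, 21.7.1: `rank Ω_{L/K} - rank Υ_{L/K/R}` is additive in towers.
-/

set_option autoImplicit false

universe u w

open TensorProduct

namespace Groth.Agent.EGA41Lib

section Linear

variable {L : Type u} [Field L] {U V W Q₁ Q₂ Q₃ : Type*} [AddCommGroup U] [Module L U] [AddCommGroup V] [Module L V]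
  [AddCommGroup W] [Module L W] [AddCommGroup Q₁] [Module L Q₁] [AddCommGroup Q₂] [Module L Q₂]
  [AddCommGroup Q₃] [Module L Q₃]

/-- The index of a composite of linear maps with finite kernels and cokernels. -/
theorem index_comp (f : U →ₗ[L] V) (g : V →ₗ[L] W) (q₁ : V →ₗ[L] Q₁) (q₂ : W →ₗ[L] Q₂) (q₃ : W →ₗ[L] Q₃)
    (h₁ : Function.Exact f q₁) (hq₁ : Function.Surjective q₁) (h₂ : Function.Exact g q₂)
    (hq₂ : Function.Surjective q₂) (h₃ : Function.Exact (g ∘ₗ f) q₃) (hq₃ : Function.Surjective q₃)
    [Module.Finite L (LinearMap.ker f)] [Module.Finite L Q₁] [Module.Finite L (LinearMap.ker g)]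
    [Module.Finite L Q₂] :
    Module.Finite L (LinearMap.ker (g ∘ₗ f)) ∧ Module.Finite L Q₃ ∧
      (Module.finrank L Q₃ : ℤ) - Module.finrank L (LinearMap.ker (g ∘ₗ f)) =
        ((Module.finrank L Q₁ : ℤ) - Module.finrank L (LinearMap.ker f)) +
          ((Module.finrank L Q₂ : ℤ) - Module.finrank L (LinearMap.ker g)) := by
  let N := LinearMap.ker (g ∘ₗ f)
  let φ : N →ₗ[L] LinearMap.ker g := f.restrict fun x hx => hx
  -- the kernel of `φ`
  let e : LinearMap.ker φ ≃ₗ[L] LinearMap.ker f :=
    { toFun := fun x => ⟨x.1.1, congrArg Subtype.val x.2⟩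
      map_add' := fun _ _ => rfl
      map_smul' := fun _ _ => rfl
      invFun := fun x => ⟨⟨x.1, by
        change g (f x.1) = 0
        rw [show f x.1 = 0 from x.2, map_zero]⟩, Subtype.ext x.2⟩
      left_inv := fun _ => rfl
      right_inv := fun _ => rfl }
  haveI : Module.Finite L (LinearMap.ker φ) := Module.Finite.equiv e.symm
  haveI hN : Module.Finite L N := by
    haveI : Module.Finite L (N ⧸ LinearMap.ker φ) := Module.Finite.equiv φ.quotKerEquivRange.symm
    exact Module.Finite.of_submodule_quotient (LinearMap.ker φ)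
  -- the map induced by `g` on cokernels
  let χ : LinearMap.ker g →ₗ[L] Q₁ := q₁ ∘ₗ (LinearMap.ker g).subtype
  have hχ : LinearMap.ker χ = LinearMap.range φ := by
    ext y
    constructor
    · intro hy
      obtain ⟨x, hx⟩ := (h₁ y.1).1 hy
      exact ⟨⟨x, by change g (f x) = 0; rw [hx]; exact y.2⟩, Subtype.ext hx⟩
    · rintro ⟨x, rfl⟩
      exact h₁.apply_apply_eq_zero x.1
  obtain ⟨σ, hσ⟩ := q₁.exists_rightInverse_of_surjective (LinearMap.range_eq_top.2 hq₁)
  let ψ : Q₁ →ₗ[L] Q₃ := q₃ ∘ₗ g ∘ₗ σ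
  have hψ : ∀ v, ψ (q₁ v) = q₃ (g v) := by
    intro v
    obtain ⟨x, hx⟩ := (h₁ (σ (q₁ v) - v)).1 (by
      rw [map_sub, ← LinearMap.comp_apply q₁ σ, hσ, LinearMap.id_apply, sub_self])
    have h0 : q₃ (g (σ (q₁ v) - v)) = 0 := by rw [← hx]; exact h₃.apply_apply_eq_zero x
    rwa [map_sub, map_sub, sub_eq_zero] at h0
  have hψker : LinearMap.ker ψ = LinearMap.range χ := by
    ext y
    obtain ⟨v, rfl⟩ := hq₁ y
    rw [LinearMap.mem_ker, hψ]
    constructor
    · intro hv
      obtain ⟨x, hx⟩ := (h₃ (g v)).1 hv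
      refine ⟨⟨v - f x, ?_⟩, ?_⟩
      · change g (v - f x) = 0
        rw [map_sub, ← hx, LinearMap.comp_apply, sub_self]
      · change q₁ (v - f x) = q₁ v
        rw [map_sub, h₁.apply_apply_eq_zero, sub_zero]
    · rintro ⟨⟨w, hw⟩, hwv⟩
      rw [← hψ, ← hwv]
      change ψ (q₁ w) = 0
      rw [hψ, show g w = 0 from hw, map_zero]
  -- the last map
  let ρ : Q₃ →ₗ[L] Q₂ := (LinearMap.ker q₃).liftQ q₂ (fun w hw => by
      obtain ⟨x, rfl⟩ := (h₃ w).1 hw
      exact h₂.apply_apply_eq_zero (f x)) ∘ₗ (q₃.quotKerEquivOfSurjective hq₃).symm.toLinearMap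
  have hρ : ∀ w, ρ (q₃ w) = q₂ w := fun w => by
    have : (q₃.quotKerEquivOfSurjective hq₃).symm (q₃ w) = Submodule.Quotient.mk w :=
      (q₃.quotKerEquivOfSurjective hq₃).symm_apply_apply (Submodule.Quotient.mk w)
    simp only [ρ, LinearMap.comp_apply, LinearEquiv.coe_coe, this]
    exact Submodule.liftQ_apply _ _ _
  have hρsurj : LinearMap.range ρ = ⊤ := LinearMap.range_eq_top.2 fun y => by
    obtain ⟨w, rfl⟩ := hq₂ y; exact ⟨q₃ w, hρ w⟩
  have hρker : LinearMap.ker ρ = LinearMap.range ψ := by
    ext y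
    obtain ⟨w, rfl⟩ := hq₃ y
    rw [LinearMap.mem_ker, hρ]
    constructor
    · intro hw
      obtain ⟨v, rfl⟩ := (h₂ w).1 hw
      exact ⟨q₁ v, hψ v⟩
    · rintro ⟨z, hz⟩
      obtain ⟨v, rfl⟩ := hq₁ z
      rw [hψ] at hz
      rw [← hρ, ← hz, hρ]
      exact h₂.apply_apply_eq_zero v
  haveI hQ₃ : Module.Finite L Q₃ := by
    haveI : Module.Finite L (LinearMap.ker ρ) := hρker ▸ inferInstance
    haveI : Module.Finite L (Q₃ ⧸ LinearMap.ker ρ) := Module.Finite.equiv ρ.quotKerEquivRange.symm
    exact Module.Finite.of_submodule_quotient (LinearMap.ker ρ)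
  refine ⟨hN, hQ₃, ?_⟩
  have n1 := φ.finrank_range_add_finrank_ker
  have n2 := χ.finrank_range_add_finrank_ker
  have n3 := ψ.finrank_range_add_finrank_ker
  have n4 := ρ.finrank_range_add_finrank_ker
  rw [e.finrank_eq] at n1
  rw [hχ] at n2
  rw [hψker] at n3
  rw [hρsurj, finrank_top, hρker] at n4
  have hNe : Module.finrank L N = Module.finrank L (LinearMap.ker (g ∘ₗ f)) := rfl
  omega

end Linear

section Tower

variable (R : Type w) (K E L : Type u) [CommRing R] [Field K] [Field E] [Field L] [Algebra R K] [Algebra R E]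
  [Algebra R L] [Algebra K E] [Algebra K L] [Algebra E L] [IsScalarTower R K E] [IsScalarTower R K L]
  [IsScalarTower R E L] [IsScalarTower K E L]

/-- EGA 0 21.7.1: additivity in towers. -/
theorem index_tower [Module.Finite E Ω[E⁄K]] [Module.Finite E (EGA41.imperfection R K E)]
    [Module.Finite L Ω[L⁄E]] [Module.Finite L (EGA41.imperfection R E L)] :
    Module.Finite L Ω[L⁄K] ∧ Module.Finite L (EGA41.imperfection R K L) ∧
      (Module.finrank L Ω[L⁄K] : ℤ) - Module.finrank L (EGA41.imperfection R K L) =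
        ((Module.finrank E Ω[E⁄K] : ℤ) - Module.finrank E (EGA41.imperfection R K E)) +
          ((Module.finrank L Ω[L⁄E] : ℤ) - Module.finrank L (EGA41.imperfection R E L)) := by
  let c := AlgebraTensorModule.cancelBaseChange K E L L Ω[K⁄R]
  let m := KaehlerDifferential.mapBaseChange R K E
  let f : L ⊗[K] Ω[K⁄R] →ₗ[L] L ⊗[E] Ω[E⁄R] := m.baseChange L ∘ₗ c.symm.toLinearMap
  let g := KaehlerDifferential.mapBaseChange R E L
  have hgf : g ∘ₗ f = KaehlerDifferential.mapBaseChange R K L := by
    refine LinearMap.restrictScalars_injective K (TensorProduct.ext' fun l ω => ?_)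
    have hω : ω ∈ Submodule.span K (Set.range (KaehlerDifferential.D R K)) := by
      rw [KaehlerDifferential.span_range_derivation]; trivial
    induction hω using Submodule.span_induction generalizing l with
    | mem x hx =>
      obtain ⟨a, rfl⟩ := hx
      simp [f, g, c, m, ← IsScalarTower.algebraMap_apply K E L]
    | zero => simp
    | add x y _ _ hx hy => simp only [TensorProduct.tmul_add, map_add, hx l, hy l]
    | smul a x _ hx => rw [← TensorProduct.smul_tmul]; exact hx (a • l)
  let q₁ := (KaehlerDifferential.map R K E E).baseChange L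
  have h₁ : Function.Exact f q₁ := by
    have h := lTensor_exact (R := E) L (KaehlerDifferential.exact_mapBaseChange_map R K E)
      (KaehlerDifferential.map_surjective R K E)
    intro y
    refine (h y).trans ⟨?_, ?_⟩
    · rintro ⟨x, rfl⟩
      exact ⟨c x, by simp [f]; rfl⟩
    · rintro ⟨x, rfl⟩
      exact ⟨c.symm x, rfl⟩
  have hq₁ : Function.Surjective q₁ :=
    LinearMap.lTensor_surjective L (KaehlerDifferential.map_surjective R K E)
  -- the kernel of `f`
  let ι := c.toLinearMap ∘ₗ (LinearMap.ker m).subtype.baseChange L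
  have hι : Function.Injective ι :=
    c.injective.comp (Module.Flat.lTensor_preserves_injective_linearMap _ Subtype.val_injective)
  have hexact := Module.Flat.lTensor_exact (R := E) L (N := LinearMap.ker m) (N' := E ⊗[K] Ω[K⁄R])
    (f := (LinearMap.ker m).subtype) (g := m) (LinearMap.exact_subtype_ker_map m)
  have hker : LinearMap.range ι = LinearMap.ker f := by
    ext y
    constructor
    · rintro ⟨x, rfl⟩
      change m.baseChange L (c.symm (c ((LinearMap.ker m).subtype.baseChange L x))) = 0
      rw [LinearEquiv.symm_apply_apply]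
      exact hexact.apply_apply_eq_zero x
    · intro hy
      obtain ⟨x, hx⟩ := (hexact (c.symm y)).1 hy
      exact ⟨x, by
        change c ((LinearMap.ker m).subtype.baseChange L x) = y
        rw [show (LinearMap.ker m).subtype.baseChange L x = c.symm y from hx, LinearEquiv.apply_symm_apply]⟩
  haveI : Module.Finite E (LinearMap.ker m) := ‹Module.Finite E (EGA41.imperfection R K E)›
  let ek := (LinearEquiv.ofInjective ι hι).trans (LinearEquiv.ofEq _ _ hker)
  haveI : Module.Finite L (LinearMap.ker f) := Module.Finite.equiv ek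
  haveI : Module.Finite L (LinearMap.ker g) := ‹Module.Finite L (EGA41.imperfection R E L)›
  obtain ⟨hN, hQ, heq⟩ := index_comp f g q₁ (KaehlerDifferential.map R E L L) (KaehlerDifferential.map R K L L)
    h₁ hq₁ (KaehlerDifferential.exact_mapBaseChange_map R E L) (KaehlerDifferential.map_surjective R E L)
    (by rw [hgf]; exact KaehlerDifferential.exact_mapBaseChange_map R K L) (KaehlerDifferential.map_surjective R K L)
  rw [hgf] at hN heq
  haveI : Module.Free E (LinearMap.ker m) := @Module.Free.of_divisionRing E ↥(LinearMap.ker m) _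
    (LinearMap.ker m).addCommGroup (LinearMap.ker m).module
  rw [← ek.finrank_eq, Module.finrank_baseChange, Module.finrank_baseChange] at heq
  exact ⟨hQ, hN, heq⟩

end Tower

end Groth.Agent.EGA41Lib
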