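import Groth.Agent.EGA41Lib.CartierIndex
import Groth.Agent.EGA41Lib.FieldSeparableSmooth
import Mathlib.RingTheory.Polynomial.Basic
import Mathlib.FieldTheory.Minpoly.Field
import Mathlib.FieldTheory.IntermediateField.Adjoin.Basic
import Mathlib.RingTheory.AlgebraicIndependent.TranscendenceBasis
import Mathlib.Algebra.Polynomial.Expand
import Mathlib.RingTheory.Unramified.Field

/-!
# The index of differentials for an extension by one element

EGA 0, 21.7.1.
-/

set_option autoImplicit false

universe u w

open TensorProduct Polynomial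

namespace Groth.Agent.EGA41Lib

variable {R : Type w} {K L : Type u} [CommRing R] [Field K] [Field L] [Algebra R K] [Algebra R L] [Algebra K L]
  [IsScalarTower R K L]

variable (R) in
/-- The derivation `K[X] → L ⊗ Ω_{K/R}` through the coefficients. -/
theorem exists_coeff_derivation [Algebra K[X] L] [IsScalarTower K K[X] L]
    [IsScalarTower R K[X] L] (x : L)
    (hx : algebraMap K[X] L X = x) :
    ∃ π : L ⊗[K[X]] Ω[K[X]⁄R] →ₗ[L] L ⊗[K] Ω[K⁄R],
      (∀ f : K[X], π (1 ⊗ₜ KaehlerDifferential.D R K[X] f) =
        f.sum fun i c => x ^ i • ((1 : L) ⊗ₜ[K] KaehlerDifferential.D R K c)) ∧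
      ∀ a : K, π (1 ⊗ₜ KaehlerDifferential.D R K[X] (C a)) = (1 : L) ⊗ₜ[K] KaehlerDifferential.D R K a := by
  have hact : ∀ (f : K[X]) (w : L ⊗[K] Ω[K⁄R]), f • w = algebraMap K[X] L f • w := fun f w =>
    (algebraMap_smul L f w).symm
  have halg : ∀ (f : K[X]), algebraMap K[X] L f = f.eval₂ (algebraMap K L) x := fun f => by
    induction f using Polynomial.induction_on' with
    | add f g hf hg => rw [map_add, hf, hg, Polynomial.eval₂_add]
    | monomial n a =>
      rw [← Polynomial.C_mul_X_pow_eq_monomial, map_mul, map_pow, hx, Polynomial.eval₂_mul,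
        Polynomial.eval₂_C, Polynomial.eval₂_X_pow, ← Polynomial.algebraMap_eq,
        ← IsScalarTower.algebraMap_apply]
  let d : ℕ → K →+ L ⊗[K] Ω[K⁄R] := fun i =>
    AddMonoidHom.mk' (fun a => x ^ i • ((1 : L) ⊗ₜ[K] KaehlerDifferential.D R K a))
      (fun a b => by rw [map_add, TensorProduct.tmul_add, smul_add])
  have d0 : ∀ i, d i 0 = 0 := fun i => map_zero _
  let φ : K[X] →+ L ⊗[K] Ω[K⁄R] := AddMonoidHom.mk' (fun f => f.sum fun i c => d i c)
    (fun f g => Polynomial.sum_add_index f g _ d0 (fun i a b => map_add _ _ _))
  have hmono : ∀ i (a : K), φ (monomial i a) = d i a := fun i a => Polynomial.sum_monomial_index a _ (d0 i)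
  have hd : ∀ (i j : ℕ) (a b : K), d (i + j) (a * b) =
      algebraMap K[X] L (monomial i a) • d j b + algebraMap K[X] L (monomial j b) • d i a := by
    intro i j a b
    simp only [d, AddMonoidHom.mk'_apply, halg, Polynomial.eval₂_monomial]
    rw [Derivation.leibniz, TensorProduct.tmul_add, TensorProduct.tmul_smul, TensorProduct.tmul_smul,
      ← algebraMap_smul L a ((1 : L) ⊗ₜ[K] KaehlerDifferential.D R K b),
      ← algebraMap_smul L b ((1 : L) ⊗ₜ[K] KaehlerDifferential.D R K a),
      smul_add, smul_smul, smul_smul, smul_smul, smul_smul]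
    congr 2 <;> ring
  have hdR : ∀ (r : R) i a, d i (algebraMap R K r * a) = algebraMap R L r • d i a := by
    intro r i a
    simp only [d, AddMonoidHom.mk'_apply]
    rw [← Algebra.smul_def, Derivation.map_smul, TensorProduct.tmul_smul, smul_comm, algebraMap_smul]
  let δ : Derivation R K[X] (L ⊗[K] Ω[K⁄R]) := Derivation.mk'
    { toFun := φ
      map_add' := map_add φ
      map_smul' := fun r f => by
        induction f using Polynomial.induction_on' with
        | add f g hf hg => rw [smul_add, map_add, hf, hg, map_add, smul_add]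
        | monomial n a =>
          rw [Polynomial.smul_monomial, hmono, hmono, RingHom.id_apply, Algebra.smul_def, hdR,
            algebraMap_smul] }
    (fun f g => by
      change φ (f * g) = f • φ g + g • φ f
      induction f using Polynomial.induction_on' with
      | add f₁ f₂ h₁ h₂ =>
        rw [add_mul, map_add, h₁, h₂]
        simp only [hact, map_add, add_smul, smul_add]
        abel
      | monomial i a =>
        induction g using Polynomial.induction_on' with
        | add g₁ g₂ h₁ h₂ =>
          rw [mul_add, map_add, h₁, h₂]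
          simp only [hact, map_add, add_smul, smul_add]
          abel
        | monomial j b =>
          rw [Polynomial.monomial_mul_monomial, hmono, hmono, hmono, hact, hact, hd])
  refine ⟨δ.liftKaehlerDifferential.liftBaseChange L, fun f => ?_, fun a => ?_⟩
  · rw [LinearMap.liftBaseChange_tmul, one_smul, Derivation.liftKaehlerDifferential_comp_D]
    rfl
  · rw [LinearMap.liftBaseChange_tmul, one_smul, Derivation.liftKaehlerDifferential_comp_D]
    change φ (C a) = _
    rw [← Polynomial.monomial_zero_left, hmono]
    change x ^ 0 • ((1 : L) ⊗ₜ[K] KaehlerDifferential.D R K a) = _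
    rw [pow_zero, one_smul]

variable (R) in
/-- The functional `f ↦ f'(x)` on the differentials of `K[X]`. -/
theorem exists_derivative_functional [Algebra K[X] L] [IsScalarTower R K[X] L] :
    ∃ θ : L ⊗[K[X]] Ω[K[X]⁄R] →ₗ[L] L,
      ∀ f : K[X], θ (1 ⊗ₜ KaehlerDifferential.D R K[X] f) = algebraMap K[X] L (derivative f) := by
  let δ : Derivation R K[X] L := Derivation.mk'
    { toFun := fun f => algebraMap K[X] L (derivative f)
      map_add' := fun f g => by rw [map_add, map_add]
      map_smul' := fun r f => by rw [Polynomial.derivative_smul, Algebra.smul_def, map_mul,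
          ← IsScalarTower.algebraMap_apply, RingHom.id_apply, Algebra.smul_def] }
    (fun f g => by
      change algebraMap K[X] L (derivative (f * g)) = f • algebraMap K[X] L (derivative g) +
        g • algebraMap K[X] L (derivative f)
      rw [Polynomial.derivative_mul, map_add, map_mul, map_mul, Algebra.smul_def, Algebra.smul_def]
      ring)
  refine ⟨δ.liftKaehlerDifferential.liftBaseChange L, fun f => ?_⟩
  rw [LinearMap.liftBaseChange_tmul, one_smul, Derivation.liftKaehlerDifferential_comp_D]
  rfl

/-- The kernel of `L ⊗ Ω_{K[X]} → Ω_L` for `L = K[X]/(m)`. -/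
theorem exists_eq_smul_of_mapBaseChange_eq_zero [Algebra K[X] L] [IsScalarTower R K[X] L] (m : K[X])
    (hm : RingHom.ker (algebraMap K[X] L) = Ideal.span {m}) (hsurj : Function.Surjective (algebraMap K[X] L))
    (z : L ⊗[K[X]] Ω[K[X]⁄R]) (hz : KaehlerDifferential.mapBaseChange R K[X] L z = 0) :
    ∃ c : L, z = c • ((1 : L) ⊗ₜ[K[X]] KaehlerDifferential.D R K[X] m) := by
  obtain ⟨y, rfl⟩ := (KaehlerDifferential.exact_kerCotangentToTensor_mapBaseChange R K[X] L hsurj z).1 hz
  obtain ⟨⟨g, hg⟩, rfl⟩ := Ideal.toCotangent_surjective _ y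
  rw [hm, Ideal.mem_span_singleton'] at hg
  obtain ⟨q, rfl⟩ := hg
  have hm0 : algebraMap K[X] L m = 0 := RingHom.mem_ker.1 (hm ▸ Ideal.mem_span_singleton_self m)
  refine ⟨algebraMap K[X] L q, ?_⟩
  rw [KaehlerDifferential.kerCotangentToTensor_toCotangent, Derivation.leibniz, TensorProduct.tmul_add,
    TensorProduct.tmul_smul, TensorProduct.tmul_smul, algebraMap_smul, ← algebraMap_smul L m
      ((1 : L) ⊗ₜ[K[X]] KaehlerDifferential.D R K[X] q), hm0, zero_smul, add_zero]

variable (R) in
/-- A base consisting of `p`-th powers. -/
def IsPowBase (K : Type u) [Field K] [Algebra R K] : Prop :=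
  ∀ (p : ℕ), p.Prime → CharP K p → ∀ r : R, ∃ e : K, e ^ p = algebraMap R K r

variable (R K L) in
/-- The index is at least `d`, and equals `d` over a base of `p`-th powers. -/
def IndexProp (d : ℕ) : Prop :=
  Module.Finite L Ω[L⁄K] ∧ Module.Finite L (EGA41.imperfection R K L) ∧
    Module.finrank L (EGA41.imperfection R K L) + d ≤ Module.finrank L Ω[L⁄K] ∧
    (IsPowBase R K → Module.finrank L (EGA41.imperfection R K L) + d = Module.finrank L Ω[L⁄K])

variable (R) in
/-- Algebraic simple extensions have index zero. -/
theorem indexProp_of_surjective (x : L) (hx : IsIntegral K x)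
    (hsurj : Function.Surjective (Polynomial.aeval x : K[X] →ₐ[K] L)) : IndexProp R K L 0 := by
  classical
  letI : Algebra K[X] L := (Polynomial.aeval x).toRingHom.toAlgebra
  haveI : IsScalarTower K K[X] L := .of_algebraMap_eq fun a => (Polynomial.aeval_C x a).symm
  haveI : IsScalarTower R K[X] L := .of_algebraMap_eq fun r => by
    rw [IsScalarTower.algebraMap_apply R K K[X], ← IsScalarTower.algebraMap_apply K K[X] L,
      ← IsScalarTower.algebraMap_apply R K L]
  have halg : ∀ f : K[X], algebraMap K[X] L f = Polynomial.aeval x f := fun _ => rfl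
  have hX : algebraMap K[X] L X = x := Polynomial.aeval_X x
  let m := minpoly K x
  have hirr : Irreducible m := minpoly.irreducible hx
  have hker : RingHom.ker (algebraMap K[X] L) = Ideal.span {m} := minpoly.ker_aeval_eq_span_minpoly K x
  obtain ⟨π, hπ, hπC⟩ := exists_coeff_derivation R (K := K) (L := L) x hX
  obtain ⟨θ, hθ⟩ := exists_derivative_functional R (K := K) (L := L)
  let a := π (1 ⊗ₜ KaehlerDifferential.D R K[X] m)
  let j : L ⊗[K] Ω[K⁄R] →ₗ[L] L ⊗[K[X]] Ω[K[X]⁄R] :=
    (((TensorProduct.mk K[X] L Ω[K[X]⁄R] 1).restrictScalars K) ∘ₗ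
      KaehlerDifferential.map R R K K[X]).liftBaseChange L
  have hj : ∀ c, j ((1 : L) ⊗ₜ[K] KaehlerDifferential.D R K c) = 1 ⊗ₜ KaehlerDifferential.D R K[X] (C c) := by
    intro c
    rw [LinearMap.liftBaseChange_tmul, one_smul, LinearMap.comp_apply, LinearMap.restrictScalars_apply,
      TensorProduct.mk_apply, KaehlerDifferential.map_D]
    rfl
  have hspan : ∀ z, π (j z) = z ∧ θ (j z) = 0 ∧
      KaehlerDifferential.mapBaseChange R K[X] L (j z) = KaehlerDifferential.mapBaseChange R K L z := by
    intro z
    induction z with
    | zero => simp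
    | add y z hy hz => simp only [map_add, hy.1, hz.1, hy.2.1, hz.2.1, hy.2.2, hz.2.2, add_zero, true_and]
    | tmul l ω =>
      have hω : ω ∈ Submodule.span K (Set.range (KaehlerDifferential.D R K)) := by
        rw [KaehlerDifferential.span_range_derivation]; trivial
      induction hω using Submodule.span_induction generalizing l with
      | mem y hy =>
        obtain ⟨c, rfl⟩ := hy
        rw [show l ⊗ₜ[K] KaehlerDifferential.D R K c = l • ((1 : L) ⊗ₜ[K] KaehlerDifferential.D R K c) by
          rw [TensorProduct.smul_tmul', smul_eq_mul, mul_one], map_smul, hj, map_smul, map_smul, map_smul,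
          map_smul, hπC, hθ]
        refine ⟨rfl, by simp, ?_⟩
        rw [KaehlerDifferential.mapBaseChange_tmul, KaehlerDifferential.mapBaseChange_tmul,
          KaehlerDifferential.map_D, KaehlerDifferential.map_D, halg, Polynomial.aeval_C]
      | zero => simp
      | add y y' _ _ hy hy' =>
        simp only [TensorProduct.tmul_add, map_add, (hy l).1, (hy' l).1, (hy l).2.1, (hy' l).2.1,
          (hy l).2.2, (hy' l).2.2, add_zero, true_and]
      | smul b y _ hy => rw [← TensorProduct.smul_tmul]; exact hy (b • l)
  let b := algebraMap K[X] L (derivative m)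
  -- the imperfection module
  have hΥ : ∀ z, z ∈ EGA41.imperfection R K L → ∃ c : L, z = c • a ∧ c * b = 0 := by
    intro z hz
    obtain ⟨h1, h2, h3⟩ := hspan z
    obtain ⟨c, hc⟩ := exists_eq_smul_of_mapBaseChange_eq_zero m hker hsurj (j z) (h3.trans hz)
    refine ⟨c, ?_, ?_⟩
    · conv_lhs => rw [← h1, hc, map_smul]
    · rw [hc, map_smul, hθ] at h2
      exact h2
  have hgen : ∀ ω : Ω[L⁄K], ω ∈ Submodule.span L {KaehlerDifferential.D K L x} := by
    intro ω
    have hω : ω ∈ Submodule.span L (Set.range (KaehlerDifferential.D K L)) := by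
      rw [KaehlerDifferential.span_range_derivation]; trivial
    refine Submodule.span_le.2 ?_ hω
    rintro _ ⟨y, rfl⟩
    obtain ⟨f, rfl⟩ := hsurj y
    rw [SetLike.mem_coe, Derivation.map_aeval]
    exact Submodule.smul_mem _ _ (Submodule.mem_span_singleton_self _)
  by_cases hb : b = 0
  · -- the inseparable case
    have hdeg : derivative m = 0 := by
      by_contra hne
      have h1 : m.natDegree ≤ (derivative m).natDegree :=
        Polynomial.natDegree_le_of_dvd (minpoly.dvd K x hb) hne
      exact absurd (Polynomial.natDegree_derivative_lt (minpoly.natDegree_pos hx).ne') (not_lt.2 h1)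
    have haΥ : a ∈ EGA41.imperfection R K L := by
      change KaehlerDifferential.mapBaseChange R K L a = 0
      have h0 := congrArg (KaehlerDifferential.D R L) (minpoly.aeval K x)
      rw [map_zero, Polynomial.aeval_eq_sum_range, map_sum] at h0
      change KaehlerDifferential.mapBaseChange R K L (π _) = 0
      rw [hπ, Polynomial.sum_over_range _ (fun n => by simp), map_sum, ← h0]
      have hsum : ∑ i ∈ Finset.range (m.natDegree + 1), (m.coeff i) • ((i : L) * x ^ (i - 1)) = 0 := by
        have h2 := congrArg (Polynomial.aeval x) hdeg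
        rw [map_zero, Polynomial.derivative_apply, Polynomial.sum_over_range _ (fun n => by simp), map_sum] at h2
        rw [← h2]
        refine Finset.sum_congr rfl fun i _ => ?_
        simp [Algebra.smul_def, mul_assoc]
      have hrhs : ∀ i, KaehlerDifferential.D R L (m.coeff i • x ^ i) =
          x ^ i • KaehlerDifferential.D R L (algebraMap K L (m.coeff i)) +
            (m.coeff i • ((i : L) * x ^ (i - 1))) • KaehlerDifferential.D R L x := fun i => by
        rw [Algebra.smul_def, Derivation.leibniz, Derivation.leibniz_pow, add_comm, Algebra.smul_def]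
        congr 1
        rw [← Nat.cast_smul_eq_nsmul L, smul_smul, smul_smul, mul_assoc]
      rw [Finset.sum_congr rfl fun i _ => hrhs i, Finset.sum_add_distrib, ← Finset.sum_smul, hsum, zero_smul,
        add_zero]
      refine Finset.sum_congr rfl fun i _ => ?_
      rw [map_smul, KaehlerDifferential.mapBaseChange_tmul, one_smul, KaehlerDifferential.map_D]
    have hle : EGA41.imperfection R K L ≤ Submodule.span L {a} := fun z hz => by
      obtain ⟨c, rfl, -⟩ := hΥ z hz
      exact Submodule.smul_mem _ _ (Submodule.mem_span_singleton_self a)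
    have hne : KaehlerDifferential.D K L x ≠ 0 := by
      intro h0
      obtain ⟨θ', hθ'⟩ := exists_derivative_functional K (K := K) (L := L)
      have h1 : KaehlerDifferential.mapBaseChange K K[X] L (1 ⊗ₜ KaehlerDifferential.D K K[X] X) = 0 := by
        rw [KaehlerDifferential.mapBaseChange_tmul, KaehlerDifferential.map_D, hX, h0, smul_zero]
      obtain ⟨c, hc⟩ := exists_eq_smul_of_mapBaseChange_eq_zero m hker hsurj _ h1
      have := congrArg θ' hc
      rw [hθ', map_smul, hθ', Polynomial.derivative_X, map_one, hdeg, map_zero, smul_zero] at this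
      exact one_ne_zero this
    have hΩtop : (⊤ : Submodule L Ω[L⁄K]) = Submodule.span L {KaehlerDifferential.D K L x} :=
      le_antisymm (fun ω _ => hgen ω) le_top
    haveI hfinΩ : Module.Finite L Ω[L⁄K] := ⟨by rw [hΩtop]; exact Submodule.fg_span_singleton _⟩
    haveI hfinΥ : Module.Finite L (EGA41.imperfection R K L) :=
      Submodule.finiteDimensional_of_le hle
    have hΩ1 : Module.finrank L Ω[L⁄K] = 1 := by
      rw [← finrank_top, hΩtop, finrank_span_singleton hne]
    have hΥ1 : Module.finrank L (EGA41.imperfection R K L) ≤ 1 :=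
      (Submodule.finrank_mono hle).trans ((finrank_span_le_card ({a} : Set _)).trans (by simp))
    refine ⟨hfinΩ, hfinΥ, by omega, fun hR => ?_⟩
    -- the generator is nonzero over a base of powers
    have hane : a ≠ 0 := by
      intro ha
      obtain _ | ⟨p, hp, hpK⟩ := CharP.exists' K
      · exact (minpoly.natDegree_pos hx).ne' (Polynomial.natDegree_eq_zero_of_derivative_eq_zero hdeg)
      haveI : CharP L p := charP_of_injective_algebraMap (algebraMap K L).injective p
      have hcoef : ∀ i, ∃ e : K, e ^ p = m.coeff i := by
        intro i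
        by_cases hi : i < m.natDegree
        · refine exists_pow_eq_of_mem_powAlg R p (hR p hp.out hpK) ((PB.D_eq_zero_iff_mem p R _).1 ?_)
          have h1 : ∑ k : Fin m.natDegree, ((x ^ (k : ℕ)) ⊗ₜ[K] KaehlerDifferential.D R K (m.coeff k)) = 0 := by
            rw [← ha]
            change _ = π _
            rw [hπ, Polynomial.sum_over_range _ (fun n => by simp), Finset.sum_range_succ,
              (minpoly.monic hx).coeff_natDegree, Derivation.map_one_eq_zero, TensorProduct.tmul_zero,
              smul_zero, add_zero, ← Fin.sum_univ_eq_sum_range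
                (fun k => x ^ k • ((1 : L) ⊗ₜ[K] KaehlerDifferential.D R K (m.coeff k))) m.natDegree]
            exact Finset.sum_congr rfl fun k _ => by rw [TensorProduct.smul_tmul', smul_eq_mul, mul_one]
          let β := Module.Basis.ofVectorSpace K Ω[K⁄R]
          refine β.repr.injective ?_
          rw [map_zero]
          ext t
          have h2 := congrArg ((TensorProduct.rid K L).toLinearMap ∘ₗ (β.coord t).lTensor L) h1
          simp only [map_sum, map_zero, LinearMap.comp_apply, LinearMap.lTensor_tmul, LinearEquiv.coe_coe,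
            TensorProduct.rid_tmul] at h2
          exact Fintype.linearIndependent_iff.1 (linearIndependent_pow x) _ h2 ⟨i, hi⟩
        · rcases eq_or_lt_of_le (not_lt.1 hi) with h | h
          · exact ⟨1, by rw [one_pow, ← h, (minpoly.monic hx).coeff_natDegree]⟩
          · exact ⟨0, by rw [zero_pow hp.out.ne_zero, Polynomial.coeff_eq_zero_of_natDegree_lt h]⟩
      choose e he using hcoef
      let g : K[X] := ∑ i ∈ Finset.range (m.natDegree + 1), monomial i (e (i * p))
      have hg : Polynomial.map (frobenius K p) g = contract p m := by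
        ext i
        rw [Polynomial.coeff_map, Polynomial.coeff_contract hp.out.ne_zero, Polynomial.finsetSum_coeff]
        simp only [Polynomial.coeff_monomial, Finset.sum_ite_eq', Finset.mem_range]
        split
        · rw [frobenius_def, he]
        · rename_i hlt
          rw [map_zero, Polynomial.coeff_eq_zero_of_natDegree_lt]
          calc m.natDegree < i := by omega
            _ ≤ i * p := Nat.le_mul_of_pos_right i hp.out.pos
      have hpow : m = g ^ p := by
        rw [← Polynomial.map_frobenius_expand, Polynomial.map_expand, hg,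
          Polynomial.expand_contract p hdeg hp.out.ne_zero]
      exact not_irreducible_pow hp.out.ne_one (hpow ▸ hirr)
    have : Module.finrank L (EGA41.imperfection R K L) = 1 := by
      rw [le_antisymm hle ((Submodule.span_singleton_le_iff_mem _ _).2 haΥ), finrank_span_singleton hane]
    omega
  · -- the separable case
    have h0 : EGA41.imperfection R K L = ⊥ := _root_.eq_bot_iff.2 fun z hz => by
      obtain ⟨c, rfl, hc⟩ := hΥ z hz
      rw [(mul_eq_zero.1 hc).resolve_right hb, zero_smul]
      exact Submodule.zero_mem _
    have hDx : KaehlerDifferential.D K L x = 0 := by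
      have h1 := Derivation.map_aeval (KaehlerDifferential.D K L) m x
      rw [minpoly.aeval, map_zero] at h1
      exact (smul_eq_zero.1 h1.symm).resolve_left hb
    haveI hsub : Subsingleton Ω[L⁄K] := subsingleton_of_forall_eq 0 fun ω => by
      have := hgen ω
      rwa [hDx, Submodule.span_zero_singleton, Submodule.mem_bot] at this
    refine ⟨inferInstance, ?_, ?_, fun _ => ?_⟩
    · rw [h0]; infer_instance
    · rw [h0, finrank_bot, Module.finrank_zero_of_subsingleton]
    · rw [h0, finrank_bot, Module.finrank_zero_of_subsingleton]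

end Groth.Agent.EGA41Lib
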