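import Groth.Agent.EGA41Lib.CohenLifting
import Groth.Agent.EGA41Lib.FieldSeparableSmooth
import Groth.Agent.CAlgMisc1.Basic
import Groth.Agent.CAlgH.AdicSmoothRegular

/-!
# Comparison of formally smooth complete algebras with flat ones
-/

set_option autoImplicit false

universe u

open IsLocalRing TensorProduct

namespace Groth.Agent.EGA41Lib

variable {A B C : Type u} [CommRing A] [CommRing B] [CommRing C] [Algebra A B] [Algebra A C]

/-- Proper ideals of local Noetherian rings have Hausdorff quotients. -/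
theorem isHausdorff_quotient_map [IsLocalRing C] [IsNoetherianRing C] {J : Ideal C} (hJ : J ≠ ⊤)
    {𝔠 : Ideal C} (hc : 𝔠 ≤ maximalIdeal C) : IsHausdorff (𝔠.map (Ideal.Quotient.mk J)) (C ⧸ J) := by
  haveI : Nontrivial (C ⧸ J) := Ideal.Quotient.nontrivial_iff.2 hJ
  haveI : IsLocalRing (C ⧸ J) := IsLocalRing.of_surjective' (Ideal.Quotient.mk J) Ideal.Quotient.mk_surjective
  refine IsHausdorff.of_isLocalRing _ _ fun h => ?_
  have h1 := congrArg (Ideal.comap (Ideal.Quotient.mk J)) h
  rw [Ideal.comap_map_of_surjective _ Ideal.Quotient.mk_surjective, ← RingHom.ker_eq_comap_bot, Ideal.mk_ker,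
    Ideal.comap_top] at h1
  exact (maximalIdeal.isMaximal C).ne_top (_root_.eq_top_iff.2 (h1.ge.trans (sup_le hc (le_maximalIdeal hJ))))

/-- Lifting a map of a formally smooth local algebra into a complete Noetherian local ring. -/
theorem exists_algHom_lift [IsLocalRing B] [IsLocalRing C] [IsNoetherianRing C] [IsAdicComplete (maximalIdeal C) C]
    (hB : CAlgX.IsAdicFormallySmooth A B (maximalIdeal B)) (J : Ideal C) (hJ : J ≠ ⊤) (u : B →ₐ[A] C ⧸ J)
    (hu : (maximalIdeal B).map u.toRingHom ≤ (maximalIdeal C).map (Ideal.Quotient.mk J)) :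
    ∃ v : B →ₐ[A] C, IsLocalHom v.toRingHom ∧ (Ideal.Quotient.mkₐ A J).comp v = u := by
  haveI := isHausdorff_quotient_map hJ (le_refl (maximalIdeal C))
  obtain ⟨v, ⟨k, hk⟩, hv⟩ := exists_lift_adicComplete (⊥ : Ideal A) (maximalIdeal B) (maximalIdeal C)
    ((S4537.result _).1 hB) ⟨1, by rw [pow_one, Ideal.map_bot]; exact bot_le⟩ J
    ⟨1, by rw [pow_one]; exact le_maximalIdeal hJ⟩ u ⟨1, by rwa [pow_one]⟩
  refine ⟨v, ⟨fun x hx => ?_⟩, hv⟩
  by_contra hx'
  exact ((maximalIdeal.isMaximal C).isPrime.mem_of_pow_mem k (by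
    change v.toRingHom x ^ k ∈ _
    rw [← map_pow]
    exact hk (Ideal.mem_map_of_mem _ (Ideal.pow_mem_pow ((mem_maximalIdeal x).2 hx') k)))) hx

/-- A map into a flat algebra which is bijective modulo a topologically nilpotent ideal is bijective. -/
theorem bijective_of_bijective_mod [IsLocalRing B] [IsNoetherianRing B] [IsLocalRing C] [IsNoetherianRing C]
    [Module.Flat A C] (J : Ideal A) (hJB : J.map (algebraMap A B) ≤ maximalIdeal B)
    (hJC : J.map (algebraMap A C) ≤ maximalIdeal C) [IsPrecomplete (J.map (algebraMap A B)) B] (w : B →ₐ[A] C)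
    (hs : ∀ y, ∃ b, y - w b ∈ J.map (algebraMap A C))
    (h0 : ∀ b, w b ∈ J.map (algebraMap A C) → b ∈ J.map (algebraMap A B)) : Function.Bijective w := by
  have hmap : (J.map (algebraMap A B)).map w.toRingHom = J.map (algebraMap A C) := by
    rw [Ideal.map_map]
    congr 1
    exact w.comp_algebraMap
  haveI : IsHausdorff ((J.map (algebraMap A B)).map w.toRingHom) C := by
    rw [hmap]
    exact IsHausdorff.of_isLocalRing _ _ (ne_top_of_le_ne_top (maximalIdeal.isMaximal C).ne_top hJC)
  have hsurj : Function.Surjective w := surjective_of_mod w.toRingHom (J.map (algebraMap A B)) (fun y => by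
    rw [hmap]; exact hs y)
  exact ⟨injective_of_flat J (hJB.trans (IsLocalRing.maximalIdeal_le_jacobson _)) w hsurj h0, hsurj⟩

/-- An isomorphism of special fibres lifts, from a formally smooth complete algebra to a flat complete one. -/
theorem exists_algEquiv_lift [IsLocalRing B] [IsNoetherianRing B] [IsAdicComplete (maximalIdeal B) B]
    [IsLocalRing C] [IsNoetherianRing C] [IsAdicComplete (maximalIdeal C) C] [Module.Flat A C]
    (hB : CAlgX.IsAdicFormallySmooth A B (maximalIdeal B)) (J : Ideal A)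
    (hJB : J.map (algebraMap A B) ≤ maximalIdeal B) (hJC : J.map (algebraMap A C) ≤ maximalIdeal C)
    {R : Type u} [CommRing R] (ρB : B →+* R) (ρC : C →+* R) (hρB : Function.Surjective ρB) (hρC : Function.Surjective ρC)
    (hkB : RingHom.ker ρB = J.map (algebraMap A B)) (hkC : RingHom.ker ρC = J.map (algebraMap A C))
    (hcomm : ρB.comp (algebraMap A B) = ρC.comp (algebraMap A C)) :
    ∃ w : B ≃ₐ[A] C, ∀ b, ρC (w b) = ρB b := by
  let e : (C ⧸ RingHom.ker ρC) ≃+* R := RingHom.quotientKerEquivOfSurjective hρC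
  have he : ∀ c, e (Ideal.Quotient.mk _ c) = ρC c := fun c => rfl
  let u : B →ₐ[A] C ⧸ RingHom.ker ρC :=
    { toRingHom := e.symm.toRingHom.comp ρB
      commutes' := fun a => by
        change e.symm (ρB (algebraMap A B a)) = Ideal.Quotient.mk _ (algebraMap A C a)
        rw [RingEquiv.symm_apply_eq, he]
        exact RingHom.congr_fun hcomm a }
  have hne : RingHom.ker ρC ≠ ⊤ := ne_top_of_le_ne_top (maximalIdeal.isMaximal C).ne_top (hkC ▸ hJC)
  obtain ⟨w, -, hw⟩ := exists_algHom_lift hB (RingHom.ker ρC) hne u (Ideal.map_le_iff_le_comap.2 fun x hx => by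
    rw [Ideal.mem_comap]
    change e.symm (ρB x) ∈ _
    obtain ⟨c, hc⟩ := hρC (ρB x)
    rw [show e.symm (ρB x) = Ideal.Quotient.mk _ c by rw [RingEquiv.symm_apply_eq, he, hc]]
    refine Ideal.mem_map_of_mem _ ((mem_maximalIdeal c).2 fun hu => ?_)
    have h1 : IsUnit (ρB x) := hc ▸ hu.map ρC
    obtain ⟨y, hy⟩ := h1.exists_right_inv
    obtain ⟨y, rfl⟩ := hρB y
    have h2 : x * y - 1 ∈ maximalIdeal B := hJB (hkB ▸ (by
      rw [RingHom.mem_ker, map_sub, map_mul, hy, map_one, sub_self]))
    exact (maximalIdeal.isMaximal B).ne_top ((Ideal.eq_top_iff_one _).2 (by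
      simpa using Submodule.sub_mem _ (Ideal.mul_mem_right y _ hx) h2)))
  have hw' : ∀ b, ρC (w b) = ρB b := fun b => by
    have h1 : Ideal.Quotient.mk (RingHom.ker ρC) (w b) = e.symm (ρB b) := DFunLike.congr_fun hw b
    rw [← he, h1, RingEquiv.apply_symm_apply]
  haveI : IsAdicComplete (J.map (algebraMap A B)) B :=
    CAlgMisc1.isAdicComplete_of_le _ _ hJB (IsNoetherian.noetherian _) B
  refine ⟨AlgEquiv.ofBijective w (bijective_of_bijective_mod J hJB hJC w (fun y => ?_) (fun b hb => ?_)), hw'⟩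
  · obtain ⟨b, hb⟩ := hρB (ρC y)
    exact ⟨b, hkC ▸ (by rw [RingHom.mem_ker, map_sub, hw', hb, sub_self])⟩
  · rw [← hkC, RingHom.mem_ker, hw'] at hb
    exact hkB ▸ hb

/-- Cohen algebras are formally smooth. -/
theorem isAdicFormallySmooth_of_isCohenAlgebra [IsLocalRing A] [IsLocalRing B] [IsLocalHom (algebraMap A B)]
    (h : EGA41.IsCohenAlgebra A B) : CAlgX.IsAdicFormallySmooth A B (maximalIdeal B) := by
  obtain ⟨hA, hB, -, hflat, hm, hK⟩ := h
  haveI := hA
  haveI := hB
  haveI := hflat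
  haveI : Algebra.FormallySmooth (ResidueField A) (ResidueField B) :=
    (formallySmooth_iff_isGeometricallyReduced_field _ _).2 hK
  refine CAlgH.AdicSmooth.of_flat_of_fibre (residue A) residue_surjective (residue B) residue_surjective
    ?_ rfl (maximalIdeal B) ?_ CAlgH.AdicSmooth.of_formallySmooth
  · rw [ker_residue, ker_residue, hm]
  · rw [ker_residue, hm]

end Groth.Agent.EGA41Lib
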