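import Groth.Agent.EGA41Lib.AdicBridge
import Groth.Agent.CAlgH.CohenLift
import Groth.Agent.CAlgH.FlatQuotient
import Groth.Agent.CAlgH.AdicSmoothFlatness
import Groth.Agent.AdicRing.Basic
import Groth.Agent.AdicRing.ComplHom
import Groth.Prelude.Def_EGA4b

/-!
# Cohen rings: formal smoothness, and comparison maps of complete algebras
-/

set_option autoImplicit false

universe u

open IsLocalRing TensorProduct

namespace Groth.Agent.EGA41Lib

/-- The unique algebra structure over the integers, lifted to any universe. -/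
@[instance_reducible] noncomputable def intULiftAlgebra (S : Type u) [CommRing S] : Algebra (ULift.{u} ℤ) S :=
  ((Int.castRingHom S).comp (ULift.ringEquiv (R := ℤ)).toRingHom).toAlgebra

attribute [local instance 50] intULiftAlgebra

/-- A field of characteristic zero is formally smooth over `ℤ`. -/
theorem formallySmooth_int_of_charZero (W : Type u) [Field W] [CharZero W] : Algebra.FormallySmooth ℤ W := by
  haveI : Algebra.FormallySmooth ℤ ℚ := Algebra.FormallySmooth.of_isLocalization (nonZeroDivisors ℤ)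
  haveI : Algebra.FormallySmooth ℚ W := CAlgH.formallySmooth_of_perfectField_any ℚ W
  exact Algebra.FormallySmooth.comp ℤ ℚ W

/-- A Cohen ring is formally smooth over the integers for its adic topology, in any universe. -/
theorem isAdicFormallySmooth_cohen (W : Type u) [CommRing W] [IsLocalRing W] (hW : EGA41.IsCohenRingEGA W) :
    CAlgX.IsAdicFormallySmooth (ULift.{u} ℤ) W (maximalIdeal W) := by
  have hZ : ∀ {S : Type u} [CommRing S] [Algebra (ULift.{u} ℤ) S] (z : ℤ), algebraMap (ULift.{u} ℤ) S ⟨z⟩ = (z : S) :=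
    fun {S} _ _ z => map_intCast ((algebraMap (ULift.{u} ℤ) S).comp (ULift.ringEquiv (R := ℤ)).symm.toRingHom) z
  intro A _ _ J hJ ψ ⟨k, hk⟩
  rcases hW with ⟨hF, hC⟩ | ⟨_, _, -, p, hp, hm⟩
  · letI := hF.toField
    haveI := formallySmooth_int_of_charZero W
    obtain ⟨χ, hχ⟩ := Algebra.FormallySmooth.comp_surjective ℤ W J hJ ψ.toRingHom.toIntAlgHom
    refine ⟨{ toRingHom := χ.toRingHom, commutes' := fun z => ?_ }, AlgHom.ext fun x => DFunLike.congr_fun hχ x⟩
    obtain ⟨z⟩ := z
    rw [hZ, hZ]
    exact map_intCast χ z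
  · haveI := Fact.mk hp
    have hmax : (Ideal.span {(p : W)}).IsMaximal := hm ▸ maximalIdeal.isMaximal W
    have h0 : (p : W) ≠ 0 := fun h => IsDiscreteValuationRing.not_a_field W (by
      rw [hm, h, Ideal.span_singleton_zero])
    let N := k + k + 1
    have hA : ((p ^ N : ℕ) : A) = 0 := by
      have h1 : ((p ^ k : ℕ) : A) ∈ J := by
        rw [← Ideal.Quotient.eq_zero_iff_mem, map_natCast, ← map_natCast ψ, Nat.cast_pow]
        exact hk _ (Ideal.pow_mem_pow (hm ▸ Ideal.mem_span_singleton_self _) k)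
      have h2 : ((p ^ k : ℕ) : A) * ((p ^ k : ℕ) : A) = 0 := by
        rw [← Submodule.mem_bot A, ← hJ, pow_two]
        exact Ideal.mul_mem_mul h1 h1
      rw [show p ^ N = p ^ k * p ^ k * p by simp [N, pow_add], Nat.cast_mul, Nat.cast_mul, h2, zero_mul]
    let S := W ⧸ Ideal.span {((p : W) ^ N)}
    have hS : ((p ^ N : ℕ) : S) = 0 := by
      rw [← map_natCast (Ideal.Quotient.mk (Ideal.span {((p : W) ^ N)})), Ideal.Quotient.eq_zero_iff_mem, Nat.cast_pow]
      exact Ideal.mem_span_singleton_self _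
    let cA : ZMod (p ^ N) →+* A :=
      haveI := ringChar.charP A
      ZMod.castHom ((ringChar.spec A _).mp hA) A
    let cS : ZMod (p ^ N) →+* S :=
      haveI := ringChar.charP S
      ZMod.castHom ((ringChar.spec S _).mp hS) S
    letI : Algebra (ZMod (p ^ N)) A := cA.toAlgebra
    letI : Algebra (ZMod (p ^ N)) S := cS.toAlgebra
    haveI := CAlgH.formallySmooth_zmod_quotient W p hmax h0 N (by omega)
    let ψ' : S →+* A ⧸ J := Ideal.Quotient.lift _ ψ.toRingHom fun a ha => by
      obtain ⟨b, rfl⟩ := Ideal.mem_span_singleton'.mp ha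
      rw [show b * (p : W) ^ N = b * ((p ^ N : ℕ) : W) by push_cast; rfl, map_mul, map_natCast,
        ← map_natCast (Ideal.Quotient.mk J), hA, map_zero, mul_zero]
    obtain ⟨χ, hχ⟩ := Algebra.FormallySmooth.comp_surjective (ZMod (p ^ N)) S J hJ
      { toRingHom := ψ', commutes' := fun c => DFunLike.congr_fun (Subsingleton.elim (ψ'.comp (algebraMap _ _)) (algebraMap _ _)) c }
    refine ⟨{ toRingHom := χ.toRingHom.comp (Ideal.Quotient.mk _), commutes' := fun z => ?_ },
      AlgHom.ext fun x => DFunLike.congr_fun hχ (Ideal.Quotient.mk _ x)⟩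
    obtain ⟨z⟩ := z
    rw [hZ, hZ]
    exact map_intCast (χ.toRingHom.comp (Ideal.Quotient.mk _)) z

/-- Lifting from a Cohen ring into a complete ring. -/
theorem exists_lift_cohen_ideal {W C : Type u} [CommRing W] [IsLocalRing W] (hW : EGA41.IsCohenRingEGA W)
    [CommRing C] [IsLocalRing C] [IsNoetherianRing C] [IsAdicComplete (maximalIdeal C) C]
    (J : Ideal C) (hJ : J ≠ ⊤) (u : W →+* C ⧸ J) (hu : (maximalIdeal W).map u ≤ (maximalIdeal C).map (Ideal.Quotient.mk J)) :
    ∃ v : W →+* C, IsLocalHom v ∧ (Ideal.Quotient.mk J).comp v = u := by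
  have hne : (maximalIdeal C).map (Ideal.Quotient.mk J) ≠ ⊤ := fun h => by
    have h1 := congrArg (Ideal.comap (Ideal.Quotient.mk J)) h
    rw [Ideal.comap_map_of_surjective _ Ideal.Quotient.mk_surjective, ← RingHom.ker_eq_comap_bot, Ideal.mk_ker,
      sup_eq_left.2 (le_maximalIdeal hJ), Ideal.comap_top] at h1
    exact (maximalIdeal.isMaximal C).ne_top h1
  haveI : Nontrivial (C ⧸ J) := Ideal.Quotient.nontrivial_iff.2 hJ
  haveI : IsLocalRing (C ⧸ J) := IsLocalRing.of_surjective' (Ideal.Quotient.mk J) Ideal.Quotient.mk_surjective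
  haveI : IsHausdorff ((maximalIdeal C).map (Ideal.Quotient.mk J)) (C ⧸ J) :=
    IsHausdorff.of_isLocalRing _ _ hne
  let uₐ : W →ₐ[ULift.{u} ℤ] C ⧸ J :=
    { toRingHom := u
      commutes' := fun z => (map_intCast u z.down).trans (map_intCast (Ideal.Quotient.mk J) z.down).symm }
  obtain ⟨v, ⟨k, hk⟩, hv⟩ := exists_lift_adicComplete (⊥ : Ideal (ULift.{u} ℤ)) (maximalIdeal W) (maximalIdeal C)
    ((S4537.result _).1 (isAdicFormallySmooth_cohen W hW)) ⟨1, by rw [pow_one, Ideal.map_bot]; exact bot_le⟩ J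
    ⟨1, by rw [pow_one]; exact le_maximalIdeal hJ⟩ uₐ ⟨1, by rwa [pow_one]⟩
  refine ⟨v.toRingHom, ⟨fun x hx => ?_⟩, RingHom.ext fun x => DFunLike.congr_fun hv x⟩
  by_contra hx'
  exact ((maximalIdeal.isMaximal C).isPrime.mem_of_pow_mem k (by
    rw [← map_pow]
    exact hk (Ideal.mem_map_of_mem _ (Ideal.pow_mem_pow ((mem_maximalIdeal x).2 hx') k)))) hx

/-- A map from a complete ring to a Hausdorff one, surjective modulo the ideal, is surjective. -/
theorem surjective_of_mod {B B' : Type u} [CommRing B] [CommRing B'] (w : B →+* B') (I : Ideal B)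
    [IsPrecomplete I B] [IsHausdorff (I.map w) B'] (h : ∀ y, ∃ b, y - w b ∈ I.map w) : Function.Surjective w := by
  letI := w.toAlgebra
  have hp : ∀ n : ℕ, (I ^ n • ⊤ : Submodule B B') = ((I.map w) ^ n).restrictScalars B := fun n => by
    rw [← Ideal.map_pow]
    exact Ideal.smul_top_eq_map _
  haveI : IsHausdorff I B' := ⟨fun x hx => IsHausdorff.haus (I := I.map w) inferInstance x fun n => by
    have h1 := hx n
    rw [SModEq.sub_mem, hp] at h1
    rw [SModEq.sub_mem, smul_eq_mul, Ideal.mul_top]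
    exact h1⟩
  refine AdicRing.surjective_of_sup_smul_top (I := I) (Algebra.linearMap B B') ?_
  rw [_root_.eq_top_iff]
  intro y _
  obtain ⟨b, hb⟩ := h y
  refine Submodule.mem_sup.2 ⟨w b, ⟨b, rfl⟩, y - w b, ?_, add_sub_cancel _ _⟩
  rw [← pow_one I, hp, pow_one]
  exact hb

/-- A surjection onto a flat algebra which is injective modulo a topologically nilpotent ideal is injective. -/
theorem injective_of_flat {A B B' : Type u} [CommRing A] [CommRing B] [IsNoetherianRing B] [CommRing B'] [Algebra A B]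
    [Algebra A B'] [Module.Flat A B'] (J : Ideal A) (hJ : J.map (algebraMap A B) ≤ (⊥ : Ideal B).jacobson)
    (w : B →ₐ[A] B') (hw : Function.Surjective w)
    (h0 : ∀ b, w b ∈ J.map (algebraMap A B') → b ∈ J.map (algebraMap A B)) : Function.Injective w := by
  let K : Submodule A B := LinearMap.ker w.toLinearMap
  haveI : Module.Flat A (B ⧸ K) := Module.Flat.of_linearEquiv (w.toLinearMap.quotKerEquivOfSurjective hw)
  let Kid : Ideal B := RingHom.ker w.toRingHom
  have h1 : ∀ x ∈ Kid, x ∈ (J.map (algebraMap A B)) • Kid := fun x hx => by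
    have hxJ : x ∈ (J • ⊤ : Submodule A B) := by
      rw [Ideal.smul_top_eq_map]
      exact h0 x (by rw [show w x = 0 from hx]; exact Submodule.zero_mem _)
    have h2 := CAlgH.inf_smul_top_le_of_flat_quotient K J ⟨hx, hxJ⟩
    clear hx hxJ
    induction h2 using Submodule.smul_induction_on' with
    | smul a ha y hy =>
      rw [← algebraMap_smul B a y]
      exact Submodule.smul_mem_smul (Ideal.mem_map_of_mem (algebraMap A B) ha) (show y ∈ Kid from hy)
    | add y _ z _ hy hz => exact add_mem hy hz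
  have hK : Kid = ⊥ := Submodule.eq_bot_of_le_smul_of_le_jacobson_bot _ _ (IsNoetherian.noetherian _) h1 hJ
  exact (RingHom.injective_iff_ker_eq_bot w.toRingHom).2 hK

/-- Complete flat lifts of complete regular algebras over the residue field. -/
theorem exists_flat_lift_residueField (A : Type u) [CommRing A] [IsLocalRing A] [IsNoetherianRing A]
    (B₀ : Type u) [CommRing B₀] [IsRegularLocalRing B₀] [IsAdicComplete (maximalIdeal B₀) B₀]
    [Algebra (ResidueField A) B₀] :
    ∃ (C : Type u) (_ : CommRing C) (_ : IsLocalRing C) (_ : Algebra A C) (ρ : C →+* B₀),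
      IsNoetherianRing C ∧ IsAdicComplete (maximalIdeal C) C ∧ Module.Flat A C ∧ IsLocalHom (algebraMap A C) ∧
      Function.Surjective ρ ∧ RingHom.ker ρ = (maximalIdeal A).map (algebraMap A C) ∧
      ρ.comp (algebraMap A C) = (algebraMap (ResidueField A) B₀).comp (residue A) := by
  let A' := EGA4.Cpl A
  have hfg := IsNoetherian.noetherian (maximalIdeal A)
  haveI : IsNoetherianRing A' := AdicRing.isNoetherianRing_completion _ hfg
  haveI hAc : IsAdicComplete ((maximalIdeal A).map (algebraMap A A')) A' :=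
    (IsAdicComplete.map_algebraMap_iff _ _).mpr (AdicCompletion.isAdicComplete hfg)
  have hm : maximalIdeal A' = (maximalIdeal A).map (algebraMap A A') :=
    AdicCompletion.maximalIdeal_eq_map
  haveI : IsAdicComplete (maximalIdeal A') A' := hm ▸ hAc
  let α : A' →+* ResidueField A := (AdicCompletion.evalOneₐ (maximalIdeal A)).toRingHom
  have hα : Function.Surjective α := AdicCompletion.evalOneₐ_surjective _
  obtain ⟨C, iC, lC, iA, ρ, h1, h2, h3, h4, h5, h6, h7⟩ := CAlgH.AdicSmooth.exists_flat_lift A' α hα B₀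
  letI : Algebra A C := ((algebraMap A' C).comp (algebraMap A A')).toAlgebra
  haveI : IsScalarTower A A' C := .of_algebraMap_eq fun _ => rfl
  haveI := h3
  haveI := h4
  haveI : Module.Flat A A' := AdicCompletion.flat_of_isNoetherian _
  haveI : Module.Flat A C := Module.Flat.trans A A' C
  haveI hloc : IsLocalHom (algebraMap A A') := ⟨fun a ha => by
    by_contra h
    exact (maximalIdeal.isMaximal A').ne_top (Ideal.eq_top_of_isUnit_mem _
      (hm ▸ Ideal.mem_map_of_mem _ ((mem_maximalIdeal a).2 h)) ha)⟩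
  refine ⟨C, iC, lC, inferInstance, ρ, h1, h2, inferInstance, ⟨fun a ha => hloc.map_nonunit a (h4.map_nonunit _ ha)⟩,
    h5, ?_, ?_⟩
  · rw [h6, hm, Ideal.map_map]
    rfl
  · refine Eq.trans (congrArg (fun f => RingHom.comp f (algebraMap A A')) h7) (RingHom.ext fun a => ?_)
    simp only [RingHom.comp_apply]
    congr 1

end Groth.Agent.EGA41Lib
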