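import Groth.Agent.EGA41Lib.SymGrJacobi
import Groth.Agent.CAlgH.FieldSmooth
import Groth.Agent.EGA41Lib.AdmissibleFamily

/-!
# Change of the base of absolute differentials; prime fields
-/

set_option autoImplicit false

universe u v w

open TensorProduct KaehlerDifferential

namespace Groth.Agent.EGA41Lib.SymGr

section Naturality

variable {L : Type w} {L' : Type v} {k A : Type u} [CommRing L] [CommRing L'] [CommRing k] [CommRing A] [Algebra k A]
  [Algebra L L'] [Algebra L k] [Algebra L' k] [Algebra L A] [Algebra L' A] [IsScalarTower L L' k] [IsScalarTower L L' A]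
  [IsScalarTower L k A] [IsScalarTower L' k A]

theorem mapBaseChange_natural (z : A ⊗[k] Ω[k⁄L]) :
    KaehlerDifferential.map L L' A A (mapBaseChange L k A z) =
      mapBaseChange L' k A ((KaehlerDifferential.map L L' k k).baseChange A z) := by
  induction z with
  | zero => simp
  | add x y hx hy => simp only [map_add, hx, hy]
  | tmul a ω =>
    rw [LinearMap.baseChange_tmul, mapBaseChange_tmul, mapBaseChange_tmul, map_smul]
    congr 1
    have hω : ω ∈ Submodule.span k (Set.range (KaehlerDifferential.D L k)) := by
      rw [KaehlerDifferential.span_range_derivation]; trivial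
    induction hω using Submodule.span_induction with
    | mem x hx =>
      obtain ⟨b, rfl⟩ := hx
      simp only [KaehlerDifferential.map_D, Algebra.algebraMap_self, RingHom.id_apply]
    | zero => simp
    | add x y _ _ hx hy => simp only [map_add, hx, hy]
    | smul b x _ hx =>
      rw [map_smul, LinearMap.map_smul_of_tower, hx, map_smul, map_smul]

theorem lTensor_mapBaseChange_natural (K : Type u) [AddCommGroup K] [Module A K] (z : K ⊗[A] (A ⊗[k] Ω[k⁄L])) :
    (KaehlerDifferential.map L L' A A).lTensor K ((mapBaseChange L k A).lTensor K z) =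
      (mapBaseChange L' k A).lTensor K (((KaehlerDifferential.map L L' k k).baseChange A).lTensor K z) := by
  induction z with
  | zero => simp
  | add x y hx hy => simp only [map_add, hx, hy]
  | tmul c y => rw [LinearMap.lTensor_tmul, LinearMap.lTensor_tmul, LinearMap.lTensor_tmul, LinearMap.lTensor_tmul,
      mapBaseChange_natural]

omit [Algebra k A] [Algebra L A] [Algebra L' A] [IsScalarTower L L' A] [IsScalarTower L k A] [IsScalarTower L' k A] in
theorem bijective_map_of_subsingleton [Subsingleton (Ω[L'⁄L])] :
    Function.Bijective (KaehlerDifferential.map L L' k k) := by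
  refine ⟨?_, KaehlerDifferential.map_surjective L L' k⟩
  rw [injective_iff_map_eq_zero]
  intro ω hω
  obtain ⟨z, rfl⟩ := (KaehlerDifferential.exact_mapBaseChange_map L L' k ω).1 hω
  induction z with
  | zero => simp
  | add x y hx hy =>
    rw [map_add] at hω ⊢
    rw [hx (KaehlerDifferential.exact_mapBaseChange_map L L' k |>.apply_apply_eq_zero x),
      hy (KaehlerDifferential.exact_mapBaseChange_map L L' k |>.apply_apply_eq_zero y), add_zero]
  | tmul a ξ => rw [Subsingleton.elim ξ 0, TensorProduct.tmul_zero, map_zero]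

theorem injective_lTensor_iff [Subsingleton (Ω[L'⁄L])] (K : Type u) [AddCommGroup K] [Module A K] :
    Function.Injective ((mapBaseChange L k A).lTensor K) ↔ Function.Injective ((mapBaseChange L' k A).lTensor K) := by
  let e₀ := LinearEquiv.ofBijective (KaehlerDifferential.map L L' k k) bijective_map_of_subsingleton
  have he₁ : Function.Bijective (((KaehlerDifferential.map L L' k k).baseChange A).lTensor K) :=
    (LinearEquiv.lTensor K (LinearEquiv.baseChange k A _ _ e₀)).bijective
  have he₂ : Function.Bijective ((KaehlerDifferential.map L L' A A).lTensor K) :=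
    (LinearEquiv.lTensor K (LinearEquiv.ofBijective _ (bijective_map_of_subsingleton (L := L) (L' := L') (k := A)))).bijective
  rw [← he₂.1.of_comp_iff ((mapBaseChange L k A).lTensor K),
    show (KaehlerDifferential.map L L' A A).lTensor K ∘ (mapBaseChange L k A).lTensor K =
      (mapBaseChange L' k A).lTensor K ∘ ((KaehlerDifferential.map L L' k k).baseChange A).lTensor K from
      funext (lTensor_mapBaseChange_natural K)]
  exact Function.Injective.of_comp_iff' _ he₁

end Naturality

section Prime

variable {k : Type u} [Field k]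

theorem bot_induction {P : ∀ x : (⊥ : Subfield k), Prop} (h1 : P 1) (hadd : ∀ x y, P x → P y → P (x + y))
    (hneg : ∀ x, P x → P (-x)) (hmul : ∀ x y, P x → P y → P (x * y)) (hinv : ∀ x, P x → P x⁻¹)
    (x : (⊥ : Subfield k)) : P x := by
  have h : ∀ y, y ∈ Subfield.closure (∅ : Set k) → ∃ hy : y ∈ (⊥ : Subfield k), P ⟨y, hy⟩ := fun y hy => by
    induction hy using Subfield.closure_induction with
    | mem y hy => exact hy.elim
    | one => exact ⟨one_mem _, h1⟩
    | add a b _ _ ha hb => obtain ⟨ha, ha'⟩ := ha; obtain ⟨hb, hb'⟩ := hb; exact ⟨add_mem ha hb, hadd _ _ ha' hb'⟩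
    | neg a _ ha => obtain ⟨ha, ha'⟩ := ha; exact ⟨neg_mem ha, hneg _ ha'⟩
    | inv a _ ha => obtain ⟨ha, ha'⟩ := ha; exact ⟨inv_mem ha, hinv _ ha'⟩
    | mul a b _ _ ha hb => obtain ⟨ha, ha'⟩ := ha; obtain ⟨hb, hb'⟩ := hb; exact ⟨mul_mem ha hb, hmul _ _ ha' hb'⟩
  obtain ⟨_, hx⟩ := h x (by rw [Subfield.closure_empty]; exact x.2)
  exact hx

instance subsingleton_kaehler_bot : Subsingleton (Ω[(⊥ : Subfield k)⁄ℤ]) := by
  refine subsingleton_of_forall_eq 0 fun ω => ?_
  have hω : ω ∈ Submodule.span (⊥ : Subfield k) (Set.range (KaehlerDifferential.D ℤ (⊥ : Subfield k))) := by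
    rw [KaehlerDifferential.span_range_derivation]; trivial
  induction hω using Submodule.span_induction with
  | mem x hx =>
    obtain ⟨a, rfl⟩ := hx
    induction a using bot_induction with
    | h1 => exact Derivation.map_one_eq_zero _
    | hadd x y hx hy => rw [map_add, hx, hy, add_zero]
    | hneg x hx => rw [map_neg, hx, neg_zero]
    | hmul x y hx hy => rw [Derivation.leibniz, hx, hy, smul_zero, smul_zero, add_zero]
    | hinv x hx => rw [Derivation.leibniz_inv, hx, smul_zero]
  | zero => rfl
  | add x y _ _ hx hy => rw [hx, hy, add_zero]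
  | smul b x _ hx => rw [hx, smul_zero]

theorem perfectField_bot : PerfectField (⊥ : Subfield k) := by
  obtain ⟨p, hp⟩ := CharP.exists k
  haveI : CharP (⊥ : Subfield k) p :=
    RingHom.charP (Subfield.subtype (⊥ : Subfield k)) Subtype.val_injective p
  rcases CharP.char_is_prime_or_zero k p with h | h
  · haveI := Fact.mk h
    haveI : ExpChar (⊥ : Subfield k) p := ExpChar.prime h
    have hfix : ∀ x : (⊥ : Subfield k), x ^ p = x := fun x => by
      induction x using bot_induction with
      | h1 => exact one_pow p
      | hadd x y hx hy => rw [add_pow_char, hx, hy]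
      | hneg x hx => rw [← zero_sub, sub_pow_char, hx, zero_pow h.ne_zero]
      | hmul x y hx hy => rw [mul_pow, hx, hy]
      | hinv x hx => rw [inv_pow, hx]
    haveI : PerfectRing (⊥ : Subfield k) p := PerfectRing.ofSurjective _ p fun x => ⟨x, hfix x⟩
    exact PerfectRing.toPerfectField _ p
  · subst h
    haveI := CharP.charP_to_charZero (⊥ : Subfield k)
    exact PerfectField.ofCharZero

end Prime

/-- Over a field: the criterion with the absolute differentials. -/
theorem isAdicFormallySmooth_iff_field {k A : Type u} [Field k] [CommRing A] [IsLocalRing A] [Algebra k A] :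
    CAlgX.IsAdicFormallySmooth k A (IsLocalRing.maximalIdeal A) ↔
      (PP16.SymGrBijective A (IsLocalRing.maximalIdeal A) ∧
        Function.Injective ((mapBaseChange ℤ k A).lTensor (IsLocalRing.ResidueField A))) := by
  haveI := perfectField_bot (k := k)
  let P := (⊥ : Subfield k)
  letI : Field (A ⧸ IsLocalRing.maximalIdeal A) := Ideal.Quotient.field _
  haveI : Algebra.FormallySmooth P (A ⧸ IsLocalRing.maximalIdeal A) :=
    Groth.Agent.CAlgH.formallySmooth_of_perfectField_any P _
  haveI : Algebra.FormallySmooth P k := Groth.Agent.CAlgH.formallySmooth_of_perfectField_any P _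
  have hiff := injective_lTensor_iff (L := ℤ) (L' := P) (k := k) (A := A) (A ⧸ IsLocalRing.maximalIdeal A)
  constructor
  · intro h
    have hP : CAlgX.IsAdicFormallySmooth P A (IsLocalRing.maximalIdeal A) :=
      Groth.Agent.CAlgH.AdicSmooth.trans (𝔫 := (⊥ : Ideal k)) (by rw [Ideal.map_bot]; exact bot_le)
        Groth.Agent.CAlgH.AdicSmooth.of_formallySmooth h
    exact ⟨symGrBijective hP, hiff.2 (injective_lTensor_of_adicSmooth h)⟩
  · rintro ⟨hg, hinj⟩
    have hP : CAlgX.IsAdicFormallySmooth P A (IsLocalRing.maximalIdeal A) := isAdicFormallySmooth_of_symGr hg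
    obtain ⟨r, hr⟩ := exists_retraction (J := IsLocalRing.maximalIdeal A) (hiff.1 hinj)
    exact isAdicFormallySmooth_of_retraction hP r hr

/-- A directed family of subfields generating exactly the `p`-th powers detects absolute differentials. -/
theorem isAdicFormallySmooth_iff_subfields {k A : Type u} [Field k] (p : ℕ) [Fact p.Prime] [CharP k p] [CommRing A]
    [IsLocalRing A] [Algebra k A] {ι : Type u} [Preorder ι] [IsDirected ι (fun a b => a ≤ b)] [Nonempty ι]
    (kα : ι → Subfield k) (hanti : Antitone kα)
    (hint : ⨅ α, (kα α ⊔ (frobenius k p).fieldRange) = (frobenius k p).fieldRange) :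
    CAlgX.IsAdicFormallySmooth k A (IsLocalRing.maximalIdeal A) ↔
      (PP16.SymGrBijective A (IsLocalRing.maximalIdeal A) ∧ ∃ α₀ : ι, ∀ α : ι, α₀ ≤ α →
        Function.Injective ((mapBaseChange (kα α) k A).lTensor (IsLocalRing.ResidueField A))) := by
  classical
  constructor
  · intro h
    exact ⟨(isAdicFormallySmooth_iff_field.1 h).1, Classical.arbitrary ι,
      fun α _ => injective_lTensor_of_adicSmooth h⟩
  rintro ⟨hg, α₀, hα₀⟩
  refine isAdicFormallySmooth_iff_field.2 ⟨hg, ?_⟩
  let P := (⊥ : Subfield k)
  letI : Field (A ⧸ IsLocalRing.maximalIdeal A) := Ideal.Quotient.field _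
  let K := A ⧸ IsLocalRing.maximalIdeal A
  rw [show Function.Injective ((mapBaseChange ℤ k A).lTensor (IsLocalRing.ResidueField A)) ↔ _ from
    injective_lTensor_iff (L := ℤ) (L' := P) (k := k) (A := A) K, injective_iff_map_eq_zero]
  intro z hz
  let c := TensorProduct.AlgebraTensorModule.cancelBaseChange k A A K (Ω[k⁄P])
  let J := {α : ι // α₀ ≤ α}
  haveI : Nonempty J := ⟨⟨α₀, le_rfl⟩⟩
  let F : J → IntermediateField P k := fun α =>
    (kα α.1).toIntermediateField fun x => (bot_le : (⊥ : Subfield k) ≤ kα α.1) x.2
  have hF : ∀ a b : J, ∃ d, F d ≤ F a ∧ F d ≤ F b := fun a b => by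
    obtain ⟨d, hd1, hd2⟩ := exists_ge_ge a.1 b.1
    exact ⟨⟨d, a.2.trans hd1⟩, hanti hd1, hanti hd2⟩
  have hpow : (⨅ i, powField p (F i)) = powField₀ p := by
    refine le_antisymm (fun x hx => ?_) (le_iInf fun i => le_sup_right)
    have h1 : x ∈ ⨅ α, (kα α ⊔ (frobenius k p).fieldRange) := by
      rw [Subfield.mem_iInf]
      intro β
      obtain ⟨d, hd1, hd2⟩ := exists_ge_ge α₀ β
      let G : IntermediateField P k := (kα β ⊔ (frobenius k p).fieldRange).toIntermediateField
        fun y => (bot_le : (⊥ : Subfield k) ≤ kα β ⊔ (frobenius k p).fieldRange) y.2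
      have hG : powField p (F ⟨d, hd1⟩) ≤ G :=
        sup_le (fun y hy => (le_sup_left : kα β ≤ kα β ⊔ (frobenius k p).fieldRange) (hanti hd2 hy))
          (IntermediateField.adjoin_le_iff.2 fun y ⟨b, hb⟩ =>
            (le_sup_right : (frobenius k p).fieldRange ≤ kα β ⊔ (frobenius k p).fieldRange)
              ⟨b, (frobenius_def p b).trans hb⟩)
      exact hG ((iInf_le (fun i => powField p (F i)) ⟨d, hd1⟩) hx)
    rw [hint] at h1
    obtain ⟨b, rfl⟩ := h1
    exact IntermediateField.subset_adjoin P _ ⟨b, (frobenius_def p b).symm⟩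
  obtain ⟨i, hi⟩ := Groth.Agent.EGA41Lib.exists_stage_injOn (L := K) F hF hpow (Submodule.span K {c z})
    (Submodule.fg_span_singleton _)
  have key : ∀ w : K ⊗[A] (A ⊗[k] Ω[k⁄P]), (KaehlerDifferential.map P (F i) k k).baseChange K (c w) =
      TensorProduct.AlgebraTensorModule.cancelBaseChange k A A K (Ω[k⁄F i])
        (((KaehlerDifferential.map P (F i) k k).baseChange A).lTensor K w) := fun w => by
    induction w with
    | zero => simp
    | add x y hx hy => simp only [map_add, hx, hy]
    | tmul a y =>
      induction y with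
      | zero => simp
      | add x y hx hy => simp only [TensorProduct.tmul_add, map_add, hx, hy]
      | tmul b ω => simp [c]
  have hzero : ((KaehlerDifferential.map P (F i) k k).baseChange A).lTensor K z = 0 := by
    letI : Algebra (kα i.1) (F i) := (RingHom.codRestrict (kα i.1).subtype (F i) fun x => x.2).toAlgebra
    haveI : IsScalarTower (kα i.1) (F i) k := IsScalarTower.of_algebraMap_eq fun _ => rfl
    haveI : IsScalarTower (kα i.1) (F i) A := IsScalarTower.of_algebraMap_eq fun x => by
      rw [IsScalarTower.algebraMap_apply (kα i.1) k A, IsScalarTower.algebraMap_apply (F i) k A]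
      rfl
    haveI : Subsingleton (Ω[F i⁄kα i.1]) :=
      KaehlerDifferential.subsingleton_of_surjective _ _ fun x => ⟨⟨(x : k), x.2⟩, rfl⟩
    have hinj := (injective_lTensor_iff (L := kα i.1) (L' := F i) (k := k) (A := A) K).1 (hα₀ i.1 i.2)
    refine hinj ?_
    have h2 := lTensor_mapBaseChange_natural (L := P) (L' := F i) (k := k) (A := A) K z
    rw [hz, map_zero] at h2
    exact h2.symm.trans (map_zero _).symm
  have := hi (c z) (Submodule.mem_span_singleton_self _) (by rw [key, hzero, map_zero])
  exact c.injective (this.trans (map_zero c).symm)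

end Groth.Agent.EGA41Lib.SymGr
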