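import Mathlib
import Groth.Prelude.Def_EGA41
import Groth.Agent.S4571
import Groth.Agent.S4528
import Groth.Agent.S2469
import Groth.Agent.EGA41Lib.AdicBridge
import Groth.Agent.EGA41Lib.AdicSmoothQuotientSplit
import Groth.Agent.CAlgH.RegularPowerSeries
import Groth.Agent.CAlgH.AdicSmoothField

/-!
# Completed differentials of a complete formally smooth local algebra over a field (EGA 0, 22.2.5)
-/

set_option autoImplicit false

universe u

open IsLocalRing TensorProduct KaehlerDifferential

namespace Groth.Agent.EGA41Lib.CKS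

theorem mem_ker_smul_of_one_tmul_eq_zero {A C M : Type u} [CommRing A] [CommRing C] [Algebra A C] [AddCommGroup M]
    [Module A M] (hsurj : Function.Surjective (algebraMap A C)) {w : M} (h : (1 : C) ⊗ₜ[A] w = 0) :
    w ∈ RingHom.ker (algebraMap A C) • (⊤ : Submodule A M) := by
  let J := RingHom.ker (algebraMap A C)
  let e : (A ⧸ J) ≃ₗ[A] C := (Submodule.quotEquivOfEq _ _ (by ext a; rfl)).trans
    ((Algebra.linearMap A C).quotKerEquivOfSurjective hsurj)
  have h2 : TensorProduct.congr e (LinearEquiv.refl A M) ((Submodule.Quotient.mk 1 : A ⧸ J) ⊗ₜ[A] w) = 0 := by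
    rw [TensorProduct.congr_tmul, show e (Submodule.Quotient.mk 1) = (1 : C) from map_one (algebraMap A C),
      LinearEquiv.refl_apply, h]
  have h3 := (TensorProduct.congr e (LinearEquiv.refl A M)).injective (h2.trans (map_zero _).symm)
  have h1 := congrArg (TensorProduct.quotTensorEquivQuotSMul M J) h3
  erw [TensorProduct.quotTensorEquivQuotSMul_mk_tmul, map_zero, one_smul, Submodule.Quotient.mk_eq_zero] at h1
  exact h1

section Free

variable {A M : Type u} [CommRing A] [IsLocalRing A] [IsNoetherianRing A] [IsAdicComplete (maximalIdeal A) A]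
  [AddCommGroup M] [Module A M]

theorem coeff_mem_pow {n : ℕ} (v : Fin n → M)
    (hgen : Submodule.span A (Set.range v) ⊔ maximalIdeal A • (⊤ : Submodule A M) = ⊤)
    (hind : ∀ c : Fin n → A, ∑ i, c i • v i ∈ maximalIdeal A • (⊤ : Submodule A M) → ∀ i, c i ∈ maximalIdeal A)
    {N : ℕ} (hN : 1 ≤ N) [Module.Projective (A ⧸ maximalIdeal A ^ N) ((A ⧸ maximalIdeal A ^ N) ⊗[A] M)]
    (c : Fin n → A) (hc : ∑ i, c i • v i ∈ maximalIdeal A ^ N • (⊤ : Submodule A M)) (i : Fin n) :
    c i ∈ maximalIdeal A ^ N := by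
  classical
  let R := A ⧸ maximalIdeal A ^ N
  let φ : (Fin n → R) →ₗ[R] R ⊗[A] M := Fintype.linearCombination R fun i => (1 : R) ⊗ₜ[A] v i
  have hφapp : ∀ d : Fin n → A, φ (fun i => algebraMap A R (d i)) = (1 : R) ⊗ₜ[A] ∑ i, d i • v i := fun d => by
    rw [Fintype.linearCombination_apply, TensorProduct.tmul_sum]
    exact Finset.sum_congr rfl fun i _ => by rw [algebraMap_smul, TensorProduct.tmul_smul]
  have hkill : ∀ w ∈ maximalIdeal A ^ N • (⊤ : Submodule A M), (1 : R) ⊗ₜ[A] w = 0 := fun w hw => by
    refine Submodule.smul_induction_on hw (fun a ha x _ => ?_) fun x y hx hy => by rw [TensorProduct.tmul_add, hx, hy, add_zero]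
    rw [← TensorProduct.smul_tmul, Algebra.smul_def, mul_one, Ideal.Quotient.algebraMap_eq,
      Ideal.Quotient.eq_zero_iff_mem.2 ha, TensorProduct.zero_tmul]
  have hgen' : ∀ j : ℕ, (⊤ : Submodule A M) ≤ Submodule.span A (Set.range v) ⊔ maximalIdeal A ^ j • ⊤ := by
    intro j
    induction j with
    | zero => rw [pow_zero, one_smul]; exact le_sup_right
    | succ j ih =>
      refine ih.trans (sup_le le_sup_left ?_)
      calc maximalIdeal A ^ j • (⊤ : Submodule A M)
          = maximalIdeal A ^ j • (Submodule.span A (Set.range v) ⊔ maximalIdeal A • ⊤) := by rw [hgen]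
        _ = maximalIdeal A ^ j • Submodule.span A (Set.range v) ⊔ maximalIdeal A ^ (j + 1) • ⊤ := by
          rw [Submodule.smul_sup, ← Submodule.mul_smul, ← pow_succ]
        _ ≤ _ := sup_le_sup_right Submodule.smul_le_right _
  have hφ : Function.Surjective φ := fun y => by
    induction y using TensorProduct.induction_on with
    | zero => exact ⟨0, map_zero _⟩
    | add a b ha hb =>
      obtain ⟨x, hx⟩ := ha
      obtain ⟨y, hy⟩ := hb
      exact ⟨x + y, by rw [map_add, hx, hy]⟩
    | tmul r w =>
      obtain ⟨a, ha, b, hb, rfl⟩ := Submodule.mem_sup.1 (hgen' N (Submodule.mem_top (x := w)))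
      obtain ⟨d, rfl⟩ := (Submodule.mem_span_range_iff_exists_fun A).1 ha
      refine ⟨r • fun i => algebraMap A R (d i), ?_⟩
      rw [map_smul, hφapp, TensorProduct.tmul_add,
        show r ⊗ₜ[A] b = r • ((1 : R) ⊗ₜ[A] b) by rw [TensorProduct.smul_tmul', smul_eq_mul, mul_one],
        hkill b hb, smul_zero, add_zero, TensorProduct.smul_tmul', smul_eq_mul, mul_one]
  obtain ⟨s, hs⟩ := Module.projective_lifting_property φ LinearMap.id hφ
  let e : (Fin n → R) →ₗ[R] (Fin n → R) := s ∘ₗ φ
  have he : ∀ z, e.restrictScalars A z - z ∈ maximalIdeal A • (⊤ : Submodule A (Fin n → R)) := fun z => by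
    choose d hd using fun i => Ideal.Quotient.mk_surjective ((e z - z) i)
    have h0 : φ (e z - z) = 0 := by
      rw [map_sub, show φ (e z) = φ z from LinearMap.congr_fun hs (φ z), sub_self]
    rw [show (e z - z) = fun i => algebraMap A R (d i) from funext fun i => (hd i).symm, hφapp] at h0
    have h1 := mem_ker_smul_of_one_tmul_eq_zero (A := A) (C := R) Ideal.Quotient.mk_surjective h0
    rw [Ideal.Quotient.algebraMap_eq, Ideal.mk_ker] at h1
    have h2 := hind d (Submodule.smul_mono (Ideal.pow_le_self (by omega)) le_rfl h1)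
    show e z - z ∈ _
    rw [pi_eq_sum_univ' (e z - z)]
    refine Submodule.sum_mem _ fun i _ => ?_
    rw [← hd i, ← Ideal.Quotient.algebraMap_eq, algebraMap_smul]
    exact Submodule.smul_mem_smul (h2 i) trivial
  have hesurj : Function.Surjective e := by
    have htop := SplitJac.top_le_range_sup_pow (e.restrictScalars A) (maximalIdeal A) he N
    have h0 : maximalIdeal A ^ N • (⊤ : Submodule A (Fin n → R)) = ⊥ := eq_bot_iff.2 (Submodule.smul_le.2 fun a ha z _ => by
      rw [Submodule.mem_bot, ← algebraMap_smul R a, Ideal.Quotient.algebraMap_eq, Ideal.Quotient.eq_zero_iff_mem.2 ha,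
        zero_smul])
    rw [h0, sup_bot_eq] at htop
    exact LinearMap.range_eq_top.1 (eq_top_iff.2 htop)
  have heinj : Function.Injective e := OrzechProperty.injective_of_surjective_endomorphism e hesurj
  have hc' : e (fun i => algebraMap A R (c i)) = e 0 := by
    show s (φ _) = _
    rw [hφapp, hkill _ hc, map_zero, map_zero]
  exact Ideal.Quotient.eq_zero_iff_mem.1 (congrFun (heinj hc') i)

/-- A complete module whose truncations are projective is free on lifts of a basis of the residue fibre. -/
theorem free_adicCompletion {n : ℕ} (v : Fin n → M)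
    (hgen : Submodule.span A (Set.range v) ⊔ maximalIdeal A • (⊤ : Submodule A M) = ⊤)
    (hind : ∀ c : Fin n → A, ∑ i, c i • v i ∈ maximalIdeal A • (⊤ : Submodule A M) → ∀ i, c i ∈ maximalIdeal A)
    (hproj : ∀ N : ℕ, Module.Projective (A ⧸ maximalIdeal A ^ N) ((A ⧸ maximalIdeal A ^ N) ⊗[A] M))
    [Module.Finite A (AdicCompletion (maximalIdeal A) M)] :
    Module.Free A (AdicCompletion (maximalIdeal A) M) ∧
      Module.finrank A (AdicCompletion (maximalIdeal A) M) = n := by
  classical
  let of := AdicCompletion.of (maximalIdeal A) M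
  let φ : (Fin n → A) →ₗ[A] AdicCompletion (maximalIdeal A) M := of ∘ₗ Fintype.linearCombination A v
  have hinj : Function.Injective φ := by
    rw [← LinearMap.ker_eq_bot, eq_bot_iff]
    intro c hc
    refine funext fun i => IsHausdorff.haus (I := maximalIdeal A) inferInstance (c i) fun N => ?_
    rw [SModEq.zero, smul_eq_mul, Ideal.mul_top]
    refine Ideal.pow_le_pow_right (Nat.le_succ N) ?_
    haveI := hproj (N + 1)
    refine coeff_mem_pow v hgen hind (by omega) c ?_ i
    have h := congrArg (AdicCompletion.eval (maximalIdeal A) M (N + 1)) (LinearMap.mem_ker.1 hc)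
    rw [map_zero] at h
    erw [AdicCompletion.eval_of] at h
    rw [Submodule.mkQ_apply, Submodule.Quotient.mk_eq_zero, Fintype.linearCombination_apply] at h
    exact h
  have hsurj : Function.Surjective φ := by
    rw [← LinearMap.range_eq_top, eq_top_iff]
    refine Submodule.le_of_le_smul_of_le_jacobson_bot (I := maximalIdeal A) Module.Finite.fg_top
      (IsLocalRing.maximalIdeal_le_jacobson _) fun x _ => ?_
    obtain ⟨w, hw⟩ := Submodule.Quotient.mk_surjective _ (AdicCompletion.eval (maximalIdeal A) M 1 x)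
    have hdiff : x - of w ∈ maximalIdeal A ^ 1 • (⊤ : Submodule A (AdicCompletion (maximalIdeal A) M)) := by
      rw [AdicCompletion.pow_smul_top_eq_ker_eval (IsNoetherian.noetherian (maximalIdeal A)), LinearMap.mem_ker,
        map_sub, AdicCompletion.eval_of, ← hw, Submodule.mkQ_apply, sub_self]
    rw [pow_one] at hdiff
    obtain ⟨a, ha, b, hb, hab⟩ := Submodule.mem_sup.1 (hgen.ge (Submodule.mem_top (x := w)))
    obtain ⟨d, rfl⟩ := (Submodule.mem_span_range_iff_exists_fun A).1 ha
    rw [← sub_add_cancel x (of w), ← hab, map_add]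
    refine add_mem (Submodule.mem_sup_right (by rw [← map_add, hab]; exact hdiff)) (add_mem (Submodule.mem_sup_left
      ⟨d, by rw [LinearMap.comp_apply, Fintype.linearCombination_apply]⟩) (Submodule.mem_sup_right ?_))
    have h1 := Submodule.mem_map_of_mem (f := of) hb
    rw [Submodule.map_smul''] at h1
    exact Submodule.smul_mono le_rfl le_top h1
  let e := LinearEquiv.ofBijective φ ⟨hinj, hsurj⟩
  exact ⟨Module.Free.of_equiv e, by rw [← e.finrank_eq, Module.finrank_fintype_fun_eq_card, Fintype.card_fin]⟩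

end Free

section Delta

/-- The map `m/m² → K ⊗ Ω_{A/S}`, linear over the residue field. -/
theorem exists_delta (S : Type*) (A : Type u) [CommRing S] [CommRing A] [IsLocalRing A] [Algebra S A] :
    ∃ δ : CotangentSpace A →ₗ[ResidueField A] ResidueField A ⊗[A] Ω[A⁄S],
      ∀ x : maximalIdeal A, δ ((maximalIdeal A).toCotangent x) = (1 : ResidueField A) ⊗ₜ[A] D S A x := by
  have h0 : ∀ a ∈ maximalIdeal A, ∀ w : Ω[A⁄S], (1 : ResidueField A) ⊗ₜ[A] (a • w) = 0 := fun a ha w => by
    rw [← TensorProduct.smul_tmul, Algebra.smul_def, mul_one, IsLocalRing.ResidueField.algebraMap_eq,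
      (IsLocalRing.residue_eq_zero_iff a).2 ha, TensorProduct.zero_tmul]
  let d0 : maximalIdeal A →ₗ[A] ResidueField A ⊗[A] Ω[A⁄S] :=
    { toFun := fun x => (1 : ResidueField A) ⊗ₜ[A] D S A x
      map_add' := fun x y => by rw [Submodule.coe_add, map_add, TensorProduct.tmul_add]
      map_smul' := fun a x => by
        rw [Submodule.coe_smul, smul_eq_mul, Derivation.leibniz, TensorProduct.tmul_add, h0 _ x.2, add_zero,
          TensorProduct.tmul_smul, RingHom.id_apply] }
  let d1 : (maximalIdeal A).Cotangent →ₗ[A] ResidueField A ⊗[A] Ω[A⁄S] := Submodule.liftQ _ d0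
    (Submodule.smul_le.2 fun a ha x _ => by
      rw [LinearMap.mem_ker, map_smul]
      show a • ((1 : ResidueField A) ⊗ₜ[A] D S A x) = 0
      rw [← TensorProduct.tmul_smul]
      exact h0 a ha _)
  refine ⟨{ toFun := d1, map_add' := d1.map_add, map_smul' := fun r z => ?_ }, fun x => rfl⟩
  obtain ⟨a, rfl⟩ := IsLocalRing.residue_surjective r
  rw [RingHom.id_apply, ← IsLocalRing.ResidueField.algebraMap_eq, algebraMap_smul, algebraMap_smul, map_smul]

theorem range_delta (S : Type*) (A : Type u) [CommRing S] [CommRing A] [IsLocalRing A] [Algebra S A]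
    (δ : CotangentSpace A →ₗ[ResidueField A] ResidueField A ⊗[A] Ω[A⁄S])
    (hδ : ∀ x : maximalIdeal A, δ ((maximalIdeal A).toCotangent x) = (1 : ResidueField A) ⊗ₜ[A] D S A x) :
    LinearMap.range δ = LinearMap.ker (mapBaseChange S A (ResidueField A)) := by
  have hex := KaehlerDifferential.exact_kerCotangentToTensor_mapBaseChange S A (ResidueField A)
    IsLocalRing.residue_surjective
  have hker : ∀ a : A, a ∈ RingHom.ker (algebraMap A (ResidueField A)) ↔ a ∈ maximalIdeal A := fun a => by
    rw [RingHom.mem_ker, IsLocalRing.ResidueField.algebraMap_eq, IsLocalRing.residue_eq_zero_iff]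
  refine le_antisymm ?_ fun y hy => ?_
  · rintro _ ⟨z, rfl⟩
    obtain ⟨x, rfl⟩ := (maximalIdeal A).toCotangent_surjective z
    rw [hδ, LinearMap.mem_ker, mapBaseChange_tmul, one_smul, KaehlerDifferential.map_D,
      (RingHom.mem_ker.1 ((hker _).2 x.2)), map_zero]
  · obtain ⟨z, rfl⟩ := (hex y).1 hy
    obtain ⟨x, rfl⟩ := Ideal.toCotangent_surjective _ z
    exact ⟨(maximalIdeal A).toCotangent ⟨x, (hker _).1 x.2⟩, by
      rw [hδ, KaehlerDifferential.kerCotangentToTensor_toCotangent]⟩

theorem injective_delta_int {k A : Type u} [Field k] [CommRing A] [IsLocalRing A] [IsAdicComplete (maximalIdeal A) A]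
    [Algebra k A] (δ : CotangentSpace A →ₗ[ResidueField A] ResidueField A ⊗[A] Ω[A⁄ℤ])
    (hδ : ∀ x : maximalIdeal A, δ ((maximalIdeal A).toCotangent x) = (1 : ResidueField A) ⊗ₜ[A] D ℤ A x) :
    Function.Injective δ := by
  classical
  obtain ⟨σ, hσ⟩ := CAlgH.exists_coefficient_field_of_algebra k A
  let S2 := maximalIdeal A ^ 2
  have hdiff : ∀ a, Ideal.Quotient.mk S2 a - Ideal.Quotient.mk S2 (σ (residue A a)) ∈
      (maximalIdeal A).map (Ideal.Quotient.mk S2) := fun a => by
    rw [← map_sub]
    refine Ideal.mem_map_of_mem _ ?_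
    rw [← IsLocalRing.residue_eq_zero_iff, map_sub, hσ, sub_self]
  have hJJ : ∀ u ∈ (maximalIdeal A).map (Ideal.Quotient.mk S2), ∀ v ∈ (maximalIdeal A).map (Ideal.Quotient.mk S2),
      u * v = 0 := fun u hu v hv => by
    have h1 := Ideal.mul_mem_mul hu hv
    rw [← Ideal.map_mul, ← sq, Ideal.map_quotient_self, Ideal.mem_bot] at h1
    exact h1
  let d : Derivation ℤ A (A ⧸ S2) := Derivation.mk'
    ((AddMonoidHom.mk' (fun a => Ideal.Quotient.mk S2 a - Ideal.Quotient.mk S2 (σ (residue A a)))
      fun a b => by rw [map_add, map_add, map_add, map_add]; ring).toIntLinearMap)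
    fun a b => by
      show Ideal.Quotient.mk S2 (a * b) - Ideal.Quotient.mk S2 (σ (residue A (a * b))) =
        Ideal.Quotient.mk S2 a * (Ideal.Quotient.mk S2 b - Ideal.Quotient.mk S2 (σ (residue A b))) +
          Ideal.Quotient.mk S2 b * (Ideal.Quotient.mk S2 a - Ideal.Quotient.mk S2 (σ (residue A a)))
      rw [map_mul, map_mul, map_mul, map_mul]
      linear_combination - hJJ _ (hdiff a) _ (hdiff b)
  have hrange : ∀ w, d.liftKaehlerDifferential w ∈ (maximalIdeal A).map (Ideal.Quotient.mk S2) := fun w => by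
    have hw : w ∈ Submodule.span A (Set.range (D ℤ A)) := by rw [span_range_derivation]; trivial
    induction hw using Submodule.span_induction with
    | mem w hw => obtain ⟨a, rfl⟩ := hw; rw [Derivation.liftKaehlerDifferential_comp_D]; exact hdiff a
    | zero => rw [map_zero]; exact zero_mem _
    | add a b _ _ ha hb => rw [map_add]; exact add_mem ha hb
    | smul a b _ hb => rw [map_smul, Algebra.smul_def]; exact Ideal.mul_mem_left _ _ hb
  rw [← LinearMap.ker_eq_bot, eq_bot_iff]
  intro z hz
  obtain ⟨x, rfl⟩ := (maximalIdeal A).toCotangent_surjective z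
  rw [LinearMap.mem_ker, hδ] at hz
  have h1 := mem_ker_smul_of_one_tmul_eq_zero (A := A) (C := ResidueField A) IsLocalRing.residue_surjective hz
  have h2 : d.liftKaehlerDifferential (D ℤ A (x : A)) = 0 := by
    refine Submodule.smul_induction_on h1 (fun a ha w _ => ?_) fun a b ha hb => by rw [map_add, ha, hb, add_zero]
    rw [map_smul, Algebra.smul_def]
    refine hJJ _ (Ideal.mem_map_of_mem _ ?_) _ (hrange w)
    rwa [RingHom.mem_ker, IsLocalRing.ResidueField.algebraMap_eq, IsLocalRing.residue_eq_zero_iff] at ha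
  rw [Derivation.liftKaehlerDifferential_comp_D] at h2
  have h3 : Ideal.Quotient.mk S2 (x : A) - Ideal.Quotient.mk S2 (σ (residue A (x : A))) = 0 := h2
  rw [(IsLocalRing.residue_eq_zero_iff _).2 x.2, map_zero, map_zero, sub_zero, Ideal.Quotient.eq_zero_iff_mem] at h3
  rw [Submodule.mem_bot, Ideal.toCotangent_eq_zero]
  exact h3

end Delta

theorem arith {a b c d e f g : ℕ} (htr : (a : ℤ) - b = c) (h1 : a + d = e) (h2 : d + b = g) (hf : f = c := by rfl) :
    e = g + f := by omega

/-- The dimension of the residue fibre of the differentials of a complete formally smooth local algebra. -/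
theorem finite_finrank_residue_kaehler {k A : Type u} [Field k] [CommRing A] [IsLocalRing A] [IsNoetherianRing A]
    [Algebra k A] [IsAdicComplete (maximalIdeal A) A] (hfs : CAlgX.IsAdicFormallySmooth k A (maximalIdeal A))
    [Algebra.EssFiniteType k (ResidueField A)] :
    Module.Finite (ResidueField A) (ResidueField A ⊗[A] Ω[A⁄k]) ∧
      (Module.finrank (ResidueField A) (ResidueField A ⊗[A] Ω[A⁄k]) : WithBot ℕ∞) =
        ringKrullDim A + (Cardinal.toNat (Algebra.trdeg k (ResidueField A)) : WithBot ℕ∞) := by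
  classical
  let K := ResidueField A
  haveI : IsRegularLocalRing A := CAlgH.AdicSmooth.isRegularLocalRing_of_adicSmooth hfs
  obtain ⟨δk, hδk⟩ := exists_delta k A
  obtain ⟨δZ, hδZ⟩ := exists_delta ℤ A
  have hinjZ := injective_delta_int (k := k) δZ hδZ
  have hdim := (IsRegularLocalRing.iff_finrank_cotangentSpace A).1 inferInstance
  obtain ⟨hΩK, hΥ, htr⟩ := S2469.result (K := k) (L := K)
  -- the base change of the differentials of `k`
  let ι : K ⊗[k] Ω[k⁄ℤ] →ₗ[K] K ⊗[A] Ω[A⁄ℤ] := (LinearMap.baseChange K (mapBaseChange ℤ k A)) ∘ₗ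
    (TensorProduct.AlgebraTensorModule.cancelBaseChange k A K K Ω[k⁄ℤ]).symm.toLinearMap
  let π : K ⊗[A] Ω[A⁄ℤ] →ₗ[K] K ⊗[A] Ω[A⁄k] := LinearMap.baseChange K (KaehlerDifferential.map ℤ k A A)
  have hπδ : π ∘ₗ δZ = δk := by
    refine LinearMap.ext fun z => ?_
    obtain ⟨x, rfl⟩ := (maximalIdeal A).toCotangent_surjective z
    rw [LinearMap.comp_apply, hδZ, hδk, LinearMap.baseChange_tmul, KaehlerDifferential.map_D]
    rfl
  have hιinj : Function.Injective ι :=
    ((Groth.Agent.S4571.result (k := k) (A := A)).1 hfs).2.comp (LinearEquiv.injective _)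
  have hkerπ : LinearMap.ker π = LinearMap.range ι := by
    have hex := lTensor_exact K (KaehlerDifferential.exact_mapBaseChange_map ℤ k A)
      (KaehlerDifferential.map_surjective ℤ k A)
    refine le_antisymm (fun z hz => ?_) ?_
    · obtain ⟨y, rfl⟩ := (hex z).1 hz
      exact ⟨TensorProduct.AlgebraTensorModule.cancelBaseChange k A K K Ω[k⁄ℤ] y, by
        rw [LinearMap.comp_apply, LinearEquiv.coe_coe, LinearEquiv.symm_apply_apply]; rfl⟩
    · rintro _ ⟨y, rfl⟩
      exact (hex _).2 ⟨_, rfl⟩
  have hρι : mapBaseChange ℤ A K ∘ₗ ι = mapBaseChange ℤ k K := by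
    refine TensorProduct.AlgebraTensorModule.curry_injective (LinearMap.ext_ring (Derivation.liftKaehlerDifferential_unique _ _
      (Derivation.ext fun b => ?_)))
    show mapBaseChange ℤ A K (ι ((1 : K) ⊗ₜ[k] D ℤ k b)) = mapBaseChange ℤ k K ((1 : K) ⊗ₜ[k] D ℤ k b)
    rw [LinearMap.comp_apply, LinearEquiv.coe_coe, TensorProduct.AlgebraTensorModule.cancelBaseChange_symm_tmul,
      LinearMap.baseChange_tmul, mapBaseChange_tmul, one_smul, mapBaseChange_tmul, one_smul, mapBaseChange_tmul, one_smul,
      KaehlerDifferential.map_D, KaehlerDifferential.map_D, KaehlerDifferential.map_D,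
      ← IsScalarTower.algebraMap_apply k A K]
  have heq : Submodule.map ι (EGA41.imperfection ℤ k K) = Submodule.map δZ (LinearMap.ker δk) := by
    show Submodule.map ι (LinearMap.ker (mapBaseChange ℤ k K)) = _
    rw [← hρι, LinearMap.ker_comp, Submodule.map_comap_eq, ← hπδ, LinearMap.ker_comp, Submodule.map_comap_eq,
      range_delta ℤ A δZ hδZ, hkerπ, inf_comm]
  have hker : Module.finrank K (LinearMap.ker δk) = Module.finrank K (EGA41.imperfection ℤ k K) := by
    have e1 := (Submodule.equivMapOfInjective δZ hinjZ (LinearMap.ker δk)).finrank_eq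
    have e2 := (Submodule.equivMapOfInjective ι hιinj (EGA41.imperfection ℤ k K)).finrank_eq
    rw [← heq] at e1
    exact e1.trans e2.symm
  let ρ := mapBaseChange k A K
  have hρ : LinearMap.ker ρ = LinearMap.range δk := (range_delta k A δk hδk).symm
  have hρs : Function.Surjective ρ := KaehlerDifferential.mapBaseChange_surjective k A K IsLocalRing.residue_surjective
  haveI : Module.Finite K (LinearMap.ker ρ) := by rw [hρ]; exact Module.Finite.range δk
  haveI : Module.Finite K ((K ⊗[A] Ω[A⁄k]) ⧸ LinearMap.ker ρ) :=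
    Module.Finite.equiv (ρ.quotKerEquivOfSurjective hρs).symm
  haveI hfinV : Module.Finite K (K ⊗[A] Ω[A⁄k]) := Module.Finite.of_submodule_quotient (LinearMap.ker ρ)
  refine ⟨hfinV, ?_⟩
  have h1 := LinearMap.finrank_range_add_finrank_ker ρ
  have h2 := LinearMap.finrank_range_add_finrank_ker δk
  rw [LinearMap.range_eq_top.2 hρs, finrank_top, hρ] at h1
  rw [hker] at h2
  rw [← hdim, ← Nat.cast_add, Nat.cast_inj]
  show Module.finrank K (K ⊗[A] Ω[A⁄k]) = Module.finrank K (CotangentSpace A) + Cardinal.toNat (Algebra.trdeg k K)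
  exact arith (htr := htr) h1 h2

end Groth.Agent.EGA41Lib.CKS
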