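import Groth.Prelude.Def_TopMod
import Groth.Prelude.Def_LinTop
import Mathlib

/-! Topologies on modules deduced from a ring topology: formal bimorphisms and left inverses. -/

set_option autoImplicit false
set_option backward.isDefEq.respectTransparency.types false
universe u v w

open Topology

namespace Groth.Agent.EGA41Lib

variable {A : Type u} {M : Type v} {N : Type w} [CommRing A] [TopologicalSpace A]
  [AddCommGroup M] [Module A M] [TopologicalSpace M] [AddCommGroup N] [Module A N] [TopologicalSpace N]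

theorem isOpen_smul_top (hM : TopMod.IsDeduced A M) {J : Ideal A} (hJ : IsOpen (J : Set A)) :
    IsOpen ((J • ⊤ : Submodule A M) : Set M) := by
  have := hM.1
  exact AddSubgroup.isOpen_of_mem_nhds (J • ⊤ : Submodule A M).toAddSubgroup (g := 0) (hM.2.mem_of_mem hJ)

/-- A linear map to a discrete module which kills some `J • M` is continuous. -/
theorem continuous_of_le_ker (hN : TopMod.IsDeduced A N) {E : Type*} [AddCommGroup E] [Module A E]
    [TopologicalSpace E] [DiscreteTopology E] (f : N →ₗ[A] E) {J : Ideal A} (hJ : IsOpen (J : Set A))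
    (h : (J • ⊤ : Submodule A N) ≤ LinearMap.ker f) : Continuous f := by
  have := hN.1
  refine continuous_of_continuousAt_zero f.toAddMonoidHom ?_
  rw [ContinuousAt, map_zero, nhds_discrete E, Filter.tendsto_pure]
  exact Filter.mem_of_superset (hN.2.mem_of_mem hJ) fun x hx => h hx

theorem isDenseInducing_iff (hM : TopMod.IsDeduced A M) (hN : TopMod.IsDeduced A N) (u : M →L[A] N)
    (hu : DenseRange u) :
    IsDenseInducing u ↔
      ∀ J : Ideal A, IsOpen (J : Set A) →
        (∀ x : M, u x ∈ (J • ⊤ : Submodule A N) → x ∈ (J • ⊤ : Submodule A M)) ∧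
          ∀ y : N, ∃ x : M, y - u x ∈ (J • ⊤ : Submodule A N) := by
  have hMg := hM.1
  have hNg := hN.1
  have surj : ∀ J : Ideal A, IsOpen (J : Set A) → ∀ y : N, ∃ x : M, y - u x ∈ (J • ⊤ : Submodule A N) := by
    intro J hJ y
    have hopen : IsOpen ((fun z => y - z) ⁻¹' ((J • ⊤ : Submodule A N) : Set N)) :=
      (isOpen_smul_top hN hJ).preimage (continuous_const.sub continuous_id)
    obtain ⟨x, hx⟩ := hu.exists_mem_open hopen ⟨y, by simp⟩
    exact ⟨x, hx⟩
  constructor
  · intro h J hJ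
    refine ⟨fun x hx => ?_, surj J hJ⟩
    have hnh : ((J • ⊤ : Submodule A M) : Set M) ∈ (nhds (u 0)).comap u := by
      rw [← h.toIsInducing.nhds_eq_comap]; exact hM.2.mem_of_mem hJ
    rw [map_zero, (hN.2.comap u).mem_iff] at hnh
    obtain ⟨J', hJ', hsub⟩ := hnh
    have key : (J • ⊤ : Submodule A N) ≤
        Submodule.map u.toLinearMap (J • ⊤ : Submodule A M) ⊔ (J' • ⊤ : Submodule A N) := by
      refine Submodule.smul_le.2 fun a ha y _ => ?_
      obtain ⟨m, hm⟩ := surj J' hJ' y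
      have : a • y = u (a • m) + a • (y - u m) := by rw [map_smul, smul_sub]; abel
      rw [this]
      exact Submodule.add_mem_sup ⟨a • m, Submodule.smul_mem_smul ha trivial, rfl⟩ (Submodule.smul_mem _ a hm)
    obtain ⟨_, ⟨m, hm, rfl⟩, z, hz, hsum⟩ := Submodule.mem_sup.1 (key hx)
    have hxm : x - m ∈ (J • ⊤ : Submodule A M) := hsub (by
      show u (x - m) ∈ (J' • ⊤ : Submodule A N)
      rw [map_sub, ← hsum]
      simpa using hz)
    simpa using Submodule.add_mem _ hxm hm
  · intro h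
    refine ⟨⟨?_⟩, hu⟩
    refine IsTopologicalAddGroup.ext hMg (topologicalAddGroup_induced u.toLinearMap.toAddMonoidHom) ?_
    rw [nhds_induced, map_zero]
    refine hM.2.ext (hN.2.comap _) (fun J hJ => ⟨J, hJ, fun x hx => (h J hJ).1 x hx⟩) (fun J hJ => ⟨J, hJ, fun x hx => ?_⟩)
    show u x ∈ (J • ⊤ : Submodule A N)
    have := Submodule.mem_map_of_mem (f := u.toLinearMap) hx
    rw [Submodule.map_smul''] at this
    exact Submodule.smul_mono le_rfl le_top this

theorem isFormallyLeftInvertible_iff (hM : TopMod.IsDeduced A M) (hN : TopMod.IsDeduced A N)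
    (u : M →L[A] N) :
    TopMod.IsFormallyLeftInvertible u ↔
      ∀ J : Ideal A, IsOpen (J : Set A) →
        ∃ w : N →ₗ[A] M ⧸ (J • ⊤ : Submodule A M), ∀ x : M, w (u x) = Submodule.Quotient.mk x := by
  constructor
  · intro h J hJ
    let E := M ⧸ (J • ⊤ : Submodule A M)
    let _ : TopologicalSpace E := ⊥
    have : DiscreteTopology E := ⟨rfl⟩
    let v : M →L[A] E := ⟨Submodule.mkQ _, continuous_of_le_ker hM _ hJ (by rw [Submodule.ker_mkQ])⟩
    obtain ⟨w, hw⟩ := h E v
    exact ⟨w.toLinearMap, hw⟩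
  · intro h E _ _ _ _ v
    have hk : (v ⁻¹' {0}) ∈ nhds (0 : M) :=
      v.continuous.continuousAt.preimage_mem_nhds (by rw [map_zero, nhds_discrete E]; exact rfl)
    obtain ⟨J, hJ, hsub⟩ := hM.2.mem_iff.1 hk
    obtain ⟨w, hw⟩ := h J hJ
    let f : M ⧸ (J • ⊤ : Submodule A M) →ₗ[A] E := Submodule.liftQ _ v.toLinearMap fun x hx => hsub hx
    have hker : (J • ⊤ : Submodule A N) ≤ LinearMap.ker (f ∘ₗ w) := by
      refine Submodule.smul_le.2 fun a ha y _ => ?_
      have h0 : a • w y = 0 := by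
        obtain ⟨m, hm⟩ := Submodule.Quotient.mk_surjective _ (w y)
        rw [← hm, ← Submodule.Quotient.mk_smul, Submodule.Quotient.mk_eq_zero]
        exact Submodule.smul_mem_smul ha trivial
      rw [LinearMap.mem_ker, LinearMap.comp_apply, map_smul, h0, map_zero]
    refine ⟨⟨f ∘ₗ w, continuous_of_le_ker hN _ hJ hker⟩, fun x => ?_⟩
    show f (w (u x)) = v x
    rw [hw]; rfl

/-- Left invertibility lifts along a nilpotent ideal when the target is projective modulo `J`. -/
theorem exists_leftInverse_of_pow_le (u : M →ₗ[A] N) {J I : Ideal A} (hJI : J ≤ I) {n : ℕ} (hn : I ^ n ≤ J)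
    [Module.Projective (A ⧸ J) (N ⧸ (J • ⊤ : Submodule A N))]
    (w₀ : N →ₗ[A] M ⧸ (I • ⊤ : Submodule A M)) (hw₀ : ∀ x : M, w₀ (u x) = Submodule.Quotient.mk x) :
    ∃ w : N →ₗ[A] M ⧸ (J • ⊤ : Submodule A M), ∀ x : M, w (u x) = Submodule.Quotient.mk x := by
  let MI := (I • ⊤ : Submodule A M)
  let MJ := (J • ⊤ : Submodule A M)
  let NJ := (J • ⊤ : Submodule A N)
  have hJw : NJ ≤ LinearMap.ker w₀ := by
    refine Submodule.smul_le.2 fun a ha y _ => ?_
    obtain ⟨m, hm⟩ := Submodule.Quotient.mk_surjective _ (w₀ y)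
    rw [LinearMap.mem_ker, map_smul, ← hm, ← Submodule.Quotient.mk_smul, Submodule.Quotient.mk_eq_zero]
    exact Submodule.smul_mem_smul (hJI ha) trivial
  have hle : MJ ≤ MI := Submodule.smul_mono hJI le_rfl
  have tI : Module.IsTorsionBySet A (M ⧸ MI) J := by
    intro z a
    obtain ⟨m, rfl⟩ := Submodule.Quotient.mk_surjective _ z
    rw [← Submodule.Quotient.mk_smul, Submodule.Quotient.mk_eq_zero]
    exact Submodule.smul_mem_smul (hJI a.2) trivial
  let _ : Module (A ⧸ J) (M ⧸ MI) := tI.module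
  have : IsScalarTower A (A ⧸ J) (M ⧸ MI) := tI.isScalarTower
  let f : (M ⧸ MJ) →ₗ[A ⧸ J] (M ⧸ MI) :=
    LinearMap.extendScalarsOfSurjective (Ideal.Quotient.mk_surjective (I := J)) (Submodule.factor hle)
  let g : (N ⧸ NJ) →ₗ[A ⧸ J] (M ⧸ MI) :=
    LinearMap.extendScalarsOfSurjective (Ideal.Quotient.mk_surjective (I := J)) (Submodule.liftQ NJ w₀ hJw)
  obtain ⟨φ, hφ⟩ := Module.projective_lifting_property f g (Submodule.factor_surjective hle)
  let w₁ : N →ₗ[A] M ⧸ MJ := φ.restrictScalars A ∘ₗ NJ.mkQ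
  have hw₁ : ∀ y, Submodule.factor hle (w₁ y) = w₀ y := fun y =>
    congrArg (fun ψ : (N ⧸ NJ) →ₗ[A ⧸ J] (M ⧸ MI) => ψ (Submodule.Quotient.mk y)) hφ
  -- `θ = 1 - w₁ u` takes `M/JM` into `I (M/JM)`, hence is nilpotent.
  have hker : MJ ≤ LinearMap.ker (w₁ ∘ₗ u) := by
    refine Submodule.smul_le.2 fun a ha y _ => ?_
    obtain ⟨m, hm⟩ := Submodule.Quotient.mk_surjective _ (w₁ (u y))
    rw [LinearMap.mem_ker, map_smul, LinearMap.comp_apply, ← hm, ← Submodule.Quotient.mk_smul,
      Submodule.Quotient.mk_eq_zero]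
    exact Submodule.smul_mem_smul ha trivial
  let θ : Module.End A (M ⧸ MJ) := 1 - Submodule.liftQ MJ (w₁ ∘ₗ u) hker
  have hθ : ∀ z, θ z ∈ I • (⊤ : Submodule A (M ⧸ MJ)) := by
    intro z
    obtain ⟨m, rfl⟩ := Submodule.Quotient.mk_surjective _ z
    obtain ⟨m', hm'⟩ := Submodule.Quotient.mk_surjective _ (w₁ (u m))
    have h1 : (Submodule.Quotient.mk m' : M ⧸ MI) = Submodule.Quotient.mk m := by
      rw [← hw₀ m, ← hw₁ (u m), ← hm']; rfl
    have : θ (Submodule.Quotient.mk m) = Submodule.Quotient.mk (m - m') := by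
      show Submodule.Quotient.mk m - w₁ (u m) = _
      rw [← hm']; rfl
    rw [this]
    have hmem : m - m' ∈ MI := (Submodule.Quotient.eq _).1 h1.symm
    have := Submodule.mem_map_of_mem (f := MJ.mkQ) hmem
    rw [Submodule.map_smul'', Submodule.map_top, Submodule.range_mkQ] at this
    exact this
  have hpow : ∀ k z, (θ ^ k) z ∈ I ^ k • (⊤ : Submodule A (M ⧸ MJ)) := by
    intro k
    induction k with
    | zero => intro z; simp
    | succ k ih =>
      intro z
      rw [pow_succ' θ, Module.End.mul_apply, pow_succ I, Submodule.mul_smul]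
      have := Submodule.mem_map_of_mem (f := θ) (ih z)
      rw [Submodule.map_smul'', Submodule.map_top] at this
      refine Submodule.smul_mono le_rfl ?_ this
      rintro _ ⟨y, rfl⟩
      exact hθ y
  have hnil : θ ^ n = 0 := by
    refine LinearMap.ext fun z => ?_
    have h := Submodule.smul_mono hn le_rfl (hpow n z)
    have hbot : (J • ⊤ : Submodule A (M ⧸ MJ)) = ⊥ := by
      rw [eq_bot_iff]
      refine Submodule.smul_le.2 fun a ha y _ => ?_
      obtain ⟨m, rfl⟩ := Submodule.Quotient.mk_surjective _ y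
      rw [← Submodule.Quotient.mk_smul, Submodule.mem_bot, Submodule.Quotient.mk_eq_zero]
      exact Submodule.smul_mem_smul ha trivial
    rw [hbot] at h
    exact h
  have hinv : (∑ i ∈ Finset.range n, θ ^ i) * (1 - θ) = 1 := by
    rw [geom_sum_mul_neg, hnil, sub_zero]
  refine ⟨(∑ i ∈ Finset.range n, θ ^ i) ∘ₗ w₁, fun x => ?_⟩
  have h1 : (1 - θ) (Submodule.Quotient.mk x) = w₁ (u x) := by
    show Submodule.Quotient.mk x - (Submodule.Quotient.mk x - w₁ (u x)) = _
    abel
  rw [LinearMap.comp_apply, ← h1, ← Module.End.mul_apply, hinv, Module.End.one_apply]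

theorem isFormallyLeftInvertible_iff_mod (hA : LinTop.IsPreadmissible A) (𝔏 : Ideal A)
    (h𝔏 : LinTop.IsIdealOfDefinition A 𝔏) (hM : TopMod.IsDeduced A M) (hN : TopMod.IsDeduced A N)
    (hproj : ∀ J : Ideal A, IsOpen (J : Set A) → Module.Projective (A ⧸ J) (N ⧸ (J • (⊤ : Submodule A N))))
    (u : M →L[A] N) :
    TopMod.IsFormallyLeftInvertible u ↔
      ∃ w : N →ₗ[A] M ⧸ (𝔏 • ⊤ : Submodule A M), ∀ x : M, w (u x) = Submodule.Quotient.mk x := by
  rw [isFormallyLeftInvertible_iff hM hN u]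
  refine ⟨fun h => h 𝔏 h𝔏.1, fun ⟨w₀, hw₀⟩ J hJ => ?_⟩
  have hJ' : IsOpen ((J ⊓ 𝔏 : Ideal A) : Set A) := by
    rw [Submodule.coe_inf]; exact hJ.inter h𝔏.1
  obtain ⟨n, -, hn⟩ := h𝔏.2 _ (hJ'.mem_nhds (Submodule.zero_mem _))
  have := hproj _ hJ'
  obtain ⟨w, hw⟩ := exists_leftInverse_of_pow_le u.toLinearMap inf_le_right hn w₀ hw₀
  exact ⟨Submodule.factor (Submodule.smul_mono inf_le_left le_rfl) ∘ₗ w, fun x => by
    rw [LinearMap.comp_apply]; exact (congrArg _ (hw x)).trans rfl⟩

end Groth.Agent.EGA41Lib
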