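import Groth.Agent.EGA41Lib.DeducedTop
import Mathlib

/-! Left inverses of maps into complete deduced-topology modules. -/

set_option autoImplicit false
set_option backward.isDefEq.respectTransparency.types false
universe u v w

open Topology Filter

namespace Groth.Agent.EGA41Lib

variable {A : Type u} {M : Type v} {N : Type w} [CommRing A] [TopologicalSpace A]
  [AddCommGroup M] [Module A M] [UniformSpace M] [IsUniformAddGroup M] [CompleteSpace M] [T2Space M]
  [AddCommGroup N] [Module A N] [TopologicalSpace N]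

omit [TopologicalSpace A] [UniformSpace M] [IsUniformAddGroup M] [CompleteSpace M] [T2Space M] in
theorem smul_mk_eq_zero {J : Ideal A} {a : A} (ha : a ∈ J) (z : M ⧸ (J • ⊤ : Submodule A M)) : a • z = 0 := by
  obtain ⟨m, rfl⟩ := Submodule.Quotient.mk_surjective _ z
  rw [← Submodule.Quotient.mk_smul, Submodule.Quotient.mk_eq_zero]
  exact Submodule.smul_mem_smul ha trivial

theorem exists_lift_of_projective {A : Type u} [CommRing A] {C X Y : Type*} [AddCommGroup C] [Module A C]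
    [AddCommGroup X] [Module A X] [AddCommGroup Y] [Module A Y] (J : Ideal A)
    [Module.Projective (A ⧸ J) (C ⧸ (J • ⊤ : Submodule A C))]
    (hX : Module.IsTorsionBySet A X J) (hY : Module.IsTorsionBySet A Y J)
    (f : X →ₗ[A] Y) (hf : Function.Surjective f) (d : C →ₗ[A] Y) : ∃ h : C →ₗ[A] X, f ∘ₗ h = d := by
  let _ : Module (A ⧸ J) X := hX.module
  let _ : Module (A ⧸ J) Y := hY.module
  have : IsScalarTower A (A ⧸ J) X := hX.isScalarTower
  have : IsScalarTower A (A ⧸ J) Y := hY.isScalarTower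
  have hsur := Ideal.Quotient.mk_surjective (I := J)
  let d' : C ⧸ (J • ⊤ : Submodule A C) →ₗ[A] Y := Submodule.liftQ _ d (Submodule.smul_le.2 fun a ha y _ => by
    rw [LinearMap.mem_ker, map_smul]; exact @hY (d y) ⟨a, ha⟩)
  obtain ⟨φ, hφ⟩ := Module.projective_lifting_property
    (LinearMap.extendScalarsOfSurjective (S := A ⧸ J) hsur f)
    (LinearMap.extendScalarsOfSurjective (S := A ⧸ J) hsur d') hf
  exact ⟨φ.restrictScalars A ∘ₗ (J • ⊤ : Submodule A C).mkQ, LinearMap.ext fun y =>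
    LinearMap.congr_fun hφ (Submodule.Quotient.mk y)⟩

theorem exists_leftInverse_limit (𝔍 : ℕ → Ideal A) (h𝔍open : ∀ n, IsOpen (𝔍 n : Set A)) (h𝔍anti : Antitone 𝔍)
    (h𝔍basis : (nhds (0 : A)).HasBasis (fun _ : ℕ => True) (fun n => (𝔍 n : Set A)))
    (hM : TopMod.IsDeduced A M) (u : M →ₗ[A] N)
    (hcoker : ∀ n, Module.Projective (A ⧸ 𝔍 n)
      ((N ⧸ LinearMap.range u) ⧸ (𝔍 n • (⊤ : Submodule A (N ⧸ LinearMap.range u)))))
    (h : ∀ n, ∃ w : N →ₗ[A] M ⧸ (𝔍 n • ⊤ : Submodule A M), ∀ x : M, w (u x) = Submodule.Quotient.mk x) :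
    ∃ w : N →ₗ[A] M, ∀ x : M, w (u x) = x := by
  classical
  let P := fun n => (𝔍 n • ⊤ : Submodule A M)
  have hP : ∀ {n m}, n ≤ m → P m ≤ P n := fun hnm => Submodule.smul_mono (h𝔍anti hnm) le_rfl
  have step : ∀ (n : ℕ) (w : N →ₗ[A] M ⧸ P n), (∀ x, w (u x) = Submodule.Quotient.mk x) →
      ∃ w' : N →ₗ[A] M ⧸ P (n + 1), (∀ x, w' (u x) = Submodule.Quotient.mk x) ∧
        Submodule.factor (hP n.le_succ) ∘ₗ w' = w := by
    intro n w hw
    obtain ⟨w₁, hw₁⟩ := h (n + 1)
    let d : N →ₗ[A] M ⧸ P n := Submodule.factor (hP n.le_succ) ∘ₗ w₁ - w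
    let d₁ : (N ⧸ LinearMap.range u) →ₗ[A] M ⧸ P n := Submodule.liftQ _ d (by
      rintro _ ⟨x, rfl⟩
      rw [LinearMap.mem_ker, LinearMap.sub_apply, LinearMap.comp_apply, hw₁, hw, sub_eq_zero]
      rfl)
    have := hcoker (n + 1)
    obtain ⟨h₁, hh₁⟩ := exists_lift_of_projective (A := A) (C := N ⧸ LinearMap.range u) (𝔍 (n + 1))
      (fun (z : M ⧸ P (n + 1)) a => smul_mk_eq_zero a.2 z)
      (fun (z : M ⧸ P n) a => smul_mk_eq_zero (h𝔍anti n.le_succ a.2) z)
      (Submodule.factor (hP n.le_succ)) (Submodule.factor_surjective _) d₁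
    let hh : N →ₗ[A] M ⧸ P (n + 1) := h₁ ∘ₗ (LinearMap.range u).mkQ
    have hhd : ∀ y, Submodule.factor (hP n.le_succ) (hh y) = d y := fun y =>
      LinearMap.congr_fun hh₁ (Submodule.Quotient.mk y)
    refine ⟨w₁ - hh, fun x => ?_, LinearMap.ext fun y => ?_⟩
    · have : hh (u x) = 0 := by
        show h₁ (Submodule.Quotient.mk (u x)) = 0
        rw [(Submodule.Quotient.mk_eq_zero (LinearMap.range u)).2 ⟨x, rfl⟩, map_zero]
      rw [LinearMap.sub_apply, this, sub_zero, hw₁]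
    · rw [LinearMap.comp_apply, LinearMap.sub_apply, map_sub, hhd]
      show _ - (Submodule.factor (hP n.le_succ) (w₁ y) - w y) = w y
      abel
  let W : ∀ n, {w : N →ₗ[A] M ⧸ P n // ∀ x, w (u x) = Submodule.Quotient.mk x} := fun n =>
    Nat.rec (motive := fun n => {w : N →ₗ[A] M ⧸ P n // ∀ x, w (u x) = Submodule.Quotient.mk x})
      ⟨(h 0).choose, (h 0).choose_spec⟩
      (fun n p => ⟨(step n p.1 p.2).choose, (step n p.1 p.2).choose_spec.1⟩) n
  have hW : ∀ n y, Submodule.factor (hP n.le_succ) ((W (n + 1)).1 y) = (W n).1 y := fun n y =>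
    LinearMap.congr_fun (step n (W n).1 (W n).2).choose_spec.2 y
  have hWle : ∀ n m (hnm : n ≤ m) y, Submodule.factor (hP hnm) ((W m).1 y) = (W n).1 y := by
    intro n m hnm
    induction m, hnm using Nat.le_induction with
    | base =>
      intro y
      obtain ⟨z, hz⟩ := Submodule.Quotient.mk_surjective _ ((W n).1 y)
      rw [← hz]; rfl
    | succ m hnm ih =>
      intro y
      rw [← ih y, ← hW m y]
      obtain ⟨z, hz⟩ := Submodule.Quotient.mk_surjective _ ((W (m + 1)).1 y)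
      rw [← hz]; rfl
  have hMg := hM.1
  have hbasis : ∀ U ∈ nhds (0 : M), ∃ n, (P n : Set M) ⊆ U := by
    intro U hU
    obtain ⟨J, hJ, hsub⟩ := hM.2.mem_iff.1 hU
    obtain ⟨n, -, hn⟩ := h𝔍basis.mem_iff.1 (hJ.mem_nhds J.zero_mem)
    exact ⟨n, fun x hx => hsub (Submodule.smul_mono (fun a ha => hn ha) le_rfl hx)⟩
  have hclosed : ∀ n, IsClosed (P n : Set M) := fun n =>
    AddSubgroup.isClosed_of_isOpen (P n).toAddSubgroup (isOpen_smul_top hM (h𝔍open n))
  have hsep : ∀ x : M, (∀ n, x ∈ P n) → x = 0 := by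
    intro x hx
    by_contra hne
    obtain ⟨n, hn⟩ := hbasis {x}ᶜ (isOpen_compl_singleton.mem_nhds (by simpa using Ne.symm hne))
    exact hn (hx n) rfl
  have hex : ∀ y, ∃ m : M, ∀ n, Submodule.Quotient.mk m = (W n).1 y := by
    intro y
    choose s hs using fun n => Submodule.Quotient.mk_surjective _ ((W n).1 y)
    have hcong : ∀ n m, n ≤ m → s m - s n ∈ P n := by
      intro n m hnm
      rw [← Submodule.Quotient.eq, hs n, ← hWle n m hnm y, ← hs m]
      rfl
    have hc : CauchySeq s := by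
      rw [cauchySeq_iff]
      intro V hV
      rw [uniformity_eq_comap_nhds_zero M] at hV
      obtain ⟨U, hU, hUV⟩ := hV
      obtain ⟨n, hn⟩ := hbasis U hU
      refine ⟨n, fun k hk l hl => hUV (hn ?_)⟩
      have := Submodule.sub_mem _ (hcong n l hl) (hcong n k hk)
      simpa using this
    obtain ⟨m, hm⟩ := cauchySeq_tendsto_of_complete hc
    refine ⟨m, fun n => ?_⟩
    rw [← hs n, Submodule.Quotient.eq]
    exact (hclosed n).mem_of_tendsto (hm.sub_const (s n))
      (eventually_atTop.2 ⟨n, fun k hk => hcong n k hk⟩)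
  choose w hw using hex
  have huniq : ∀ {a b : M}, (∀ n, (Submodule.Quotient.mk a : M ⧸ P n) = Submodule.Quotient.mk b) → a = b :=
    fun hab => sub_eq_zero.1 (hsep _ fun n => (Submodule.Quotient.eq _).1 (hab n))
  let w' : N →ₗ[A] M :=
    { toFun := w
      map_add' := fun y z => huniq fun n => by
        rw [hw, Submodule.Quotient.mk_add, hw, hw, map_add]
      map_smul' := fun a y => huniq fun n => by
        rw [hw, RingHom.id_apply, Submodule.Quotient.mk_smul, hw, map_smul] }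
  exact ⟨w', fun x => huniq fun n => (hw _ n).trans ((W n).2 x)⟩

omit [UniformSpace M] [IsUniformAddGroup M] [CompleteSpace M] [T2Space M] [TopologicalSpace A] [TopologicalSpace N] in
theorem projective_coker_of_leftInverse (u : M →ₗ[A] N) (J : Ideal A)
    [Module.Projective (A ⧸ J) (N ⧸ (J • ⊤ : Submodule A N))]
    (w : N →ₗ[A] M ⧸ (J • ⊤ : Submodule A M)) (hw : ∀ x : M, w (u x) = Submodule.Quotient.mk x) :
    Module.Projective (A ⧸ J) ((N ⧸ LinearMap.range u) ⧸ (J • (⊤ : Submodule A (N ⧸ LinearMap.range u)))) := by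
  let NJ := (J • ⊤ : Submodule A N)
  let C := N ⧸ LinearMap.range u
  let CJ := (J • ⊤ : Submodule A C)
  have hu : (J • ⊤ : Submodule A M) ≤ NJ.comap u := Submodule.smul_le.2 fun a ha y _ => by
    show u (a • y) ∈ NJ
    rw [map_smul]; exact Submodule.smul_mem_smul ha trivial
  let ū : M ⧸ (J • ⊤ : Submodule A M) →ₗ[A] N ⧸ NJ := Submodule.mapQ _ _ u hu
  let σ₀ : C →ₗ[A] N ⧸ NJ := Submodule.liftQ _ (NJ.mkQ - ū ∘ₗ w) (by
    rintro _ ⟨x, rfl⟩
    rw [LinearMap.mem_ker, LinearMap.sub_apply, LinearMap.comp_apply, hw]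
    exact sub_self _)
  let σ : C ⧸ CJ →ₗ[A] N ⧸ NJ := Submodule.liftQ CJ σ₀ (Submodule.smul_le.2 fun a ha y _ => by
    rw [LinearMap.mem_ker, map_smul]; exact smul_mk_eq_zero ha _)
  let π : N ⧸ NJ →ₗ[A] C ⧸ CJ := Submodule.liftQ NJ (CJ.mkQ ∘ₗ (LinearMap.range u).mkQ)
    (Submodule.smul_le.2 fun a ha y _ => by
      rw [LinearMap.mem_ker, map_smul]; exact smul_mk_eq_zero ha _)
  have hπσ : ∀ z, π (σ z) = z := by
    intro z
    obtain ⟨c, rfl⟩ := Submodule.Quotient.mk_surjective _ z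
    obtain ⟨y, rfl⟩ := Submodule.Quotient.mk_surjective _ c
    show π (Submodule.Quotient.mk y - ū (w y)) = _
    obtain ⟨m, hm⟩ := Submodule.Quotient.mk_surjective _ (w y)
    rw [← hm, map_sub]
    show _ - Submodule.Quotient.mk (Submodule.Quotient.mk (u m)) = _
    rw [(Submodule.Quotient.mk_eq_zero (LinearMap.range u)).2 ⟨m, rfl⟩, Submodule.Quotient.mk_zero, sub_zero]
    rfl
  have hsur := Ideal.Quotient.mk_surjective (I := J)
  exact Module.Projective.of_split (LinearMap.extendScalarsOfSurjective (S := A ⧸ J) hsur σ)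
    (LinearMap.extendScalarsOfSurjective (S := A ⧸ J) hsur π) (LinearMap.ext hπσ)

end Groth.Agent.EGA41Lib
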