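import Mathlib
import Groth.Agent.DimLib.Algebra
import Groth.Agent.CAlgH3.RegularHom

/-!
# Quotients of polynomial rings by monic polynomials in separate variables
-/

set_option autoImplicit false

universe u w

open MvPolynomial

namespace Groth.Agent.EGA41Lib.SepQuot

variable {R : Type u} [CommRing R] {σ : Type w} (g : σ → Polynomial R)

/-- The defining ideal. -/
noncomputable abbrev rel : Ideal (MvPolynomial σ R) :=
  Ideal.span (Set.range fun i : σ => Polynomial.aeval (X i : MvPolynomial σ R) (g i))

/-- The quotient algebra. -/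
abbrev Alg : Type (max u w) := MvPolynomial σ R ⧸ rel g

/-- The class of a variable. -/
noncomputable def gen (i : σ) : Alg g := Ideal.Quotient.mk _ (X i)

theorem aeval_gen (i : σ) : Polynomial.aeval (gen g i) (g i) = 0 := by
  rw [gen, ← Ideal.Quotient.mkₐ_eq_mk R, Polynomial.aeval_algHom_apply, Ideal.Quotient.mkₐ_eq_mk,
    Ideal.Quotient.eq_zero_iff_mem]
  exact Ideal.subset_span ⟨i, rfl⟩

/-- The universal property. -/
theorem exists_lift {S : Type*} [CommRing S] [Algebra R S] (z : σ → S) (hz : ∀ i, Polynomial.aeval (z i) (g i) = 0) :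
    ∃ φ : Alg g →ₐ[R] S, ∀ i, φ (gen g i) = z i := by
  have hle : ∀ a ∈ rel g, aeval z a = 0 := fun a ha => by
    induction ha using Submodule.span_induction with
    | mem y hy =>
      obtain ⟨i, rfl⟩ := hy
      rw [← Polynomial.aeval_algHom_apply, aeval_X, hz]
    | zero => exact map_zero _
    | add x y _ _ hx hy => rw [map_add, hx, hy, add_zero]
    | smul r x _ hx => rw [smul_eq_mul, map_mul, hx, mul_zero]
  exact ⟨Ideal.Quotient.liftₐ (rel g) (aeval z) hle, fun i => aeval_X z i⟩

theorem adjoin_gen : Algebra.adjoin R (Set.range (gen g)) = ⊤ := by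
  have : Set.range (gen g) = Ideal.Quotient.mkₐ R (rel g) '' Set.range (X : σ → MvPolynomial σ R) := by
    rw [← Set.range_comp]; rfl
  rw [this, Algebra.adjoin_image, MvPolynomial.adjoin_range_X, Algebra.map_top, AlgHom.range_eq_top]
  exact Ideal.Quotient.mkₐ_surjective _ _

theorem algHom_ext {S : Type*} [CommRing S] [Algebra R S] {φ ψ : Alg g →ₐ[R] S} (h : ∀ i, φ (gen g i) = ψ (gen g i)) :
    φ = ψ :=
  Ideal.Quotient.algHom_ext _ (MvPolynomial.algHom_ext fun i => h i)

variable [Fintype σ] [DecidableEq σ]

/-- The monomial with exponents below the degrees. -/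
noncomputable def mono (e : ∀ i, Fin (g i).natDegree) : Alg g := ∏ i, gen g i ^ (e i : ℕ)

/-- The tensor product of the one-variable algebras. -/
abbrev Tens : Type (max u w) := PiTensorProduct R fun i : σ => AdjoinRoot (g i)

theorem exists_equiv : ∃ e : Alg g ≃ₐ[R] Tens g, ∀ i,
    e (gen g i) = PiTensorProduct.singleAlgHom (R := R) (A := fun i => AdjoinRoot (g i)) i (AdjoinRoot.root (g i)) := by
  obtain ⟨fwd, hto⟩ := exists_lift g
    (fun i => PiTensorProduct.singleAlgHom (R := R) (A := fun i => AdjoinRoot (g i)) i (AdjoinRoot.root (g i)))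
    (fun i => by rw [Polynomial.aeval_algHom_apply, AdjoinRoot.aeval_eq, AdjoinRoot.mk_self, map_zero])
  let factor : ∀ i, AdjoinRoot (g i) →ₐ[R] Alg g := fun i =>
    AdjoinRoot.liftAlgHom (g i) (Algebra.ofId R _) (gen g i) (aeval_gen g i)
  let frm : Tens g →ₐ[R] Alg g := PiTensorProduct.liftAlgHom
    ((MultilinearMap.mkPiAlgebra R σ (Alg g)).compLinearMap fun i => (factor i).toLinearMap)
    (by simp) (fun a b => by simp [Finset.prod_mul_distrib])
  have hfac : ∀ i, factor i (AdjoinRoot.root (g i)) = gen g i := fun i => AdjoinRoot.liftAlgHom_root ..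
  have hlift : ∀ b, frm (PiTensorProduct.tprod R b) = ∏ i, factor i (b i) := fun b =>
    PiTensorProduct.lift.tprod b
  have hfrm : ∀ (i : σ) (z : AdjoinRoot (g i)),
      frm (PiTensorProduct.singleAlgHom (R := R) (A := fun i => AdjoinRoot (g i)) i z) = factor i z := fun i z => by
    rw [PiTensorProduct.singleAlgHom_apply]
    rw [hlift, Finset.prod_eq_single i]
    · rw [MonoidHom.mulSingle_apply, Pi.mulSingle_eq_same]
    · intro j _ hj; rw [MonoidHom.mulSingle_apply, Pi.mulSingle_eq_of_ne hj, map_one]
    · simp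
  refine ⟨AlgEquiv.ofAlgHom fwd frm ?_ ?_, hto⟩
  · refine PiTensorProduct.algHom_ext fun i => AdjoinRoot.algHom_ext ?_
    simp only [AlgHom.comp_apply, AlgHom.coe_id, id_eq]
    rw [hfrm, hfac, hto]
  · refine algHom_ext g fun i => ?_
    rw [AlgHom.comp_apply, hto, hfrm, hfac]
    rfl

/-- The monomials with exponents below the degrees form a basis. -/
theorem exists_basis [Nontrivial R] (hg : ∀ i, (g i).Monic) :
    ∃ b : Module.Basis (∀ i, Fin (g i).natDegree) R (Alg g), ∀ e, b e = mono g e := by
  obtain ⟨eq, heq⟩ := exists_equiv g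
  refine ⟨(Basis.piTensorProduct fun i => (AdjoinRoot.powerBasis' (hg i)).basis.reindex
    (finCongr (AdjoinRoot.powerBasis'_dim (hg i)))).map eq.symm.toLinearEquiv, fun e => ?_⟩
  rw [Module.Basis.map_apply, Basis.piTensorProduct_apply]
  refine eq.injective ?_
  rw [AlgEquiv.toLinearEquiv_apply, AlgEquiv.apply_symm_apply, mono, map_prod]
  simp only [map_pow, heq]
  have : ∀ b : ∀ i, AdjoinRoot (g i), PiTensorProduct.tprod R b =
      ∏ i, PiTensorProduct.singleAlgHom (R := R) (A := fun i => AdjoinRoot (g i)) i (b i) := fun b => by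
    simp only [PiTensorProduct.singleAlgHom_apply]
    refine Eq.trans ?_ (map_prod (PiTensorProduct.tprodMonoidHom R) (fun i => MonoidHom.mulSingle (fun i => AdjoinRoot (g i)) i (b i)) Finset.univ)
    exact congrArg _ (Finset.univ_prod_mulSingle b).symm
  rw [this]
  refine Finset.prod_congr rfl fun i _ => ?_
  rw [Module.Basis.reindex_apply, PowerBasis.coe_basis, map_pow]
  simp [AdjoinRoot.powerBasis'_gen]

theorem moduleFinite (hg : ∀ i, (g i).Monic) : Module.Finite R (Alg g) := by
  nontriviality R
  obtain ⟨b, -⟩ := exists_basis g hg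
  exact .of_basis b

omit [Fintype σ] [DecidableEq σ] in
theorem nontrivial [Finite σ] [Nontrivial R] (hg : ∀ i, (g i).Monic) (hd : ∀ i, 0 < (g i).natDegree) :
    Function.Injective (algebraMap R (Alg g)) := by
  classical
  haveI := Fintype.ofFinite σ
  obtain ⟨b, -⟩ := exists_basis g hg
  haveI : Module.Free R (Alg g) := .of_basis b
  haveI : Nontrivial (Alg g) := ⟨⟨b (fun i => ⟨0, hd i⟩), 0, b.ne_zero _⟩⟩
  exact FaithfulSMul.algebraMap_injective _ _

/-- Membership in an extended ideal is coefficientwise. -/
theorem mem_map_iff {M : Type*} [CommRing M] [Algebra R M] {κ : Type*} [Fintype κ] (b : Module.Basis κ R M)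
    (I : Ideal R) (x : M) : x ∈ I.map (algebraMap R M) ↔ ∀ e, b.repr x e ∈ I := by
  constructor
  · intro hx e
    have hx' : x ∈ (I • ⊤ : Submodule R M) := by rw [Ideal.smul_top_eq_map]; exact hx
    refine Submodule.smul_induction_on hx' (fun r hr m _ => ?_) fun y z hy hz => ?_
    · rw [map_smul, Finsupp.smul_apply, smul_eq_mul]; exact I.mul_mem_right _ hr
    · rw [map_add, Finsupp.add_apply]; exact I.add_mem hy hz
  · intro h
    rw [← b.sum_repr x]
    refine Ideal.sum_mem _ fun e _ => ?_
    rw [Algebra.smul_def]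
    exact Ideal.mul_mem_right _ _ (Ideal.mem_map_of_mem _ (h e))

end Groth.Agent.EGA41Lib.SepQuot

namespace Groth.Agent.EGA41Lib

open IsLocalRing

/-- A local algebra generated over a local ring by elements of its maximal ideal. -/
theorem exists_sub_mem_span {A B : Type*} [CommRing A] [CommRing B] [Algebra A B] {J : Type*} (u : J → B)
    (hgen : Algebra.adjoin A (Set.range u) = ⊤) (b : B) :
    ∃ a : A, b - algebraMap A B a ∈ Ideal.span (Set.range u) := by
  have hb : b ∈ Algebra.adjoin A (Set.range u) := hgen ▸ Algebra.mem_top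
  induction hb using Algebra.adjoin_induction with
  | mem y hy => exact ⟨0, by rw [map_zero, sub_zero]; exact Ideal.subset_span hy⟩
  | algebraMap r => exact ⟨r, by rw [sub_self]; exact zero_mem _⟩
  | add x y _ _ hx hy =>
    obtain ⟨a, ha⟩ := hx; obtain ⟨b, hb⟩ := hy
    exact ⟨a + b, by rw [map_add, add_sub_add_comm]; exact add_mem ha hb⟩
  | mul x y _ _ hx hy =>
    obtain ⟨a, ha⟩ := hx; obtain ⟨b, hb⟩ := hy
    refine ⟨a * b, ?_⟩
    rw [map_mul, show x * y - algebraMap A B a * algebraMap A B b =
      (x - algebraMap A B a) * y + algebraMap A B a * (y - algebraMap A B b) by ring]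
    exact add_mem (Ideal.mul_mem_right _ _ ha) (Ideal.mul_mem_left _ _ hb)

/-- Locality of a finite algebra with generators nilpotent modulo the maximal ideal. -/
theorem isLocalRing_of_gen {A B : Type*} [CommRing A] [IsLocalRing A] [CommRing B] [Nontrivial B] [Algebra A B]
    [Module.Finite A B] {J : Type*} (u : J → B) (hgen : Algebra.adjoin A (Set.range u) = ⊤)
    (hnil : ∀ M : Ideal B, M.IsMaximal → ∀ j, u j ∈ M) :
    IsLocalRing B ∧ ∀ M : Ideal B, M.IsMaximal →
      M = (maximalIdeal A).map (algebraMap A B) ⊔ Ideal.span (Set.range u) := by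
  let N := (maximalIdeal A).map (algebraMap A B) ⊔ Ideal.span (Set.range u)
  have hle : ∀ M : Ideal B, M.IsMaximal → N ≤ M := fun M hM => by
    refine sup_le ?_ (Ideal.span_le.2 (Set.range_subset_iff.2 (hnil M hM)))
    rw [Ideal.map_le_iff_le_comap]
    exact (IsLocalRing.eq_maximalIdeal (Ideal.isMaximal_comap_of_isIntegral_of_isMaximal (R := A) M)).ge
  have heq : ∀ M : Ideal B, M.IsMaximal → M = N := fun M hM => by
    refine le_antisymm (fun b hb => ?_) (hle M hM)
    obtain ⟨a, ha⟩ := exists_sub_mem_span u hgen b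
    have ha' : algebraMap A B a ∈ M := by
      rw [← sub_sub_cancel b (algebraMap A B a)]
      exact M.sub_mem hb (hle M hM (Ideal.mem_sup_right ha))
    have : a ∈ maximalIdeal A :=
      (IsLocalRing.eq_maximalIdeal (Ideal.isMaximal_comap_of_isIntegral_of_isMaximal (R := A) M)).le ha'
    rw [← add_sub_cancel (algebraMap A B a) b]
    exact N.add_mem (Ideal.mem_sup_left (Ideal.mem_map_of_mem _ this)) (Ideal.mem_sup_right ha)
  obtain ⟨M, hM⟩ := Ideal.exists_maximal B
  exact ⟨IsLocalRing.of_unique_max_ideal ⟨M, hM, fun M' hM' => (heq M' hM').trans (heq M hM).symm⟩, heq⟩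

/-- A finite injective algebra over a regular local ring is regular iff the cotangent dimensions agree. -/
theorem isRegularRing_iff_finrank_cotangent {A B : Type u} [CommRing A] [IsRegularLocalRing A] [CommRing B]
    [IsLocalRing B] [Algebra A B] [Module.Finite A B] (hinj : Function.Injective (algebraMap A B)) :
    IsRegularRing B ↔ Module.finrank (ResidueField A) (CotangentSpace A) =
      Module.finrank (ResidueField B) (CotangentSpace B) := by
  haveI : IsNoetherianRing B := isNoetherian_of_tower A (inferInstance : IsNoetherian A B)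
  haveI : Algebra.IsIntegral A B := Algebra.IsIntegral.of_finite A B
  have hdim : ringKrullDim A = ringKrullDim B := DimLib.ringKrullDim_eq_of_isIntegral hinj
  have hA : (Module.finrank (ResidueField A) (CotangentSpace A) : WithBot ℕ∞) = ringKrullDim A :=
    (IsRegularLocalRing.iff_finrank_cotangentSpace (R := A)).1 inferInstance
  constructor
  · intro h
    haveI := IsRegularLocalRing.of_isRegularRing_of_isLocalRing B
    have hB : (Module.finrank (ResidueField B) (CotangentSpace B) : WithBot ℕ∞) = ringKrullDim B :=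
      (IsRegularLocalRing.iff_finrank_cotangentSpace (R := B)).1 inferInstance
    exact_mod_cast hA.trans (hdim.trans hB.symm)
  · intro h
    haveI : IsRegularLocalRing B :=
      (IsRegularLocalRing.iff_finrank_cotangentSpace (R := B)).2 (by rw [← h, hA, hdim])
    exact CAlgH3.isRegularRing_of_isRegularLocalRing

end Groth.Agent.EGA41Lib
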