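import Mathlib
import Groth.Agent.EGA41Lib.SepQuot

/-!
# Cotangent spaces of algebras generated by elements with Eisenstein-type relations
-/

set_option autoImplicit false
set_option backward.isDefEq.respectTransparency.types false

universe u

open IsLocalRing TrivSqZeroExt

namespace Groth.Agent.EGA41Lib.EisCot

/-- The residue field as a bimodule. -/
noncomputable scoped instance opModuleResidue {R : Type u} [CommRing R] [IsLocalRing R] :
    Module Rᵐᵒᵖ (ResidueField R) :=
  Module.compHom (ResidueField R) ((RingHom.id R).fromOpposite mul_comm)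

scoped instance isCentralScalar_residue {R : Type u} [CommRing R] [IsLocalRing R] : IsCentralScalar R (ResidueField R) :=
  ⟨fun _ _ => rfl⟩

variable {A : Type u} [CommRing A] [IsLocalRing A] {J : Type*}

/-- The ideal `𝔪² + (g)`. -/
def cutIdeal (g : J → A) : Ideal A := maximalIdeal A ^ 2 ⊔ Ideal.span (Set.range g)

theorem cutIdeal_le (g : J → A) (hg : ∀ j, g j ∈ maximalIdeal A) : cutIdeal g ≤ maximalIdeal A :=
  sup_le (Ideal.pow_le_self two_ne_zero) (Ideal.span_le.2 (Set.range_subset_iff.2 hg))

/-- Everything is congruent to a linear polynomial modulo the square of the maximal ideal. -/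
theorem exists_linear {B : Type u} [CommRing B] [IsLocalRing B] [Algebra A B] [Fintype J] (u : J → B)
    (hu : ∀ j, u j ∈ maximalIdeal B) (hgen : Algebra.adjoin A (Set.range u) = ⊤) (b : B) :
    ∃ (a : A) (c : J → A), b - (algebraMap A B a + ∑ j, algebraMap A B (c j) * u j) ∈ maximalIdeal B ^ 2 := by
  classical
  have hb : b ∈ Algebra.adjoin A (Set.range u) := hgen ▸ Algebra.mem_top
  induction hb using Algebra.adjoin_induction with
  | mem y hy =>
    obtain ⟨j, rfl⟩ := hy
    refine ⟨0, Pi.single j 1, ?_⟩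
    rw [map_zero, zero_add, Finset.sum_eq_single j (fun i _ hi => by rw [Pi.single_eq_of_ne hi, map_zero, zero_mul])
      (fun h => absurd (Finset.mem_univ j) h), Pi.single_eq_same, map_one, one_mul, sub_self]
    exact zero_mem _
  | algebraMap r => exact ⟨r, 0, by simp⟩
  | add x y _ _ hx hy =>
    obtain ⟨a, c, h⟩ := hx; obtain ⟨a', c', h'⟩ := hy
    refine ⟨a + a', c + c', ?_⟩
    convert! add_mem h h' using 1
    simp only [map_add, Pi.add_apply, add_mul, Finset.sum_add_distrib]
    ring
  | mul x y _ _ hx hy =>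
    obtain ⟨a, c, h⟩ := hx; obtain ⟨a', c', h'⟩ := hy
    refine ⟨a * a', fun j => a * c' j + a' * c j, ?_⟩
    have hS : ∀ d : J → A, ∑ j, algebraMap A B (d j) * u j ∈ maximalIdeal B := fun d =>
      Ideal.sum_mem _ fun j _ => Ideal.mul_mem_left _ _ (hu j)
    have e : ∑ j, algebraMap A B (a * c' j + a' * c j) * u j =
        algebraMap A B a * ∑ j, algebraMap A B (c' j) * u j + algebraMap A B a' * ∑ j, algebraMap A B (c j) * u j := by
      rw [Finset.mul_sum, Finset.mul_sum, ← Finset.sum_add_distrib]
      exact Finset.sum_congr rfl fun j _ => by rw [map_add, map_mul, map_mul]; ring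
    rw [e, show x * y - (algebraMap A B (a * a') + (algebraMap A B a * ∑ j, algebraMap A B (c' j) * u j +
        algebraMap A B a' * ∑ j, algebraMap A B (c j) * u j)) =
      (x - (algebraMap A B a + ∑ j, algebraMap A B (c j) * u j)) * y +
      (algebraMap A B a + ∑ j, algebraMap A B (c j) * u j) * (y - (algebraMap A B a' + ∑ j, algebraMap A B (c' j) * u j)) +
      (∑ j, algebraMap A B (c j) * u j) * ∑ j, algebraMap A B (c' j) * u j by rw [map_mul]; ring]
    refine add_mem (add_mem (Ideal.mul_mem_right _ _ h) (Ideal.mul_mem_left _ _ h')) ?_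
    rw [pow_two]
    exact Ideal.mul_mem_mul (hS c) (hS c')

/-- The hypotheses of the cotangent computation. -/
structure Data (B : Type u) [CommRing B] [IsLocalRing B] [Algebra A B] [DecidableEq J] (u : J → B) (g : J → A)
    [IsLocalRing (A ⧸ cutIdeal g)] : Prop where
  map_le : (maximalIdeal A).map (algebraMap A B) ≤ maximalIdeal B
  gen_mem : ∀ j, u j ∈ maximalIdeal B
  g_mem : ∀ j, g j ∈ maximalIdeal A
  g_sq : ∀ j, algebraMap A B (g j) ∈ maximalIdeal B ^ 2
  gen_top : Algebra.adjoin A (Set.range u) = ⊤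
  exists_hom : ∃ φ : B →ₐ[A] TrivSqZeroExt (A ⧸ cutIdeal g) (J → ResidueField (A ⧸ cutIdeal g)),
    ∀ j, φ (u j) = inr (Pi.single j 1)

variable {B : Type u} [CommRing B] [IsLocalRing B] [Algebra A B] [DecidableEq J] [Fintype J] {u : J → B} {g : J → A}
  [IsLocalRing (A ⧸ cutIdeal g)]

theorem Data.cases (h : Data B u g) (b : B) :
    ∃ a : A, b - algebraMap A B a ∈ Ideal.span (Set.range u) ∧ (b ∈ maximalIdeal B → a ∈ maximalIdeal A) := by
  obtain ⟨a, ha⟩ := exists_sub_mem_span u h.gen_top b
  refine ⟨a, ha, fun hb => ?_⟩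
  by_contra hna
  have hu : IsUnit (algebraMap A B a) := (notMem_maximalIdeal.1 hna).map _
  refine (mem_maximalIdeal _).1 ?_ hu
  rw [← sub_sub_cancel b (algebraMap A B a)]
  exact sub_mem hb (Ideal.span_le.2 (Set.range_subset_iff.2 h.gen_mem) ha)

/-- Linear independence of the classes. -/
theorem Data.mem_of_mem_sq (h : Data B u g) (a : A) (c : J → A)
    (hmem : algebraMap A B a + ∑ j, algebraMap A B (c j) * u j ∈ maximalIdeal B ^ 2) :
    a ∈ cutIdeal g ∧ ∀ j, c j ∈ maximalIdeal A := by
  classical
  obtain ⟨φ, hφ⟩ := h.exists_hom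
  have hI := cutIdeal_le g h.g_mem
  haveI : IsLocalHom (Ideal.Quotient.mk (cutIdeal g)) := IsLocalHom.of_surjective _ Ideal.Quotient.mk_surjective
  have hmk : ∀ x ∈ maximalIdeal A, Ideal.Quotient.mk (cutIdeal g) x ∈ maximalIdeal (A ⧸ cutIdeal g) := fun x hx => by
    rw [mem_maximalIdeal, mem_nonunits_iff]
    exact fun hu => (mem_maximalIdeal _).1 hx (IsLocalHom.map_nonunit (f := Ideal.Quotient.mk (cutIdeal g)) _ hu)
  have hfst : ∀ b ∈ maximalIdeal B, (φ b).fst ∈ maximalIdeal (A ⧸ cutIdeal g) := fun b hb => by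
    obtain ⟨x, hx, hxm⟩ := h.cases b
    have hker : Ideal.span (Set.range u) ≤ RingHom.ker ((fstHom A (A ⧸ cutIdeal g) _).comp φ) := by
      rw [Ideal.span_le]; rintro _ ⟨j, rfl⟩
      show (φ (u j)).fst = 0
      rw [hφ, fst_inr]
    have h0 : (φ (b - algebraMap A B x)).fst = 0 := hker hx
    rw [map_sub, AlgHom.commutes, fst_sub, sub_eq_zero] at h0
    rw [h0]
    exact hmk x (hxm hb)
  have hsq : ∀ b ∈ maximalIdeal B ^ 2, φ b = 0 := fun b hb => by
    rw [pow_two] at hb
    refine Submodule.mul_induction_on hb (fun x hx y hy => ?_) fun x y hx hy => by rw [map_add, hx, hy, add_zero]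
    rw [map_mul]
    refine TrivSqZeroExt.ext ?_ ?_
    · rw [fst_mul, fst_zero]
      obtain ⟨x', hx'⟩ := Ideal.Quotient.mk_surjective (φ x).fst
      obtain ⟨y', hy'⟩ := Ideal.Quotient.mk_surjective (φ y).fst
      rw [← hx', ← hy', ← map_mul, Ideal.Quotient.eq_zero_iff_mem]
      have hxm : x' ∈ maximalIdeal A := by
        by_contra hn
        exact (mem_maximalIdeal _).1 (hfst x hx) (hx' ▸ (notMem_maximalIdeal.1 hn).map _)
      have hym : y' ∈ maximalIdeal A := by
        by_contra hn
        exact (mem_maximalIdeal _).1 (hfst y hy) (hy' ▸ (notMem_maximalIdeal.1 hn).map _)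
      exact Ideal.mem_sup_left (by rw [pow_two]; exact Ideal.mul_mem_mul hxm hym)
    · rw [snd_mul, snd_zero, op_smul_eq_smul]
      funext j
      rw [Pi.add_apply, Pi.smul_apply, Pi.smul_apply, Pi.zero_apply, Algebra.smul_def, Algebra.smul_def,
        ResidueField.algebraMap_eq, (residue_eq_zero_iff _).2 (hfst x hx), (residue_eq_zero_iff _).2 (hfst y hy),
        zero_mul, zero_mul, add_zero]
  have h0 := hsq _ hmem
  rw [map_add, map_sum, AlgHom.commutes] at h0
  simp only [map_mul, AlgHom.commutes, hφ] at h0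
  refine ⟨?_, fun i => ?_⟩
  · have h1 := congrArg (fstHom A (A ⧸ cutIdeal g) (J → ResidueField (A ⧸ cutIdeal g))) h0
    rw [map_add, map_sum, map_zero, Finset.sum_eq_zero (fun j _ => by rw [map_mul, fstHom_apply, fstHom_apply, fst_inr, mul_zero]),
      add_zero] at h1
    exact Ideal.Quotient.eq_zero_iff_mem.1 h1
  · have h1 := congrFun (congrArg TrivSqZeroExt.snd h0) i
    simp only [snd_add, snd_zero, Pi.add_apply, Pi.zero_apply, snd_sum, Finset.sum_apply, snd_mul, snd_inr, fst_inr,
      op_smul_eq_smul, zero_smul, add_zero] at h1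
    rw [show TrivSqZeroExt.snd (algebraMap A (TrivSqZeroExt (A ⧸ cutIdeal g) (J → ResidueField (A ⧸ cutIdeal g))) a) i = 0 from rfl,
      zero_add, Finset.sum_eq_single i (fun j _ hj => by rw [Pi.smul_apply, Pi.single_eq_of_ne (Ne.symm hj), smul_zero])
        (fun hh => absurd (Finset.mem_univ i) hh), Pi.smul_apply, Pi.single_eq_same, Algebra.smul_def, mul_one,
      ResidueField.algebraMap_eq, residue_eq_zero_iff] at h1
    by_contra hn
    exact (mem_maximalIdeal _).1 h1 ((notMem_maximalIdeal.1 hn).map (Ideal.Quotient.mk (cutIdeal g)))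

/-- The kernel of `𝔪 → 𝔪'/𝔪'²`. -/
theorem Data.comap_sq (h : Data B u g) :
    maximalIdeal A ⊓ (maximalIdeal B ^ 2).comap (algebraMap A B) = cutIdeal g := by
  refine le_antisymm (fun a ha => ?_) (le_inf (cutIdeal_le g h.g_mem) ?_)
  · exact (h.mem_of_mem_sq a 0 (by simpa using ha.2)).1
  · refine sup_le ?_ (Ideal.span_le.2 (Set.range_subset_iff.2 h.g_sq))
    rw [← Ideal.map_le_iff_le_comap, Ideal.map_pow]
    exact Ideal.pow_right_mono h.map_le 2

/-- The residue fields agree. -/
theorem Data.residue_surjective (h : Data B u g) :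
    Function.Surjective ((residue B).comp (algebraMap A B)) := fun z => by
  obtain ⟨b, rfl⟩ := IsLocalRing.residue_surjective z
  obtain ⟨a, ha, -⟩ := h.cases b
  refine ⟨a, ?_⟩
  show residue B (algebraMap A B a) = residue B b
  rw [← sub_eq_zero, ← map_sub, residue_eq_zero_iff, ← neg_sub, neg_mem_iff]
  exact Ideal.span_le.2 (Set.range_subset_iff.2 h.gen_mem) ha

/-- The dimensions agree iff the constant terms are independent in the cotangent space. -/
theorem Data.finrank_eq_iff [IsNoetherianRing A] (h : Data B u g) :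
    Module.finrank (ResidueField A) (CotangentSpace A) = Module.finrank (ResidueField B) (CotangentSpace B) ↔
      LinearIndependent (ResidueField A) (fun j => (maximalIdeal A).toCotangent ⟨g j, h.g_mem j⟩) := by
  classical
  let v : J → CotangentSpace A := fun j => (maximalIdeal A).toCotangent ⟨g j, h.g_mem j⟩
  let W : Submodule (ResidueField A) (CotangentSpace A) := Submodule.span _ (Set.range v)
  let q := Module.finrank (ResidueField A) (CotangentSpace A ⧸ W)
  let bQ := Module.finBasis (ResidueField A) (CotangentSpace A ⧸ W)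
  choose z hz using fun i => W.mkQ_surjective (bQ i)
  choose x hx using fun i => (maximalIdeal A).toCotangent_surjective (z i)
  have hWmem : ∀ (a : A) (ha : a ∈ maximalIdeal A), a ∈ cutIdeal g ↔ (maximalIdeal A).toCotangent ⟨a, ha⟩ ∈ W := by
    intro a ha
    constructor
    · intro hc
      obtain ⟨s, hs, t, ht, rfl⟩ := Submodule.mem_sup.1 hc
      obtain ⟨co, rfl⟩ := Ideal.mem_span_range_iff_exists_fun.1 ht
      have : (⟨s + ∑ j, co j * g j, ha⟩ : maximalIdeal A) =
          ⟨s, Ideal.pow_le_self two_ne_zero hs⟩ + ∑ j, co j • (⟨g j, h.g_mem j⟩ : maximalIdeal A) :=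
        Subtype.ext (by simp [AddSubmonoidClass.coe_finsetSum])
      rw [this, map_add, show (maximalIdeal A).toCotangent ⟨s, _⟩ = 0 from (Ideal.toCotangent_eq_zero _ _).2 hs,
        zero_add, map_sum]
      refine Submodule.sum_mem _ fun j _ => ?_
      rw [map_smul, ← algebraMap_smul (ResidueField A) (co j)]
      exact Submodule.smul_mem _ _ (Submodule.subset_span ⟨j, rfl⟩)
    · intro hc
      obtain ⟨co, hco⟩ := (Submodule.mem_span_range_iff_exists_fun _).1 hc
      choose r hr using fun j => IsLocalRing.residue_surjective (co j)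
      have hsq : a - ∑ j, r j * g j ∈ maximalIdeal A ^ 2 := by
        have e : (maximalIdeal A).toCotangent (⟨a, ha⟩ - ∑ j, r j • (⟨g j, h.g_mem j⟩ : maximalIdeal A)) = 0 := by
          rw [map_sub, map_sum, sub_eq_zero, ← hco]
          refine Finset.sum_congr rfl fun j _ => ?_
          rw [map_smul, ← algebraMap_smul (ResidueField A) (r j), ResidueField.algebraMap_eq, hr]
        rw [Ideal.toCotangent_eq_zero] at e
        simpa [AddSubmonoidClass.coe_finsetSum] using e
      rw [← sub_add_cancel a (∑ j, r j * g j)]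
      exact Ideal.add_mem _ (Ideal.mem_sup_left hsq)
        (Ideal.mem_sup_right (Ideal.sum_mem _ fun j _ => Ideal.mul_mem_left _ _ (Ideal.subset_span ⟨j, rfl⟩)))
  let fam : Fin q ⊕ J → B := Sum.elim (fun i => algebraMap A B (x i)) u
  have hfam : ∀ k, fam k ∈ maximalIdeal B := Sum.rec (fun i => h.map_le (Ideal.mem_map_of_mem _ (x i).2)) h.gen_mem
  let cls : Fin q ⊕ J → CotangentSpace B := fun k => (maximalIdeal B).toCotangent ⟨fam k, hfam k⟩
  -- classes of linear combinations
  have hcls : ∀ co : Fin q ⊕ J → A, ∑ k, residue B (algebraMap A B (co k)) • cls k =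
      (maximalIdeal B).toCotangent (∑ k, algebraMap A B (co k) • (⟨fam k, hfam k⟩ : maximalIdeal B)) := fun co => by
    rw [map_sum]
    refine Finset.sum_congr rfl fun k _ => ?_
    rw [map_smul, ← algebraMap_smul (ResidueField B) (algebraMap A B (co k)), ResidueField.algebraMap_eq]
  have hval : ∀ co : Fin q ⊕ J → A, ((∑ k, algebraMap A B (co k) • (⟨fam k, hfam k⟩ : maximalIdeal B) : maximalIdeal B) : B) =
      algebraMap A B (∑ i, co (Sum.inl i) * x i) + ∑ j, algebraMap A B (co (Sum.inr j)) * u j := fun co => by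
    rw [AddSubmonoidClass.coe_finsetSum, Fintype.sum_sum_type, map_sum]
    simp [fam, Algebra.smul_def]
  have hli : LinearIndependent (ResidueField B) cls := Fintype.linearIndependent_iff.2 fun co hco => by
    choose r hr using fun k => h.residue_surjective (co k)
    have e0 : ∀ k, co k = residue B (algebraMap A B (r k)) := fun k => (hr k).symm
    rw [Finset.sum_congr rfl fun k _ => by rw [e0 k], hcls, Ideal.toCotangent_eq_zero, hval] at hco
    obtain ⟨h1, h2⟩ := h.mem_of_mem_sq _ _ hco
    have hsum : ∑ i, residue A (r (Sum.inl i)) • bQ i = 0 := by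
      have hm : (∑ i, r (Sum.inl i) * x i) ∈ maximalIdeal A := cutIdeal_le g h.g_mem h1
      have := (Submodule.Quotient.mk_eq_zero W).2 ((hWmem _ hm).1 h1)
      rw [show (⟨_, hm⟩ : maximalIdeal A) = ∑ i, r (Sum.inl i) • x i from
        Subtype.ext (by simp [AddSubmonoidClass.coe_finsetSum]), map_sum] at this
      rw [← this, ← Submodule.mkQ_apply, map_sum]
      refine Finset.sum_congr rfl fun i _ => ?_
      rw [map_smul, ← algebraMap_smul (ResidueField A) (r (Sum.inl i)), ResidueField.algebraMap_eq, map_smul, hx, hz]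
    have h3 := Fintype.linearIndependent_iff.1 bQ.linearIndependent _ hsum
    intro k
    rw [e0 k, residue_eq_zero_iff]
    refine h.map_le (Ideal.mem_map_of_mem _ ?_)
    cases k with
    | inl i => exact (residue_eq_zero_iff _).1 (h3 i)
    | inr j => exact h2 j
  have hsp : ⊤ ≤ Submodule.span (ResidueField B) (Set.range cls) := fun y _ => by
    obtain ⟨⟨b, hb⟩, rfl⟩ := (maximalIdeal B).toCotangent_surjective y
    obtain ⟨a, c, hac⟩ := exists_linear u h.gen_mem h.gen_top b
    have hS : ∑ j, algebraMap A B (c j) * u j ∈ maximalIdeal B := Ideal.sum_mem _ fun j _ => Ideal.mul_mem_left _ _ (h.gen_mem j)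
    have ha : a ∈ maximalIdeal A := by
      by_contra hn
      refine (mem_maximalIdeal _).1 ?_ ((notMem_maximalIdeal.1 hn).map (algebraMap A B))
      have := sub_mem (sub_mem hb (Ideal.pow_le_self two_ne_zero hac)) hS
      simpa using this
    obtain ⟨co, hco⟩ : ∃ co : Fin q → A, a - ∑ i, co i * x i ∈ cutIdeal g := by
      choose r hr using fun i => IsLocalRing.residue_surjective (bQ.repr (W.mkQ ((maximalIdeal A).toCotangent ⟨a, ha⟩)) i)
      refine ⟨r, ?_⟩
      have hm : a - ∑ i, r i * (x i : A) ∈ maximalIdeal A :=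
        sub_mem ha (Ideal.sum_mem _ fun i _ => Ideal.mul_mem_left _ _ (x i).2)
      rw [hWmem _ hm, ← Submodule.Quotient.mk_eq_zero,
        show (⟨_, hm⟩ : maximalIdeal A) = ⟨a, ha⟩ - ∑ i, r i • x i from
          Subtype.ext (by simp [AddSubmonoidClass.coe_finsetSum]),
        map_sub, map_sum, ← Submodule.mkQ_apply, map_sub, map_sum, sub_eq_zero]
      conv_lhs => rw [← bQ.sum_repr (W.mkQ ((maximalIdeal A).toCotangent ⟨a, ha⟩))]
      refine Finset.sum_congr rfl fun i _ => ?_
      rw [map_smul, ← algebraMap_smul (ResidueField A) (r i), ResidueField.algebraMap_eq, hr, map_smul, hx, hz]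
    have key : (maximalIdeal B).toCotangent ⟨b, hb⟩ = ∑ k, residue B (algebraMap A B (Sum.elim co c k)) • cls k := by
      rw [hcls, Ideal.toCotangent_eq, hval]
      have h2 : algebraMap A B (a - ∑ i, co i * x i) ∈ maximalIdeal B ^ 2 := (h.comap_sq.ge hco).2
      simp only [Sum.elim_inl, Sum.elim_inr]
      convert! add_mem hac h2 using 1
      rw [map_sub]; ring
    rw [key]
    exact Submodule.sum_mem _ fun k _ => Submodule.smul_mem _ _ (Submodule.subset_span ⟨k, rfl⟩)
  have hB : Module.finrank (ResidueField B) (CotangentSpace B) = q + Fintype.card J := by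
    rw [Module.finrank_eq_card_basis (Module.Basis.mk hli hsp), Fintype.card_sum, Fintype.card_fin]
  have hA := Submodule.finrank_quotient_add_finrank W
  rw [linearIndependent_iff_card_eq_finrank_span, hB]
  show _ ↔ Fintype.card J = Module.finrank (ResidueField A) W
  omega

end Groth.Agent.EGA41Lib.EisCot
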