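import Mathlib
import Groth.Agent.EGA41Lib.EisensteinCotangent

/-!
# Quotients by Eisenstein-type polynomials in separate variables
-/

set_option autoImplicit false
set_option backward.isDefEq.respectTransparency.types false

universe u

open IsLocalRing TrivSqZeroExt
open scoped Groth.Agent.EGA41Lib.EisCot

namespace Groth.Agent.EGA41Lib.EisCot

variable {A : Type u} [CommRing A] [IsLocalRing A] {σ : Type} [Fintype σ] [DecidableEq σ] (g : σ → Polynomial A)

theorem isLocalRing_cut (c : σ → A) (hc : ∀ i, c i ∈ maximalIdeal A) : IsLocalRing (A ⧸ cutIdeal c) :=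
  haveI : Nontrivial (A ⧸ cutIdeal c) := Ideal.Quotient.nontrivial_iff.2
    (ne_top_of_le_ne_top (maximalIdeal.isMaximal A).ne_top (cutIdeal_le c hc))
  IsLocalRing.of_surjective' _ Ideal.Quotient.mk_surjective

/-- Eisenstein quotients are local, with cotangent data. -/
theorem exists_data (hmon : ∀ i, (g i).Monic) (hdeg : ∀ i, 2 ≤ (g i).natDegree)
    (hcoe : ∀ i k, k < (g i).natDegree → (g i).coeff k ∈ maximalIdeal A)
    [IsLocalRing (A ⧸ cutIdeal fun i => (g i).coeff 0)] :
    ∃ _ : IsLocalRing (SepQuot.Alg g),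
      Data (SepQuot.Alg g) (SepQuot.gen g) (fun i => (g i).coeff 0) := by
  classical
  haveI := SepQuot.moduleFinite g hmon
  have hinj := SepQuot.nontrivial g hmon (fun i => by have := hdeg i; omega)
  haveI : Nontrivial (SepQuot.Alg g) := hinj.nontrivial
  have hrel : ∀ i, SepQuot.gen g i ^ (g i).natDegree +
      ∑ k ∈ Finset.range (g i).natDegree, algebraMap A (SepQuot.Alg g) ((g i).coeff k) * SepQuot.gen g i ^ k = 0 := fun i => by
    have h := SepQuot.aeval_gen g i
    rw [(hmon i).as_sum, map_add, map_pow, Polynomial.aeval_X, map_sum] at h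
    simpa using h
  have hnil : ∀ M : Ideal (SepQuot.Alg g), M.IsMaximal → ∀ i, SepQuot.gen g i ∈ M := fun M hM i => by
    refine hM.isPrime.mem_of_pow_mem (g i).natDegree ?_
    rw [eq_neg_of_add_eq_zero_left (hrel i), neg_mem_iff]
    refine Ideal.sum_mem _ fun k hk => Ideal.mul_mem_right _ _ ?_
    exact (IsLocalRing.eq_maximalIdeal (Ideal.isMaximal_comap_of_isIntegral_of_isMaximal (R := A) M)).ge
      (hcoe i k (Finset.mem_range.1 hk))
  obtain ⟨hloc, hmax⟩ := isLocalRing_of_gen (SepQuot.gen g) (SepQuot.adjoin_gen g) hnil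
  have hM := hmax _ (maximalIdeal.isMaximal _)
  refine ⟨hloc, ⟨le_sup_left.trans hM.ge, fun i => hnil _ (maximalIdeal.isMaximal _) i,
    fun i => hcoe i 0 (by have := hdeg i; omega), fun i => ?_, SepQuot.adjoin_gen g, ?_⟩⟩
  · have h := hrel i
    rw [Finset.range_eq_Ico, Finset.sum_eq_sum_Ico_succ_bot (by have := hdeg i; omega), pow_zero, mul_one,
      ← add_assoc, add_comm (_ ^ _), add_assoc] at h
    rw [eq_neg_of_add_eq_zero_left h, neg_mem_iff]
    have hu := hnil _ (maximalIdeal.isMaximal _) i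
    refine add_mem (Ideal.pow_le_pow_right (hdeg i) (Ideal.pow_mem_pow hu _)) (Ideal.sum_mem _ fun k hk => ?_)
    rw [Finset.mem_Ico] at hk
    rw [pow_two]
    refine Ideal.mul_mem_mul (hM.ge (Ideal.mem_sup_left (Ideal.mem_map_of_mem _ (hcoe i k hk.2)))) ?_
    exact Ideal.pow_mem_of_mem _ hu k (by omega)
  · obtain ⟨φ, hφ⟩ := SepQuot.exists_lift g
      (fun i => (inr (Pi.single i 1) :
        TrivSqZeroExt (A ⧸ cutIdeal fun i => (g i).coeff 0) (σ → ResidueField (A ⧸ cutIdeal fun i => (g i).coeff 0))))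
      (fun i => by
        let R0 := A ⧸ cutIdeal fun i => (g i).coeff 0
        let e : TrivSqZeroExt R0 (σ → ResidueField R0) := inr (Pi.single i 1)
        have he : ∀ k, 2 ≤ k → e ^ k = 0 := fun k hk => by
          rw [← Nat.sub_add_cancel hk, pow_add, pow_two]
          simp [e, inr_mul_inr]
        show Polynomial.aeval e (g i) = 0
        rw [Polynomial.aeval_eq_sum_range, Finset.sum_range_succ, he _ (hdeg i), smul_zero, add_zero]
        refine Finset.sum_eq_zero fun k hk => ?_
        have hk' := Finset.mem_range.1 hk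
        rcases k with _ | _ | k
        · rw [pow_zero, Algebra.smul_def, mul_one, TrivSqZeroExt.algebraMap_eq_inl']
          rw [show algebraMap A R0 ((g i).coeff 0) = 0 from Ideal.Quotient.eq_zero_iff_mem.2
            (Ideal.mem_sup_right (Ideal.subset_span ⟨i, rfl⟩)), inl_zero]
        · rw [pow_one, Algebra.smul_def, TrivSqZeroExt.algebraMap_eq_inl', inl_mul_inr]
          refine (congrArg inr ?_).trans (inr_zero _)
          funext j
          rw [Pi.smul_apply, Pi.zero_apply, Algebra.smul_def, ResidueField.algebraMap_eq,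
            (residue_eq_zero_iff _).2 ?_, zero_mul]
          haveI : IsLocalHom (Ideal.Quotient.mk (cutIdeal fun i => (g i).coeff 0)) :=
            IsLocalHom.of_surjective _ Ideal.Quotient.mk_surjective
          rw [mem_maximalIdeal, mem_nonunits_iff]
          exact fun hu => (mem_maximalIdeal _).1 (hcoe i 1 hk')
            (IsLocalHom.map_nonunit (f := Ideal.Quotient.mk (cutIdeal fun i => (g i).coeff 0)) _ hu)
        · rw [he (k + 2) (by omega), smul_zero])
    exact ⟨φ, hφ⟩

/-- The polynomials `T ^ d + ∑_{k < d} c_k T ^ k`. -/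
noncomputable def poly (d : ℕ) (c : ℕ → A) : Polynomial A :=
  Polynomial.X ^ d + ∑ k ∈ Finset.range d, Polynomial.C (c k) * Polynomial.X ^ k

omit [IsLocalRing A] in
theorem poly_monic (d : ℕ) (c : ℕ → A) : (poly d c).Monic :=
  Polynomial.monic_X_pow_add ((Polynomial.degree_sum_le _ _).trans_lt (by
    refine (Finset.sup_lt_iff (WithBot.bot_lt_coe d)).2 fun k hk => ?_
    exact (Polynomial.degree_C_mul_X_pow_le _ _).trans_lt (WithBot.coe_lt_coe.2 (Finset.mem_range.1 hk))))

omit [IsLocalRing A] in
theorem poly_coeff (d : ℕ) (c : ℕ → A) (k : ℕ) (hk : k < d) : (poly d c).coeff k = c k := by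
  simp [poly, Polynomial.coeff_X_pow, Nat.ne_of_lt hk, Finset.mem_range.2 hk]

omit [IsLocalRing A] in
theorem poly_natDegree [Nontrivial A] (d : ℕ) (c : ℕ → A) : (poly d c).natDegree = d := by
  refine Polynomial.natDegree_eq_of_degree_eq_some ?_
  rw [poly, Polynomial.degree_add_eq_left_of_degree_lt, Polynomial.degree_X_pow]
  rw [Polynomial.degree_X_pow]
  refine (Polynomial.degree_sum_le _ _).trans_lt ((Finset.sup_lt_iff (WithBot.bot_lt_coe d)).2 fun k hk => ?_)
  exact (Polynomial.degree_C_mul_X_pow_le _ _).trans_lt (WithBot.coe_lt_coe.2 (Finset.mem_range.1 hk))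

omit [IsLocalRing A] [Fintype σ] [DecidableEq σ] in
theorem rel_poly (d : σ → ℕ) (c : σ → ℕ → A) :
    SepQuot.rel (fun i => poly (d i) (c i)) = Ideal.span (Set.range fun i =>
      MvPolynomial.X i ^ d i + (Finset.range (d i)).sum fun k => MvPolynomial.C (c i k) * MvPolynomial.X i ^ k) := by
  unfold SepQuot.rel
  congr 2
  funext i
  simp [poly, MvPolynomial.algebraMap_eq]

end Groth.Agent.EGA41Lib.EisCot
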