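import Groth.Prelude.Def_Exal2
import Groth.Prelude.Def_FSRel
import Mathlib

/-!
# Square-zero extensions and lifting

EGA 0 18.4, 19.4: formal smoothness via triviality of square-zero extensions.
-/

set_option autoImplicit false

universe u v

open Exal

namespace Groth.Agent.EGA41Lib

variable {A : Type u} {B E : Type v} [CommRing A] [CommRing B] [CommRing E] [Algebra A B] [Algebra A E]

/-- The module structure of a square-zero kernel. -/
noncomputable def kerModule (p : E →ₐ[A] B) (hp : Function.Surjective p)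
    (hsq : ∀ x y, p x = 0 → p y = 0 → x * y = 0) : Module B (RingHom.ker p.toRingHom) :=
  letI : SMul B (RingHom.ker p.toRingHom) := ⟨fun b z ↦ Function.surjInv hp b • z⟩
  Function.Surjective.moduleLeft p.toRingHom hp fun c z ↦ Subtype.ext (by
    change Function.surjInv hp (p c) * z.1 = c * z.1
    rw [← sub_eq_zero, ← sub_mul]
    exact hsq _ _ (by rw [map_sub, Function.surjInv_eq hp, sub_self]) z.2)

/-- A surjection with square-zero kernel as an extension. -/
theorem exists_ext (p : E →ₐ[A] B) (hp : Function.Surjective p)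
    (hsq : ∀ x y, p x = 0 → p y = 0 → x * y = 0) :
    ∃ (L : Type v) (_ : AddCommGroup L) (_ : Module B L) (X : Exal.Ext A B L)
      (e : X.E ≃ₐ[A] E), ∀ x, p (e x) = X.proj x := by
  letI := kerModule p hp hsq
  refine ⟨RingHom.ker p.toRingHom, inferInstance, inferInstance,
    { E := E, proj := p, incl := (RingHom.ker p.toRingHom).toAddSubgroup.subtype
      isExtension :=
        { proj_surjective := hp
          incl_injective := Subtype.val_injective
          exact := fun x ↦ ⟨fun hx ↦ ⟨⟨x, hx⟩, rfl⟩, fun ⟨z, hz⟩ ↦ hz ▸ z.2⟩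
          mul_incl := fun x z ↦ ?_ } }, AlgEquiv.refl, fun _ ↦ rfl⟩
  change x * z.1 = Function.surjInv hp (p x) * z.1
  rw [← sub_eq_zero, ← sub_mul]
  exact hsq _ _ (by rw [map_sub, Function.surjInv_eq hp, sub_self]) z.2

variable {C : Type v} [CommRing C] [Algebra A C]

/-- The kernel of an extension squares to zero. -/
theorem ext_ker_mul {L : Type v} [AddCommGroup L] [Module B L] (X : Exal.Ext A B L) {x y : X.E}
    (hx : X.proj x = 0) (hy : X.proj y = 0) : x * y = 0 := by
  obtain ⟨z, rfl⟩ := (X.isExtension.exact y).1 hy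
  rw [X.isExtension.mul_incl, hx, zero_smul, map_zero]

/-- Pull back a lifting problem to a square-zero extension. -/
theorem exists_ext_of_lifting (J : Ideal C) (hJ : J ^ 2 = ⊥) (g : B →ₐ[A] C ⧸ J) :
    ∃ (L : Type v) (_ : AddCommGroup L) (_ : Module B L) (X : Exal.Ext A B L) (q : X.E →ₐ[A] C),
      (∀ x, Ideal.Quotient.mk J (q x) = g (X.proj x)) ∧
      ∀ (c : C) (b : B), Ideal.Quotient.mk J c = g b → ∃! x, q x = c ∧ X.proj x = b := by
  let F : Subalgebra A (C × B) := AlgHom.equalizer ((Ideal.Quotient.mkₐ A J).comp (AlgHom.fst A C B))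
    (g.comp (AlgHom.snd A C B))
  let p : F →ₐ[A] B := (AlgHom.snd A C B).comp F.val
  have hp : Function.Surjective p := fun b ↦ by
    obtain ⟨c, hc⟩ := Ideal.Quotient.mk_surjective (g b)
    exact ⟨⟨(c, b), hc⟩, rfl⟩
  have hsq : ∀ x y : F, p x = 0 → p y = 0 → x * y = 0 := by
    intro x y hx hy
    have hmem : ∀ z : F, p z = 0 → z.1.1 ∈ J := fun z hz ↦ by
      rw [← Ideal.Quotient.eq_zero_iff_mem]
      exact (z.2 : Ideal.Quotient.mk J z.1.1 = g z.1.2).trans
        (show g z.1.2 = 0 by rw [show z.1.2 = 0 from hz, map_zero])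
    refine Subtype.ext (Prod.ext ?_ ?_)
    · have h := Ideal.mul_mem_mul (hmem x hx) (hmem y hy)
      rw [← pow_two, hJ] at h
      exact h
    · change p x * p y = 0
      rw [hx, zero_mul]
  obtain ⟨L, i1, i2, X, e, he⟩ := exists_ext p hp hsq
  refine ⟨L, i1, i2, X, ((AlgHom.fst A C B).comp F.val).comp e.toAlgHom, fun x ↦ ?_, fun c b hcb ↦ ?_⟩
  · rw [← he]
    exact (e x).2
  · refine ⟨e.symm ⟨(c, b), hcb⟩, ⟨?_, ?_⟩, fun y ⟨hy1, hy2⟩ ↦ e.injective ?_⟩
    · change (e (e.symm ⟨(c, b), hcb⟩)).1.1 = c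
      rw [e.apply_symm_apply]
    · rw [← he, e.apply_symm_apply]
      rfl
    · rw [e.apply_symm_apply]
      refine Subtype.ext (Prod.ext hy1 ?_)
      exact (he y).trans hy2

theorem formallySmooth_iff_forall_isTrivial (A B : Type v) [CommRing A] [CommRing B] [Algebra A B] :
    Algebra.FormallySmooth A B ↔
      ∀ (L : Type v) [AddCommGroup L] [Module B L] (X : Exal.Ext A B L), X.IsTrivial := by
  constructor
  · intro _ L _ _ X
    have hnil : IsNilpotent (RingHom.ker X.proj) := ⟨2, by
      rw [pow_two, Ideal.zero_eq_bot, eq_bot_iff, Ideal.mul_le]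
      intro x hx y hy
      exact ext_ker_mul X hx hy⟩
    exact ⟨Algebra.FormallySmooth.liftOfSurjective (AlgHom.id A B) X.proj
      X.isExtension.proj_surjective hnil, fun b ↦ Algebra.FormallySmooth.liftOfSurjective_apply _ _ _ hnil b⟩
  · intro h
    refine Algebra.FormallySmooth.of_comp_surjective fun C _ _ J hJ g ↦ ?_
    obtain ⟨L, _, _, X, q, hq, -⟩ := exists_ext_of_lifting J hJ g
    obtain ⟨s, hs⟩ := h L X
    exact ⟨q.comp s, AlgHom.ext fun b ↦ (hq (s b)).trans (by rw [hs b])⟩

theorem isFormallySmoothRel_iff (Λ A B : Type v) [CommRing Λ] [CommRing A] [CommRing B] [Algebra Λ A]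
    [Algebra Λ B] [Algebra A B] [IsScalarTower Λ A B] :
    EGA41.IsFormallySmoothRel Λ A B ↔
      ∀ (L : Type v) [AddCommGroup L] [Module B L] (X : Exal.Ext A B L),
        X.IsTrivialOver Λ → X.IsTrivial := by
  constructor
  · intro h L _ _ X ⟨s, hs⟩
    letI : Algebra Λ X.E := ((algebraMap A X.E).comp (algebraMap Λ A)).toAlgebra
    haveI : IsScalarTower Λ A X.E := .of_algebraMap_eq fun _ ↦ rfl
    let J := RingHom.ker X.proj
    have hJ : J ^ 2 = ⊥ := by
      rw [pow_two, eq_bot_iff, Ideal.mul_le]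
      intro x hx y hy
      exact ext_ker_mul X hx hy
    let e : (X.E ⧸ J) ≃ₐ[A] B := Ideal.quotientKerAlgEquivOfSurjective X.isExtension.proj_surjective
    let u : B →ₐ[Λ] X.E :=
      { toFun := fun b ↦ (s b : X.E), map_one' := map_one s, map_mul' := map_mul s,
        map_zero' := map_zero s, map_add' := map_add s, commutes' := s.commutes }
    obtain ⟨v, hv⟩ := h X.E J hJ e.symm.toAlgHom ⟨u, AlgHom.ext fun b ↦ e.injective (by
      change e (Ideal.Quotient.mk J (u b)) = e (e.symm b)
      rw [e.apply_symm_apply]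
      exact hs b)⟩
    refine ⟨v, fun b ↦ ?_⟩
    have : e (Ideal.Quotient.mk J (v b)) = e (e.symm b) := congrArg e congr($hv b)
    rw [e.apply_symm_apply] at this
    exact this
  · intro h C _ _ _ _ J hJ u₀ ⟨u, hu⟩
    obtain ⟨L, _, _, X, q, hq, huniq⟩ := exists_ext_of_lifting J hJ u₀
    have hb : ∀ b, Ideal.Quotient.mk J (u b) = u₀ b := fun b ↦ congr($hu b)
    choose σ hσ hσu using fun b ↦ huniq (u b) b (hb b)
    have hsec : X.IsTrivialOver Λ := by
      have hinj : ∀ {x y : X.E}, q x = q y → X.proj x = X.proj y → x = y := fun {x y} h1 h2 ↦ by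
        obtain ⟨z, hz, hzu⟩ := huniq (q y) (X.proj y) (hq y)
        rw [hzu x ⟨h1, h2⟩, hzu y ⟨rfl, rfl⟩]
      let σr : B →+* X.E :=
        { toFun := σ
          map_one' := (hσu 1 _ ⟨by rw [map_one, map_one], map_one _⟩).symm
          map_mul' := fun x y ↦ (hσu _ _ ⟨by rw [map_mul, map_mul, (hσ x).1, (hσ y).1],
            by rw [map_mul, (hσ x).2, (hσ y).2]⟩).symm
          map_zero' := (hσu 0 _ ⟨by rw [map_zero, map_zero], map_zero _⟩).symm
          map_add' := fun x y ↦ (hσu _ _ ⟨by rw [map_add, map_add, (hσ x).1, (hσ y).1],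
            by rw [map_add, (hσ x).2, (hσ y).2]⟩).symm }
      exact ⟨
        { toFun := fun b ↦ (σr b : X.E), map_one' := map_one σr, map_mul' := map_mul σr
          map_zero' := map_zero σr, map_add' := map_add σr
          commutes' := fun l ↦ (hσu _ (algebraMap A X.E (algebraMap Λ A l)) ⟨by
            rw [AlgHom.commutes, AlgHom.commutes, ← IsScalarTower.algebraMap_apply],
            by rw [AlgHom.commutes, ← IsScalarTower.algebraMap_apply]⟩).symm }, fun b ↦ (hσ b).2⟩
    obtain ⟨s, hs⟩ := h L X hsec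
    exact ⟨q.comp s, AlgHom.ext fun b ↦ (hq (s b)).trans (by rw [hs b])⟩

end Groth.Agent.EGA41Lib
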