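import Groth.Agent.EGA41Lib.Exal

/-!
# The extension attached to a derivation

EGA 0 18.2.8, 18.4.
-/

set_option autoImplicit false

universe u v

open Exal

attribute [local instance] Exal.opModule Exal.isCentralScalar_opModule

namespace Groth.Agent.EGA41Lib

variable {A : Type u} {B C L : Type v} [CommRing A] [CommRing B] [CommRing C] [Algebra A B] [Algebra B C]
  [Algebra A C] [IsScalarTower A B C] [AddCommGroup L] [Module C L] [Module B L] [IsScalarTower B C L]
  [Module A L] [IsScalarTower A B L]

/-- The middle ring of `ofDerivation` is the trivial square-zero extension. -/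
noncomputable def derE (D : Derivation A B L) : (Ext.ofDerivation (C := C) D).E ≃+* TrivSqZeroExt C L :=
  RingEquiv.refl (TrivSqZeroExt C L)

lemma fst_derE (D : Derivation A B L) (x : (Ext.ofDerivation (C := C) D).E) :
    (derE D x).fst = (Ext.ofDerivation (C := C) D).proj x := rfl

lemma derE_incl (D : Derivation A B L) (z : L) :
    derE (C := C) D ((Ext.ofDerivation (C := C) D).incl z) = TrivSqZeroExt.inr z := rfl

lemma derE_algebraMap (D : Derivation A B L) (b : B) :
    derE (C := C) D (algebraMap B _ b) =
      TrivSqZeroExt.inl (algebraMap B C b) + TrivSqZeroExt.inr (D b) := rfl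

theorem ofDerivation_isTrivial_iff [IsScalarTower A C L] (D : Derivation A B L) :
    (Ext.ofDerivation (C := C) D).IsTrivial ↔ ∃ D' : Derivation A C L, D'.compAlgebraMap B = D := by
  constructor
  · rintro ⟨s, hs⟩
    let t : C → TrivSqZeroExt C L := fun c ↦ derE D (s c)
    have ht1 : ∀ c, (t c).fst = c := fun c ↦ hs c
    have htm : ∀ x y, t (x * y) = t x * t y := fun x y ↦ by simp only [t, map_mul]
    have hta : ∀ x y, t (x + y) = t x + t y := fun x y ↦ by simp only [t, map_add]
    have htb : ∀ b, t (algebraMap B C b) = TrivSqZeroExt.inl (algebraMap B C b) + TrivSqZeroExt.inr (D b) :=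
      fun b ↦ by simp only [t, AlgHom.commutes, derE_algebraMap]
    let D' : Derivation A C L := Derivation.mk'
      { toFun := fun c ↦ (t c).snd
        map_add' := fun x y ↦ by rw [hta, TrivSqZeroExt.snd_add]
        map_smul' := fun a c ↦ by
          rw [Algebra.smul_def, IsScalarTower.algebraMap_apply A B C, htm, htb, D.map_algebraMap,
            TrivSqZeroExt.inr_zero, add_zero, TrivSqZeroExt.snd_mul]
          simp [algebraMap_smul] }
      (fun x y ↦ by
        change (t (x * y)).snd = x • (t y).snd + y • (t x).snd
        rw [htm, TrivSqZeroExt.snd_mul, ht1, ht1, op_smul_eq_smul])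
    refine ⟨D', Derivation.ext fun b ↦ ?_⟩
    change (t (algebraMap B C b)).snd = D b
    simp [htb]
  · rintro ⟨D', rfl⟩
    let f : C →+* TrivSqZeroExt C L :=
      { toFun := fun c ↦ TrivSqZeroExt.inl c + TrivSqZeroExt.inr (D' c)
        map_one' := by ext <;> simp
        map_mul' := fun x y ↦ by ext <;> simp [add_comm]
        map_zero' := by ext <;> simp
        map_add' := fun x y ↦ by ext <;> simp }
    let g : C →+* (Ext.ofDerivation (C := C) (D'.compAlgebraMap B)).E :=
      (derE (C := C) (D'.compAlgebraMap B)).symm.toRingHom.comp f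
    refine ⟨{ toRingHom := g, commutes' := fun b ↦ ?_ }, fun c ↦ ?_⟩
    · apply (derE (C := C) (D'.compAlgebraMap B)).injective
      rw [derE_algebraMap]
      exact (derE (C := C) (D'.compAlgebraMap B)).apply_symm_apply _
    · change (f c).fst = c
      simp [f]

theorem isTrivialOver_iff_exists_equiv_ofDerivation (X : Exal.Ext B C L) :
    X.IsTrivialOver A ↔
      ∃ D : Derivation A B L, Nonempty (X.Equiv (Exal.Ext.ofDerivation (C := C) D)) := by
  constructor
  · rintro ⟨s₀, hs₀⟩
    let s : C →+* X.E :=
      { toFun := fun c ↦ (s₀ c : X.E), map_one' := map_one s₀, map_mul' := map_mul s₀,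
        map_zero' := map_zero s₀, map_add' := map_add s₀ }
    have hs : ∀ c, X.proj (s c) = c := hs₀
    have hsA : ∀ a, s (algebraMap A C a) = algebraMap B X.E (algebraMap A B a) := fun a ↦ s₀.commutes a
    let δ : X.E → L := fun x ↦ X.kerLift (x - s (X.proj x)) (by rw [map_sub, hs, sub_self])
    have hδ : ∀ x, X.incl (δ x) = x - s (X.proj x) := fun x ↦ X.incl_kerLift _ _
    have hmul : ∀ x y, δ (x * y) = X.proj x • δ y + X.proj y • δ x := fun x y ↦ by
      apply X.isExtension.incl_injective
      rw [map_add, ← X.isExtension.mul_incl, ← hs (X.proj y), ← X.isExtension.mul_incl, hδ, hδ, hδ,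
        map_mul, map_mul]
      ring
    have hadd : ∀ x y, δ (x + y) = δ x + δ y := fun x y ↦ by
      apply X.isExtension.incl_injective
      rw [map_add, hδ, hδ, hδ, map_add, map_add]
      ring
    have hincl : ∀ z, δ (X.incl z) = z := fun z ↦ by
      apply X.isExtension.incl_injective
      rw [hδ, (X.isExtension.exact _).2 ⟨z, rfl⟩, map_zero, sub_zero]
    have hA : ∀ a, δ (algebraMap B X.E (algebraMap A B a)) = 0 := fun a ↦ by
      apply X.isExtension.incl_injective
      rw [map_zero, hδ, AlgHom.commutes, ← IsScalarTower.algebraMap_apply A B C, hsA, sub_self]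
    let D : Derivation A B L := Derivation.mk'
      { toFun := fun b ↦ δ (algebraMap B X.E b)
        map_add' := fun x y ↦ by rw [map_add, hadd]
        map_smul' := fun a b ↦ by
          rw [Algebra.smul_def, map_mul, hmul, hA, smul_zero, add_zero, AlgHom.commutes]
          simp [algebraMap_smul] }
      (fun x y ↦ by
        change δ (algebraMap B X.E (x * y)) = x • δ (algebraMap B X.E y) + y • δ (algebraMap B X.E x)
        rw [map_mul, hmul, AlgHom.commutes, AlgHom.commutes, algebraMap_smul, algebraMap_smul])
    let φ : X.E →+* TrivSqZeroExt C L :=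
      { toFun := fun x ↦ TrivSqZeroExt.inl (X.proj x) + TrivSqZeroExt.inr (δ x)
        map_one' := by
          have h1 : δ 1 = 0 := by
            apply X.isExtension.incl_injective
            rw [map_zero, hδ, map_one, map_one, sub_self]
          ext <;> simp [h1]
        map_mul' := fun x y ↦ by
          apply TrivSqZeroExt.ext
          · simp only [TrivSqZeroExt.fst_mul, TrivSqZeroExt.fst_add, TrivSqZeroExt.fst_inl,
              TrivSqZeroExt.fst_inr, add_zero, map_mul]
          · simp only [TrivSqZeroExt.snd_mul, TrivSqZeroExt.snd_add, TrivSqZeroExt.snd_inl,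
              TrivSqZeroExt.snd_inr, TrivSqZeroExt.fst_add, TrivSqZeroExt.fst_inl,
              TrivSqZeroExt.fst_inr, add_zero, zero_add, op_smul_eq_smul, hmul]
        map_zero' := by
          have h1 : δ 0 = 0 := by
            apply X.isExtension.incl_injective
            rw [map_zero, hδ, map_zero, map_zero, sub_self]
          ext <;> simp [h1]
        map_add' := fun x y ↦ by ext <;> simp [hadd] }
    have hbij : Function.Bijective φ := by
      constructor
      · intro x y h
        have h1 : X.proj x = X.proj y := by
          have := congrArg TrivSqZeroExt.fst h; simpa [φ] using this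
        have h2 : δ x = δ y := by
          have := congrArg TrivSqZeroExt.snd h; simpa [φ] using this
        have := congrArg X.incl h2
        rw [hδ, hδ, h1] at this
        exact sub_left_inj.1 this
      · intro w
        refine ⟨s w.fst + X.incl w.snd, ?_⟩
        have e1 : X.proj (X.incl w.snd) = 0 := (X.isExtension.exact _).2 ⟨_, rfl⟩
        have e2 : δ (s w.fst) = 0 := by
          apply X.isExtension.incl_injective
          rw [map_zero, hδ, hs, sub_self]
        ext <;> simp [φ, hadd, hincl, hs, e1, e2]
    refine ⟨D, ⟨{ toAlgEquiv := AlgEquiv.ofRingEquiv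
                    (f := (RingEquiv.ofBijective φ hbij).trans (derE (C := C) D).symm) (fun b ↦ ?_)
                  proj_apply := fun x ↦ ?_
                  apply_incl := fun z ↦ ?_ }⟩⟩
    · apply (derE (C := C) D).injective
      rw [derE_algebraMap, RingEquiv.trans_apply, RingEquiv.apply_symm_apply]
      change TrivSqZeroExt.inl (X.proj (algebraMap B X.E b)) + TrivSqZeroExt.inr (δ _) = _
      rw [AlgHom.commutes]
      rfl
    · change (φ x).fst = X.proj x
      simp [φ]
    · apply (derE (C := C) D).injective
      rw [derE_incl]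
      change φ (X.incl z) = _
      have e1 : X.proj (X.incl z) = 0 := (X.isExtension.exact _).2 ⟨_, rfl⟩
      ext <;> simp [φ, hincl, e1]
  · rintro ⟨D, ⟨e⟩⟩
    let f : C →+* X.E := (e.toAlgEquiv.symm.toRingEquiv.toRingHom.comp
      ((derE (C := C) D).symm.toRingHom)).comp (TrivSqZeroExt.inlHom C L)
    refine ⟨{ toFun := fun c ↦ (f c : X.E), map_one' := map_one f, map_mul' := map_mul f
              map_zero' := map_zero f, map_add' := map_add f, commutes' := fun a ↦ ?_ }, fun c ↦ ?_⟩
    · change f (algebraMap A C a) = algebraMap B X.E (algebraMap A B a)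
      apply e.toAlgEquiv.injective
      rw [AlgEquiv.commutes]
      apply (derE (C := C) D).injective
      rw [derE_algebraMap, D.map_algebraMap, TrivSqZeroExt.inr_zero, add_zero,
        ← IsScalarTower.algebraMap_apply A B C]
      change derE (C := C) D (e.toAlgEquiv (e.toAlgEquiv.symm ((derE (C := C) D).symm _))) = _
      rw [AlgEquiv.apply_symm_apply, RingEquiv.apply_symm_apply]
      rfl
    · change X.proj (e.toAlgEquiv.symm _) = c
      rw [← e.proj_apply, AlgEquiv.apply_symm_apply]
      rfl

end Groth.Agent.EGA41Lib
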