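import Groth.Prelude.Def_Exal3
import Groth.Agent.EGA41Lib.ExalDer

/-!
# The characteristic homomorphism of an extension trivial over the base

EGA 0, 20.6.
-/

set_option autoImplicit false

universe u v

open Exal TensorProduct

attribute [local instance] Exal.opModule Exal.isCentralScalar_opModule

namespace Groth.Agent.EGA41Lib

variable {A : Type u} {B C L : Type v} [CommRing A] [CommRing B] [CommRing C] [Algebra A B] [Algebra B C]
  [Algebra A C] [IsScalarTower A B C] [AddCommGroup L] [Module C L] [Module B L] [IsScalarTower B C L]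
  [Module A L] [IsScalarTower A B L]

variable (C) in
/-- The `C`-linear map `C ⊗_B Ω_{B/A} → L` attached to a derivation. -/
noncomputable def liftD (D : Derivation A B L) : C ⊗[B] Ω[B⁄A] →ₗ[C] L :=
  D.liftKaehlerDifferential.liftBaseChange C

lemma liftD_tmul (D : Derivation A B L) (c : C) (b : B) :
    liftD C D (c ⊗ₜ[B] KaehlerDifferential.D A B b) = c • D b := by
  rw [liftD, LinearMap.liftBaseChange_tmul, Derivation.liftKaehlerDifferential_comp_D]

omit [Module B L] [IsScalarTower B C L] [Module A L] [IsScalarTower A B L] in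
/-- An extension trivial over `A` has a section which is a ring map over `A`. -/
theorem exists_section (X : Exal.Ext B C L) (hX : X.IsTrivialOver A) :
    ∃ s : C →+* X.E, (∀ c, X.proj (s c) = c) ∧
      ∀ a, s (algebraMap A C a) = algebraMap B X.E (algebraMap A B a) := by
  obtain ⟨s₀, hs₀⟩ := hX
  exact ⟨{ toFun := fun c ↦ (s₀ c : X.E), map_one' := map_one s₀, map_mul' := map_mul s₀,
           map_zero' := map_zero s₀, map_add' := map_add s₀ }, hs₀, fun a ↦ s₀.commutes a⟩

omit [Algebra A B] [Algebra A C] [IsScalarTower A B C] [Module B L] [IsScalarTower B C L]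
  [Module A L] [IsScalarTower A B L] in
/-- The component in the kernel of an element of the middle ring, relative to a section. -/
theorem exists_delta (X : Exal.Ext B C L) (s : C →+* X.E) (hs : ∀ c, X.proj (s c) = c) :
    ∃ δ : X.E → L, (∀ x, X.incl (δ x) = x - s (X.proj x)) ∧ (∀ x y, δ (x + y) = δ x + δ y) ∧
      (∀ x y, δ (x * y) = X.proj x • δ y + X.proj y • δ x) ∧ (∀ z, δ (X.incl z) = z) ∧
      ∀ c, δ (s c) = 0 := by
  let δ : X.E → L := fun x ↦ X.kerLift (x - s (X.proj x)) (by rw [map_sub, hs, sub_self])
  have hδ : ∀ x, X.incl (δ x) = x - s (X.proj x) := fun x ↦ X.incl_kerLift _ _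
  refine ⟨δ, hδ, fun x y ↦ ?_, fun x y ↦ ?_, fun z ↦ ?_, fun c ↦ ?_⟩ <;>
    apply X.isExtension.incl_injective
  · rw [map_add, hδ, hδ, hδ, map_add, map_add]
    ring
  · rw [map_add, hδ]
    conv_rhs => rw [← hs (X.proj y), ← X.isExtension.mul_incl, ← X.isExtension.mul_incl, hδ, hδ]
    rw [map_mul, map_mul]
    ring
  · rw [hδ, (X.isExtension.exact _).2 ⟨z, rfl⟩, map_zero, sub_zero]
  · rw [map_zero, hδ, hs, sub_self]

/-- The derivation attached to a section. -/
theorem exists_derivation (X : Exal.Ext B C L) (s : C →+* X.E) (hs : ∀ c, X.proj (s c) = c)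
    (hsA : ∀ a, s (algebraMap A C a) = algebraMap B X.E (algebraMap A B a)) :
    ∃ D : Derivation A B L, ∀ b, X.incl (D b) = algebraMap B X.E b - s (algebraMap B C b) := by
  obtain ⟨δ, hδ, hadd, hmul, -, hδs⟩ := exists_delta X s hs
  let D : Derivation A B L := Derivation.mk'
    { toFun := fun b ↦ δ (algebraMap B X.E b)
      map_add' := fun x y ↦ by rw [map_add, hadd]
      map_smul' := fun a b ↦ by
        rw [Algebra.smul_def, map_mul, hmul, ← hsA, hδs, smul_zero, add_zero, hs,
          IsScalarTower.algebraMap_apply A B C]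
        simp [algebraMap_smul] }
    (fun x y ↦ by
      change δ (algebraMap B X.E (x * y)) = x • δ (algebraMap B X.E y) + y • δ (algebraMap B X.E x)
      rw [map_mul, hmul, AlgHom.commutes, AlgHom.commutes, algebraMap_smul, algebraMap_smul])
  refine ⟨D, fun b ↦ ?_⟩
  change X.incl (δ (algebraMap B X.E b)) = _
  rw [hδ, AlgHom.commutes]

omit [Module B L] [IsScalarTower B C L] [Module A L] [IsScalarTower A B L] in
/-- For an extension trivial over `A` the map `L → C ⊗_E Ω_{E/A}` is injective. -/
theorem deltaL_injective (X : Exal.Ext B C L) (hX : X.IsTrivialOver A) :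
    Function.Injective (X.deltaL A) := by
  obtain ⟨s, hs, hsA⟩ := exists_section X hX
  obtain ⟨δ, hδ, hadd, hmul, hδi, hδs⟩ := exists_delta X s hs
  letI : Module (X.CharCarrier A) L := Module.compHom L (algebraMap (X.CharCarrier A) C)
  haveI : IsScalarTower (X.CharCarrier A) C L := .of_algebraMap_smul fun _ _ ↦ rfl
  letI : Module A L := Module.compHom L (algebraMap A C)
  haveI : IsScalarTower A (X.CharCarrier A) L := .of_algebraMap_smul fun a z ↦ by
    change algebraMap (X.CharCarrier A) C (algebraMap A (X.CharCarrier A) a) • z = algebraMap A C a • z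
    rw [← IsScalarTower.algebraMap_apply A (X.CharCarrier A) C]
  let d : Derivation A (X.CharCarrier A) L := Derivation.mk'
    { toFun := fun x ↦ δ x
      map_add' := hadd
      map_smul' := fun a x ↦ by
        rw [Algebra.smul_def]
        refine (hmul _ _).trans ?_
        have h0 : δ (algebraMap A (X.CharCarrier A) a) = 0 := by
          change δ (algebraMap B X.E (algebraMap A B a)) = 0
          rw [← hsA, hδs]
        rw [h0, smul_zero, add_zero]
        change X.proj (algebraMap B X.E (algebraMap A B a)) • δ x = algebraMap A C a • δ x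
        rw [AlgHom.commutes, ← IsScalarTower.algebraMap_apply A B C] }
    (fun x y ↦ hmul x y)
  let ρ : C ⊗[X.CharCarrier A] Ω[X.CharCarrier A⁄A] →ₗ[C] L := d.liftKaehlerDifferential.liftBaseChange C
  have hρ : ∀ z, ρ (X.deltaL A z) = z := fun z ↦ by
    change ρ ((1 : C) ⊗ₜ[X.CharCarrier A] KaehlerDifferential.D A (X.CharCarrier A) (X.inclC A z)) = z
    rw [LinearMap.liftBaseChange_tmul, Derivation.liftKaehlerDifferential_comp_D, one_smul]
    exact hδi z
  exact Function.LeftInverse.injective hρ

omit [Module B L] [IsScalarTower B C L] [Module A L] [IsScalarTower A B L] in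
/-- There is at most one characteristic homomorphism. -/
theorem isCharHom_unique (X : Exal.Ext B C L) (hX : X.IsTrivialOver A)
    {χ χ' : ↥(EGA41.imperfection A B C) →ₗ[C] L} (h : X.IsCharHom A χ) (h' : X.IsCharHom A χ') :
    χ = χ' :=
  LinearMap.ext fun z ↦ deltaL_injective X hX ((h z).trans (h' z).symm)

/-- The characteristic homomorphism is the restriction to the imperfection module of the linear map
attached to the derivation of a section. -/
theorem isCharHom_of_section (X : Exal.Ext B C L) (s : C →+* X.E) (hs : ∀ c, X.proj (s c) = c)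
    (hsA : ∀ a, s (algebraMap A C a) = algebraMap B X.E (algebraMap A B a))
    (D : Derivation A B L) (hD : ∀ b, X.incl (D b) = algebraMap B X.E b - s (algebraMap B C b)) :
    X.IsCharHom A (liftD C D ∘ₗ (EGA41.imperfection A B C).subtype) := by
  -- the derivation `c ↦ 1 ⊗ d (s c)` of `C`
  let E := X.CharCarrier A
  let M := C ⊗[E] Ω[E⁄A]
  have hact : ∀ (x : E) (ω : Ω[E⁄A]), (1 : C) ⊗ₜ[E] (x • ω) = X.proj x • ((1 : C) ⊗ₜ[E] ω) := by
    intro x ω
    rw [← TensorProduct.smul_tmul, TensorProduct.smul_tmul', Algebra.smul_def, smul_eq_mul]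
    rfl
  let s' : C →+* E := s
  let S : Derivation A C M := Derivation.mk'
    { toFun := fun c ↦ (1 : C) ⊗ₜ[E] KaehlerDifferential.D A E (s' c)
      map_add' := fun x y ↦ by rw [map_add, map_add, TensorProduct.tmul_add]
      map_smul' := fun a c ↦ by
        have : s' (a • c) = a • s' c := by
          rw [Algebra.smul_def, map_mul, Algebra.smul_def]
          exact congrArg (· * s' c) (hsA a)
        rw [this, Derivation.map_smul, TensorProduct.tmul_smul, RingHom.id_apply] }
    (fun x y ↦ by
      change (1 : C) ⊗ₜ[E] KaehlerDifferential.D A E (s' (x * y)) = _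
      rw [map_mul, Derivation.leibniz, TensorProduct.tmul_add, hact, hact]
      change X.proj (s x) • _ + X.proj (s y) • _ = _
      rw [hs, hs]
      rfl)
  let S' : Ω[C⁄A] →ₗ[C] M := S.liftKaehlerDifferential
  -- `deltaL` is `C`-linear
  have hδ : ∀ (c : C) (z : L), X.deltaL A (c • z) = c • X.deltaL A z := by
    intro c z
    change (1 : C) ⊗ₜ[E] KaehlerDifferential.D A E (X.inclC A (c • z)) =
      c • ((1 : C) ⊗ₜ[E] KaehlerDifferential.D A E (X.inclC A z))
    have h1 : X.inclC A (c • z) = s' c * X.inclC A z := by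
      change X.incl (c • z) = s c * X.incl z
      rw [X.isExtension.mul_incl, hs]
    have h2 : X.proj (X.incl z) = 0 := (X.isExtension.exact _).2 ⟨z, rfl⟩
    rw [h1, Derivation.leibniz, TensorProduct.tmul_add, hact, hact]
    change X.proj (s c) • _ + X.proj (X.incl z) • _ = _
    rw [hs, h2, zero_smul, add_zero]
  -- the identity on all of `C ⊗ Ω`
  have key : ∀ (ω : Ω[B⁄A]) (c : C), X.baseChangeToMiddle A (c ⊗ₜ[B] ω) =
      X.deltaL A (liftD C D (c ⊗ₜ[B] ω)) + S' (KaehlerDifferential.mapBaseChange A B C (c ⊗ₜ[B] ω)) := by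
    intro ω
    have hω : ω ∈ Submodule.span B (Set.range (KaehlerDifferential.D A B)) := by
      rw [KaehlerDifferential.span_range_derivation]; trivial
    induction hω using Submodule.span_induction with
    | mem x hx =>
      obtain ⟨b, rfl⟩ := hx
      intro c
      rw [liftD_tmul, hδ, KaehlerDifferential.mapBaseChange_tmul, KaehlerDifferential.map_D,
        map_smul, Derivation.liftKaehlerDifferential_comp_D, ← smul_add]
      change c ⊗ₜ[E] KaehlerDifferential.map A A B E (KaehlerDifferential.D A B b) =
        c • ((1 : C) ⊗ₜ[E] KaehlerDifferential.D A E (X.inclC A (D b)) +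
          (1 : C) ⊗ₜ[E] KaehlerDifferential.D A E (s' (algebraMap B C b)))
      rw [KaehlerDifferential.map_D, ← TensorProduct.tmul_add, ← map_add,
        TensorProduct.smul_tmul', smul_eq_mul, mul_one]
      congr 2
      change algebraMap B X.E b = X.incl (D b) + s (algebraMap B C b)
      rw [hD, sub_add_cancel]
    | zero => intro c; simp
    | add x y _ _ hx hy =>
      intro c
      rw [TensorProduct.tmul_add, map_add, map_add, map_add, map_add, map_add, hx, hy]
      abel
    | smul b x _ hx =>
      intro c
      rw [← TensorProduct.smul_tmul]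
      exact hx (b • c)
  intro z
  have key' : X.baseChangeToMiddle A (z : C ⊗[B] Ω[B⁄A]) = X.deltaL A (liftD C D z) +
      S' (KaehlerDifferential.mapBaseChange A B C (z : C ⊗[B] Ω[B⁄A])) := by
    induction (z : C ⊗[B] Ω[B⁄A]) using TensorProduct.induction_on with
    | zero => simp
    | tmul c ω => exact key ω c
    | add x y hx hy =>
      rw [map_add, map_add, map_add, map_add, map_add, hx, hy]
      abel
  have hz : KaehlerDifferential.mapBaseChange A B C (z : C ⊗[B] Ω[B⁄A]) = 0 := z.2
  rw [key', hz, map_zero, add_zero]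
  rfl

/-- An extension with a section is the one attached to the derivation of that section. -/
theorem equiv_ofDerivation_of_section (X : Exal.Ext B C L) (s : C →+* X.E) (hs : ∀ c, X.proj (s c) = c)
    (D : Derivation A B L) (hD : ∀ b, X.incl (D b) = algebraMap B X.E b - s (algebraMap B C b)) :
    Nonempty (X.Equiv (Exal.Ext.ofDerivation (C := C) D)) := by
  obtain ⟨δ, hδ, hadd, hmul, hδi, hδs⟩ := exists_delta X s hs
  have hδ1 : δ 1 = 0 := by have := hδs 1; rwa [map_one] at this
  have hδ0 : δ 0 = 0 := by have := hδs 0; rwa [map_zero] at this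
  let φ : X.E →+* TrivSqZeroExt C L :=
    { toFun := fun x ↦ TrivSqZeroExt.inl (X.proj x) + TrivSqZeroExt.inr (δ x)
      map_one' := by ext <;> simp [hδ1]
      map_mul' := fun x y ↦ by
        apply TrivSqZeroExt.ext
        · simp only [TrivSqZeroExt.fst_mul, TrivSqZeroExt.fst_add, TrivSqZeroExt.fst_inl,
            TrivSqZeroExt.fst_inr, add_zero, map_mul]
        · simp only [TrivSqZeroExt.snd_mul, TrivSqZeroExt.snd_add, TrivSqZeroExt.snd_inl,
            TrivSqZeroExt.snd_inr, TrivSqZeroExt.fst_add, TrivSqZeroExt.fst_inl,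
            TrivSqZeroExt.fst_inr, add_zero, zero_add, op_smul_eq_smul, hmul]
      map_zero' := by ext <;> simp [hδ0]
      map_add' := fun x y ↦ by ext <;> simp [hadd] }
  have hbij : Function.Bijective φ := by
    constructor
    · intro x y h
      have h1 : X.proj x = X.proj y := by
        have := congrArg TrivSqZeroExt.fst h; simpa [φ] using this
      have h2 : δ x = δ y := by
        have := congrArg TrivSqZeroExt.snd h; simpa [φ] using this
      have := congrArg X.incl h2
      rw [hδ, hδ, h1] at this
      exact sub_left_inj.1 this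
    · intro w
      refine ⟨s w.fst + X.incl w.snd, ?_⟩
      have e1 : X.proj (X.incl w.snd) = 0 := (X.isExtension.exact _).2 ⟨_, rfl⟩
      ext <;> simp [φ, hadd, hδi, hδs, hs, e1]
  refine ⟨{ toAlgEquiv := AlgEquiv.ofRingEquiv
              (f := (RingEquiv.ofBijective φ hbij).trans (derE (C := C) D).symm) (fun b ↦ ?_)
            proj_apply := fun x ↦ ?_
            apply_incl := fun z ↦ ?_ }⟩
  · apply (derE (C := C) D).injective
    rw [derE_algebraMap, RingEquiv.trans_apply, RingEquiv.apply_symm_apply]
    have h3 : δ (algebraMap B X.E b) = D b := by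
      apply X.isExtension.incl_injective
      rw [hδ, hD, AlgHom.commutes]
    change TrivSqZeroExt.inl (X.proj (algebraMap B X.E b)) + TrivSqZeroExt.inr (δ _) = _
    rw [AlgHom.commutes, h3]
  · change (φ x).fst = X.proj x
    simp [φ]
  · apply (derE (C := C) D).injective
    rw [derE_incl]
    change φ (X.incl z) = _
    have e1 : X.proj (X.incl z) = 0 := (X.isExtension.exact _).2 ⟨_, rfl⟩
    ext <;> simp [φ, hδi, e1]

/-- The extension attached to a derivation, with its canonical section. -/
theorem exists_section_ofDerivation (D : Derivation A B L) :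
    ∃ s : C →+* (Exal.Ext.ofDerivation (C := C) D).E,
      (∀ c, (Exal.Ext.ofDerivation (C := C) D).proj (s c) = c) ∧
      (∀ a, s (algebraMap A C a) = algebraMap B _ (algebraMap A B a)) ∧
      ∀ b, (Exal.Ext.ofDerivation (C := C) D).incl (D b) = algebraMap B _ b - s (algebraMap B C b) := by
  refine ⟨(derE (C := C) D).symm.toRingHom.comp (TrivSqZeroExt.inlHom C L), fun c ↦ rfl,
    fun a ↦ ?_, fun b ↦ ?_⟩
  · apply (derE (C := C) D).injective
    rw [derE_algebraMap, D.map_algebraMap, TrivSqZeroExt.inr_zero, add_zero,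
      ← IsScalarTower.algebraMap_apply A B C]
    exact (derE (C := C) D).apply_symm_apply _
  · apply (derE (C := C) D).injective
    rw [derE_incl, map_sub, derE_algebraMap, RingHom.comp_apply]
    rw [show derE (C := C) D ((derE (C := C) D).symm.toRingHom (TrivSqZeroExt.inlHom C L (algebraMap B C b)))
      = TrivSqZeroExt.inl (algebraMap B C b) from (derE (C := C) D).apply_symm_apply _, add_sub_cancel_left]

/-- Changing the section: extensions whose derivations differ by one coming from `C` are equivalent. -/
theorem nonempty_equiv_of_derivation_sub (X Y : Exal.Ext B C L)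
    (sX : C →+* X.E) (hsX : ∀ c, X.proj (sX c) = c)
    (DX : Derivation A B L) (hDX : ∀ b, X.incl (DX b) = algebraMap B X.E b - sX (algebraMap B C b))
    (sY : C →+* Y.E) (hsY : ∀ c, Y.proj (sY c) = c)
    (DY : Derivation A B L) (hDY : ∀ b, Y.incl (DY b) = algebraMap B Y.E b - sY (algebraMap B C b))
    (d : C →+ L) (hd : ∀ x y, d (x * y) = x • d y + y • d x)
    (hdb : ∀ b, d (algebraMap B C b) = DX b - DY b) :
    Nonempty (X.Equiv Y) := by
  have hd1 : d 1 = 0 := by
    have h := hd 1 1
    rw [mul_one, one_smul] at h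
    exact left_eq_add.1 h
  have hpi : ∀ z, Y.proj (Y.incl z) = 0 := fun z ↦ (Y.isExtension.exact _).2 ⟨z, rfl⟩
  have hii : ∀ z z', Y.incl z * Y.incl z' = 0 := fun z z' ↦ by
    rw [Y.isExtension.mul_incl, hpi, zero_smul, map_zero]
  let s : C →+* Y.E :=
    { toFun := fun c ↦ sY c - Y.incl (d c)
      map_one' := by rw [hd1, map_zero, sub_zero, map_one]
      map_mul' := fun x y ↦ by
        have hx := Y.isExtension.mul_incl (sY x) (d y)
        have hy := Y.isExtension.mul_incl (sY y) (d x)
        rw [hsY] at hx hy
        rw [map_mul, hd, map_add, ← hx, ← hy]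
        linear_combination -(hii (d x) (d y))
      map_zero' := by rw [map_zero, map_zero, map_zero, sub_zero]
      map_add' := fun x y ↦ by rw [map_add, map_add, map_add]; ring }
  have hs : ∀ c, Y.proj (s c) = c := fun c ↦ by
    change Y.proj (sY c - Y.incl (d c)) = c
    rw [map_sub, hsY, hpi, sub_zero]
  obtain ⟨e⟩ := equiv_ofDerivation_of_section X sX hsX DX hDX
  obtain ⟨f⟩ := equiv_ofDerivation_of_section Y s hs DX (fun b ↦ by
    change Y.incl (DX b) = algebraMap B Y.E b - (sY (algebraMap B C b) - Y.incl (d (algebraMap B C b)))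
    rw [hdb, map_sub, hDY]
    ring)
  exact ⟨e.trans f.symm⟩

end Groth.Agent.EGA41Lib
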