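import Groth.Agent.EGA41Lib.ExalCharHomMaps
import Groth.Prelude.Def_Exal2

/-!
# The characteristic homomorphism of the infinitesimal extension of an ideal

EGA 0, 20.6.9.
-/

set_option autoImplicit false

universe u v

open TensorProduct

namespace Groth.Agent.EGA41Lib

variable (A : Type u) {B : Type v} [CommRing A] [CommRing B] [Algebra A B] (K : Ideal B)

/-- The elements of the imperfection module of a quotient are the `1 ⊗ dx`. -/
theorem exists_eq_tmul_of_mem_imperfection (z : (B ⧸ K) ⊗[B] Ω[B⁄A])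
    (hz : z ∈ EGA41.imperfection A B (B ⧸ K)) :
    ∃ x ∈ K, z = (1 : B ⧸ K) ⊗ₜ[B] KaehlerDifferential.D A B x := by
  obtain ⟨y, rfl⟩ := (KaehlerDifferential.exact_kerCotangentToTensor_mapBaseChange A B (B ⧸ K)
    Ideal.Quotient.mk_surjective z).1 hz
  obtain ⟨x, rfl⟩ := Ideal.toCotangent_surjective _ y
  refine ⟨x, ?_, KaehlerDifferential.kerCotangentToTensor_toCotangent _ _ _ x⟩
  exact Ideal.Quotient.eq_zero_iff_mem.1 (RingHom.mem_ker.1 x.2)

/-- The differential of an element of the square of the ideal dies over the quotient. -/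
theorem one_tmul_D_eq_zero_of_mem_sq {x : B} (hx : x ∈ K ^ 2) :
    (1 : B ⧸ K) ⊗ₜ[B] KaehlerDifferential.D A B x = 0 := by
  rw [pow_two] at hx
  induction hx using Submodule.mul_induction_on' with
  | mem_mul_mem x hx y hy =>
    have h : ∀ {a : B}, a ∈ K → (a • (1 : B ⧸ K)) = 0 := fun {a} ha ↦ by
      rw [Algebra.smul_def, mul_one, Ideal.Quotient.algebraMap_eq, Ideal.Quotient.eq_zero_iff_mem.2 ha]
    rw [Derivation.leibniz, TensorProduct.tmul_add, ← TensorProduct.smul_tmul, ← TensorProduct.smul_tmul,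
      h hx, h hy, TensorProduct.zero_tmul, TensorProduct.zero_tmul, add_zero]
  | add x _ y _ hx hy => rw [map_add, TensorProduct.tmul_add, hx, hy, add_zero]

variable {A K}

/-- A derivation into `K/K²` extending the projection of `K`. -/
theorem liftD_injOn_imperfection
    (D : Derivation A B K.Cotangent) (hD : ∀ x : K, D x = K.toCotangent x)
    {z : (B ⧸ K) ⊗[B] Ω[B⁄A]} (hz : z ∈ EGA41.imperfection A B (B ⧸ K))
    (h0 : liftD (B ⧸ K) D z = 0) : z = 0 := by
  obtain ⟨x, hx, rfl⟩ := exists_eq_tmul_of_mem_imperfection A K z hz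
  rw [liftD_tmul, one_smul, hD ⟨x, hx⟩, Ideal.toCotangent_eq_zero] at h0
  exact one_tmul_D_eq_zero_of_mem_sq A K h0

/-- The derivation into `K/K²` attached to a section of `B/K² → B/K`. -/
theorem exists_derivation_infinitesimal
    (s : B ⧸ K →+* (Exal.Ext.infinitesimal K).E)
    (hs : ∀ c, (Exal.Ext.infinitesimal K).proj (s c) = c)
    (hsA : ∀ a, s (algebraMap A (B ⧸ K) a) = algebraMap B _ (algebraMap A B a)) :
    ∃ D : Derivation A B K.Cotangent, (∀ x : K, D x = K.toCotangent x) ∧
      ∀ b, (Exal.Ext.infinitesimal K).incl (D b) =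
        algebraMap B (Exal.Ext.infinitesimal K).E b - s (algebraMap B (B ⧸ K) b) := by
  obtain ⟨D, hD⟩ := exists_derivation (Exal.Ext.infinitesimal K) s hs hsA
  refine ⟨D, fun x ↦ ?_, hD⟩
  apply (Exal.Ext.infinitesimal K).isExtension.incl_injective
  rw [hD, show algebraMap B (B ⧸ K) x = 0 from Ideal.Quotient.eq_zero_iff_mem.2 x.2, map_zero, sub_zero]
  exact (Ideal.toCotangent_to_quotient_square K x).symm

/-- EGA 0 20.6.9: the characteristic homomorphism of the infinitesimal extension is bijective. -/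
theorem bijective_isCharHom_infinitesimal (hK : (Exal.Ext.infinitesimal K).IsTrivialOver A)
    (χ : ↥(EGA41.imperfection A B (B ⧸ K)) →ₗ[B ⧸ K] K.Cotangent)
    (hχ : (Exal.Ext.infinitesimal K).IsCharHom A χ) : Function.Bijective χ := by
  obtain ⟨s, hs, hsA⟩ := exists_section (Exal.Ext.infinitesimal K) hK
  obtain ⟨D, hD, hDi⟩ := exists_derivation_infinitesimal s hs hsA
  rw [isCharHom_unique _ hK hχ (isCharHom_of_section _ s hs hsA D hDi)]
  constructor
  · rw [injective_iff_map_eq_zero]
    intro z hz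
    exact Subtype.ext (liftD_injOn_imperfection D hD z.2 hz)
  · intro y
    obtain ⟨x, rfl⟩ := Ideal.toCotangent_surjective K y
    refine ⟨⟨(1 : B ⧸ K) ⊗ₜ[B] KaehlerDifferential.D A B (x : B), ?_⟩, ?_⟩
    · change KaehlerDifferential.mapBaseChange A B (B ⧸ K) _ = 0
      rw [KaehlerDifferential.mapBaseChange_tmul, KaehlerDifferential.map_D, one_smul,
        show algebraMap B (B ⧸ K) x = 0 from Ideal.Quotient.eq_zero_iff_mem.2 x.2, map_zero]
    · simp only [LinearMap.comp_apply, Submodule.subtype_apply, liftD_tmul, one_smul, hD]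

section Tower

variable {Λ : Type u} {A' : Type v} [CommRing Λ] [CommRing A'] [Algebra Λ A'] [Algebra Λ B] [Algebra A' B]
  [IsScalarTower Λ A' B]

variable (Λ A' K) in
/-- The map `C ⊗_A Ω_{A/Λ} → C ⊗_B Ω_{B/Λ}` for `C = B/K`. -/
noncomputable def middleMap : (B ⧸ K) ⊗[A'] Ω[A'⁄Λ] →ₗ[B ⧸ K] (B ⧸ K) ⊗[B] Ω[B⁄Λ] :=
  (KaehlerDifferential.mapBaseChange Λ A' B).baseChange (B ⧸ K) ∘ₗ
    (AlgebraTensorModule.cancelBaseChange A' B (B ⧸ K) (B ⧸ K) Ω[A'⁄Λ]).symm.toLinearMap

lemma middleMap_tmul (c : B ⧸ K) (ω : Ω[A'⁄Λ]) :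
    middleMap K Λ A' (c ⊗ₜ[A'] ω) = c ⊗ₜ[B] KaehlerDifferential.map Λ Λ A' B ω := by
  simp [middleMap]

lemma mapBaseChange_middleMap (z : (B ⧸ K) ⊗[A'] Ω[A'⁄Λ]) :
    KaehlerDifferential.mapBaseChange Λ B (B ⧸ K) (middleMap K Λ A' z) =
      KaehlerDifferential.mapBaseChange Λ A' (B ⧸ K) z := by
  induction z with
  | zero => simp
  | add x y hx hy => rw [map_add, map_add, map_add, hx, hy]
  | tmul c ω =>
    rw [middleMap_tmul, KaehlerDifferential.mapBaseChange_tmul, KaehlerDifferential.mapBaseChange_tmul]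
    congr 1
    have hω : ω ∈ Submodule.span A' (Set.range (KaehlerDifferential.D Λ A')) := by
      rw [KaehlerDifferential.span_range_derivation]; trivial
    induction hω using Submodule.span_induction with
    | mem x hx =>
      obtain ⟨a, rfl⟩ := hx
      rw [KaehlerDifferential.map_D, KaehlerDifferential.map_D, KaehlerDifferential.map_D,
        ← IsScalarTower.algebraMap_apply]
    | zero => simp
    | add x y _ _ hx hy => rw [map_add, map_add, map_add, hx, hy]
    | smul a x _ hx =>
      rw [map_smul (KaehlerDifferential.map Λ Λ A' B), map_smul (KaehlerDifferential.map Λ Λ A' (B ⧸ K)), ← algebraMap_smul B a (KaehlerDifferential.map Λ Λ A' B x), map_smul, hx,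
        algebraMap_smul]

/-- The characteristic homomorphism of `B/K²` as an `A`-extension, relative to `Λ`, is the composite of
`middleMap` with the map of a derivation of `B`. -/
theorem exists_derivation_restrictBase
    (htriv : ((Exal.Ext.infinitesimal K).restrictBase A').IsTrivialOver Λ)
    (χ : ↥(EGA41.imperfection Λ A' (B ⧸ K)) →ₗ[B ⧸ K] K.Cotangent)
    (hχ : ((Exal.Ext.infinitesimal K).restrictBase A').IsCharHom Λ χ) :
    ∃ D : Derivation Λ B K.Cotangent, (∀ x : K, D x = K.toCotangent x) ∧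
        ∀ z, χ z = liftD (B ⧸ K) D (middleMap K Λ A' z) := by
  have : IsScalarTower A' (B ⧸ K) K.Cotangent := .of_algebraMap_smul fun a z ↦ by
    rw [IsScalarTower.algebraMap_apply A' B (B ⧸ K), algebraMap_smul, algebraMap_smul]
  let X := (Exal.Ext.infinitesimal K).restrictBase A'
  obtain ⟨s, hs, hsΛ⟩ := exists_section X htriv
  let s₁ : B ⧸ K →+* (Exal.Ext.infinitesimal K).E := s
  have hsΛ₁ : ∀ l, s₁ (algebraMap Λ (B ⧸ K) l) = algebraMap B _ (algebraMap Λ B l) := fun l ↦ by
    refine (hsΛ l).trans ?_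
    change algebraMap B (Exal.Ext.infinitesimal K).E (algebraMap A' B (algebraMap Λ A' l)) = _
    rw [← IsScalarTower.algebraMap_apply Λ A' B]
  obtain ⟨D, hD, hDi⟩ := exists_derivation_infinitesimal (A := Λ) s₁ hs hsΛ₁
  refine ⟨D, hD, ?_⟩
  let D' : Derivation Λ A' K.Cotangent := D.compAlgebraMap A'
  have hD' : ∀ a, X.incl (D' a) = algebraMap A' X.E a - s (algebraMap A' (B ⧸ K) a) := fun a ↦ by
    rw [IsScalarTower.algebraMap_apply A' B (B ⧸ K)]
    exact hDi (algebraMap A' B a)
  intro z
  rw [isCharHom_unique X htriv hχ (isCharHom_of_section X s hs hsΛ D' hD')]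
  have : ∀ y : (B ⧸ K) ⊗[A'] Ω[A'⁄Λ],
      liftD (B ⧸ K) D' y = liftD (B ⧸ K) D (middleMap K Λ A' y) := by
    intro y
    induction y with
    | zero => simp
    | add x y hx hy => rw [map_add, map_add, map_add, hx, hy]
    | tmul c ω =>
      have hω : ω ∈ Submodule.span A' (Set.range (KaehlerDifferential.D Λ A')) := by
        rw [KaehlerDifferential.span_range_derivation]; trivial
      induction hω using Submodule.span_induction generalizing c with
      | mem x hx =>
        obtain ⟨a, rfl⟩ := hx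
        rw [middleMap_tmul, KaehlerDifferential.map_D, liftD_tmul, liftD_tmul]
        rfl
      | zero => simp
      | add x y _ _ hx hy => rw [TensorProduct.tmul_add, map_add, map_add, map_add, hx, hy]
      | smul a x _ hx => rw [← TensorProduct.smul_tmul]; exact hx (a • c)
  exact this z

end Tower

end Groth.Agent.EGA41Lib
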