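import Groth.Agent.EGA41Lib.ExalCharHom
import Mathlib.RingTheory.Smooth.Kaehler

/-!
# Consequences of the description of the characteristic homomorphism

EGA 0, 20.6.
-/

set_option autoImplicit false

universe u v

open Exal TensorProduct

attribute [local instance] Exal.opModule Exal.isCentralScalar_opModule

namespace Groth.Agent.EGA41Lib

variable {A : Type u} {B C L : Type v} [CommRing A] [CommRing B] [CommRing C] [Algebra A B] [Algebra B C]
  [Algebra A C] [IsScalarTower A B C] [AddCommGroup L] [Module C L]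

section

variable [Module B L] [IsScalarTower B C L] [Module A L] [IsScalarTower A B L]

/-- An extension trivial over `A` has a section, a derivation and thus a characteristic homomorphism. -/
theorem exists_section_derivation (X : Exal.Ext B C L) (hX : X.IsTrivialOver A) :
    ∃ (s : C →+* X.E) (D : Derivation A B L), (∀ c, X.proj (s c) = c) ∧
      (∀ b, X.incl (D b) = algebraMap B X.E b - s (algebraMap B C b)) ∧
      X.IsCharHom A (liftD C D ∘ₗ (EGA41.imperfection A B C).subtype) := by
  obtain ⟨s, hs, hsA⟩ := exists_section X hX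
  obtain ⟨D, hD⟩ := exists_derivation X s hs hsA
  exact ⟨s, D, hs, hD, isCharHom_of_section X s hs hsA D hD⟩

/-- A linear map on the differentials of `C` linking two derivations of `B` gives equivalent extensions. -/
theorem nonempty_equiv_of_kaehler (X Y : Exal.Ext B C L)
    (sX : C →+* X.E) (hsX : ∀ c, X.proj (sX c) = c)
    (DX : Derivation A B L) (hDX : ∀ b, X.incl (DX b) = algebraMap B X.E b - sX (algebraMap B C b))
    (sY : C →+* Y.E) (hsY : ∀ c, Y.proj (sY c) = c)
    (DY : Derivation A B L) (hDY : ∀ b, Y.incl (DY b) = algebraMap B Y.E b - sY (algebraMap B C b))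
    (g : Ω[C⁄A] →ₗ[C] L)
    (hg : ∀ z, g (KaehlerDifferential.mapBaseChange A B C z) = liftD C DX z - liftD C DY z) :
    Nonempty (X.Equiv Y) := by
  refine nonempty_equiv_of_derivation_sub X Y sX hsX DX hDX sY hsY DY hDY
    (g.toAddMonoidHom.comp (KaehlerDifferential.D A C).toLinearMap.toAddMonoidHom)
    (fun x y ↦ ?_) (fun b ↦ ?_)
  · change g (KaehlerDifferential.D A C (x * y)) = x • g (KaehlerDifferential.D A C y) +
      y • g (KaehlerDifferential.D A C x)
    rw [Derivation.leibniz, map_add, map_smul, map_smul]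
  · have := hg ((1 : C) ⊗ₜ[B] KaehlerDifferential.D A B b)
    rw [KaehlerDifferential.mapBaseChange_tmul, one_smul, KaehlerDifferential.map_D, liftD_tmul,
      liftD_tmul, one_smul, one_smul] at this
    exact this

end

/-- A map killing the imperfection module factors through the differentials of `C`, when the target is
injective or the differentials sequence splits on the right. -/
theorem exists_factor
    (h : Module.Injective C L ∨
      ∃ s : Ω[C⁄B] →ₗ[C] Ω[C⁄A], ∀ ω : Ω[C⁄B], KaehlerDifferential.map A B C C (s ω) = ω)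
    (f : C ⊗[B] Ω[B⁄A] →ₗ[C] L) (hf : ∀ z ∈ EGA41.imperfection A B C, f z = 0) :
    ∃ g : Ω[C⁄A] →ₗ[C] L, ∀ z, g (KaehlerDifferential.mapBaseChange A B C z) = f z := by
  let m := KaehlerDifferential.mapBaseChange A B C
  let e := m.quotKerEquivRange
  let h0 : ↥(LinearMap.range m) →ₗ[C] L :=
    (LinearMap.ker m).liftQ f (fun z hz ↦ hf z hz) ∘ₗ e.symm.toLinearMap
  have h1 : ∀ z, h0 ⟨m z, LinearMap.mem_range_self m z⟩ = f z := fun z ↦ by
    have : e.symm ⟨m z, LinearMap.mem_range_self m z⟩ = Submodule.Quotient.mk z := by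
      rw [LinearEquiv.symm_apply_eq]
      exact Subtype.ext rfl
    simp only [h0, LinearMap.comp_apply, LinearEquiv.coe_coe, this]
    exact Submodule.liftQ_apply _ _ _
  rcases h with hinj | ⟨σ, hσ⟩
  · obtain ⟨g, hg⟩ := hinj.out (LinearMap.range m).subtype Subtype.val_injective h0
    exact ⟨g, fun z ↦ (hg ⟨m z, LinearMap.mem_range_self m z⟩).trans (h1 z)⟩
  · let q : Ω[C⁄A] →ₗ[C] Ω[C⁄A] := LinearMap.id - σ ∘ₗ KaehlerDifferential.map A B C C
    have hq : ∀ ω, q ω ∈ LinearMap.range m := fun ω ↦ by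
      rw [KaehlerDifferential.range_mapBaseChange]
      simp [q, hσ]
    refine ⟨h0 ∘ₗ q.codRestrict _ hq, fun z ↦ ?_⟩
    have : KaehlerDifferential.map A B C C (m z) = 0 :=
      (KaehlerDifferential.exact_mapBaseChange_map A B C (m z)).2 ⟨z, rfl⟩
    rw [LinearMap.comp_apply, ← h1 z]
    congr 1
    exact Subtype.ext (by simp [q, m] at this ⊢; simp [this])

/-- EGA 0 20.6.5, injectivity. -/
theorem nonempty_equiv_of_isCharHom
    (h : Module.Injective C L ∨
      ∃ s : Ω[C⁄B] →ₗ[C] Ω[C⁄A], ∀ ω : Ω[C⁄B], KaehlerDifferential.map A B C C (s ω) = ω)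
    (X Y : Exal.Ext B C L) (hX : X.IsTrivialOver A) (hY : Y.IsTrivialOver A)
    (χ : ↥(EGA41.imperfection A B C) →ₗ[C] L) (hXχ : X.IsCharHom A χ) (hYχ : Y.IsCharHom A χ) :
    Nonempty (X.Equiv Y) := by
  let := Module.compHom L (algebraMap B C)
  have : IsScalarTower B C L := .of_algebraMap_smul fun _ _ ↦ rfl
  let := Module.compHom L (algebraMap A B)
  have : IsScalarTower A B L := .of_algebraMap_smul fun _ _ ↦ rfl
  obtain ⟨sX, DX, hsX, hDX, hcX⟩ := exists_section_derivation X hX
  obtain ⟨sY, DY, hsY, hDY, hcY⟩ := exists_section_derivation Y hY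
  have h1 := isCharHom_unique X hX hXχ hcX
  have h2 := isCharHom_unique Y hY hYχ hcY
  obtain ⟨g, hg⟩ := exists_factor h (liftD C DX - liftD C DY) (fun z hz ↦ by
    have h3 : χ ⟨z, hz⟩ = liftD C DX z := LinearMap.congr_fun h1 ⟨z, hz⟩
    have h4 : χ ⟨z, hz⟩ = liftD C DY z := LinearMap.congr_fun h2 ⟨z, hz⟩
    rw [LinearMap.sub_apply, ← h3, ← h4, sub_self])
  exact nonempty_equiv_of_kaehler X Y sX hsX DX hDX sY hsY DY hDY g hg

/-- EGA 0 20.6.5, surjectivity. -/
theorem exists_isTrivialOver_of_linearMap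
    (h : Module.Injective C L ∨
      ∃ r : C ⊗[B] Ω[B⁄A] →ₗ[C] ↥(EGA41.imperfection A B C), ∀ z : ↥(EGA41.imperfection A B C), r z = z)
    (χ : ↥(EGA41.imperfection A B C) →ₗ[C] L) :
    ∃ X : Exal.Ext B C L, X.IsTrivialOver A ∧ X.IsCharHom A χ := by
  let := Module.compHom L (algebraMap B C)
  have : IsScalarTower B C L := .of_algebraMap_smul fun _ _ ↦ rfl
  let := Module.compHom L (algebraMap A B)
  have : IsScalarTower A B L := .of_algebraMap_smul fun _ _ ↦ rfl
  obtain ⟨H, hH⟩ : ∃ H : C ⊗[B] Ω[B⁄A] →ₗ[C] L, ∀ z : ↥(EGA41.imperfection A B C), H z = χ z := by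
    rcases h with hinj | ⟨r, hr⟩
    · obtain ⟨H, hH⟩ := @Module.Injective.out C _ L _ _ hinj ↥(EGA41.imperfection A B C) (C ⊗[B] Ω[B⁄A]) _ _ _ _
        (EGA41.imperfection A B C).subtype Subtype.val_injective χ
      exact ⟨H, hH⟩
    · exact ⟨χ ∘ₗ r, fun z ↦ by rw [LinearMap.comp_apply, hr]⟩
  let D : Derivation A B L :=
    ((H.restrictScalars B) ∘ₗ TensorProduct.mk B C Ω[B⁄A] 1).compDer (KaehlerDifferential.D A B)
  have hD : liftD C D = H := by
    unfold liftD
    rw [show D.liftKaehlerDifferential = (H.restrictScalars B) ∘ₗ TensorProduct.mk B C Ω[B⁄A] 1 from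
      Derivation.liftKaehlerDifferential_unique _ _ (Derivation.liftKaehlerDifferential_comp _)]
    exact LinearMap.restrictScalars_injective B (TensorProduct.ext' fun c ω ↦ by
      simp only [LinearMap.coe_restrictScalars, LinearMap.liftBaseChange_tmul, LinearMap.comp_apply,
        TensorProduct.mk_apply]
      rw [← map_smul, TensorProduct.smul_tmul', smul_eq_mul, mul_one])
  obtain ⟨s, hs, hsA, hsD⟩ := exists_section_ofDerivation (C := C) D
  refine ⟨Exal.Ext.ofDerivation (C := C) D,
    (isTrivialOver_iff_exists_equiv_ofDerivation _).2 ⟨D, ⟨Exal.Ext.Equiv.refl _⟩⟩, ?_⟩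
  convert isCharHom_of_section _ s hs hsA D hsD using 1
  refine LinearMap.ext fun z ↦ ?_
  rw [hD]
  exact (hH z).symm

/-- Every extension of a formally smooth algebra is trivial over the base. -/
theorem isTrivialOver_of_formallySmooth [Algebra.FormallySmooth A C] (X : Exal.Ext B C L) :
    X.IsTrivialOver A := by
  have hker : IsNilpotent (RingHom.ker ((X.restrictBase A).proj : (X.restrictBase A).E →+* C)) := by
    refine ⟨2, ?_⟩
    rw [pow_two, Ideal.zero_eq_bot, _root_.eq_bot_iff, Ideal.mul_le]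
    intro x hx y hy
    obtain ⟨z, rfl⟩ := ((X.restrictBase A).isExtension.exact _).1 hy
    have hx' : (X.restrictBase A).proj x = 0 := hx
    rw [(X.restrictBase A).isExtension.mul_incl, hx', zero_smul, map_zero]
    exact Submodule.zero_mem _
  exact ⟨Algebra.FormallySmooth.liftOfSurjective (AlgHom.id A C) (X.restrictBase A).proj
    (X.restrictBase A).isExtension.proj_surjective hker,
    Algebra.FormallySmooth.liftOfSurjective_apply (AlgHom.id A C) (X.restrictBase A).proj
      (X.restrictBase A).isExtension.proj_surjective hker⟩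

variable (A B C) in
/-- Splittings from projectivity. -/
theorem exists_retraction_and_section [Module.Projective C Ω[C⁄A]] [Module.Projective C Ω[C⁄B]] :
    (∃ r : C ⊗[B] Ω[B⁄A] →ₗ[C] ↥(EGA41.imperfection A B C), ∀ z : ↥(EGA41.imperfection A B C), r z = z) ∧
      ∃ s : Ω[C⁄B] →ₗ[C] Ω[C⁄A], ∀ ω : Ω[C⁄B], KaehlerDifferential.map A B C C (s ω) = ω := by
  obtain ⟨σ, hσ⟩ := Module.projective_lifting_property (KaehlerDifferential.map A B C C) LinearMap.id
    (KaehlerDifferential.map_surjective A B C)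
  have hσ' : ∀ ω, KaehlerDifferential.map A B C C (σ ω) = ω := LinearMap.congr_fun hσ
  let m := KaehlerDifferential.mapBaseChange A B C
  let q : Ω[C⁄A] →ₗ[C] Ω[C⁄A] := LinearMap.id - σ ∘ₗ KaehlerDifferential.map A B C C
  have hq : ∀ ω, q ω ∈ LinearMap.range m := fun ω ↦ by
    rw [KaehlerDifferential.range_mapBaseChange]
    simp [q, hσ']
  have : Module.Projective C ↥(LinearMap.range m) :=
    Module.Projective.of_split (LinearMap.range m).subtype (q.codRestrict _ hq) (LinearMap.ext fun ω ↦ by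
      obtain ⟨z, hz⟩ := ω.2
      have : KaehlerDifferential.map A B C C (m z) = 0 :=
        (KaehlerDifferential.exact_mapBaseChange_map A B C (m z)).2 ⟨z, rfl⟩
      rw [hz] at this
      exact Subtype.ext (by simp [q, this]))
  obtain ⟨τ, hτ⟩ := Module.projective_lifting_property m.rangeRestrict LinearMap.id
    m.surjective_rangeRestrict
  have hτ' : ∀ ω, m (τ ω) = (ω : Ω[C⁄A]) := fun ω ↦ congrArg Subtype.val (LinearMap.congr_fun hτ ω)
  refine ⟨⟨(LinearMap.id - τ ∘ₗ m.rangeRestrict).codRestrict _ (fun z ↦ ?_), fun z ↦ ?_⟩, σ, hσ'⟩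
  · have : m.rangeRestrict (z : C ⊗[B] Ω[B⁄A]) = 0 := Subtype.ext z.2
    exact Subtype.ext (by simp [this])
  · change m _ = 0
    rw [LinearMap.sub_apply, map_sub, LinearMap.comp_apply, hτ']
    exact sub_self _

end Groth.Agent.EGA41Lib
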