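import Groth.Agent.EGA41Lib.Exal

/-!
# Automorphisms, inverse images and conormal maps of extensions

EGA 0 18.2, 18.3.
-/

set_option autoImplicit false

universe u v

open Exal

attribute [local instance] Exal.opModule Exal.isCentralScalar_opModule

namespace Groth.Agent.EGA41Lib

variable {A : Type u} {C L : Type v} [CommRing A] [CommRing C] [Algebra A C]
  [AddCommGroup L] [Module C L]

lemma proj_incl (X : Exal.Ext A C L) (z : L) : X.proj (X.incl z) = 0 :=
  (X.isExtension.exact _).2 ⟨z, rfl⟩

lemma exists_eq_add_incl (X : Exal.Ext A C L) {x y : X.E} (h : X.proj x = X.proj y) :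
    ∃ z, x = y + X.incl z :=
  ⟨X.kerLift (x - y) (by rw [map_sub, h, sub_self]), by rw [Ext.incl_kerLift, add_sub_cancel]⟩

theorem equiv_self_eq_add_derivation [Module A L] [IsScalarTower A C L] (X : Exal.Ext A C L) :
    (∀ D : Derivation A C L, ∃ e : X.Equiv X, ∀ x : X.E, e.toAlgEquiv x = x + X.incl (D (X.proj x))) ∧
      ∀ e : X.Equiv X, ∃! D : Derivation A C L, ∀ x : X.E, e.toAlgEquiv x = x + X.incl (D (X.proj x)) := by
  constructor
  · intro D
    let F : Derivation A C L → (X.E →ₐ[A] X.E) := fun D ↦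
      { toFun := fun x ↦ x + X.incl (D (X.proj x))
        map_one' := by simp
        map_mul' := fun x y ↦ by
          rw [map_mul, D.leibniz, map_add, ← X.isExtension.mul_incl, ← X.isExtension.mul_incl]
          have h0 : X.incl (D (X.proj x)) * X.incl (D (X.proj y)) = 0 :=
            ext_ker_mul X (proj_incl X _) (proj_incl X _)
          linear_combination (norm := ring_nf) -h0
        map_zero' := by simp
        map_add' := fun x y ↦ by simp only [map_add]; ring
        commutes' := fun a ↦ by simp }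
    have hFF : ∀ D D' : Derivation A C L, ∀ x, F D (F D' x) = x + X.incl ((D + D') (X.proj x)) := by
      intro D D' x
      change (x + X.incl (D' (X.proj x))) + X.incl (D (X.proj (x + X.incl (D' (X.proj x))))) = _
      rw [map_add X.proj, proj_incl, add_zero, Derivation.add_apply, map_add X.incl]
      ring
    refine ⟨{ toAlgEquiv := AlgEquiv.ofAlgHom (F D) (F (-D)) (AlgHom.ext fun x ↦ ?_) (AlgHom.ext fun x ↦ ?_)
              proj_apply := fun x ↦ ?_, apply_incl := fun z ↦ ?_ }, fun x ↦ rfl⟩
    · simp only [AlgHom.comp_apply, hFF, add_neg_cancel, Derivation.zero_apply, map_zero, add_zero,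
        AlgHom.id_apply]
    · simp only [AlgHom.comp_apply, hFF, neg_add_cancel, Derivation.zero_apply, map_zero, add_zero,
        AlgHom.id_apply]
    · change X.proj (x + X.incl (D (X.proj x))) = X.proj x
      rw [map_add, proj_incl, add_zero]
    · change X.incl z + X.incl (D (X.proj (X.incl z))) = X.incl z
      rw [proj_incl, map_zero, map_zero, add_zero]
  · intro e
    have hfix : ∀ x y, X.proj x = X.proj y → e.toAlgEquiv x - x = e.toAlgEquiv y - y := fun x y h ↦ by
      obtain ⟨z, rfl⟩ := exists_eq_add_incl X h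
      rw [map_add, e.apply_incl]
      ring
    let d : C → L := fun c ↦
      X.kerLift (e.toAlgEquiv (Function.surjInv X.isExtension.proj_surjective c) -
        Function.surjInv X.isExtension.proj_surjective c) (by rw [map_sub, e.proj_apply, sub_self])
    have hd : ∀ x, X.incl (d (X.proj x)) = e.toAlgEquiv x - x := fun x ↦ by
      rw [Ext.incl_kerLift]
      exact hfix _ _ (Function.surjInv_eq X.isExtension.proj_surjective _)
    let D : Derivation A C L := Derivation.mk'
      { toFun := d
        map_add' := fun p q ↦ by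
          obtain ⟨x, rfl⟩ := X.isExtension.proj_surjective p
          obtain ⟨y, rfl⟩ := X.isExtension.proj_surjective q
          apply X.isExtension.incl_injective
          rw [← map_add X.proj, map_add X.incl, hd, hd, hd, map_add]
          ring
        map_smul' := fun a p ↦ by
          obtain ⟨x, rfl⟩ := X.isExtension.proj_surjective p
          apply X.isExtension.incl_injective
          rw [← map_smul X.proj, hd, RingHom.id_apply, ← algebraMap_smul C a (d _),
            ← AlgHom.commutes X.proj a, ← X.isExtension.mul_incl, hd, Algebra.smul_def, map_mul,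
            AlgEquiv.commutes, mul_sub] }
      (fun p q ↦ by
        obtain ⟨x, rfl⟩ := X.isExtension.proj_surjective p
        obtain ⟨y, rfl⟩ := X.isExtension.proj_surjective q
        change d (X.proj x * X.proj y) = X.proj x • d (X.proj y) + X.proj y • d (X.proj x)
        apply X.isExtension.incl_injective
        rw [← map_mul, map_add, ← X.isExtension.mul_incl, ← X.isExtension.mul_incl, hd, hd, hd, map_mul]
        have h0 : (e.toAlgEquiv x - x) * (e.toAlgEquiv y - y) = 0 :=
          ext_ker_mul X (by rw [map_sub, e.proj_apply, sub_self]) (by rw [map_sub, e.proj_apply, sub_self])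
        linear_combination (norm := ring_nf) h0)
    refine ⟨D, fun x ↦ ?_, fun D' hD' ↦ Derivation.ext fun c ↦ ?_⟩
    · change e.toAlgEquiv x = x + X.incl (d (X.proj x))
      rw [hd, add_sub_cancel]
    · obtain ⟨x, rfl⟩ := X.isExtension.proj_surjective c
      apply X.isExtension.incl_injective
      change _ = X.incl (d (X.proj x))
      rw [hd, hD' x, add_sub_cancel_left]

theorem pullback_isTrivial_iff {B : Type v} [CommRing B] [Algebra A B] [Algebra B C] [IsScalarTower A B C]
    [Module B L] [IsScalarTower B C L] (Y : Exal.Ext A C L) :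
    (Y.pullback B).IsTrivial ↔ ∃ X : Exal.Ext B C L, Nonempty ((X.restrictBase A).Equiv Y) := by
  constructor
  · rintro ⟨s, hs⟩
    let f : B →ₐ[A] Y.E := ((AlgHom.fst A Y.E B).comp (Y.fiberProd B).val).comp s
    have hf : ∀ b, Y.proj (f b) = algebraMap B C b := fun b ↦ by
      have h1 : Y.proj (f b) = algebraMap B C (s b).1.2 := (s b).2
      rw [h1]
      exact congrArg (algebraMap B C) (hs b)
    letI : Algebra B Y.E := f.toRingHom.toAlgebra
    let X : Exal.Ext B C L :=
      { E := Y.E
        proj := { Y.proj.toRingHom with commutes' := hf }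
        incl := Y.incl
        isExtension := ⟨Y.isExtension.proj_surjective, Y.isExtension.incl_injective, Y.isExtension.exact,
          Y.isExtension.mul_incl⟩ }
    refine ⟨X, ⟨{ toAlgEquiv := AlgEquiv.ofRingEquiv (f := RingEquiv.refl Y.E) (fun a ↦ f.commutes a)
                  proj_apply := fun x ↦ rfl, apply_incl := fun z ↦ rfl }⟩⟩
  · rintro ⟨X, ⟨e⟩⟩
    let g : B →ₐ[A] Y.E :=
      { toFun := fun b ↦ e.toAlgEquiv (algebraMap B X.E b)
        map_one' := by rw [map_one]; exact map_one e.toAlgEquiv
        map_mul' := fun x y ↦ by rw [map_mul]; exact map_mul e.toAlgEquiv _ _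
        map_zero' := by rw [map_zero]; exact map_zero e.toAlgEquiv
        map_add' := fun x y ↦ by rw [map_add]; exact map_add e.toAlgEquiv _ _
        commutes' := fun a ↦ e.toAlgEquiv.commutes a }
    refine ⟨(g.prod (AlgHom.id A B)).codRestrict (Y.fiberProd B) fun b ↦ ?_, fun b ↦ rfl⟩
    change Y.proj (e.toAlgEquiv (algebraMap B X.E b)) = algebraMap B C b
    exact (e.proj_apply _).trans (X.proj.commutes b)

end Groth.Agent.EGA41Lib

namespace Groth.Agent.EGA41Lib

variable {B : Type v} [CommRing B] (J : Ideal B) {M : Type v} [AddCommGroup M] [Module (B ⧸ J) M]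
  [Module B M] [IsScalarTower B (B ⧸ J) M]

lemma incl_conormalMap (X : Exal.Ext B (B ⧸ J) M) (z : J) :
    X.incl (X.conormalMap J (J.toCotangent z)) = algebraMap B X.E z :=
  Ext.incl_kerLift X _ (X.proj_algebraMap_eq_zero J z)

/-- `(b, m) ↦ b + m`. -/
noncomputable def addHom (X : Exal.Ext B (B ⧸ J) M) : TrivSqZeroExt B M →+* X.E where
  toFun p := algebraMap B X.E p.fst + X.incl p.snd
  map_one' := by simp
  map_mul' p q := by
    rw [TrivSqZeroExt.fst_mul, TrivSqZeroExt.snd_mul, map_mul, map_add, op_smul_eq_smul,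
      ← IsScalarTower.algebraMap_smul (B ⧸ J) p.fst q.snd, ← IsScalarTower.algebraMap_smul (B ⧸ J) q.fst p.snd,
      ← X.proj.commutes, ← X.proj.commutes, ← X.isExtension.mul_incl, ← X.isExtension.mul_incl]
    have h0 : X.incl p.snd * X.incl q.snd = 0 := ext_ker_mul X (proj_incl X _) (proj_incl X _)
    linear_combination (norm := ring_nf) -h0
  map_zero' := by simp
  map_add' p q := by simp [add_add_add_comm]

lemma addHom_surjective (X : Exal.Ext B (B ⧸ J) M) : Function.Surjective (addHom J X) := fun x ↦ by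
  obtain ⟨b, hb⟩ := Ideal.Quotient.mk_surjective (X.proj x)
  obtain ⟨z, hz⟩ := exists_eq_add_incl X (x := x) (y := algebraMap B X.E b)
    (by rw [AlgHom.commutes, Ideal.Quotient.algebraMap_eq, hb])
  refine ⟨TrivSqZeroExt.inl b + TrivSqZeroExt.inr z, ?_⟩
  rw [hz]
  change algebraMap B X.E _ + X.incl _ = _
  simp

lemma addHom_eq_zero_iff (X : Exal.Ext B (B ⧸ J) M) (p : TrivSqZeroExt B M) :
    addHom J X p = 0 ↔ ∃ h : p.fst ∈ J, X.conormalMap J (J.toCotangent ⟨p.fst, h⟩) + p.snd = 0 := by
  constructor
  · intro hp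
    have h : p.fst ∈ J := by
      have := congrArg X.proj hp
      change X.proj (algebraMap B X.E p.fst + X.incl p.snd) = _ at this
      rwa [map_add, proj_incl, add_zero, map_zero, AlgHom.commutes, Ideal.Quotient.algebraMap_eq,
        Ideal.Quotient.eq_zero_iff_mem] at this
    refine ⟨h, X.isExtension.incl_injective ?_⟩
    rw [map_add, incl_conormalMap, map_zero]
    exact hp
  · rintro ⟨h, hp⟩
    have := congrArg X.incl hp
    rw [map_add, incl_conormalMap, map_zero] at this
    exact this

theorem nonempty_equiv_of_conormalMap_eq (X Y : Exal.Ext B (B ⧸ J) M)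
    (h : X.conormalMap J = Y.conormalMap J) : Nonempty (X.Equiv Y) := by
  have hker : RingHom.ker (addHom J X) = RingHom.ker (addHom J Y) := by
    ext p
    rw [RingHom.mem_ker, RingHom.mem_ker, addHom_eq_zero_iff, addHom_eq_zero_iff, h]
  let e : X.E ≃+* Y.E := (RingHom.quotientKerEquivOfSurjective (addHom_surjective J X)).symm.trans
    ((Ideal.quotEquivOfEq hker).trans (RingHom.quotientKerEquivOfSurjective (addHom_surjective J Y)))
  have he : ∀ p, e (addHom J X p) = addHom J Y p := fun p ↦ by
    have h1 : (RingHom.quotientKerEquivOfSurjective (addHom_surjective J X)).symm (addHom J X p) =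
        Ideal.Quotient.mk _ p := by
      rw [RingEquiv.symm_apply_eq]
      rfl
    simp only [e, RingEquiv.trans_apply, h1]
    rfl
  have hl : ∀ b, e (algebraMap B X.E b) = algebraMap B Y.E b := fun b ↦ by
    have := he (TrivSqZeroExt.inl b)
    simpa [addHom] using this
  have hr : ∀ z, e (X.incl z) = Y.incl z := fun z ↦ by
    have := he (TrivSqZeroExt.inr z)
    simpa [addHom] using this
  refine ⟨{ toAlgEquiv := AlgEquiv.ofRingEquiv (f := e) hl, proj_apply := fun x ↦ ?_, apply_incl := hr }⟩
  obtain ⟨p, rfl⟩ := addHom_surjective J X x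
  change Y.proj (e (addHom J X p)) = _
  rw [he]
  change Y.proj (algebraMap B Y.E p.fst + Y.incl p.snd) = X.proj (algebraMap B X.E p.fst + X.incl p.snd)
  rw [map_add, map_add, proj_incl, proj_incl, AlgHom.commutes, AlgHom.commutes]

theorem exists_ext_conormalMap_eq (w : J.Cotangent →ₗ[B] M) :
    ∃ X : Exal.Ext B (B ⧸ J) M, X.conormalMap J = w := by
  have htors : ∀ (b : B) (_ : b ∈ J) (m : M), b • m = 0 := fun b hb m ↦ by
    rw [← IsScalarTower.algebraMap_smul (B ⧸ J), Ideal.Quotient.algebraMap_eq,
      Ideal.Quotient.eq_zero_iff_mem.2 hb, zero_smul]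
  let K : Ideal (TrivSqZeroExt B M) :=
    { carrier := {p | ∃ h : p.fst ∈ J, w (J.toCotangent ⟨p.fst, h⟩) + p.snd = 0}
      add_mem' := by
        rintro p q ⟨hp, hp'⟩ ⟨hq, hq'⟩
        refine ⟨by rw [TrivSqZeroExt.fst_add]; exact add_mem hp hq, ?_⟩
        rw [show (⟨(p + q).fst, _⟩ : J) = ⟨p.fst, hp⟩ + ⟨q.fst, hq⟩ from Subtype.ext (TrivSqZeroExt.fst_add p q),
          map_add, map_add, TrivSqZeroExt.snd_add, add_add_add_comm, hp', hq', add_zero]
      zero_mem' := ⟨J.zero_mem, by
        rw [show (⟨(0 : TrivSqZeroExt B M).fst, J.zero_mem⟩ : J) = 0 from rfl]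
        simp⟩
      smul_mem' := by
        rintro c p ⟨hp, hp'⟩
        refine ⟨by rw [smul_eq_mul, TrivSqZeroExt.fst_mul]; exact J.mul_mem_left _ hp, ?_⟩
        rw [show (⟨(c • p).fst, _⟩ : J) = c.fst • (⟨p.fst, hp⟩ : J) from
            Subtype.ext (TrivSqZeroExt.fst_mul c p), map_smul, map_smul, smul_eq_mul,
          TrivSqZeroExt.snd_mul, op_smul_eq_smul, htors _ hp, add_zero, ← smul_add, hp', smul_zero] }
  let proj : (TrivSqZeroExt B M ⧸ K) →ₐ[B] B ⧸ J :=
    { toRingHom := Ideal.Quotient.lift K ((Ideal.Quotient.mk J).comp (TrivSqZeroExt.fstHom B B M).toRingHom)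
        fun p ⟨hp, _⟩ ↦ Ideal.Quotient.eq_zero_iff_mem.2 hp
      commutes' := fun b ↦ rfl }
  have hproj : ∀ p, proj (Ideal.Quotient.mk K p) = Ideal.Quotient.mk J p.fst := fun p ↦ rfl
  let incl : M →+ TrivSqZeroExt B M ⧸ K :=
    (Ideal.Quotient.mk K).toAddMonoidHom.comp (TrivSqZeroExt.inrHom B M).toAddMonoidHom
  have hext : Exal.IsExtension proj incl := by
    refine ⟨?_, ?_, ?_, ?_⟩
    · intro c
      obtain ⟨b, rfl⟩ := Ideal.Quotient.mk_surjective c
      exact ⟨Ideal.Quotient.mk K (TrivSqZeroExt.inl b), rfl⟩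
    · rw [injective_iff_map_eq_zero]
      intro z hz
      obtain ⟨h, h'⟩ := Ideal.Quotient.eq_zero_iff_mem.1 hz
      rw [show (⟨((TrivSqZeroExt.inrHom B M).toAddMonoidHom z).fst, h⟩ : J) = 0 from Subtype.ext rfl] at h'
      simpa using h'
    · intro x
      obtain ⟨p, rfl⟩ := Ideal.Quotient.mk_surjective x
      rw [hproj, Ideal.Quotient.eq_zero_iff_mem]
      constructor
      · intro hp
        refine ⟨p.snd + w (J.toCotangent ⟨p.fst, hp⟩), Eq.symm (Ideal.Quotient.eq.2 ⟨?_, ?_⟩)⟩
        · change p.fst - 0 ∈ J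
          rwa [sub_zero]
        · have e1 : ∀ h, (⟨(p - (TrivSqZeroExt.inrHom B M).toAddMonoidHom
              (p.snd + w (J.toCotangent ⟨p.fst, hp⟩))).fst, h⟩ : J) = ⟨p.fst, hp⟩ :=
            fun h ↦ Subtype.ext (sub_zero _)
          rw [e1]
          change _ + (p.snd - (p.snd + _)) = 0
          abel
      · rintro ⟨z, hz⟩
        obtain ⟨h, -⟩ := Ideal.Quotient.eq.1 hz
        have h1 : (0 : B) - p.fst ∈ J := h
        rwa [zero_sub, neg_mem_iff] at h1
    · intro x z
      obtain ⟨p, rfl⟩ := Ideal.Quotient.mk_surjective x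
      rw [hproj, ← Ideal.Quotient.algebraMap_eq J, IsScalarTower.algebraMap_smul]
      change Ideal.Quotient.mk K p * Ideal.Quotient.mk K (TrivSqZeroExt.inr z) = Ideal.Quotient.mk K _
      rw [← map_mul]
      congr 1
      apply TrivSqZeroExt.ext <;> simp
  let X : Exal.Ext B (B ⧸ J) M :=
    { E := TrivSqZeroExt B M ⧸ K, proj := proj, incl := incl, isExtension := hext }
  refine ⟨X, LinearMap.ext fun q ↦ ?_⟩
  obtain ⟨z, rfl⟩ := J.toCotangent_surjective q
  apply X.isExtension.incl_injective
  refine (incl_conormalMap J X z).trans ?_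
  change Ideal.Quotient.mk K (TrivSqZeroExt.inl (z : B)) =
    Ideal.Quotient.mk K (TrivSqZeroExt.inr (w (J.toCotangent z)))
  rw [Ideal.Quotient.eq]
  refine ⟨by simp, ?_⟩
  have key : ∀ (b : B) (h : b ∈ J) (m : M), b = z → m = -w (J.toCotangent z) →
      w (J.toCotangent ⟨b, h⟩) + m = 0 := by
    rintro b h m rfl rfl
    exact add_neg_cancel _
  exact key _ _ _ (sub_zero (z : B)) (zero_sub _)

end Groth.Agent.EGA41Lib
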