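import Groth.Agent.CAlgH3.ProjDim
import Mathlib

/-! Projective dimension of finite modules detected by Ext into finite modules. -/

set_option autoImplicit false
set_option backward.isDefEq.respectTransparency.types false
universe u

open CategoryTheory CategoryTheory.Abelian

namespace Groth.Agent.EGA41Lib

variable {A : Type u} [CommRing A] [IsNoetherianRing A]

theorem pd_of_ext_finite (n : ℕ) : ∀ (M : Type u) [AddCommGroup M] [Module A M] [Module.Finite A M],
    (∀ (N : Type u) [AddCommGroup N] [Module A N] [Module.Finite A N],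
      Subsingleton (Ext (ModuleCat.of A M) (ModuleCat.of A N) (n + 1))) →
    HasProjectiveDimensionLT (ModuleCat.of A M) (n + 1) := by
  induction n with
  | zero =>
    intro M _ _ _ h
    obtain ⟨m, f, hf⟩ := Module.Finite.exists_fin' A M
    have hS := LinearMap.shortExact_shortComplexKer hf
    obtain ⟨φ, hφ⟩ := Ext.covariant_sequence_exact₃ (ModuleCat.of A M) hS (Ext.mk₀ (𝟙 (ModuleCat.of A M))) (zero_add 1)
      (@Subsingleton.elim _ (h (LinearMap.ker f)) _ _)
    obtain ⟨φ, rfl⟩ := Ext.homEquiv₀.symm.surjective φ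
    rw [Ext.homEquiv₀_symm_apply, Ext.mk₀_comp_mk₀, (Ext.mk₀_bijective _ _).1.eq_iff] at hφ
    refine CAlgH3.pd_one_iff.2 (Module.Projective.of_split φ.hom f ?_)
    exact congrArg ModuleCat.Hom.hom hφ
  | succ n ih =>
    intro M _ _ _ h
    obtain ⟨m, f, hf⟩ := Module.Finite.exists_fin' A M
    rw [show n + 1 + 1 = n + 2 from rfl]
    refine (CAlgH3.pd_ker_iff hf n).2 (ih _ fun N _ _ _ => subsingleton_of_forall_eq 0 fun e => ?_)
    have hS := LinearMap.shortExact_shortComplexKer hf
    have := CAlgH3.pd_one_iff (R := A) (M := Fin m → A) |>.2 inferInstance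
    obtain ⟨y, hy⟩ := Ext.contravariant_sequence_exact₁ hS (ModuleCat.of A N) e (show 1 + (n + 1) = n + 1 + 1 by omega)
      (@Subsingleton.elim _ (h N) _ _)
    have hy0 : y = 0 := by
      have hp : HasProjectiveDimensionLT (ModuleCat.of A (Fin m → A)) 1 := this
      exact @Subsingleton.elim _ (HasProjectiveDimensionLT.subsingleton (ModuleCat.of A (Fin m → A)) 1 (n + 1) (by omega) _) y 0
    rw [← hy, hy0, Ext.comp_zero]

end Groth.Agent.EGA41Lib
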