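import Groth.Prelude.Def_FSRel
import Mathlib.RingTheory.Kaehler.Basic
import Mathlib.Algebra.TrivSqZeroExt.Basic
import Mathlib.Tactic.Ring
import Mathlib.Tactic.LinearCombination

/-!
# Relative formal smoothness and left inverses of `C ⊗ Ω_{B/A} → Ω_{C/A}`

EGA 0, 20.5.7 and 20.7.2.
-/

set_option autoImplicit false

universe u

open TensorProduct

namespace Groth.Agent.EGA41Lib

variable (A : Type u) (B C : Type u) [CommRing A] [CommRing B] [CommRing C] [Algebra A B] [Algebra B C] [Algebra A C]
  [IsScalarTower A B C]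

omit [Algebra A C] [IsScalarTower A B C] in
/-- The square zero extension of `C` by `C ⊗ Ω_{B/A}`, as an abstract ring. -/
theorem exists_sqZeroExt :
    ∃ (E : Type u) (_ : CommRing E) (π : E →+* C) (δ : E → C ⊗[B] Ω[B⁄A]) (ι : C →+* E),
      (∀ c, π (ι c) = c) ∧ (∀ c, δ (ι c) = 0) ∧ (∀ x y, δ (x + y) = δ x + δ y) ∧
      (∀ x y, δ (x * y) = π x • δ y + π y • δ x) ∧ (∀ x y, π x = π y → δ x = δ y → x = y) ∧
      ∀ c m, ∃ x, π x = c ∧ δ x = m := by
  haveI : IsCentralScalar C (C ⊗[B] Ω[B⁄A]) := ⟨fun r m => by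
    induction m with
    | zero => simp
    | add x y hx hy => rw [smul_add, smul_add, hx, hy]
    | tmul c ω => rw [TensorProduct.smul_tmul', TensorProduct.smul_tmul', op_smul_eq_smul]⟩
  exact ⟨TrivSqZeroExt C (C ⊗[B] Ω[B⁄A]), inferInstance, (TrivSqZeroExt.fstHom C C _).toRingHom,
    TrivSqZeroExt.snd, TrivSqZeroExt.inlHom C _, fun _ => rfl, fun _ => rfl, fun _ _ => rfl,
    fun x y => by rw [TrivSqZeroExt.snd_mul, op_smul_eq_smul]; rfl, fun x y h1 h2 => TrivSqZeroExt.ext h1 h2,
    fun c m => ⟨TrivSqZeroExt.inl c + TrivSqZeroExt.inr m, by simp, by simp⟩⟩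

theorem exists_leftInverse_of_formallySmoothRel (h : EGA41.IsFormallySmoothRel A B C) :
    ∃ l : Ω[C⁄A] →ₗ[C] C ⊗[B] Ω[B⁄A], l ∘ₗ KaehlerDifferential.mapBaseChange A B C = LinearMap.id := by
  obtain ⟨E, iE, π, δ, ι, hπι, hδι, hadd, hmul, hext, hmk⟩ := exists_sqZeroExt A B C
  choose f hf₁ hf₂ using fun b : B => hmk (algebraMap B C b) ((1 : C) ⊗ₜ[B] KaehlerDifferential.D A B b)
  have hδ0 : δ 0 = 0 := by simpa using hδι 0
  have hδ1 : δ 1 = 0 := by simpa using hδι 1
  let φ : B →+* E :=
    { toFun := f
      map_one' := hext _ _ (by rw [hf₁, map_one, map_one]) (by rw [hf₂, Derivation.map_one_eq_zero, TensorProduct.tmul_zero, hδ1])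
      map_mul' := fun b b' => hext _ _ (by rw [hf₁, map_mul, map_mul, hf₁, hf₁]) (by
        rw [hf₂, hmul, hf₁, hf₁, hf₂, hf₂, Derivation.leibniz, TensorProduct.tmul_add, TensorProduct.tmul_smul,
          TensorProduct.tmul_smul, algebraMap_smul, algebraMap_smul])
      map_zero' := hext _ _ (by rw [hf₁, map_zero, map_zero]) (by rw [hf₂, map_zero, TensorProduct.tmul_zero, hδ0])
      map_add' := fun b b' => hext _ _ (by rw [hf₁, map_add, map_add, hf₁, hf₁]) (by
        rw [hf₂, hadd, hf₂, hf₂, map_add, TensorProduct.tmul_add]) }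
  letI : Algebra B E := φ.toAlgebra
  letI : Algebra A E := (φ.comp (algebraMap A B)).toAlgebra
  haveI : IsScalarTower A B E := .of_algebraMap_eq fun _ => rfl
  have hA : ∀ a, algebraMap A E a = ι (algebraMap A C a) := fun a => hext _ _
    (by rw [hπι]; exact (hf₁ _).trans (IsScalarTower.algebraMap_apply A B C a).symm)
    (by rw [hδι]; exact (hf₂ _).trans (by rw [Derivation.map_algebraMap, TensorProduct.tmul_zero]))
  have hJ : RingHom.ker π ^ 2 = ⊥ := by
    rw [pow_two, eq_bot_iff, Ideal.mul_le]
    intro x hx y hy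
    rw [RingHom.mem_ker] at hx hy
    rw [Submodule.mem_bot]
    exact hext _ _ (by rw [map_mul, hx, zero_mul, map_zero]) (by rw [hmul, hx, hy, zero_smul, zero_smul, add_zero, hδ0])
  let u₀ : C →ₐ[B] E ⧸ RingHom.ker π :=
    { toRingHom := (Ideal.Quotient.mk _).comp ι
      commutes' := fun b => by
        change Ideal.Quotient.mk _ (ι _) = Ideal.Quotient.mk _ (f b)
        rw [Ideal.Quotient.mk_eq_mk_iff_sub_mem, RingHom.mem_ker, map_sub, hπι, hf₁, sub_self] }
  let u : C →ₐ[A] E := { toRingHom := ι, commutes' := fun a => (hA a).symm }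
  obtain ⟨v, hv⟩ := h E (RingHom.ker π) hJ u₀ ⟨u, AlgHom.ext fun _ => rfl⟩
  have hπv : ∀ c, π (v c) = c := fun c => by
    have h1 : Ideal.Quotient.mk _ (v c) = Ideal.Quotient.mk _ (ι c) := DFunLike.congr_fun hv c
    rwa [Ideal.Quotient.mk_eq_mk_iff_sub_mem, RingHom.mem_ker, map_sub, hπι, sub_eq_zero] at h1
  let d : Derivation A C (C ⊗[B] Ω[B⁄A]) := Derivation.mk'
    { toFun := fun c => δ (v c)
      map_add' := fun x y => by rw [map_add, hadd]
      map_smul' := fun a c => by
        have h1 : v (a • c) = algebraMap A E a * v c := by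
          rw [Algebra.smul_def, map_mul, IsScalarTower.algebraMap_apply A B C, v.commutes,
            ← IsScalarTower.algebraMap_apply A B E]
        change δ (v (a • c)) = a • δ (v c)
        rw [h1, hA, hmul, hπι, hδι, smul_zero, add_zero, algebraMap_smul] }
    (fun x y => by
      change δ (v (x * y)) = x • δ (v y) + y • δ (v x)
      rw [map_mul, hmul, hπv, hπv])
  refine ⟨d.liftKaehlerDifferential, ?_⟩
  refine LinearMap.ext fun z => ?_
  induction z with
  | zero => simp
  | add y z hy hz => simp only [map_add, hy, hz]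
  | tmul c ω =>
    have hω : ω ∈ Submodule.span B (Set.range (KaehlerDifferential.D A B)) := by
      rw [KaehlerDifferential.span_range_derivation]; trivial
    induction hω using Submodule.span_induction generalizing c with
    | mem y hy =>
      obtain ⟨b, rfl⟩ := hy
      rw [LinearMap.comp_apply, KaehlerDifferential.mapBaseChange_tmul, KaehlerDifferential.map_D, map_smul,
        Derivation.liftKaehlerDifferential_comp_D, LinearMap.id_apply]
      change c • δ (v (algebraMap B C b)) = _
      rw [v.commutes]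
      change c • δ (f b) = _
      rw [hf₂, TensorProduct.smul_tmul', smul_eq_mul, mul_one]
    | zero => simp
    | add y y' _ _ hy hy' => simp only [TensorProduct.tmul_add, map_add, hy c, hy' c]
    | smul b y _ hy => rw [← TensorProduct.smul_tmul]; exact hy (b • c)

theorem formallySmoothRel_of_leftInverse
    (h : ∃ l : Ω[C⁄A] →ₗ[C] C ⊗[B] Ω[B⁄A], l ∘ₗ KaehlerDifferential.mapBaseChange A B C = LinearMap.id) :
    EGA41.IsFormallySmoothRel A B C := by
  obtain ⟨l, hl⟩ := h
  intro E _ _ _ _ J hJ u₀ ⟨u, hu⟩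
  have hJJ : ∀ {x y : E}, x ∈ J → y ∈ J → x * y = 0 := fun {x y} hx hy => by
    rw [← Submodule.mem_bot E, ← hJ, pow_two]; exact Ideal.mul_mem_mul hx hy
  have hmk : ∀ c, Ideal.Quotient.mk J (u c) = u₀ c := fun c => DFunLike.congr_fun hu c
  have hmem : ∀ b, u (algebraMap B C b) - algebraMap B E b ∈ J := fun b => by
    rw [← Ideal.Quotient.mk_eq_mk_iff_sub_mem, hmk, u₀.commutes]; rfl
  letI : Module C J := Module.compHom J (u : C →+* E)
  have hC : ∀ (c : C) (x : J), (c • x).1 = u c * x.1 := fun _ _ => rfl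
  have hB : ∀ (b : B) (x : J), (b • x).1 = algebraMap B E b * x.1 := fun b x => Algebra.smul_def b x.1
  haveI : IsScalarTower B C J := ⟨fun b c x => Subtype.ext (by
    have h0 := hJJ (hmem b) (c • x).2
    rw [hC] at h0
    rw [hC, hB, hC, Algebra.smul_def, map_mul]
    linear_combination h0)⟩
  let ε : Derivation A B J := Derivation.mk'
    { toFun := fun b => ⟨_, hmem b⟩
      map_add' := fun x y => Subtype.ext (by
        change u (algebraMap B C (x + y)) - algebraMap B E (x + y) =
          (u (algebraMap B C x) - algebraMap B E x) + (u (algebraMap B C y) - algebraMap B E y)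
        rw [map_add, map_add, map_add]; ring)
      map_smul' := fun a b => Subtype.ext (by
        change u (algebraMap B C (a • b)) - algebraMap B E (a • b) = a • (u (algebraMap B C b) - algebraMap B E b)
        rw [Algebra.smul_def a b, Algebra.smul_def, map_mul, map_mul, map_mul,
          ← IsScalarTower.algebraMap_apply A B C, u.commutes, ← IsScalarTower.algebraMap_apply A B E]
        ring) }
    (fun x y => Subtype.ext (by
      change u (algebraMap B C (x * y)) - algebraMap B E (x * y) = (x • (⟨_, hmem y⟩ : J) + y • ⟨_, hmem x⟩ : J).1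
      have h0 := hJJ (hmem x) (hmem y)
      rw [Submodule.coe_add, hB, hB, map_mul, map_mul, map_mul]
      linear_combination h0))
  let F : C ⊗[B] Ω[B⁄A] →ₗ[C] J := ε.liftKaehlerDifferential.liftBaseChange C
  let d : C → J := fun c => F (l (KaehlerDifferential.D A C c))
  have hd : ∀ b, (d (algebraMap B C b)).1 = u (algebraMap B C b) - algebraMap B E b := fun b => by
    have h1 : l (KaehlerDifferential.D A C (algebraMap B C b)) = (1 : C) ⊗ₜ[B] KaehlerDifferential.D A B b := by
      rw [← KaehlerDifferential.map_D A A B C b, ← one_smul C (KaehlerDifferential.map A A B C _),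
        ← KaehlerDifferential.mapBaseChange_tmul]
      exact DFunLike.congr_fun hl _
    simp only [d, F, h1, LinearMap.liftBaseChange_tmul, one_smul, Derivation.liftKaehlerDifferential_comp_D]
    rfl
  have hdm : ∀ x y, (d (x * y)).1 = u x * (d y).1 + u y * (d x).1 := fun x y => by
    simp only [d, Derivation.leibniz, map_add, map_smul]
    rfl
  have hd1 : (d 1).1 = 0 := by simp [d]
  let v : C →+* E :=
    { toFun := fun c => u c - (d c).1
      map_one' := by rw [map_one, hd1, sub_zero]
      map_mul' := fun x y => by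
        have h0 := hJJ (d x).2 (d y).2
        rw [hdm, map_mul]
        linear_combination (-1 : E) * h0
      map_zero' := by simp [d]
      map_add' := fun x y => by simp [d]; ring }
  refine ⟨{ toRingHom := v, commutes' := fun b => ?_ }, AlgHom.ext fun c => ?_⟩
  · change u _ - (d _).1 = _
    rw [hd, sub_sub_cancel]
  · change Ideal.Quotient.mk J (u c - (d c).1) = u₀ c
    rw [map_sub, Ideal.Quotient.eq_zero_iff_mem.2 (d c).2, sub_zero, hmk]

end Groth.Agent.EGA41Lib
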