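import Groth.Agent.CAlgH.AdicSmoothGeom
import Groth.Agent.CAlgH.GRingRegular

/-!
# Formal smoothness of the local rings of the generic formal fibre
-/

universe u

open TensorProduct IsLocalRing

namespace Groth.Agent.EGA41Lib

/-- The fraction field is the residue field at `⊥`. -/
theorem isFractionRing_residueField_bot (R : Type u) [CommRing R] [IsDomain R] :
    IsFractionRing R (⊥ : Ideal R).ResidueField where
  map_units := fun s => isUnit_iff_ne_zero.mpr fun h =>
    nonZeroDivisors.ne_zero s.2 (Ideal.algebraMap_residueField_eq_zero.1 h)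
  surj z := by
    obtain ⟨a, b, hb, rfl⟩ := IsFractionRing.div_surjective (A := R ⧸ (⊥ : Ideal R)) z
    obtain ⟨a, rfl⟩ := Ideal.Quotient.mk_surjective a
    obtain ⟨b, rfl⟩ := Ideal.Quotient.mk_surjective b
    have hb0 : b ≠ 0 := fun h => nonZeroDivisors.ne_zero hb (by rw [h, map_zero])
    refine ⟨⟨a, ⟨b, mem_nonZeroDivisors_of_ne_zero hb0⟩⟩, ?_⟩
    rw [IsScalarTower.algebraMap_apply R (R ⧸ (⊥ : Ideal R)) (⊥ : Ideal R).ResidueField b,
      IsScalarTower.algebraMap_apply R (R ⧸ (⊥ : Ideal R)) (⊥ : Ideal R).ResidueField a]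
    exact div_mul_cancel₀ _ (IsFractionRing.to_map_ne_zero_of_mem_nonZeroDivisors hb)
  exists_of_eq {x y} h := by
    refine ⟨1, ?_⟩
    rw [← sub_eq_zero, ← map_sub, Ideal.algebraMap_residueField_eq_zero, Ideal.mem_bot, sub_eq_zero] at h
    rw [h]

/-- A local ring of the generic fibre of a geometrically regular generic fibre is formally smooth. -/
theorem adicSmooth_of_generic_fibre (R C K : Type u) [CommRing R] [IsDomain R] [CommRing C] [IsNoetherianRing C]
    [Algebra R C] [Field K] [Algebra R K] [IsFractionRing R K]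
    (q : Ideal C) [q.IsPrime] (hq : q.comap (algebraMap R C) = ⊥) [Algebra K (Localization.AtPrime q)]
    (hcomm : ∀ r : R, algebraMap K (Localization.AtPrime q) (algebraMap R K r) =
      algebraMap C (Localization.AtPrime q) (algebraMap R C r))
    (h : CAlg.IsGeometricallyRegular (⊥ : Ideal R).ResidueField ((⊥ : Ideal R).Fiber C)) :
    CAlgX.IsAdicFormallySmooth K (Localization.AtPrime q) (maximalIdeal (Localization.AtPrime q)) := by
  let k := (⊥ : Ideal R).ResidueField
  haveI := isFractionRing_residueField_bot R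
  let F := (⊥ : Ideal R).Fiber C
  let e : k ≃ₐ[R] K := IsLocalization.algEquiv (nonZeroDivisors R) k K
  letI : Algebra C F := Algebra.TensorProduct.rightAlgebra
  let T := Localization.AtPrime q
  haveI : IsNoetherianRing T := IsLocalization.isNoetherianRing q.primeCompl _ inferInstance
  letI : Algebra k T := ((algebraMap K T).comp e.toAlgHom.toRingHom).toAlgebra
  haveI : IsScalarTower R k T := IsScalarTower.of_algebraMap_eq fun r => by
    change algebraMap R T r = algebraMap K T (e (algebraMap R k r))
    rw [e.commutes, hcomm, ← IsScalarTower.algebraMap_apply]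
  haveI hF : IsLocalization (Algebra.algebraMapSubmonoid C (nonZeroDivisors R)) F := inferInstance
  let φ : F →ₐ[k] T := Algebra.TensorProduct.lift (Algebra.ofId k T) (IsScalarTower.toAlgHom R C T)
    fun _ _ => Commute.all _ _
  letI : Algebra F T := φ.toRingHom.toAlgebra
  haveI : IsScalarTower k F T := IsScalarTower.of_algebraMap_eq fun x => (φ.commutes x).symm
  haveI : IsScalarTower C F T := IsScalarTower.of_algebraMap_eq fun c => by
    refine Eq.trans ?_ (Algebra.TensorProduct.lift_tmul (Algebra.ofId k T) (IsScalarTower.toAlgHom R C T)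
      (fun _ _ => Commute.all _ _) (1 : k) c).symm
    rw [map_one, one_mul]
    rfl
  haveI : IsLocalization (q.primeCompl.map (algebraMap C F)) T :=
    IsLocalization.isLocalization_of_submonoid_le F T (Algebra.algebraMapSubmonoid C (nonZeroDivisors R)) q.primeCompl
      (by
        rintro _ ⟨r, hr, rfl⟩ hrq
        exact nonZeroDivisors.ne_zero hr (Ideal.mem_bot.1 (hq ▸ (hrq : r ∈ q.comap (algebraMap R C)))))
  have hk : CAlgX.IsAdicFormallySmooth k T (maximalIdeal T) :=
    CAlgH.AdicSmooth.of_isGeometricallyRegular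
      (CAlgH.AdicSmooth.isGeometricallyRegular_localization k F h (q.primeCompl.map (algebraMap C F)) T)
  letI : Algebra K k := e.symm.toAlgHom.toRingHom.toAlgebra
  haveI : IsScalarTower K k T := IsScalarTower.of_algebraMap_eq fun x => by
    change algebraMap K T x = algebraMap K T (e (e.symm x))
    rw [e.apply_symm_apply]
  haveI : Algebra.FormallySmooth K k := Algebra.FormallySmooth.of_equiv
    (AlgEquiv.ofBijective (Algebra.ofId K k) e.symm.bijective)
  refine CAlgH.AdicSmooth.trans (𝔫 := (⊥ : Ideal k)) ?_ CAlgH.AdicSmooth.of_formallySmooth hk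
  rw [Ideal.map_bot]
  exact bot_le

end Groth.Agent.EGA41Lib
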