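import Mathlib
import Groth.Prelude.Def_EGA41
import Groth.Agent.EGA41Lib.AdicBridge

/-!
# Descent of adic formal smoothness (EGA 0, 19.7)
-/

set_option autoImplicit false
set_option backward.isDefEq.respectTransparency.types false
set_option maxHeartbeats 400000
set_option synthInstance.maxHeartbeats 100000

universe u

open TensorProduct

namespace Groth.Agent.EGA41Lib.FPS

variable {A B : Type u} [CommRing A] [CommRing B] [Algebra A B]

/-- Lifting along a finite chain of ideals. -/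
theorem exists_lift_chain {𝔟 : Ideal B} {C : Type u} [CommRing C] [Algebra A C] (I : ℕ → Ideal C)
    (hanti : ∀ i, I (i + 1) ≤ I i) (hsq : ∀ i, I i * I i ≤ I (i + 1)) {N : ℕ} (hN : I N = ⊥)
    (hstep : ∀ (D : Type u) [CommRing D] [Algebra A D] (π : C →ₐ[A] D) (i : ℕ) (M : Ideal D),
      Function.Surjective π → M = (I i).map π.toRingHom → (∀ c ∈ I (i + 1), π c = 0) →
      ∀ u : B →ₐ[A] D ⧸ M, (∃ k : ℕ, ∀ x ∈ 𝔟 ^ k, u x = 0) →
      ∃ v : B →ₐ[A] D, (Ideal.Quotient.mkₐ A M).comp v = u)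
    (u : B →ₐ[A] C ⧸ I 0) (hu : ∃ k : ℕ, ∀ x ∈ 𝔟 ^ k, u x = 0) :
    ∃ v : B →ₐ[A] C, (Ideal.Quotient.mkₐ A (I 0)).comp v = u := by
  have h0 : ∀ i, I i ≤ I 0 := fun i => by
    induction i with
    | zero => exact le_rfl
    | succ i ih => exact (hanti i).trans ih
  have key : ∀ i, ∃ v : B →ₐ[A] C ⧸ I i, (∃ k : ℕ, ∀ x ∈ 𝔟 ^ k, v x = 0) ∧
      ∀ b c, Ideal.Quotient.mk (I i) c = v b → Ideal.Quotient.mk (I 0) c = u b := by
    intro i
    induction i with
    | zero => exact ⟨u, hu, fun b c h => h⟩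
    | succ i ih =>
      obtain ⟨v, ⟨k, hk⟩, hv⟩ := ih
      let M := (I i).map (Ideal.Quotient.mk (I (i + 1)))
      let f : C ⧸ I i →ₐ[A] (C ⧸ I (i + 1)) ⧸ M := Ideal.Quotient.liftₐ (I i)
        ((Ideal.Quotient.mkₐ A M).comp (Ideal.Quotient.mkₐ A (I (i + 1)))) fun c hc =>
        Ideal.Quotient.eq_zero_iff_mem.2 (Ideal.mem_map_of_mem _ hc)
      obtain ⟨v', hv'⟩ := hstep _ (Ideal.Quotient.mkₐ A (I (i + 1))) i M Ideal.Quotient.mk_surjective rfl
        (fun c hc => Ideal.Quotient.eq_zero_iff_mem.2 hc) (f.comp v) ⟨k, fun x hx => by rw [AlgHom.comp_apply, hk x hx, map_zero]⟩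
      have hM : M ^ 2 = ⊥ := by
        rw [sq, ← Ideal.map_mul, eq_bot_iff]
        exact (Ideal.map_mono (hsq i)).trans (Ideal.map_quotient_self _).le
      obtain ⟨m, hm⟩ := exists_pow_kill v'.toRingHom (K := M) ⟨2, hM⟩ (𝔟 := 𝔟) (k := k) fun x hx => by
        have h := AlgHom.congr_fun hv' x
        rw [AlgHom.comp_apply, AlgHom.comp_apply, hk x hx, map_zero] at h
        exact Ideal.Quotient.eq_zero_iff_mem.1 h
      refine ⟨v', ⟨m, hm⟩, fun b c hc => ?_⟩
      obtain ⟨c', hc'⟩ := Ideal.Quotient.mk_surjective (v b)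
      have h := AlgHom.congr_fun hv' b
      rw [AlgHom.comp_apply, AlgHom.comp_apply, ← hc, ← hc'] at h
      have h2 : Ideal.Quotient.mk (I (i + 1)) c - Ideal.Quotient.mk (I (i + 1)) c' ∈ M := Ideal.Quotient.eq.1 h
      rw [← map_sub, Ideal.mem_quotient_iff_mem (hanti i)] at h2
      rw [← hv b c' hc', Ideal.Quotient.eq]
      exact h0 i h2
  obtain ⟨v, -, hv⟩ := key N
  let e : (C ⧸ I N) ≃ₐ[A] C := (Ideal.quotientEquivAlgOfEq A hN).trans (AlgEquiv.quotientBot A C)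
  refine ⟨e.toAlgHom.comp v, AlgHom.ext fun b => ?_⟩
  refine hv b _ ?_
  obtain ⟨c, hc⟩ := Ideal.Quotient.mk_surjective (v b)
  show Ideal.Quotient.mk (I N) (e (v b)) = v b
  rw [← hc]
  rfl

theorem exists_retraction (A A' : Type u) [CommRing A] [CommRing A'] [Algebra A A'] [Module.FaithfullyFlat A A']
    [Module.Projective A A'] : ∃ ρ : A' →ₗ[A] A, ρ 1 = 1 := by
  let T : Ideal A := LinearMap.range (LinearMap.applyₗ (R := A) (M₂ := A) (1 : A'))
  by_cases hT : (1 : A) ∈ T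
  · obtain ⟨ρ, hρ⟩ := hT
    exact ⟨ρ, hρ⟩
  exfalso
  obtain ⟨m, hm, hTm⟩ := Ideal.exists_le_maximal T (fun h => hT (h ▸ Submodule.mem_top))
  obtain ⟨s, hs⟩ := Module.projective_def'.1 (inferInstance : Module.Projective A A')
  have h1 : (1 : A') ∈ m • (⊤ : Submodule A A') := by
    rw [← show Finsupp.linearCombination A id (s 1) = (1 : A') from LinearMap.congr_fun hs 1,
      Finsupp.linearCombination_apply]
    exact Submodule.sum_mem _ fun i _ => Submodule.smul_mem_smul (hTm ⟨(Finsupp.lapply i).comp s, rfl⟩) trivial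
  refine Module.FaithfullyFlat.submodule_ne_top (R := A) (M := A') hm (eq_top_iff.2 fun z _ => ?_)
  have := Ideal.mul_mem_left (m.map (algebraMap A A')) z (show (1 : A') ∈ m.map (algebraMap A A') by
    rw [Ideal.smul_top_eq_map] at h1; exact h1)
  rw [Ideal.smul_top_eq_map]
  rwa [mul_one] at this

theorem exists_lift_baseChange {A' : Type u} [CommRing A'] [Algebra A A'] {𝔞' : Ideal A'} {𝔟 : Ideal B}
    (h : EGA41.IsFormallySmoothAdic A' 𝔞' (A' ⊗[A] B)
        (𝔞'.map (algebraMap A' (A' ⊗[A] B)) ⊔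
          𝔟.map (Algebra.TensorProduct.includeRight : B →ₐ[A] A' ⊗[A] B).toRingHom))
    {D : Type u} [CommRing D] [Algebra A D] [Algebra A' D] [IsScalarTower A A' D] (M : Ideal D) (hM : IsNilpotent M)
    {k : ℕ} (hk : (𝔞' ^ k).map (algebraMap A' D) = ⊥) (ψ : B →ₐ[A] D ⧸ M) {j : ℕ} (hj : ∀ x ∈ 𝔟 ^ j, ψ x = 0) :
    ∃ V : B →ₐ[A] D, ∀ b, Ideal.Quotient.mk M (V b) = ψ b := by
  let U : A' ⊗[A] B →ₐ[A'] D ⧸ M := Algebra.TensorProduct.lift (Algebra.ofId A' _) ψ fun _ _ => Commute.all _ _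
  have hU : ∀ b, U ((1 : A') ⊗ₜ[A] b) = ψ b := fun b => by
    rw [Algebra.TensorProduct.lift_tmul, map_one, one_mul]
  obtain ⟨V, hV⟩ := h D M hM ⟨k, hk⟩ U ⟨k + j, fun x hx => by
    have hle := Ideal.sup_pow_add_le_pow_sup_pow hx
    refine (show _ ≤ RingHom.ker U.toRingHom from sup_le ?_ ?_) hle
    · rw [← Ideal.map_pow, Ideal.map_le_iff_le_comap]
      intro a ha
      show U (algebraMap A' (A' ⊗[A] B) a) = 0
      rw [U.commutes, IsScalarTower.algebraMap_apply A' D (D ⧸ M), (show algebraMap A' D a = 0 from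
        (Ideal.mem_bot).1 (hk ▸ Ideal.mem_map_of_mem _ ha)), map_zero]
    · rw [← Ideal.map_pow, Ideal.map_le_iff_le_comap]
      intro b hb
      show U ((1 : A') ⊗ₜ[A] b) = 0
      rw [hU, hj b hb]⟩
  refine ⟨(V.restrictScalars A).comp (Algebra.TensorProduct.includeRight (R := A) (A := A') (B := B)), fun b => ?_⟩
  rw [← hU b, ← hV]
  rfl

theorem exists_lift_of_retraction {A' : Type u} [CommRing A'] [Algebra A A'] (ρ : A' →ₗ[A] A) (hρ : ρ 1 = 1)
    {D : Type u} [CommRing D] [Algebra A D] (M : Ideal D) (hM : M * M = ⊥) (u' : B →ₐ[A] D ⧸ M)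
    (Vb : B →ₐ[A] A' ⊗[A] D)
    (f : D ⧸ M →ₐ[A] (A' ⊗[A] D) ⧸ M.map (Algebra.TensorProduct.includeRight : D →ₐ[A] A' ⊗[A] D).toRingHom)
    (hf : ∀ c : D, f (Ideal.Quotient.mk M c) = Ideal.Quotient.mk _ ((1 : A') ⊗ₜ[A] c))
    (hVb' : ∀ b, Ideal.Quotient.mk _ (Vb b) = f (u' b)) :
    ∃ v : B →ₐ[A] D, (Ideal.Quotient.mkₐ A M).comp v = u' := by
  let D' := A' ⊗[A] D
  let incl : D →ₐ[A] D' := Algebra.TensorProduct.includeRight
  let M' : Ideal D' := M.map incl.toRingHom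
  have hM' : M' * M' = ⊥ := by rw [← Ideal.map_mul, hM, Ideal.map_bot]
  let R : D' →ₗ[A] D := (TensorProduct.lid A D).toLinearMap ∘ₗ LinearMap.rTensor D ρ
  have hR1 : ∀ c : D, R ((1 : A') ⊗ₜ[A] c) = c := fun c => by
    show TensorProduct.lid A D (ρ 1 ⊗ₜ[A] c) = c
    rw [hρ, TensorProduct.lid_tmul, one_smul]
  have hRmul : ∀ (c : D) (z : D'), R (incl c * z) = c * R z := fun c z => by
    induction z using TensorProduct.induction_on with
    | zero => rw [mul_zero, map_zero, mul_zero]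
    | add x y hx hy => rw [mul_add, map_add, map_add, hx, hy, mul_add]
    | tmul a d =>
      rw [Algebra.TensorProduct.includeRight_apply, Algebra.TensorProduct.tmul_mul_tmul, one_mul]
      show TensorProduct.lid A D (ρ a ⊗ₜ[A] (c * d)) = c * TensorProduct.lid A D (ρ a ⊗ₜ[A] d)
      rw [TensorProduct.lid_tmul, TensorProduct.lid_tmul, mul_smul_comm]
  have hRM : ∀ z ∈ M', R z ∈ M := fun z hz => by
    suffices ∀ r, R (r * z) ∈ M by simpa using this 1
    change z ∈ Submodule.span D' (incl.toRingHom '' (M : Set D)) at hz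
    induction hz using Submodule.span_induction with
    | mem z hz =>
      obtain ⟨c, hc, rfl⟩ := hz
      intro r
      rw [mul_comm]
      show R (incl c * r) ∈ M
      rw [hRmul]; exact M.mul_mem_right _ hc
    | zero => intro r; rw [mul_zero, map_zero]; exact zero_mem _
    | add x y _ _ hx hy => intro r; rw [mul_add, map_add]; exact add_mem (hx r) (hy r)
    | smul r' z _ hz => intro r; rw [smul_eq_mul, ← mul_assoc]; exact hz _
  have hVb : ∀ b c, Ideal.Quotient.mk M c = u' b → Vb b - incl c ∈ M' := fun b c hc => by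
    rw [← Ideal.Quotient.eq, hVb', ← hc, hf]
    rfl
  have hMz : ∀ x ∈ M, ∀ y ∈ M, x * y = 0 := fun x hx y hy => by
    have := Ideal.mul_mem_mul hx hy
    rwa [hM, Ideal.mem_bot] at this
  have hM'z : ∀ x ∈ M', ∀ y ∈ M', x * y = 0 := fun x hx y hy => by
    have := Ideal.mul_mem_mul hx hy
    rwa [hM', Ideal.mem_bot] at this
  have hRincl : ∀ c, R (incl c) = c := hR1
  have hdiff : ∀ b c, Ideal.Quotient.mk M c = u' b → R (Vb b) - c ∈ M := fun b c hc => by
    have := hRM _ (hVb b c hc)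
    rwa [map_sub, hRincl] at this
  let v0 : B →ₐ[A] D := AlgHom.ofLinearMap (R ∘ₗ Vb.toLinearMap)
    (by show R (Vb 1) = 1; rw [map_one]; exact hR1 1)
    fun x y => by
      obtain ⟨cx, hcx⟩ := Ideal.Quotient.mk_surjective (u' x)
      obtain ⟨cy, hcy⟩ := Ideal.Quotient.mk_surjective (u' y)
      show R (Vb (x * y)) = R (Vb x) * R (Vb y)
      have h3 : Vb x * Vb y = incl cx * Vb y + (incl cy * (Vb x - incl cx) + (Vb x - incl cx) * (Vb y - incl cy)) := by
        ring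
      rw [map_mul, h3, hM'z _ (hVb x cx hcx) _ (hVb y cy hcy), add_zero, map_add, hRmul, hRmul, map_sub, hRincl]
      linear_combination - hMz _ (hdiff x cx hcx) _ (hdiff y cy hcy)
  refine ⟨v0, AlgHom.ext fun b => ?_⟩
  obtain ⟨c, hc⟩ := Ideal.Quotient.mk_surjective (u' b)
  show Ideal.Quotient.mk M (R (Vb b)) = u' b
  rw [← hc]
  exact Ideal.Quotient.eq.2 (hdiff b c hc)

/-- Formal smoothness descends along an algebra with a linear retraction. -/
theorem isFormallySmoothAdic_of_retraction {A' : Type u} [CommRing A'] [Algebra A A'] (ρ : A' →ₗ[A] A) (hρ : ρ 1 = 1)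
    {𝔞 : Ideal A} {𝔟 : Ideal B}
    (h : EGA41.IsFormallySmoothAdic A' (𝔞.map (algebraMap A A')) (A' ⊗[A] B)
        ((𝔞.map (algebraMap A A')).map (algebraMap A' (A' ⊗[A] B)) ⊔
          𝔟.map (Algebra.TensorProduct.includeRight : B →ₐ[A] A' ⊗[A] B).toRingHom)) :
    EGA41.IsFormallySmoothAdic A 𝔞 B 𝔟 := by
  classical
  intro C _ _ J ⟨N, hN⟩ ⟨k, hk⟩ u hu
  let I : ℕ → Ideal C := fun i => J ^ (i + 1)
  have hI0 : I 0 = J := pow_one J
  let e : (C ⧸ J) ≃ₐ[A] (C ⧸ I 0) := Ideal.quotientEquivAlgOfEq A hI0.symm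
  have hsq : ∀ i, I i * I i ≤ I (i + 1) := fun i => by rw [← pow_add]; exact Ideal.pow_le_pow_right (by omega)
  obtain ⟨v, hv⟩ := exists_lift_chain (𝔟 := 𝔟) I (fun i => Ideal.pow_le_pow_right (Nat.le_succ _)) hsq (N := N)
    (le_bot_iff.1 ((Ideal.pow_le_pow_right (Nat.le_succ N)).trans hN.le))
    (fun D _ _ π i M hπ hMdef hker u' ⟨j, hj⟩ => by
      have hM : M * M = ⊥ := by
        rw [hMdef, ← Ideal.map_mul, eq_bot_iff, Ideal.map_le_iff_le_comap]
        exact fun c hc => (Ideal.mem_bot).2 (hker c (hsq i hc))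
      let f : D ⧸ M →ₐ[A] (A' ⊗[A] D) ⧸ M.map (Algebra.TensorProduct.includeRight : D →ₐ[A] A' ⊗[A] D).toRingHom :=
        Ideal.Quotient.liftₐ M ((Ideal.Quotient.mkₐ A _).comp Algebra.TensorProduct.includeRight) fun z hz =>
          Ideal.Quotient.eq_zero_iff_mem.2 (Ideal.mem_map_of_mem
            (Algebra.TensorProduct.includeRight : D →ₐ[A] A' ⊗[A] D).toRingHom hz)
      obtain ⟨Vb, hVb⟩ := exists_lift_baseChange h
        (M.map (Algebra.TensorProduct.includeRight : D →ₐ[A] A' ⊗[A] D).toRingHom)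
        ⟨2, by rw [sq, ← Ideal.map_mul, hM, Ideal.map_bot]; rfl⟩ (k := k) (by
          rw [← Ideal.map_pow, Ideal.map_map, ← IsScalarTower.algebraMap_eq A A' (A' ⊗[A] D),
            ← (Algebra.TensorProduct.includeRight : D →ₐ[A] A' ⊗[A] D).comp_algebraMap, ← Ideal.map_map,
            ← π.comp_algebraMap, ← Ideal.map_map, hk, Ideal.map_bot, Ideal.map_bot])
        (f.comp u') (j := j) fun x hx => by rw [AlgHom.comp_apply, hj x hx, map_zero]
      exact exists_lift_of_retraction ρ hρ M hM u' Vb f (fun c => rfl) hVb)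
    (e.toAlgHom.comp u) (by
      obtain ⟨j, hj⟩ := hu
      exact ⟨j, fun x hx => by rw [AlgHom.comp_apply, hj x hx, map_zero]⟩)
  refine ⟨v, AlgHom.ext fun b => e.injective ?_⟩
  have := AlgHom.congr_fun hv b
  rw [AlgHom.comp_apply, AlgHom.comp_apply] at this
  rw [AlgHom.comp_apply]
  exact this

theorem exists_lift_quotient {R S : Type u} [CommRing R] [CommRing S] [Algebra R S] {𝔟 : Ideal S}
    (h : EGA41.IsFormallySmoothAdic R ⊥ S 𝔟) {E W : Type u} [CommRing E] [Algebra R E] [CommRing W]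
    (ρ : E →+* W) (hsq : ∀ x y, ρ x = 0 → ρ y = 0 → x * y = 0) (ψ : S →+* W) (hψ : ∀ x, ∃ z, ρ z = ψ x)
    (hR : ∀ r, ψ (algebraMap R S r) = ρ (algebraMap R E r)) {m : ℕ} (hm : ∀ x ∈ 𝔟 ^ m, ψ x = 0) :
    ∃ V : S →ₐ[R] E, ∀ x, ρ (V x) = ψ x := by
  let J := RingHom.ker ρ
  let ρ' : E ⧸ J →+* W := Ideal.Quotient.lift J ρ fun x hx => hx
  have hinj : Function.Injective ρ' := RingHom.lift_injective_of_ker_le_ideal J _ le_rfl
  choose z hz using hψ
  have hz' : ∀ x, ρ' (Ideal.Quotient.mk J (z x)) = ψ x := hz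
  let U : S →ₐ[R] E ⧸ J :=
    { toFun := fun x => Ideal.Quotient.mk J (z x)
      map_one' := hinj (by rw [hz', map_one, map_one])
      map_mul' := fun a b => hinj (by rw [hz', map_mul, map_mul, hz', hz'])
      map_zero' := hinj (by rw [hz', map_zero, map_zero])
      map_add' := fun a b => hinj (by rw [hz', map_add, map_add, hz', hz'])
      commutes' := fun r => hinj (by rw [hz', hR]; rfl) }
  obtain ⟨V, hV⟩ := h E J ⟨2, by
    rw [sq, Ideal.zero_eq_bot, eq_bot_iff, Ideal.mul_le]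
    exact fun x hx y hy => (Ideal.mem_bot).2 (hsq x y hx hy)⟩ ⟨1, by rw [pow_one, Ideal.map_bot]⟩ U
    ⟨m, fun x hx => hinj (by rw [map_zero]; exact (hz' x).trans (hm x hx))⟩
  refine ⟨V, fun x => ?_⟩
  exact (congrArg ρ' (AlgHom.congr_fun hV x)).trans (hz' x)

theorem exists_lift_of_smul_eq_zero {𝔞 : Ideal A} {𝔟 : Ideal B}
    (hproj : ∀ (n : ℕ) (P Q : Type u) [AddCommGroup P] [Module A P] [AddCommGroup Q] [Module A Q],
      (∀ a ∈ 𝔞 ^ n, ∀ y : P, a • y = 0) → (∀ a ∈ 𝔞 ^ n, ∀ y : Q, a • y = 0) →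
      ∀ f : P →ₗ[A] Q, Function.Surjective f → ∀ v : B →ₗ[A] Q, (∃ m : ℕ, ∀ x ∈ 𝔟 ^ m, v x = 0) →
        ∃ w : B →ₗ[A] P, (∃ m : ℕ, ∀ x ∈ 𝔟 ^ m, w x = 0) ∧ f ∘ₗ w = v)
    (h : EGA41.IsFormallySmoothAdic (A ⧸ 𝔞) ⊥ (B ⧸ 𝔞.map (algebraMap A B))
        (𝔟.map (Ideal.Quotient.mk (𝔞.map (algebraMap A B)))))
    {D : Type u} [CommRing D] [Algebra A D] (M : Ideal D) (k : ℕ) (hk : (𝔞 ^ k).map (algebraMap A D) = ⊥)
    (hMM : ∀ x ∈ M, ∀ y ∈ M, x * y = 0) (haM : ∀ a ∈ 𝔞, ∀ x ∈ M, algebraMap A D a * x = 0)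
    (u : B →ₐ[A] D ⧸ M) (hu : ∃ j : ℕ, ∀ x ∈ 𝔟 ^ j, u x = 0) :
    ∃ v : B →ₐ[A] D, (Ideal.Quotient.mkₐ A M).comp v = u := by
  classical
  have hkill : ∀ a ∈ 𝔞 ^ k, algebraMap A D a = 0 := fun a ha =>
    (Ideal.mem_bot).1 (hk ▸ Ideal.mem_map_of_mem _ ha)
  obtain ⟨w, ⟨m, hwm⟩, hw⟩ := hproj k D (D ⧸ M) (fun a ha y => by rw [Algebra.smul_def, hkill a ha, zero_mul])
    (fun a ha y => by
      rw [Algebra.smul_def, IsScalarTower.algebraMap_apply A D (D ⧸ M), hkill a ha, map_zero, zero_mul])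
    (Ideal.Quotient.mkₐ A M).toLinearMap Ideal.Quotient.mk_surjective u.toLinearMap hu
  have hw' : ∀ b, Ideal.Quotient.mk M (w b) = u b := fun b => LinearMap.congr_fun hw b
  have hw1 : w 1 - 1 ∈ M := by rw [← Ideal.Quotient.eq, hw', map_one, map_one]
  let K := 𝔞.map (algebraMap A B) ⊔ 𝔟 ^ m
  -- on `K` the linear lift is multiplicative and kills `M`
  have hK : ∀ x ∈ K, (∀ y, w (x * y) = w x * w y) ∧ ∀ z ∈ M, w x * z = 0 := fun x hx => by
    have hbase : ∀ x y, w (x * y) - w x * w y ∈ M := fun x y => by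
      rw [← Ideal.Quotient.eq, hw', map_mul (Ideal.Quotient.mk M), hw', hw', map_mul]
    obtain ⟨s, hs, t, ht, rfl⟩ := Submodule.mem_sup.1 hx
    have hs' : s ∈ 𝔞 • (⊤ : Submodule A B) := by rw [Ideal.smul_top_eq_map]; exact hs
    have ht0 : w t = 0 := hwm t ht
    have key : (∀ y, w (s * y) = w s * w y) ∧ ∀ z ∈ M, w s * z = 0 := by
      refine Submodule.smul_induction_on hs' (fun a ha b _ => ⟨fun y => ?_, fun z hz => ?_⟩)
        fun b c hb hc => ⟨fun y => by rw [add_mul, map_add, hb.1, hc.1, map_add, add_mul],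
          fun z hz => by rw [map_add, add_mul, hb.2 z hz, hc.2 z hz, add_zero]⟩
      · rw [smul_mul_assoc, map_smul, map_smul, ← sub_eq_zero, smul_mul_assoc, ← smul_sub, Algebra.smul_def]
        exact haM a ha _ (hbase b y)
      · rw [map_smul, smul_mul_assoc, Algebra.smul_def]
        exact haM a ha _ (M.mul_mem_left _ hz)
    refine ⟨fun y => ?_, fun z hz => by rw [map_add, ht0, add_zero]; exact key.2 z hz⟩
    rw [add_mul, map_add, key.1, hwm (t * y) (Ideal.mul_mem_right _ _ ht), map_add, ht0, add_zero, add_zero]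
  let T : Subalgebra A (B × D) := AlgHom.equalizer (u.comp (AlgHom.fst A B D))
    ((Ideal.Quotient.mkₐ A M).comp (AlgHom.snd A B D))
  have hT : ∀ p : T, u (p : B × D).1 = Ideal.Quotient.mk M (p : B × D).2 := fun p => p.2
  let I : Ideal T :=
    { carrier := {p | (p : B × D).1 ∈ K ∧ (p : B × D).2 = w (p : B × D).1}
      zero_mem' := ⟨zero_mem _, (map_zero w).symm⟩
      add_mem' := fun {p q} hp hq => ⟨add_mem hp.1 hq.1, by
        show (p : B × D).2 + (q : B × D).2 = w ((p : B × D).1 + (q : B × D).1)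
        rw [map_add, hp.2, hq.2]⟩
      smul_mem' := fun r p hp => ⟨Ideal.mul_mem_left _ _ hp.1, by
        show (r : B × D).2 * (p : B × D).2 = w ((r : B × D).1 * (p : B × D).1)
        rw [hp.2, mul_comm (r : B × D).1, (hK _ hp.1).1, ← sub_eq_zero, mul_comm (w (p : B × D).1), ← sub_mul, mul_comm]
        exact (hK _ hp.1).2 _ (by rw [← Ideal.Quotient.eq, hw', ← hT r])⟩ }
  let E := T ⧸ I
  have hwa : ∀ a ∈ 𝔞, w (algebraMap A B a) = algebraMap A D a := fun a ha => by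
    rw [Algebra.algebraMap_eq_smul_one, map_smul, ← sub_eq_zero, Algebra.algebraMap_eq_smul_one (A := D), ← smul_sub,
      Algebra.smul_def]
    exact haM a ha _ hw1
  letI : Algebra (A ⧸ 𝔞) E := @RingHom.toAlgebra (A ⧸ 𝔞) E _ (Ideal.Quotient.commRing I).toCommSemiring
    (Ideal.Quotient.lift 𝔞 (algebraMap A E) fun a ha => by
    rw [← Ideal.Quotient.mk_algebraMap, Ideal.Quotient.eq_zero_iff_mem]
    exact ⟨Ideal.mem_sup_left (Ideal.mem_map_of_mem _ ha), (hwa a ha).symm⟩)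
  let r : E →+* B ⧸ K := Ideal.Quotient.lift I ((Ideal.Quotient.mk K).comp ((RingHom.fst B D).comp T.val.toRingHom))
    fun p hp => Ideal.Quotient.eq_zero_iff_mem.2 hp.1
  have hr : ∀ p : T, r (Ideal.Quotient.mk I p) = Ideal.Quotient.mk K (p : B × D).1 := fun p => rfl
  obtain ⟨V, hV⟩ := exists_lift_quotient h (E := E) (W := B ⧸ K) r (fun x y hx hy => by
    obtain ⟨p, rfl⟩ := Ideal.Quotient.mk_surjective (I := I) x
    obtain ⟨q, rfl⟩ := Ideal.Quotient.mk_surjective (I := I) y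
    rw [hr, Ideal.Quotient.eq_zero_iff_mem] at hx hy
    rw [← map_mul, Ideal.Quotient.eq_zero_iff_mem]
    refine ⟨Ideal.mul_mem_right _ _ hx, ?_⟩
    show (p : B × D).2 * (q : B × D).2 = w ((p : B × D).1 * (q : B × D).1)
    have e1 : (p : B × D).2 - w (p : B × D).1 ∈ M := by rw [← Ideal.Quotient.eq, hw', ← hT p]
    have e2 : (q : B × D).2 - w (q : B × D).1 ∈ M := by rw [← Ideal.Quotient.eq, hw', ← hT q]
    rw [(hK _ hx).1]
    linear_combination hMM _ e1 _ e2 + (hK _ hx).2 _ e2 + (hK _ hy).2 _ e1)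
    (Ideal.Quotient.lift (𝔞.map (algebraMap A B)) (Ideal.Quotient.mk K) fun x hx =>
      Ideal.Quotient.eq_zero_iff_mem.2 (Ideal.mem_sup_left hx))
    (fun x => by
      obtain ⟨x, rfl⟩ := Ideal.Quotient.mk_surjective x
      exact ⟨Ideal.Quotient.mk I ⟨(x, w x), (hw' x).symm⟩, rfl⟩)
    (fun a => by
      obtain ⟨a, rfl⟩ := Ideal.Quotient.mk_surjective a
      rfl)
    (m := m) (fun x hx => by
      rw [← Ideal.map_pow, Ideal.mem_map_iff_of_surjective _ Ideal.Quotient.mk_surjective] at hx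
      obtain ⟨x, hx, rfl⟩ := hx
      exact Ideal.Quotient.eq_zero_iff_mem.2 (Ideal.mem_sup_right hx))
  -- the representative with first coordinate `b`
  have hex : ∀ b, ∃ p : T, (p : B × D).1 = b ∧ Ideal.Quotient.mk I p = V (Ideal.Quotient.mk _ b) := fun b => by
    obtain ⟨p, hp⟩ := Ideal.Quotient.mk_surjective (V (Ideal.Quotient.mk _ b))
    have h1 : (p : B × D).1 - b ∈ K := by
      rw [← Ideal.Quotient.eq, ← hr, hp, hV]; rfl
    let d : T := ⟨(b - (p : B × D).1, w (b - (p : B × D).1)), (hw' _).symm⟩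
    have hd : d ∈ I := ⟨by
      show b - (p : B × D).1 ∈ K
      rw [← neg_sub]; exact neg_mem h1, rfl⟩
    exact ⟨p + d, add_sub_cancel _ _, by rw [map_add, Ideal.Quotient.eq_zero_iff_mem.2 hd, add_zero, hp]⟩
  choose p hp1 hp2 using hex
  have huniq : ∀ (b : B) (q : T), (q : B × D).1 = b → Ideal.Quotient.mk I q = V (Ideal.Quotient.mk _ b) →
      (q : B × D).2 = (p b : B × D).2 := fun b q h1 h2 => by
    obtain ⟨-, h3⟩ : q - p b ∈ I := Ideal.Quotient.eq.1 (h2.trans (hp2 b).symm)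
    have h4 : (q : B × D).2 - (p b : B × D).2 = w ((q : B × D).1 - (p b : B × D).1) := h3
    rwa [h1, hp1, sub_self, map_zero, sub_eq_zero] at h4
  refine ⟨{ toFun := fun b => (p b : B × D).2
            map_one' := (huniq 1 1 rfl (by rw [map_one, map_one, map_one])).symm
            map_mul' := fun x y => (huniq (x * y) (p x * p y) (congrArg₂ (· * ·) (hp1 x) (hp1 y))
              (by rw [map_mul, map_mul, map_mul, hp2, hp2])).symm
            map_zero' := (huniq 0 0 rfl (by rw [map_zero, map_zero, map_zero])).symm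
            map_add' := fun x y => (huniq (x + y) (p x + p y) (congrArg₂ (· + ·) (hp1 x) (hp1 y))
              (by rw [map_add, map_add, map_add, hp2, hp2])).symm
            commutes' := fun a => (huniq (algebraMap A B a) (algebraMap A T a) rfl
              (V.commutes (Ideal.Quotient.mk 𝔞 a)).symm).symm }, AlgHom.ext fun b => ?_⟩
  show Ideal.Quotient.mk M (p b : B × D).2 = u b
  rw [← hT, hp1]

/-- Smoothness modulo an ideal of definition gives smoothness for formally projective algebras. -/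
theorem isFormallySmoothAdic_of_quotient {𝔞 : Ideal A} {𝔟 : Ideal B}
    (hproj : ∀ (n : ℕ) (P Q : Type u) [AddCommGroup P] [Module A P] [AddCommGroup Q] [Module A Q],
      (∀ a ∈ 𝔞 ^ n, ∀ y : P, a • y = 0) → (∀ a ∈ 𝔞 ^ n, ∀ y : Q, a • y = 0) →
      ∀ f : P →ₗ[A] Q, Function.Surjective f → ∀ v : B →ₗ[A] Q, (∃ m : ℕ, ∀ x ∈ 𝔟 ^ m, v x = 0) →
        ∃ w : B →ₗ[A] P, (∃ m : ℕ, ∀ x ∈ 𝔟 ^ m, w x = 0) ∧ f ∘ₗ w = v)
    (h : EGA41.IsFormallySmoothAdic (A ⧸ 𝔞) ⊥ (B ⧸ 𝔞.map (algebraMap A B))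
        (𝔟.map (Ideal.Quotient.mk (𝔞.map (algebraMap A B))))) :
    EGA41.IsFormallySmoothAdic A 𝔞 B 𝔟 := by
  classical
  intro C _ _ J ⟨N, hN⟩ ⟨k, hk⟩ u hu
  let M0 := J ⊔ 𝔞.map (algebraMap A C)
  let I : ℕ → Ideal C := fun i => J * M0 ^ i
  have hI0 : I 0 = J := by show J * M0 ^ 0 = J; rw [pow_zero, mul_one]
  let e : (C ⧸ J) ≃ₐ[A] (C ⧸ I 0) := Ideal.quotientEquivAlgOfEq A hI0.symm
  have hnil : M0 ^ (N + k) = ⊥ := le_bot_iff.1 ((Ideal.sup_pow_add_le_pow_sup_pow).trans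
    (sup_le hN.le (by rw [← Ideal.map_pow]; exact hk.le)))
  have hsq : ∀ i, I i * I i ≤ I (i + 1) := fun i => by
    show J * M0 ^ i * (J * M0 ^ i) ≤ J * M0 ^ (i + 1)
    rw [pow_succ, ← mul_assoc J]
    exact Ideal.mul_mono_right ((Ideal.mul_le_inf.trans inf_le_left).trans (le_sup_left : J ≤ M0))
  have hanti : ∀ i, I (i + 1) ≤ I i := fun i => Ideal.mul_mono_right (Ideal.pow_le_pow_right (Nat.le_succ i))
  obtain ⟨v, hv⟩ := exists_lift_chain (𝔟 := 𝔟) I hanti hsq (N := N + k)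
    (by show J * M0 ^ (N + k) = ⊥; rw [hnil, Ideal.mul_bot]) (fun D _ _ π i M hπ hMdef hker u' hu' => by
      refine exists_lift_of_smul_eq_zero hproj h M k ?_ ?_ ?_ u' hu'
      · rw [← π.comp_algebraMap, ← Ideal.map_map, hk, Ideal.map_bot]
      · intro x hx y hy
        have h1 := Ideal.mul_mem_mul hx hy
        rw [hMdef, ← Ideal.map_mul] at h1
        obtain ⟨c, hc, hcx⟩ := (Ideal.mem_map_iff_of_surjective _ hπ).1 h1
        rw [← hcx]; exact hker c (hsq i hc)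
      · intro a ha x hx
        rw [hMdef] at hx
        obtain ⟨y, hy, rfl⟩ := (Ideal.mem_map_iff_of_surjective _ hπ).1 hx
        show algebraMap A D a * π y = 0
        rw [← π.commutes, ← map_mul]
        refine hker _ ?_
        show algebraMap A C a * y ∈ J * M0 ^ (i + 1)
        rw [mul_comm (algebraMap A C a) y, pow_succ, ← mul_assoc J]
        exact Ideal.mul_mem_mul hy (Ideal.mem_sup_right (Ideal.mem_map_of_mem _ ha)))
    (e.toAlgHom.comp u) (by
      obtain ⟨j, hj⟩ := hu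
      exact ⟨j, fun x hx => by rw [AlgHom.comp_apply, hj x hx, map_zero]⟩)
  refine ⟨v, AlgHom.ext fun b => e.injective ?_⟩
  have := AlgHom.congr_fun hv b
  rw [AlgHom.comp_apply, AlgHom.comp_apply] at this
  rw [AlgHom.comp_apply]
  exact this

end Groth.Agent.EGA41Lib.FPS
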