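import Mathlib
import Groth.Agent.EGA41Lib.PBasisKaehler
import Groth.Agent.EGA41Lib.FieldSeparableSmooth

/-!
# Subrings of power series rings containing the `p`-th powers
-/

set_option autoImplicit false
set_option backward.isDefEq.respectTransparency.types false

universe u

open MvPowerSeries

namespace Groth.Agent.EGA41Lib.FS

variable (p : ℕ) [hp : Fact p.Prime] {K : Type u} [Field K] [CharP K p] (M : Subfield K) (n : ℕ)

/-- `M[[T^p]]` inside `K[[T]]`, as a map. -/
noncomputable def stageHom : MvPowerSeries (Fin n) M →+* MvPowerSeries (Fin n) K :=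
  (MvPowerSeries.expand p hp.out.ne_zero).toRingHom.comp (MvPowerSeries.map M.subtype)

/-- `M[[T^p]]` inside `K[[T]]`. -/
noncomputable def stage : Subring (MvPowerSeries (Fin n) K) := (stageHom p M n).range

variable {p M n}

omit [CharP K p] in
theorem mem_stage_iff {f : MvPowerSeries (Fin n) K} :
    f ∈ stage p M n ↔ (∀ q, coeff q f ∈ M) ∧ ∀ q i, ¬ p ∣ q i → coeff q f = 0 := by
  constructor
  · rintro ⟨g, rfl⟩
    refine ⟨fun q => ?_, fun q i hi => coeff_expand_of_not_dvd p hp.out.ne_zero _ hi⟩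
    show coeff q (expand p hp.out.ne_zero (MvPowerSeries.map M.subtype g)) ∈ M
    by_cases h : ∀ i, p ∣ q i
    · obtain ⟨m, rfl⟩ : ∃ m, p • m = q := ⟨q.mapRange (fun a => a / p) (by simp),
        by ext i; simp [(Nat.mul_div_cancel' (h i))]⟩
      rw [coeff_expand_smul, coeff_map]
      exact (coeff m g).2
    · push_neg at h
      obtain ⟨i, hi⟩ := h
      rw [coeff_expand_of_not_dvd p hp.out.ne_zero _ hi]
      exact zero_mem _
  · rintro ⟨h1, h2⟩
    let g : MvPowerSeries (Fin n) M := fun m => (⟨coeff (p • m) f, h1 _⟩ : M)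
    refine ⟨g, MvPowerSeries.ext fun q => ?_⟩
    show coeff q (expand p hp.out.ne_zero (MvPowerSeries.map M.subtype g)) = coeff q f
    by_cases h : ∀ i, p ∣ q i
    · obtain ⟨m, rfl⟩ : ∃ m, p • m = q := ⟨q.mapRange (fun a => a / p) (by simp),
        by ext i; simp [(Nat.mul_div_cancel' (h i))]⟩
      rw [coeff_expand_smul, coeff_map]
      rfl
    · push_neg at h
      obtain ⟨i, hi⟩ := h
      rw [coeff_expand_of_not_dvd p hp.out.ne_zero _ hi, h2 q i hi]

theorem pow_mem_stage (hM : ∀ x : K, x ^ p ∈ M) (f : MvPowerSeries (Fin n) K) : f ^ p ∈ stage p M n := by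
  rw [← map_frobenius_expand p hp.out.ne_zero, map_expand, mem_stage_iff]
  refine ⟨fun q => ?_, fun q i hi => coeff_expand_of_not_dvd p hp.out.ne_zero _ hi⟩
  by_cases h : ∀ i, p ∣ q i
  · obtain ⟨m, rfl⟩ : ∃ m, p • m = q := ⟨q.mapRange (fun a => a / p) (by simp),
      by ext i; simp [(Nat.mul_div_cancel' (h i))]⟩
    rw [coeff_expand_smul, coeff_map]
    exact hM _
  · push_neg at h
    obtain ⟨i, hi⟩ := h
    rw [coeff_expand_of_not_dvd p hp.out.ne_zero _ hi]
    exact zero_mem _

omit [CharP K p] in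
theorem C_mem_stage {a : K} (ha : a ∈ M) : (MvPowerSeries.C a : MvPowerSeries (Fin n) K) ∈ stage p M n := by
  classical
  rw [mem_stage_iff]
  refine ⟨fun q => ?_, fun q i hi => ?_⟩
  · rw [coeff_C]; split_ifs
    · exact ha
    · exact zero_mem _
  · rw [coeff_C, if_neg]
    rintro rfl
    exact hi (by simp)

omit [CharP K p] in
theorem stage_mono {M' : Subfield K} (h : M ≤ M') : stage p M n ≤ stage p M' n := fun f hf => by
  rw [mem_stage_iff] at hf ⊢
  exact ⟨fun q => h (hf.1 q), hf.2⟩

omit [CharP K p] in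
theorem isNoetherianRing_stage : IsNoetherianRing (stage p M n) :=
  isNoetherianRing_of_surjective _ _ (stageHom p M n).rangeRestrict (stageHom p M n).rangeRestrict_surjective

/-- The exponent vector. -/
noncomputable def expo (e : Fin n → Fin p) : Fin n →₀ ℕ := Finsupp.equivFunOnFinite.symm fun i => (e i : ℕ)

omit hp [CharP K p] in
theorem expo_apply (e : Fin n → Fin p) (i : Fin n) : expo e i = (e i : ℕ) := rfl

section Basis

variable {κ : Type*} [Fintype κ] (w : Module.Basis κ M K)

omit [CharP K p] in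
theorem coeff_sum (c : (Fin n → Fin p) × κ → stage p M n) (e₀ : Fin n → Fin p) (q : Fin n →₀ ℕ)
    (hq : ∀ i, p ∣ q i) :
    coeff (expo e₀ + q) (∑ x, (c x : MvPowerSeries (Fin n) K) * monomial (expo x.1) (w x.2)) =
      ∑ μ, coeff q (c (e₀, μ) : MvPowerSeries (Fin n) K) * w μ := by
  classical
  rw [map_sum, Fintype.sum_prod_type, Finset.sum_eq_single e₀ (fun e _ he => ?_) (fun h => absurd (Finset.mem_univ _) h)]
  · refine Finset.sum_congr rfl fun μ _ => ?_
    rw [coeff_mul_monomial, if_pos le_self_add, add_tsub_cancel_left]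
  · refine Finset.sum_eq_zero fun μ _ => ?_
    rw [coeff_mul_monomial]
    split_ifs with hle
    · obtain ⟨i, hi⟩ : ∃ i, e i ≠ e₀ i := by
        by_contra! h; exact he (funext h)
      rw [(mem_stage_iff.1 (c (e, μ)).2).2 _ i ?_, zero_mul]
      intro hd
      refine hi (Fin.ext ?_)
      have h1 : (e i : ℕ) ≤ (e₀ i : ℕ) + q i := hle i
      have h2 : p ∣ (e₀ i : ℕ) + q i - (e i : ℕ) := hd
      obtain ⟨a, ha⟩ := hq i
      obtain ⟨b, hb⟩ := h2
      have h3 : (e i : ℕ) + p * b = (e₀ i : ℕ) + p * a := by omega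
      have h4 := congrArg (· % p) h3
      simp only [Nat.add_mul_mod_self_left, Nat.mod_eq_of_lt (e i).2, Nat.mod_eq_of_lt (e₀ i).2] at h4
      exact h4
    · rfl

omit [CharP K p] in
theorem exists_basis : ∃ B : Module.Basis ((Fin n → Fin p) × κ) (stage p M n) (MvPowerSeries (Fin n) K),
    ∀ x, B x = monomial (expo x.1) (w x.2) := by
  classical
  have hli : LinearIndependent (stage p M n)
      fun x : (Fin n → Fin p) × κ => (monomial (expo x.1) (w x.2) : MvPowerSeries (Fin n) K) := by
    rw [Fintype.linearIndependent_iff]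
    intro c hc x
    refine Subtype.ext (MvPowerSeries.ext fun q => ?_)
    show coeff q (c x : MvPowerSeries (Fin n) K) = coeff q 0
    rw [map_zero]
    by_cases hq : ∀ i, p ∣ q i
    · have h := coeff_sum w c x.1 q hq
      rw [show ∑ y, (c y : MvPowerSeries (Fin n) K) * monomial (expo y.1) (w y.2) = 0 from hc, map_zero] at h
      have h' : ∑ μ, (⟨_, (mem_stage_iff.1 (c (x.1, μ)).2).1 q⟩ : M) • w μ = 0 := h.symm
      exact congrArg Subtype.val (Fintype.linearIndependent_iff.1 w.linearIndependent _ h' x.2)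
    · push_neg at hq
      obtain ⟨i, hi⟩ := hq
      exact (mem_stage_iff.1 (c x).2).2 q i hi
  have hsp : ⊤ ≤ Submodule.span (stage p M n)
      (Set.range fun x : (Fin n → Fin p) × κ => (monomial (expo x.1) (w x.2) : MvPowerSeries (Fin n) K)) := fun f _ => by
    rw [Submodule.mem_span_range_iff_exists_fun]
    let g : (Fin n → Fin p) × κ → MvPowerSeries (Fin n) K := fun x q =>
      if ∀ i, p ∣ q i then (w.repr (coeff (expo x.1 + q) f) x.2 : K) else 0
    have hg : ∀ x, g x ∈ stage p M n := fun x => by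
      rw [mem_stage_iff]
      refine ⟨fun q => ?_, fun q i hi => ?_⟩
      · show (if _ then _ else _) ∈ M
        split_ifs
        · exact Subtype.coe_prop _
        · exact zero_mem _
      · show (if _ then _ else _) = _
        rw [if_neg fun h => hi (h i)]
    refine ⟨fun x => ⟨g x, hg x⟩, MvPowerSeries.ext fun Q => ?_⟩
    let e₀ : Fin n → Fin p := fun i => ⟨Q i % p, Nat.mod_lt _ hp.out.pos⟩
    let q : Fin n →₀ ℕ := Finsupp.equivFunOnFinite.symm fun i => p * (Q i / p)
    have hQ : expo e₀ + q = Q := Finsupp.ext fun i => Nat.mod_add_div (Q i) p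
    rw [← hQ]
    show coeff _ (∑ x, g x * monomial (expo x.1) (w x.2)) = _
    rw [coeff_sum w (fun x => ⟨g x, hg x⟩) e₀ q fun i => dvd_mul_right p _]
    conv_rhs => rw [← w.sum_repr (coeff (expo e₀ + q) f)]
    refine Finset.sum_congr rfl fun μ _ => ?_
    show (if ∀ i, p ∣ q i then _ else _) * w μ = _
    rw [if_pos (show ∀ i, p ∣ q i from fun i => dvd_mul_right p _)]
    rfl
  exact ⟨Module.Basis.mk hli hsp, fun x => Module.Basis.mk_apply hli hsp x⟩

end Basis

omit [CharP K p] in
/-- `stage` is saturated in `K[[T]]`. -/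
theorem mem_stage_of_mul_mem [Module.Finite M K] {a v : MvPowerSeries (Fin n) K} (hv : v ∈ stage p M n) (hv0 : v ≠ 0)
    (h : v * a ∈ stage p M n) : a ∈ stage p M n := by
  classical
  let w := Module.finBasis M K
  obtain ⟨B, hB⟩ := exists_basis (p := p) (n := n) w
  let r : Fin (Module.finrank M K) → M := fun μ => w.repr 1 μ
  let e₀ : Fin n → Fin p := fun _ => ⟨0, hp.out.pos⟩
  have hexp : expo e₀ = 0 := Finsupp.ext fun i => rfl
  let c : (Fin n → Fin p) × Fin (Module.finrank M K) → stage p M n := fun x =>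
    if x.1 = e₀ then ⟨MvPowerSeries.C (r x.2 : K), C_mem_stage (r x.2).2⟩ else 0
  have h1 : ∑ x, c x • B x = (1 : MvPowerSeries (Fin n) K) := by
    rw [Fintype.sum_prod_type, Finset.sum_eq_single e₀ (fun e _ he => ?_) (fun h => absurd (Finset.mem_univ _) h)]
    · simp only [c, if_pos, hB, hexp]
      show ∑ μ, MvPowerSeries.C (r μ : K) * monomial 0 (w μ) = 1
      simp only [monomial_zero_eq_C_apply, ← map_mul, ← map_sum]
      rw [show ∑ μ, (r μ : K) * w μ = 1 from w.sum_repr 1, map_one]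
    · exact Finset.sum_eq_zero fun μ _ => by simp [c, he]
  have hu : B.repr (v * a) = (⟨v * a, h⟩ : stage p M n) • B.repr 1 := by
    rw [← map_smul]; congr 1; exact (mul_one (v * a)).symm
  have hva : B.repr (v * a) = (⟨v, hv⟩ : stage p M n) • B.repr a := by rw [← map_smul]; rfl
  obtain ⟨μ, hμ⟩ : ∃ μ, r μ ≠ 0 := by
    by_contra! hall
    apply one_ne_zero (α := K)
    rw [← w.sum_repr 1]
    exact Finset.sum_eq_zero fun μ _ => by rw [show w.repr 1 μ = 0 from hall μ, zero_smul]
  have hrepr : B.repr 1 (e₀, μ) = ⟨MvPowerSeries.C (r μ : K), C_mem_stage (r μ).2⟩ := by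
    rw [← h1, B.repr_sum_self]; exact if_pos rfl
  have key : v * ((B.repr a (e₀, μ) : stage p M n) : MvPowerSeries (Fin n) K) = v * a * MvPowerSeries.C (r μ : K) := by
    have := congrArg Subtype.val (DFunLike.congr_fun (hva.symm.trans hu) (e₀, μ))
    rw [Finsupp.smul_apply, Finsupp.smul_apply, hrepr] at this
    exact this
  rw [mul_assoc] at key
  have key' := mul_left_cancel₀ hv0 key
  have ha : a = ((B.repr a (e₀, μ) : stage p M n) : MvPowerSeries (Fin n) K) * MvPowerSeries.C ((r μ : K)⁻¹) := by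
    rw [key', mul_assoc, ← map_mul, mul_inv_cancel₀ (fun hz => hμ (Subtype.ext hz)), map_one, mul_one]
  rw [ha]
  exact mul_mem (Subtype.coe_prop _) (C_mem_stage (inv_mem (r μ).2))

variable (p) in
/-- An element lying in every stage is a `p`-th power. -/
theorem exists_pow_eq_of_forall_mem_stage {ι : Type*} [Nonempty ι] (Mf : ι → Subfield K)
    (hint : ∀ x : K, (∀ i, x ∈ Mf i) → ∃ y, y ^ p = x) {f : MvPowerSeries (Fin n) K}
    (hf : ∀ i, f ∈ stage p (Mf i) n) : ∃ g, g ^ p = f := by
  choose y hy using fun m : Fin n →₀ ℕ => hint (coeff (p • m) f) fun i => (mem_stage_iff.1 (hf i)).1 _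
  refine ⟨(fun m => y m : MvPowerSeries (Fin n) K), MvPowerSeries.ext fun q => ?_⟩
  rw [← map_frobenius_expand p hp.out.ne_zero, coeff_map]
  by_cases h : ∀ i, p ∣ q i
  · obtain ⟨m, rfl⟩ : ∃ m, p • m = q := ⟨q.mapRange (fun a => a / p) (by simp),
      by ext i; simp [(Nat.mul_div_cancel' (h i))]⟩
    rw [coeff_expand_smul]
    exact hy m
  · push_neg at h
    obtain ⟨i, hi⟩ := h
    rw [coeff_expand_of_not_dvd p hp.out.ne_zero _ hi, map_zero,
      (mem_stage_iff.1 (hf (Classical.arbitrary ι))).2 q i hi]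

section Frac

variable (L : Type*) [Field L] [Algebra (MvPowerSeries (Fin n) K) L] [IsFractionRing (MvPowerSeries (Fin n) K) L]

variable (p M n) in
/-- The field of fractions of a stage inside that of `K[[T]]`. -/
noncomputable def fracStage : Subfield L := Subfield.closure (algebraMap (MvPowerSeries (Fin n) K) L '' stage p M n)

variable {L}

omit [CharP K p] [IsFractionRing (MvPowerSeries (Fin n) K) L] in
theorem algebraMap_mem_fracStage {f : MvPowerSeries (Fin n) K} (hf : f ∈ stage p M n) :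
    algebraMap _ L f ∈ fracStage p M n L := Subfield.subset_closure ⟨f, hf, rfl⟩

omit [CharP K p] in
theorem exists_eq_div_of_mem_fracStage {x : L} (hx : x ∈ fracStage p M n L) :
    ∃ u ∈ stage p M n, ∃ v ∈ stage p M n, v ≠ 0 ∧ x = algebraMap _ L u / algebraMap _ L v := by
  obtain ⟨y, hy, z, hz, rfl⟩ := Subfield.mem_closure_iff.1 hx
  have hle : Subring.closure (algebraMap (MvPowerSeries (Fin n) K) L '' stage p M n) ≤
      (stage p M n).map (algebraMap (MvPowerSeries (Fin n) K) L) := by
    rw [Subring.closure_le]; rintro _ ⟨f, hf, rfl⟩; exact ⟨f, hf, rfl⟩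
  obtain ⟨u, hu, rfl⟩ := hle hy
  obtain ⟨v, hv, rfl⟩ := hle hz
  by_cases hv0 : v = 0
  · subst hv0
    exact ⟨0, zero_mem _, 1, one_mem _, one_ne_zero, by simp⟩
  · exact ⟨u, hu, v, hv, hv0, rfl⟩

omit [CharP K p] in
theorem mem_stage_of_algebraMap_mem [Module.Finite M K] {a : MvPowerSeries (Fin n) K}
    (ha : algebraMap _ L a ∈ fracStage p M n L) : a ∈ stage p M n := by
  obtain ⟨u, hu, v, hv, hv0, h⟩ := exists_eq_div_of_mem_fracStage ha
  refine mem_stage_of_mul_mem hv hv0 ?_
  have hv' : algebraMap (MvPowerSeries (Fin n) K) L v ≠ 0 :=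
    fun h0 => hv0 (IsFractionRing.injective (MvPowerSeries (Fin n) K) L (h0.trans (map_zero _).symm))
  rw [eq_div_iff hv', ← map_mul] at h
  rw [mul_comm, IsFractionRing.injective (MvPowerSeries (Fin n) K) L h]
  exact hu

theorem pow_mem_fracStage (hM : ∀ x : K, x ^ p ∈ M) (x : L) : x ^ p ∈ fracStage p M n L := by
  obtain ⟨a, b, -, rfl⟩ := IsFractionRing.div_surjective (A := MvPowerSeries (Fin n) K) x
  rw [div_pow, ← map_pow, ← map_pow]
  exact div_mem (algebraMap_mem_fracStage (pow_mem_stage hM a)) (algebraMap_mem_fracStage (pow_mem_stage hM b))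

/-- The degree over a stage is at most `p ^ n * [K : M]`. -/
theorem finite_fracStage [Module.Finite M K] (hM : ∀ x : K, x ^ p ∈ M) :
    Module.Finite (fracStage p M n L) L ∧ Module.finrank (fracStage p M n L) L ≤ p ^ n * Module.finrank M K := by
  classical
  let w := Module.finBasis M K
  obtain ⟨B, -⟩ := exists_basis (p := p) (n := n) w
  let v : (Fin n → Fin p) × Fin (Module.finrank M K) → L := fun x => algebraMap _ L (B x)
  have hsp : Submodule.span (fracStage p M n L) (Set.range v) = ⊤ := by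
    refine eq_top_iff.2 fun x _ => ?_
    obtain ⟨a, b, hb, rfl⟩ := IsFractionRing.div_surjective (A := MvPowerSeries (Fin n) K) x
    have hb' : algebraMap (MvPowerSeries (Fin n) K) L b ≠ 0 :=
      fun h0 => nonZeroDivisors.ne_zero hb (IsFractionRing.injective (MvPowerSeries (Fin n) K) L (h0.trans (map_zero _).symm))
    have e : algebraMap _ L a / algebraMap _ L b =
        ((algebraMap _ L b) ^ p)⁻¹ * algebraMap _ L (a * b ^ (p - 1)) := by
      rw [map_mul, map_pow, eq_comm, inv_mul_eq_div, div_eq_div_iff (pow_ne_zero _ hb') hb', mul_assoc, ← pow_succ,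
        Nat.sub_add_cancel hp.out.one_le]
    rw [e]
    rw [show ((algebraMap (MvPowerSeries (Fin n) K) L b) ^ p)⁻¹ * algebraMap _ L (a * b ^ (p - 1)) =
      (⟨_, inv_mem (pow_mem_fracStage hM _)⟩ : fracStage p M n L) • algebraMap _ L (a * b ^ (p - 1)) from rfl]
    refine Submodule.smul_mem _ _ ?_
    rw [← B.sum_repr (a * b ^ (p - 1)), map_sum]
    refine Submodule.sum_mem _ fun i _ => ?_
    rw [show algebraMap (MvPowerSeries (Fin n) K) L (B.repr (a * b ^ (p - 1)) i • B i) =
        (⟨_, algebraMap_mem_fracStage (B.repr (a * b ^ (p - 1)) i).2⟩ : fracStage p M n L) • v i from map_mul _ _ _]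
    exact Submodule.smul_mem _ _ (Submodule.subset_span ⟨i, rfl⟩)
  haveI hfin : Module.Finite (fracStage p M n L) L := ⟨⟨Finset.univ.image v, by simpa using hsp⟩⟩
  refine ⟨hfin, ?_⟩
  have h := finrank_range_le_card (R := fracStage p M n L) v
  rw [Set.finrank, hsp, finrank_top] at h
  simpa [Fintype.card_prod] using h

variable (p) in
/-- The fraction fields of the stages intersect in the `p`-th powers. -/
theorem exists_pow_eq_of_forall_mem_fracStage {ι : Type*} [Nonempty ι] (Mf : ι → Subfield K)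
    (hM : ∀ i (x : K), x ^ p ∈ Mf i) (hfin : ∀ i, Module.Finite (Mf i) K)
    (hint : ∀ x : K, (∀ i, x ∈ Mf i) → ∃ y, y ^ p = x) {x : L} (hx : ∀ i, x ∈ fracStage p (Mf i) n L) :
    ∃ y, y ^ p = x := by
  obtain ⟨a, b, hb, rfl⟩ := IsFractionRing.div_surjective (A := MvPowerSeries (Fin n) K) x
  have hb' : algebraMap (MvPowerSeries (Fin n) K) L b ≠ 0 :=
    fun h0 => nonZeroDivisors.ne_zero hb (IsFractionRing.injective (MvPowerSeries (Fin n) K) L (h0.trans (map_zero _).symm))
  have key : algebraMap _ L (a * b ^ (p - 1)) = algebraMap _ L a / algebraMap _ L b * (algebraMap _ L b) ^ p := by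
    rw [map_mul, map_pow, div_mul_eq_mul_div, eq_div_iff hb', mul_assoc, ← pow_succ, Nat.sub_add_cancel hp.out.one_le]
  obtain ⟨g, hg⟩ := exists_pow_eq_of_forall_mem_stage p Mf hint (f := a * b ^ (p - 1)) fun i => by
    haveI := hfin i
    refine mem_stage_of_algebraMap_mem (L := L) ?_
    rw [key]
    exact mul_mem (hx i) (pow_mem_fracStage (hM i) _)
  refine ⟨algebraMap _ L g / algebraMap _ L b, ?_⟩
  rw [div_pow, ← map_pow, hg, key, mul_div_assoc, div_self (pow_ne_zero _ hb'), mul_one]

end Frac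

variable (p K) in
/-- A directed family of subfields of finite index intersecting in the `p`-th powers. -/
theorem exists_family : ∃ (ι : Type u) (_ : Nonempty ι) (Mf : ι → Subfield K),
    (∀ a b, ∃ c, Mf c ≤ Mf a ∧ Mf c ≤ Mf b) ∧ (∀ i, (∀ x : K, x ^ p ∈ Mf i) ∧ Module.Finite (Mf i) K) ∧
      ∀ x : K, (∀ i, x ∈ Mf i) → ∃ y, y ^ p = x := by
  classical
  obtain ⟨B, hind, hgen⟩ := PB.exists_pBasis p ℤ K
  let P0 := PB.powAlg p ℤ K
  have hpow : ∀ (T : Subalgebra P0 K) (x : K), x ^ p ∈ T := fun T x =>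
    T.algebraMap_mem ⟨x ^ p, Algebra.subset_adjoin ⟨x, rfl⟩⟩
  let x : B → K := Subtype.val
  let S : Finset B → Subalgebra P0 K := fun F => Algebra.adjoin P0 (x '' {b | b ∉ F})
  refine ⟨Finset B, ⟨∅⟩, fun F => PB.subfieldOf (S F) (hpow _), fun a b => ⟨a ∪ b, ?_, ?_⟩, fun F => ⟨hpow _, ?_⟩, ?_⟩
  · exact fun z hz => Algebra.adjoin_mono (Set.image_mono fun c (hc : c ∉ a ∪ b) (h : c ∈ a) => hc (Finset.mem_union_left _ h)) hz
  · exact fun z hz => Algebra.adjoin_mono (Set.image_mono fun c (hc : c ∉ a ∪ b) (h : c ∈ b) => hc (Finset.mem_union_right _ h)) hz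
  · let MF := PB.subfieldOf (S F) (hpow _)
    have hint : ∀ z ∈ x '' (F : Set B), IsIntegral MF z := fun z _ =>
      IsIntegral.of_pow hp.out.pos (isIntegral_algebraMap (x := (⟨z ^ p, hpow _ z⟩ : MF)))
    have hfg := fg_adjoin_of_finite (F.finite_toSet.image x) hint
    have htop : Algebra.adjoin MF (x '' (F : Set B)) = ⊤ := by
      refine eq_top_iff.2 fun z _ => ?_
      have hz : z ∈ Algebra.adjoin P0 (B : Set K) := hgen ▸ Algebra.mem_top
      induction hz using Algebra.adjoin_induction with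
      | mem y hy =>
        by_cases hF : (⟨y, hy⟩ : B) ∈ F
        · exact Algebra.subset_adjoin ⟨_, hF, rfl⟩
        · exact Subalgebra.algebraMap_mem _ (⟨y, Algebra.subset_adjoin ⟨⟨y, hy⟩, hF, rfl⟩⟩ : MF)
      | algebraMap r => exact Subalgebra.algebraMap_mem _ (⟨r, (S F).algebraMap_mem r⟩ : MF)
      | add a b _ _ ha hb => exact add_mem (ha trivial) (hb trivial)
      | mul a b _ _ ha hb => exact mul_mem (ha trivial) (hb trivial)
    rw [htop, Algebra.top_toSubmodule] at hfg
    exact ⟨hfg⟩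
  · intro z hz
    have hspan := (PB.span_mon_eq_top_iff (M := P0) hp.out.pos x (fun i => ⟨⟨x i ^ p, Algebra.subset_adjoin ⟨x i, rfl⟩⟩, rfl⟩)).2
      (by rwa [Subtype.range_coe])
    obtain ⟨c, hc⟩ := Finsupp.mem_span_range_iff_exists_finsupp.1 (hspan.ge (Submodule.mem_top (x := z)))
    let F : Finset B := c.support.biUnion fun e => e.1.support
    have hzF : z ∈ Submodule.span P0 ((fun e : PB.Red p B => PB.mon x e.1) '' {e | ∀ b ∈ F, e.1 b = 0}) := by
      have h : z ∈ S F := hz F
      have h' : z ∈ Subalgebra.toSubmodule (Algebra.adjoin P0 (Set.range fun b : {b : B // b ∉ F} => x b)) := by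
        have : (Set.range fun b : {b : B // b ∉ F} => x b) = x '' {b | b ∉ F} := by
          ext y; simp [x]
        rw [this]; exact h
      rw [← PB.span_mon_eq_adjoin hp.out.pos _ (fun i => ⟨⟨x i ^ p, Algebra.subset_adjoin ⟨x i, rfl⟩⟩, rfl⟩)] at h'
      refine Submodule.span_mono ?_ h'
      rintro _ ⟨e, rfl⟩
      refine ⟨⟨e.1.mapDomain Subtype.val, fun b => ?_⟩, fun b hb => ?_, ?_⟩
      · by_cases hb : b ∈ F
        · rw [Finsupp.mapDomain_notin_range]
          · exact hp.out.pos
          · rintro ⟨⟨b', hb'⟩, rfl⟩; exact hb' hb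
        · rw [show b = ((⟨b, hb⟩ : {b : B // b ∉ F}) : B) from rfl, Finsupp.mapDomain_apply Subtype.val_injective]
          exact e.2 _
      · rw [Finsupp.mapDomain_notin_range]
        rintro ⟨⟨b', hb'⟩, rfl⟩; exact hb' hb
      · show PB.mon x (e.1.mapDomain Subtype.val) = PB.mon (fun b : {b : B // b ∉ F} => x b) e.1
        rw [PB.mon, PB.mon, Finsupp.prod_mapDomain_index_inj Subtype.val_injective]
    rw [Finsupp.mem_span_image_iff_linearCombination] at hzF
    obtain ⟨c', hc', hcz⟩ := hzF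
    have hcc : c' = c := hind (hcz.trans (by rw [Finsupp.linearCombination_apply]; exact hc.symm))
    subst hcc
    have h0 : ∀ e ∈ c'.support, e.1 = 0 := fun e he => Finsupp.ext fun b => by
      by_contra hne
      exact hne (hc' he b (Finset.mem_biUnion.2 ⟨e, he, Finsupp.mem_support_iff.2 hne⟩))
    rw [← hcz, Finsupp.linearCombination_apply, Finsupp.sum]
    refine exists_pow_eq_of_mem_powAlg (E := K) ℤ p (exists_pow_eq_algebraMap_int p) ?_
    refine Subalgebra.sum_mem _ fun e he => ?_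
    show ((c' e : P0) : K) * PB.mon x e.1 ∈ P0
    rw [h0 e he, PB.mon, Finsupp.prod_zero_index, mul_one]
    exact (c' e).2

end Groth.Agent.EGA41Lib.FS
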