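import Groth.Agent.EGA41Lib.FieldSeparableSmooth

/-!
# Separability tested on absolute differentials

EGA 0, 20.6.3 over the integers.
-/

set_option autoImplicit false

universe u

namespace Groth.Agent.EGA41Lib

theorem isGeometricallyReduced_of_injective_int {k K : Type u} [Field k] [Field K] [Algebra k K]
    (h : Function.Injective (KaehlerDifferential.mapBaseChange ℤ k K)) :
    Algebra.IsGeometricallyReduced k K := by
  obtain _ | ⟨p, hp, hpk⟩ := CharP.exists' k
  · exact isGeometricallyReduced_of_charZero k K
  · haveI : CharP K p := charP_of_injective_algebraMap (algebraMap k K).injective p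
    exact PB.isGeometricallyReduced_of_macLane p
      (macLane_of_injective_prime ℤ p (exists_pow_eq_algebraMap_int p) h)

end Groth.Agent.EGA41Lib
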