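import Mathlib

/-! Symmetric Hochschild 2-cocycles give square-zero extensions. -/

set_option autoImplicit false
universe u v w

namespace Groth.Agent.EGA41Lib

variable {A : Type u} {B : Type v} [CommRing A] [CommRing B] [Algebra A B]
  {L : Type w} [AddCommGroup L] [Module B L] [Module A L] [IsScalarTower A B L]

variable (A B L) in
/-- A symmetric Hochschild 2-cocycle. -/
structure Cocycle where
  f : B →ₗ[A] B →ₗ[A] L
  symm : ∀ x y : B, f x y = f y x
  coc : ∀ x y z : B, f (x * y) z + z • f x y = x • f y z + f x (y * z)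

variable (c : Cocycle A B L)

/-- The extension of `B` by `L` defined by a cocycle. -/
def CocycleExt (_c : Cocycle A B L) : Type (max v w) := B × L

namespace CocycleExt

instance : AddCommGroup (CocycleExt c) := inferInstanceAs (AddCommGroup (B × L))
instance : Module A (CocycleExt c) := inferInstanceAs (Module A (B × L))

def mk (x : B) (l : L) : CocycleExt c := (x, l)

variable {c}

def fst (p : CocycleExt c) : B := Prod.fst (p : B × L)
def snd (p : CocycleExt c) : L := Prod.snd (p : B × L)

@[ext] theorem ext {p q : CocycleExt c} (h1 : p.fst = q.fst) (h2 : p.snd = q.snd) : p = q := Prod.ext h1 h2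

@[simp] theorem fst_mk (x : B) (l : L) : (mk c x l).fst = x := rfl
@[simp] theorem snd_mk (x : B) (l : L) : (mk c x l).snd = l := rfl
@[simp] theorem fst_add (p q : CocycleExt c) : (p + q).fst = p.fst + q.fst := rfl
@[simp] theorem snd_add (p q : CocycleExt c) : (p + q).snd = p.snd + q.snd := rfl
@[simp] theorem fst_zero : (0 : CocycleExt c).fst = 0 := rfl
@[simp] theorem snd_zero : (0 : CocycleExt c).snd = 0 := rfl
@[simp] theorem fst_smul (a : A) (p : CocycleExt c) : (a • p).fst = a • p.fst := rfl
@[simp] theorem snd_smul (a : A) (p : CocycleExt c) : (a • p).snd = a • p.snd := rfl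

instance : Mul (CocycleExt c) :=
  ⟨fun p q => mk c (p.fst * q.fst) (p.fst • q.snd + q.fst • p.snd + c.f p.fst q.fst)⟩
instance : One (CocycleExt c) := ⟨mk c 1 (- c.f 1 1)⟩

@[simp] theorem fst_mul (p q : CocycleExt c) : (p * q).fst = p.fst * q.fst := rfl
@[simp] theorem snd_mul (p q : CocycleExt c) :
    (p * q).snd = p.fst • q.snd + q.fst • p.snd + c.f p.fst q.fst := rfl
@[simp] theorem fst_one : (1 : CocycleExt c).fst = 1 := rfl
@[simp] theorem snd_one : (1 : CocycleExt c).snd = - c.f 1 1 := rfl

theorem f_one (z : B) : c.f 1 z = z • c.f 1 1 := by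
  have h := c.coc 1 1 z
  rw [one_mul, one_smul, one_mul] at h
  exact (add_left_cancel h).symm

theorem mul_comm' (p q : CocycleExt c) : p * q = q * p := by
  refine ext (mul_comm _ _) ?_
  simp only [snd_mul, c.symm p.fst]
  abel

theorem mul_assoc' (p q r : CocycleExt c) : p * q * r = p * (q * r) := by
  refine ext (mul_assoc _ _ _) ?_
  simp only [snd_mul, fst_mul, smul_add, smul_smul]
  have h := c.coc p.fst q.fst r.fst
  rw [mul_comm r.fst p.fst, mul_comm r.fst q.fst]
  linear_combination (norm := abel) h

theorem left_distrib' (p q r : CocycleExt c) : p * (q + r) = p * q + p * r := by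
  refine ext (mul_add _ _ _) ?_
  simp only [snd_mul, snd_add, fst_add, smul_add, add_smul, map_add]
  abel

theorem zero_mul' (p : CocycleExt c) : 0 * p = 0 :=
  ext (zero_mul _) (by simp)

theorem one_mul' (p : CocycleExt c) : 1 * p = p := by
  refine ext (one_mul _) ?_
  simp [f_one p.fst]

instance : CommRing (CocycleExt c) where
  __ := (inferInstance : AddCommGroup (CocycleExt c))
  mul := (· * ·)
  one := 1
  mul_comm := mul_comm'
  mul_assoc := mul_assoc'
  one_mul := one_mul'
  mul_one p := by rw [mul_comm', one_mul']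
  left_distrib := left_distrib'
  right_distrib p q r := by rw [mul_comm' _ r, left_distrib', mul_comm' r p, mul_comm' r q]
  zero_mul := zero_mul'
  mul_zero p := by rw [mul_comm', zero_mul']

theorem smul_mul' (a : A) (p q : CocycleExt c) : (a • p) * q = a • (p * q) := by
  refine ext (by simp [smul_mul_assoc]) ?_
  simp only [snd_mul, snd_smul, fst_smul, smul_add, map_smul, LinearMap.smul_apply, smul_assoc]
  rw [smul_comm q.fst a p.snd]

instance : Algebra A (CocycleExt c) :=
  Algebra.ofModule smul_mul' fun a p q => by rw [mul_comm p, smul_mul', mul_comm q]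

variable (c) in
/-- The projection to `B`. -/
def proj : CocycleExt c →ₐ[A] B where
  toFun := fst
  map_one' := rfl
  map_mul' _ _ := rfl
  map_zero' := rfl
  map_add' _ _ := rfl
  commutes' a := by
    show ((a : A) • (1 : CocycleExt c)).fst = _
    simp [Algebra.algebraMap_eq_smul_one]

end CocycleExt

theorem exists_coboundary [Algebra.FormallySmooth A B] (c : Cocycle A B L) :
    ∃ g : B →ₗ[A] L, ∀ x y : B, c.f x y = x • g y - g (x * y) + y • g x := by
  have hsur : Function.Surjective (CocycleExt.proj c) := fun x => ⟨CocycleExt.mk c x 0, rfl⟩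
  have hnil : IsNilpotent (RingHom.ker (CocycleExt.proj c : CocycleExt c →+* B)) := by
    refine ⟨2, ?_⟩
    rw [pow_two, Ideal.zero_eq_bot, eq_bot_iff, Ideal.mul_le]
    intro p hp q hq
    have hp' : p.fst = 0 := hp
    have hq' : q.fst = 0 := hq
    exact CocycleExt.ext (by simp [hp']) (by simp [hp', hq'])
  let s := Algebra.FormallySmooth.liftOfSurjective (AlgHom.id A B) (CocycleExt.proj c) hsur hnil
  have hs : ∀ x, (s x).fst = x := fun x => Algebra.FormallySmooth.liftOfSurjective_apply _ _ hsur hnil x
  let g : B →ₗ[A] L :=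
    { toFun := fun x => - (s x).snd
      map_add' := fun x y => by rw [map_add, CocycleExt.snd_add, neg_add]
      map_smul' := fun a x => by rw [map_smul, CocycleExt.snd_smul, RingHom.id_apply, smul_neg] }
  refine ⟨g, fun x y => ?_⟩
  show _ = x • (- (s y).snd) - (- (s (x * y)).snd) + y • (- (s x).snd)
  rw [map_mul, CocycleExt.snd_mul, hs, hs, smul_neg, smul_neg]
  abel

end Groth.Agent.EGA41Lib
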