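import Groth.Agent.EGA41Lib.PBasisKaehler
import Mathlib.RingTheory.Unramified.Field
import Mathlib.RingTheory.Nakayama
import Mathlib.RingTheory.IntegralClosure.IsIntegralClosure.Basic

/-!
# Purely inseparable algebras without differentials

EGA 0, 21.1.7.
-/

set_option autoImplicit false

universe u

namespace Groth.Agent.EGA41Lib

/-- A purely inseparable unramified algebra of finite type over a field is the field. -/
theorem surjective_field (p : ℕ) [Fact p.Prime] {k C : Type u} [Field k] [CommRing C] [Algebra k C]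
    [CharP k p] [Algebra.FiniteType k C] [Subsingleton Ω[C⁄k]] (s : ℕ)
    (hpow : ∀ c : C, c ^ p ^ s ∈ Set.range (algebraMap k C)) : Function.Surjective (algebraMap k C) := by
  intro c
  rcases subsingleton_or_nontrivial C with hC | hC
  · exact ⟨0, Subsingleton.elim _ _⟩
  haveI : Algebra.FormallyUnramified k C := ⟨inferInstance⟩
  haveI : IsReduced C := Algebra.FormallyUnramified.isReduced_of_field k C
  have hfield : IsField C := by
    refine ⟨exists_pair_ne C, mul_comm, fun {a} ha => ?_⟩
    obtain ⟨r, hr⟩ := hpow a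
    have hr0 : r ≠ 0 := fun h => ha (by
      refine eq_zero_of_pow_eq_zero (n := p ^ s) ?_
      rw [← hr, h, map_zero])
    refine ⟨a ^ (p ^ s - 1) * algebraMap k C r⁻¹, ?_⟩
    rw [← mul_assoc, ← pow_succ', Nat.sub_add_cancel (Nat.one_le_iff_ne_zero.2
      (pow_ne_zero _ (Fact.out : p.Prime).ne_zero)), ← hr, ← map_mul, mul_inv_cancel₀ hr0, map_one]
  letI := hfield.toField
  haveI : CharP C p := charP_of_injective_algebraMap (algebraMap k C).injective p
  have key : ∀ i, ∀ x : C, x ∈ Algebra.adjoin k (Set.range fun y : C => y ^ p ^ i) := by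
    intro i
    induction i with
    | zero => exact fun x => Algebra.subset_adjoin ⟨x, by simp⟩
    | succ i ih =>
      intro x
      refine Algebra.adjoin_le ?_ ((PB.D_eq_zero_iff_mem p k x).1 (Subsingleton.elim _ _))
      rintro _ ⟨y, rfl⟩
      have hy := ih y
      simp only [SetLike.mem_coe]
      induction hy using Algebra.adjoin_induction with
      | mem z hz =>
        obtain ⟨w, rfl⟩ := hz
        refine Algebra.subset_adjoin ⟨w, ?_⟩
        rw [← pow_mul, ← pow_succ]
      | algebraMap r => rw [← map_pow]; exact Subalgebra.algebraMap_mem _ _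
      | add a b _ _ ha hb => rw [add_pow_char]; exact add_mem ha hb
      | mul a b _ _ ha hb => rw [mul_pow]; exact mul_mem ha hb
  have hle : Algebra.adjoin k (Set.range fun y : C => y ^ p ^ s) ≤ ⊥ :=
    Algebra.adjoin_le (Set.range_subset_iff.2 fun y => Algebra.mem_bot.2 (hpow y))
  exact Algebra.mem_bot.1 (hle (key s c))

/-- EGA 0 21.1.7. -/
theorem surjective_of_subsingleton_kaehler (p : ℕ) [Fact p.Prime] {A B : Type u} [CommRing A] [CommRing B]
    [Algebra A B] [CharP B p] [Algebra.FiniteType A B] (s : ℕ)
    (hpow : ∀ b : B, b ^ p ^ s ∈ Set.range (algebraMap A B)) [Subsingleton Ω[B⁄A]] :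
    Function.Surjective (algebraMap A B) := by
  haveI : Algebra.IsIntegral A B := ⟨fun b => by
    obtain ⟨a, ha⟩ := hpow b
    exact IsIntegral.of_pow (pow_pos (Fact.out : p.Prime).pos s) (ha ▸ isIntegral_algebraMap)⟩
  haveI : Module.Finite A B := Algebra.IsIntegral.finite
  let R := LinearMap.range (Algebra.linearMap A B)
  let Q := B ⧸ R
  suffices h : (⊤ : Submodule A Q) = ⊥ by
    intro b
    have h1 : (Submodule.Quotient.mk b : Q) = 0 := by
      rw [← Submodule.mem_bot A, ← h]; trivial
    exact (Submodule.Quotient.mk_eq_zero R).1 h1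
  have hann : Module.annihilator A Q = ⊤ := by
    by_contra hne
    obtain ⟨m, hm, hle⟩ := Ideal.exists_le_maximal _ hne
    have hsmul : (⊤ : Submodule A Q) ≤ m • ⊤ := by
      let I := m.map (algebraMap A B)
      let C := B ⧸ I
      letI := Ideal.Quotient.field m
      letI : Algebra (A ⧸ m) C := (Ideal.quotientMap I (algebraMap A B) Ideal.le_comap_map).toAlgebra
      haveI : IsScalarTower A (A ⧸ m) C := .of_algebraMap_eq fun _ => rfl
      intro q _
      obtain ⟨b, rfl⟩ := Submodule.Quotient.mk_surjective R q
      obtain ⟨a, ha⟩ : ∃ a, algebraMap A C a = Ideal.Quotient.mk I b := by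
        rcases subsingleton_or_nontrivial C with hC | hC
        · exact ⟨0, Subsingleton.elim _ _⟩
        haveI : Subsingleton Ω[C⁄A] :=
          (KaehlerDifferential.map_surjective_of_surjective A A B C Ideal.Quotient.mk_surjective).subsingleton
        haveI : Subsingleton Ω[C⁄A ⧸ m] := (KaehlerDifferential.map_surjective A (A ⧸ m) C).subsingleton
        haveI : Algebra.FiniteType A C := Algebra.FiniteType.of_surjective (Ideal.Quotient.mkₐ A I)
          Ideal.Quotient.mk_surjective
        haveI : Algebra.FiniteType (A ⧸ m) C := Algebra.FiniteType.of_restrictScalars_finiteType A (A ⧸ m) C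
        haveI : CharP C p := by
          have h0 : (p : C) = 0 := by
            rw [← map_natCast (algebraMap B C) p, CharP.cast_eq_zero, map_zero]
          exact (CharP.charP_iff_prime_eq_zero (Fact.out : p.Prime)).2 h0
        haveI : CharP (A ⧸ m) p := (algebraMap (A ⧸ m) C).charP (algebraMap (A ⧸ m) C).injective p
        obtain ⟨r, hr⟩ := surjective_field p (k := A ⧸ m) (C := C) s (fun c => by
          obtain ⟨b', rfl⟩ := Ideal.Quotient.mk_surjective c
          obtain ⟨a, ha⟩ := hpow b'
          exact ⟨Ideal.Quotient.mk m a, by rw [← map_pow, ← ha]; rfl⟩) (Ideal.Quotient.mk I b)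
        obtain ⟨a, rfl⟩ := Ideal.Quotient.mk_surjective r
        exact ⟨a, hr⟩
      have hmem : b - algebraMap A B a ∈ (m • (⊤ : Submodule A B)) := by
        rw [Ideal.smul_top_eq_map, Submodule.restrictScalars_mem, ← Ideal.Quotient.eq_zero_iff_mem, map_sub,
          ← ha]
        exact sub_self _
      have h2 := Submodule.mem_map_of_mem (f := R.mkQ) hmem
      rw [Submodule.map_smul'', Submodule.map_top, Submodule.range_mkQ, map_sub] at h2
      have h3 : R.mkQ (algebraMap A B a) = 0 := (Submodule.Quotient.mk_eq_zero R).2 ⟨a, rfl⟩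
      rwa [h3, sub_zero] at h2
    obtain ⟨r, hr1, hr2⟩ := Submodule.exists_sub_one_mem_and_smul_eq_zero_of_fg_of_le_smul m ⊤
      Module.Finite.fg_top hsmul
    refine hm.ne_top ((Ideal.eq_top_iff_one m).2 ?_)
    have hr : r ∈ m := hle (Module.mem_annihilator.2 fun q => hr2 q trivial)
    have := m.sub_mem hr hr1
    rwa [sub_sub_cancel] at this
  rw [_root_.eq_bot_iff]
  intro q _
  rw [Submodule.mem_bot, ← one_smul A q]
  exact Module.mem_annihilator.1 (hann ▸ Submodule.mem_top) q

end Groth.Agent.EGA41Lib
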