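import Mathlib

/-!
# Left inverses of homomorphisms into projective modules

EGA 0, 19.1.12 and 19.1.14: all conditions are expressed by `∃ w, w ∘ u = s • id`.
-/

set_option autoImplicit false

universe u

open TensorProduct

namespace Groth.Agent.EGA41Lib

variable {A : Type u} [CommRing A] {M N : Type u} [AddCommGroup M] [Module A M] [AddCommGroup N] [Module A N]

/-- `u` has a left inverse up to the scalar `s`. -/
def HasLeftInv (u : M →ₗ[A] N) (s : A) : Prop := ∃ w : N →ₗ[A] M, w ∘ₗ u = s • LinearMap.id

/-- A map from a finite module to a projective one factors through a finite free direct piece. -/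
theorem exists_factor_finite_free [Module.Finite A M] [Module.Projective A N] (u : M →ₗ[A] N) :
    ∃ (n : ℕ) (a : N →ₗ[A] Fin n → A) (b : (Fin n → A) →ₗ[A] N), b ∘ₗ a ∘ₗ u = u := by
  classical
  obtain ⟨i, hi⟩ := Module.projective_def'.1 (inferInstance : Module.Projective A N)
  obtain ⟨S, hS⟩ := (Module.Finite.fg_top (R := A) (M := M))
  let T : Finset N := S.biUnion fun m => (i (u m)).support
  let e : Fin T.card → N := fun k => (T.equivFin.symm k).1
  let a : N →ₗ[A] Fin T.card → A := LinearMap.pi fun k => (Finsupp.lapply (e k)) ∘ₗ i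
  let b : (Fin T.card → A) →ₗ[A] N := Fintype.linearCombination A e
  refine ⟨T.card, a, b, LinearMap.ext_on_range (v := fun m : (S : Set M) => (m : M)) (by
    rw [Subtype.range_coe_subtype, Set.setOf_mem_eq, hS]) fun ⟨m, hm⟩ => ?_⟩
  have h1 := LinearMap.congr_fun hi (u m)
  rw [LinearMap.comp_apply, LinearMap.id_apply, Finsupp.linearCombination_apply,
    Finsupp.sum_of_support_subset _ (fun y hy => (Finset.mem_biUnion.2 ⟨m, hm, hy⟩ : y ∈ T)) _ (by simp)] at h1
  change b (a (u m)) = u m
  rw [Fintype.linearCombination_apply]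
  refine Eq.trans ?_ h1
  rw [← Finset.sum_coe_sort T]
  exact (T.equivFin.sum_comp _).symm.trans (Finset.sum_congr rfl fun y _ => by simp [a, e])

/-- From independent images in a fibre, a left inverse on the span, up to a scalar invertible in the fibre. -/
theorem exists_dual_of_linearIndependent [Module.Finite A M] [Module.Projective A N] (u : M →ₗ[A] N)
    (K : Type u) [Field K] [Algebra A K]
    (hK : ∀ z : K, ∃ a s : A, algebraMap A K s ≠ 0 ∧ algebraMap A K s * z = algebraMap A K a)
    {m : ℕ} (x : Fin m → M) (hx : LinearIndependent K fun j => (1 : K) ⊗ₜ[A] u (x j)) :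
    ∃ (d : A) (C : N →ₗ[A] Fin m → A), algebraMap A K d ≠ 0 ∧
      ∀ i j, C (u (x j)) i = if i = j then d else 0 := by
  classical
  obtain ⟨n, a, b, hab⟩ := exists_factor_finite_free u
  have hinj : LinearIndependent K fun j => (1 : K) ⊗ₜ[A] a (u (x j)) := by
    refine LinearIndependent.of_comp (b.baseChange K) ?_
    convert hx using 2 with j
    exact (LinearMap.baseChange_tmul _ _ _).trans (by rw [show b (a (u (x j))) = u (x j) from LinearMap.congr_fun hab (x j)])
  let Φ : K ⊗[A] (Fin n → A) →ₗ[K] Fin n → K := (TensorProduct.piScalarRight A K K (Fin n)).toLinearMap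
  have hvec : LinearIndependent K fun j => fun i => algebraMap A K (a (u (x j)) i) := by
    rw [show (fun j => fun i => algebraMap A K (a (u (x j)) i)) =
        Φ ∘ fun j => (1 : K) ⊗ₜ[A] a (u (x j)) from funext fun j => funext fun i => by
      simp [Φ, Algebra.smul_def]]
    exact hinj.map' Φ (LinearEquiv.ker _)
  obtain ⟨g, hg⟩ := (Fintype.linearCombination K fun j => fun i => algebraMap A K (a (u (x j)) i)).exists_leftInverse_of_injective
    (LinearMap.ker_eq_bot'.2 fun c hc => funext (Fintype.linearIndependent_iff.1 hvec c (by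
      rwa [Fintype.linearCombination_apply] at hc)))
  choose num den hden hnum using hK
  let G : Fin m → Fin n → K := fun i k => g (Pi.single k 1) i
  let c : A := ∏ q : Fin m × Fin n, den (G q.1 q.2)
  have hc : algebraMap A K c ≠ 0 := by
    rw [map_prod]; exact Finset.prod_ne_zero_iff.2 fun q _ => hden _
  have hG : ∀ i k, ∃ z : A, algebraMap A K z = algebraMap A K c * G i k := fun i k => by
    refine ⟨num (G i k) * ∏ q ∈ Finset.univ.erase (i, k), den (G q.1 q.2), ?_⟩
    change algebraMap A K _ = algebraMap A K (∏ q : Fin m × Fin n, den (G q.1 q.2)) * _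
    rw [← Finset.mul_prod_erase _ _ (Finset.mem_univ (i, k)), map_mul, map_mul, ← hnum]
    ring
  choose z hz using hG
  let C₀ : N →ₗ[A] Fin m → A := (Matrix.mulVecLin (Matrix.of z)) ∘ₗ a
  let D : Matrix (Fin m) (Fin m) A := Matrix.of fun i j => C₀ (u (x j)) i
  have hD : D.map (algebraMap A K) = algebraMap A K c • (1 : Matrix (Fin m) (Fin m) K) := by
    ext i j
    have h1 : g (fun k => algebraMap A K (a (u (x j)) k)) i = if i = j then 1 else 0 := by
      have h := congrFun (LinearMap.congr_fun hg (Pi.single j 1)) i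
      rw [LinearMap.comp_apply, Fintype.linearCombination_apply_single, one_smul, LinearMap.id_apply,
        Pi.single_apply] at h
      exact h
    have hexp : (fun k => algebraMap A K (a (u (x j)) k)) =
        ∑ k, algebraMap A K (a (u (x j)) k) • (Pi.single k 1 : Fin n → K) :=
      pi_eq_sum_univ' _
    rw [hexp, map_sum, Finset.sum_apply] at h1
    rw [Matrix.smul_apply, Matrix.one_apply, Matrix.map_apply]
    change algebraMap A K (∑ k, z i k * a (u (x j)) k) = _
    rw [map_sum, ← h1, Finset.smul_sum]
    refine Finset.sum_congr rfl fun k _ => ?_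
    rw [map_mul, hz, map_smul, Pi.smul_apply, smul_eq_mul, smul_eq_mul]
    ring
  refine ⟨D.det, Matrix.mulVecLin D.adjugate ∘ₗ C₀, ?_, fun i j => ?_⟩
  · rw [RingHom.map_det, RingHom.mapMatrix_apply, hD, Matrix.det_smul, Matrix.det_one, mul_one]
    exact pow_ne_zero _ hc
  · have h := congrFun (congrFun (Matrix.adjugate_mul D) i) j
    rw [Matrix.mul_apply] at h
    rw [LinearMap.comp_apply, Matrix.mulVecLin_apply]
    change ∑ k, D.adjugate i k * D k j = _
    rw [h, Matrix.smul_apply, Matrix.one_apply, smul_eq_mul, mul_ite, mul_one, mul_zero]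

/-- Left inverse up to a scalar from generators with independent images. -/
theorem hasLeftInv_of_smul_le_span [Module.Finite A M] [Module.Projective A N] (u : M →ₗ[A] N)
    (K : Type u) [Field K] [Algebra A K]
    (hK : ∀ z : K, ∃ a s : A, algebraMap A K s ≠ 0 ∧ algebraMap A K s * z = algebraMap A K a)
    {m : ℕ} (x : Fin m → M) (hx : LinearIndependent K fun j => (1 : K) ⊗ₜ[A] u (x j)) (r : A)
    (hr : algebraMap A K r ≠ 0) (hspan : ∀ y : M, r • y ∈ Submodule.span A (Set.range x)) :
    ∃ s, algebraMap A K s ≠ 0 ∧ HasLeftInv u s := by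
  classical
  obtain ⟨d, C, hd, hC⟩ := exists_dual_of_linearIndependent u K hK x hx
  refine ⟨r * d, by rw [map_mul]; exact mul_ne_zero hr hd, r • (Fintype.linearCombination A x ∘ₗ C), ?_⟩
  refine LinearMap.ext fun y => ?_
  have key : ∀ y ∈ Submodule.span A (Set.range x), Fintype.linearCombination A x (C (u y)) = d • y := by
    intro y hy
    induction hy using Submodule.span_induction with
    | mem y hy =>
      obtain ⟨j, rfl⟩ := hy
      rw [Fintype.linearCombination_apply, Finset.sum_eq_single j]
      · rw [hC, if_pos rfl]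
      · intro i _ hij; rw [hC, if_neg hij, zero_smul]
      · intro h; exact absurd (Finset.mem_univ j) h
    | zero => simp
    | add y y' _ _ h h' => simp [h, h']
    | smul c y _ h => simp only [map_smul, h, smul_comm c d y]
  simp only [LinearMap.comp_apply, LinearMap.smul_apply, LinearMap.id_apply]
  rw [← map_smul, ← map_smul, ← map_smul u, key _ (hspan y), smul_smul, mul_comm]

/-- Injectivity at a prime gives a left inverse near the prime. -/
theorem exists_hasLeftInv_of_injective [Module.Finite A M] [Module.Projective A N] (u : M →ₗ[A] N)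
    (p : Ideal A) [p.IsPrime] (h : Function.Injective (u.lTensor p.ResidueField)) :
    ∃ s ∉ p, HasLeftInv u s := by
  classical
  let K := p.ResidueField
  have hker : ∀ {s : A}, algebraMap A K s ≠ 0 ↔ s ∉ p := fun {s} => by
    rw [ne_eq, Ideal.algebraMap_residueField_eq_zero]
  have hspan : Submodule.span K (Set.range fun y : M => (1 : K) ⊗ₜ[A] y) = ⊤ := by
    rw [← Submodule.baseChange_top (A := K) (M := M) (R := A), Submodule.baseChange_eq_span]
    congr 1
    ext t
    simp
  obtain ⟨S, hS, hSspan, hli⟩ := exists_linearIndependent K (Set.range fun y : M => (1 : K) ⊗ₜ[A] y)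
  haveI : Finite S := hli.finite
  obtain ⟨m, ⟨e⟩⟩ := Finite.exists_equiv_fin S
  choose x hx using fun j => hS (e.symm j).2
  have hli' : LinearIndependent K fun j => (1 : K) ⊗ₜ[A] x j := by
    rw [show (fun j => (1 : K) ⊗ₜ[A] x j) = Subtype.val ∘ e.symm from funext hx]
    exact hli.comp e.symm e.symm.injective
  have hspan' : Submodule.span K (Set.range fun j => (1 : K) ⊗ₜ[A] x j) = ⊤ := by
    rw [← hspan, ← hSspan]
    congr 1
    ext t
    constructor
    · rintro ⟨j, rfl⟩; simp only [hx]; exact (e.symm j).2
    · intro ht; exact ⟨e ⟨t, ht⟩, by simp [hx]⟩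
  have hu : LinearIndependent K fun j => (1 : K) ⊗ₜ[A] u (x j) := by
    rw [show (fun j => (1 : K) ⊗ₜ[A] u (x j)) = u.baseChange K ∘ fun j => (1 : K) ⊗ₜ[A] x j from
      funext fun j => (LinearMap.baseChange_tmul _ _ _).symm]
    exact hli'.map' (u.baseChange K) (LinearMap.ker_eq_bot.2 h)
  let Q := M ⧸ Submodule.span A (Set.range x)
  have hQ : Subsingleton (K ⊗[A] Q) := by
    refine subsingleton_of_forall_eq 0 fun t => ?_
    obtain ⟨t, rfl⟩ := LinearMap.lTensor_surjective K (Submodule.mkQ_surjective (Submodule.span A (Set.range x))) t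
    have ht : t ∈ Submodule.span K (Set.range fun j => (1 : K) ⊗ₜ[A] x j) := hspan' ▸ Submodule.mem_top
    change ((Submodule.span A (Set.range x)).mkQ.baseChange K) t = 0
    refine LinearMap.mem_ker.1 (Submodule.span_le.2 ?_ ht)
    rintro _ ⟨j, rfl⟩
    rw [SetLike.mem_coe, LinearMap.mem_ker, LinearMap.baseChange_tmul, Submodule.mkQ_apply,
      (Submodule.Quotient.mk_eq_zero (Submodule.span A (Set.range x))).2 (Submodule.subset_span (Set.mem_range_self j)),
      TensorProduct.tmul_zero]
  have hsupp : (⟨p, inferInstance⟩ : PrimeSpectrum A) ∉ Module.support A Q := by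
    rw [Module.mem_support_iff_nontrivial_residueField_tensorProduct]
    exact not_nontrivial_iff_subsingleton.2 hQ
  obtain ⟨T, hT⟩ := (Module.Finite.fg_top (R := A) (M := Q))
  choose r hr hr0 using Module.notMem_support_iff'.1 hsupp
  have hspanr : ∀ y : M, (∏ t ∈ T, r t) • y ∈ Submodule.span A (Set.range x) := by
    intro y
    rw [← Submodule.Quotient.mk_eq_zero, Submodule.Quotient.mk_smul]
    have hy : (Submodule.Quotient.mk y : Q) ∈ Submodule.span A (T : Set Q) := hT ▸ Submodule.mem_top
    generalize (Submodule.Quotient.mk y : Q) = q at hy ⊢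
    induction hy using Submodule.span_induction with
    | mem t ht => rw [← Finset.prod_erase_mul _ _ ht, mul_smul, hr0, smul_zero]
    | zero => rw [smul_zero]
    | add a b _ _ ha hb => rw [smul_add, ha, hb, add_zero]
    | smul c a _ ha => rw [smul_comm, ha, smul_zero]
  have hfrac : ∀ z : K, ∃ a s : A, algebraMap A K s ≠ 0 ∧ algebraMap A K s * z = algebraMap A K a := by
    intro z
    obtain ⟨a, s, hs, rfl⟩ := IsFractionRing.div_surjective (A := A ⧸ p) z
    obtain ⟨a, rfl⟩ := Ideal.Quotient.mk_surjective a
    obtain ⟨s, rfl⟩ := Ideal.Quotient.mk_surjective s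
    refine ⟨a, s, ?_, ?_⟩
    · rw [hker]
      exact fun h' => nonZeroDivisors.ne_zero hs (Ideal.Quotient.eq_zero_iff_mem.2 h')
    · rw [show algebraMap A K = (algebraMap (A ⧸ p) K).comp (algebraMap A (A ⧸ p)) from
        IsScalarTower.algebraMap_eq _ _ _]
      exact mul_div_cancel₀ _ (IsFractionRing.to_map_ne_zero_of_mem_nonZeroDivisors (R := A ⧸ p) hs)
  obtain ⟨s, hs, hw⟩ := hasLeftInv_of_smul_le_span u K hfrac x hu (∏ t ∈ T, r t)
    (hker.2 fun h' => by
      obtain ⟨t, _, ht⟩ := (Ideal.IsPrime.prod_mem_iff.1 h')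
      exact hr t ht) hspanr
  exact ⟨s, hker.1 hs, hw⟩

/-- A left inverse up to `s` gives injectivity where `s` is invertible. -/
theorem injective_lTensor_of_hasLeftInv (u : M →ₗ[A] N) {s : A} (hu : HasLeftInv u s) (K : Type u) [CommRing K]
    [Algebra A K] (hs : IsUnit (algebraMap A K s)) : Function.Injective (u.lTensor K) := by
  obtain ⟨w, hw⟩ := hu
  intro y z hyz
  have h := congrArg (w.lTensor K) hyz
  rw [← LinearMap.comp_apply, ← LinearMap.comp_apply, ← LinearMap.lTensor_comp, hw, LinearMap.lTensor_smul,
    LinearMap.lTensor_id, LinearMap.smul_apply, LinearMap.smul_apply, LinearMap.id_apply, LinearMap.id_apply,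
    ← algebraMap_smul K s y, ← algebraMap_smul K s z] at h
  exact hs.smul_left_cancel.1 h

/-- Left inverses of the localized map are left inverses up to a scalar. -/
theorem exists_leftInverse_localizedModule_iff [Module.Finite A M] [Module.Projective A N] (u : M →ₗ[A] N)
    (S : Submonoid A) :
    (∃ w : LocalizedModule S N →ₗ[A] LocalizedModule S M,
        w ∘ₗ LocalizedModule.map S u = LinearMap.id) ↔ ∃ s ∈ S, HasLeftInv u s := by
  classical
  constructor
  · rintro ⟨W, hW⟩
    obtain ⟨n, a, b, hab⟩ := exists_factor_finite_free u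
    let W₀ : (Fin n → A) →ₗ[A] LocalizedModule S M :=
      W ∘ₗ LocalizedModule.mkLinearMap S N ∘ₗ b
    obtain ⟨s₀, hs₀⟩ := IsLocalizedModule.exist_integer_multiples_of_finite S (LocalizedModule.mkLinearMap S M)
      fun k => W₀ (Pi.single k 1)
    choose m hm using hs₀
    let w : N →ₗ[A] M := Fintype.linearCombination A m ∘ₗ a
    have hw : ∀ y, LocalizedModule.mkLinearMap S M (w (u y)) = LocalizedModule.mkLinearMap S M ((s₀ : A) • y) := by
      intro y
      have h1 : W₀ (a (u y)) = LocalizedModule.mkLinearMap S M y := by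
        have h := LinearMap.congr_fun hW (LocalizedModule.mkLinearMap S M y)
        simp only [LinearMap.comp_apply, LinearMap.id_apply] at h
        conv_rhs => rw [← h]
        change W _ = W _
        congr 1
        rw [LinearMap.comp_apply, show b (a (u y)) = u y from LinearMap.congr_fun hab y, LocalizedModule.mkLinearMap_apply,
          LocalizedModule.mkLinearMap_apply, LinearMap.restrictScalars_apply, LocalizedModule.map_mk]
      rw [map_smul, ← h1]
      simp only [w, LinearMap.comp_apply, Fintype.linearCombination_apply, map_sum, map_smul]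
      rw [show a (u y) = ∑ k, a (u y) k • (Pi.single k 1 : Fin n → A) from pi_eq_sum_univ' _, map_sum, Finset.smul_sum]
      refine Finset.sum_congr rfl fun k _ => ?_
      rw [map_smul, hm, smul_comm]
      simp [Finset.sum_apply, Pi.single_apply, Finset.sum_ite_eq]
    obtain ⟨G, hG⟩ := (Module.Finite.fg_top (R := A) (M := M))
    choose t ht using fun y => IsLocalizedModule.exists_of_eq (S := S) (hw y)
    refine ⟨(∏ y ∈ G, (t y : A)) * s₀, S.mul_mem (S.prod_mem fun y _ => (t y).2) s₀.2,
      (∏ y ∈ G, (t y : A)) • w, LinearMap.ext_on_range (v := fun y : (G : Set M) => (y : M)) (by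
        rw [Subtype.range_coe_subtype, Set.setOf_mem_eq, hG]) fun ⟨y, hy⟩ => ?_⟩
    simp only [LinearMap.comp_apply, LinearMap.smul_apply, LinearMap.id_apply]
    rw [mul_smul, ← Finset.prod_erase_mul _ _ hy, mul_smul, mul_smul]
    congr 1
    exact ht y
  · rintro ⟨s, hs, w, hw⟩
    refine ⟨(Localization.mk 1 ⟨s, hs⟩ • LocalizedModule.map S w).restrictScalars A, LinearMap.ext fun z => ?_⟩
    induction z using LocalizedModule.induction_on with
    | h y t =>
      rw [LinearMap.comp_apply, LinearMap.restrictScalars_apply, LinearMap.restrictScalars_apply, LinearMap.smul_apply, LocalizedModule.map_mk, LocalizedModule.map_mk,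
        ← LinearMap.comp_apply w u, hw, LinearMap.smul_apply, LinearMap.id_apply, LocalizedModule.mk_smul_mk,
        one_smul, LinearMap.id_apply]
      exact LocalizedModule.mk_cancel_common_left ⟨s, hs⟩ t y

/-- The scalars of left inverses form an ideal; a global left inverse exists iff it is the unit ideal. -/
theorem exists_leftInverse_iff_forall_maximal (u : M →ₗ[A] N) :
    (∃ w : N →ₗ[A] M, w ∘ₗ u = LinearMap.id) ↔ ∀ m : Ideal A, m.IsMaximal → ∃ s ∉ m, HasLeftInv u s := by
  constructor
  · rintro ⟨w, hw⟩ m hm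
    exact ⟨1, m.one_notMem, w, by rw [one_smul, hw]⟩
  · intro h
    let I : Ideal A :=
      { carrier := {s | HasLeftInv u s}
        add_mem' := fun {a b} ⟨w, hw⟩ ⟨w', hw'⟩ => ⟨w + w', by rw [LinearMap.add_comp, hw, hw', add_smul]⟩
        zero_mem' := ⟨0, by rw [LinearMap.zero_comp, zero_smul]⟩
        smul_mem' := fun c a ⟨w, hw⟩ => ⟨c • w, by rw [LinearMap.smul_comp, hw, smul_smul, smul_eq_mul]⟩ }
    have hI : I = ⊤ := by
      by_contra hne
      obtain ⟨m, hm, hle⟩ := Ideal.exists_le_maximal I hne
      obtain ⟨s, hs, hw⟩ := h m hm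
      exact hs (hle hw)
    obtain ⟨w, hw⟩ : HasLeftInv u 1 := (Ideal.eq_top_iff_one I).1 hI
    exact ⟨w, by rw [hw, one_smul]⟩

end Groth.Agent.EGA41Lib
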