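import Mathlib
import Groth.Prelude.Def_CAlgX
import Groth.Agent.EGA41Lib.AdicSmoothQuotientSplit
import Groth.Agent.EGA41Lib.SmoothQuotientZariski
import Groth.Agent.CAlgH.AdicSmooth
import Groth.Agent.CAlgH3.RegularCore
import Groth.Agent.CAlgH3.CMRing
import Groth.Agent.CAlgH.AdicSmoothGeom
import Groth.Agent.CAlgH.AdicSmoothPowerSeries
import Groth.Agent.CAlgH.AdicSmoothModel
import Groth.Agent.CAlgH.NagataComplete
import Groth.Agent.DimLib.Algebra
import Groth.Agent.CommAlg6.CompletedKaehler
import Groth.Agent.S4557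

/-!
# Jacobian criteria for quotients of regular, adically smooth algebras
-/

set_option autoImplicit false
set_option backward.isDefEq.respectTransparency.types false

universe u

open IsLocalRing TensorProduct

namespace Groth.Agent.EGA41Lib.NJ

/-- Derivations extend to localisations. -/
theorem exists_derivation_localization {k A : Type u} [CommRing k] [CommRing A] [Algebra k A] (S : Submonoid A)
    (L : Type u) [CommRing L] [Algebra A L] [Algebra k L] [IsScalarTower k A L] [IsLocalization S L]
    (D : Derivation k A A) : ∃ D' : Derivation k L L, ∀ a, D' (algebraMap A L a) = algebraMap A L (D a) := by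
  haveI : Algebra.FormallyEtale A L := Algebra.FormallyEtale.of_isLocalization S
  let l : Ω[A⁄k] →ₗ[A] L := (Algebra.linearMap A L) ∘ₗ D.liftKaehlerDifferential
  refine ⟨((LinearMap.liftBaseChange L l) ∘ₗ
    (KaehlerDifferential.tensorKaehlerEquivOfFormallyEtale k A L).symm.toLinearMap).compDer
      (KaehlerDifferential.D k L), fun a => ?_⟩
  show LinearMap.liftBaseChange L l
    ((KaehlerDifferential.tensorKaehlerEquivOfFormallyEtale k A L).symm (KaehlerDifferential.D k L (algebraMap A L a))) = _
  rw [KaehlerDifferential.tensorKaehlerEquivOfFormallyEtale_symm_D_algebraMap, LinearMap.liftBaseChange_tmul, one_smul,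
    LinearMap.comp_apply, Derivation.liftKaehlerDifferential_comp_D, Algebra.linearMap_apply]

/-- Derivations with invertible Jacobian make the quotient adically smooth. -/
theorem adicSmooth_quotient_of_det {k L : Type u} [CommRing k] [CommRing L] [Algebra k L] [IsLocalRing L]
    [IsNoetherianRing L] (hL : CAlgX.IsAdicFormallySmooth k L (maximalIdeal L)) {J : Ideal L}
    (hJ : J ≤ maximalIdeal L) {m : ℕ} (f : Fin m → L) (D : Fin m → Derivation k L L)
    (hspan : J = Ideal.span (Set.range f)) (hdet : IsUnit (Matrix.det (Matrix.of fun i j => D j (f i)))) :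
    CAlgX.IsAdicFormallySmooth k (L ⧸ J) ((maximalIdeal L).map (Ideal.Quotient.mk J)) := by
  have hfJ : ∀ i, f i ∈ RingHom.ker (algebraMap L (L ⧸ J)) := fun i => by
    rw [Ideal.Quotient.algebraMap_eq, Ideal.mk_ker, hspan]; exact Ideal.subset_span ⟨i, rfl⟩
  obtain ⟨G, hG⟩ := SQL.good_of_det (A := k) (B := L) (C := L ⧸ J) (fun i => ⟨f i, hfJ i⟩) D (s := 1) (fun x hx => by
    rw [Ideal.Quotient.algebraMap_eq, Ideal.mk_ker, hspan] at hx
    rw [one_mul]; exact hx)
  rw [one_mul] at hG
  have key : ∀ K : Ideal L, K = RingHom.ker (algebraMap L (L ⧸ J)) → K ≤ maximalIdeal L →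
      ∃ d : Derivation k L (K ⧸ maximalIdeal L • (⊤ : Submodule L K)), ∀ x : K, d x = Submodule.Quotient.mk x := by
    rintro K rfl hK
    let c : (RingHom.ker (algebraMap L (L ⧸ J))).Cotangent →ₗ[L]
        RingHom.ker (algebraMap L (L ⧸ J)) ⧸ maximalIdeal L • (⊤ : Submodule L (RingHom.ker (algebraMap L (L ⧸ J)))) :=
      Submodule.liftQ _ (Submodule.mkQ _) (by rw [Submodule.ker_mkQ]; exact Submodule.smul_mono hK le_rfl)
    obtain ⟨e, he⟩ := hdet
    refine ⟨((↑e⁻¹ : L) • c).compDer G, fun x => ?_⟩
    show (↑e⁻¹ : L) • c (G (x : L)) = _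
    rw [hG, map_smul, smul_smul]
    show ((↑e⁻¹ : L) * Matrix.det (Matrix.of fun i j => D j (f i))) • Submodule.Quotient.mk x = _
    rw [← he, Units.inv_mul, one_smul]
  obtain ⟨d, hd⟩ := key J (by rw [Ideal.Quotient.algebraMap_eq, Ideal.mk_ker]) hJ
  exact SplitJac.adicSmooth_of_exists_derivation hL hJ (n := 1) (m := 1) (by rw [pow_one])
    (by rw [pow_one]; exact le_sup_left) d hd

section Quotient

variable {k A : Type u} [CommRing k] [CommRing A] [Algebra k A] {q p : Ideal A} [p.IsPrime]
  [(p.map (Ideal.Quotient.mk q)).IsPrime]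

/-- The local ring of a quotient is the quotient of the local ring. -/
theorem exists_quotient_algEquiv (hqp : q ≤ p) :
    ∃ e : (Localization.AtPrime p ⧸ q.map (algebraMap A (Localization.AtPrime p))) ≃ₐ[k]
      Localization.AtPrime (p.map (Ideal.Quotient.mk q)), True := by
  let L := Localization.AtPrime p
  have hM : Algebra.algebraMapSubmonoid (A ⧸ q) p.primeCompl = (p.map (Ideal.Quotient.mk q)).primeCompl := by
    refine le_antisymm ?_ fun z hz => ?_
    · rintro _ ⟨a, ha, rfl⟩ hmem
      exact ha ((Ideal.mem_quotient_iff_mem hqp).1 hmem)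
    · obtain ⟨a, rfl⟩ := Ideal.Quotient.mk_surjective z
      exact ⟨a, fun hm => hz ((Ideal.mem_quotient_iff_mem hqp).2 hm), rfl⟩
  have h0 : IsLocalization (Algebra.algebraMapSubmonoid (A ⧸ q) p.primeCompl) (L ⧸ q.map (algebraMap A L)) := inferInstance
  rw [hM] at h0
  haveI := h0
  haveI : IsScalarTower k (A ⧸ q) (L ⧸ q.map (algebraMap A L)) := IsScalarTower.of_algebraMap_eq fun c => by
    show Ideal.Quotient.mk (q.map (algebraMap A L)) (algebraMap k L c) =
      Ideal.Quotient.mk (q.map (algebraMap A L)) (algebraMap A L (algebraMap k A c))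
    rw [← IsScalarTower.algebraMap_apply k A L]
  exact ⟨(IsLocalization.algEquiv (p.map (Ideal.Quotient.mk q)).primeCompl (L ⧸ q.map (algebraMap A L))
    (Localization.AtPrime (p.map (Ideal.Quotient.mk q)))).restrictScalars k, trivial⟩

theorem adicSmooth_localization_quotient (hqp : q ≤ p)
    (h : CAlgX.IsAdicFormallySmooth k (Localization.AtPrime p ⧸ q.map (algebraMap A (Localization.AtPrime p)))
      ((maximalIdeal (Localization.AtPrime p)).map (Ideal.Quotient.mk _))) :
    CAlgX.IsAdicFormallySmooth k (Localization.AtPrime (p.map (Ideal.Quotient.mk q)))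
      (maximalIdeal (Localization.AtPrime (p.map (Ideal.Quotient.mk q)))) := by
  obtain ⟨e, -⟩ := exists_quotient_algEquiv (k := k) hqp
  refine CAlgH.AdicSmooth.of_algEquiv e ?_ h
  rw [Ideal.map_map]
  exact IsLocalRing.map_maximalIdeal_of_surjective _ (e.surjective.comp Ideal.Quotient.mk_surjective)

end Quotient

/-- Derivations with Jacobian outside `p` make the quotient adically smooth at `p`. -/
theorem adicSmooth_of_det {k A : Type u} [CommRing k] [CommRing A] [IsNoetherianRing A] [Algebra k A]
    (q p : Ideal A) [p.IsPrime] (hqp : q ≤ p) [(p.map (Ideal.Quotient.mk q)).IsPrime]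
    (hAp : CAlgX.IsAdicFormallySmooth k (Localization.AtPrime p) (maximalIdeal (Localization.AtPrime p)))
    {m : ℕ} (D : Fin m → Derivation k A A) (f : Fin m → A)
    (hspan : q.map (algebraMap A (Localization.AtPrime p)) =
      Ideal.span (Set.range fun i => algebraMap A (Localization.AtPrime p) (f i)))
    (hdet : Matrix.det (Matrix.of fun i j => D i (f j)) ∉ p) :
    CAlgX.IsAdicFormallySmooth k (Localization.AtPrime (p.map (Ideal.Quotient.mk q)))
      (maximalIdeal (Localization.AtPrime (p.map (Ideal.Quotient.mk q)))) := by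
  let L := Localization.AtPrime p
  haveI : IsNoetherianRing L := IsLocalization.isNoetherianRing p.primeCompl L inferInstance
  choose D' hD' using fun i => exists_derivation_localization p.primeCompl L (D i)
  refine adicSmooth_localization_quotient hqp (adicSmooth_quotient_of_det hAp ?_ (fun i => algebraMap A L (f i)) D'
    hspan ?_)
  · rw [← IsLocalization.AtPrime.map_eq_maximalIdeal p L]
    exact Ideal.map_mono hqp
  · have h1 : (Matrix.of fun i j => D' j (algebraMap A L (f i))) =
        (algebraMap A L).mapMatrix (Matrix.of fun i j => D i (f j)).transpose := by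
      ext i j
      rw [RingHom.mapMatrix_apply, Matrix.map_apply, Matrix.transpose_apply, Matrix.of_apply, Matrix.of_apply, hD']
    rw [h1, ← RingHom.map_det, Matrix.det_transpose]
    exact IsLocalization.map_units L (⟨_, hdet⟩ : p.primeCompl)

section Regular

variable {A : Type u} [CommRing A] (p : Ideal A) [p.IsPrime]

/-- An element that lies in the prime and whose image is in the square of the maximal ideal. -/
theorem coeff_mem_of_sum_mem_sq {L : Type u} [CommRing L] [IsRegularLocalRing L] {d : ℕ} (rs : Fin d → L)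
    (hd : (maximalIdeal L).spanFinrank = d) (hspan : Ideal.span (Set.range rs) = maximalIdeal L) (a : Fin d → L)
    (ha : ∑ i, a i * rs i ∈ maximalIdeal L ^ 2) (i : Fin d) : a i ∈ maximalIdeal L := by
  classical
  let v : Fin d → CotangentSpace L := fun i =>
    (maximalIdeal L).toCotangent ⟨rs i, hspan ▸ Ideal.subset_span ⟨i, rfl⟩⟩
  have htop : ⊤ ≤ Submodule.span (ResidueField L) (Set.range v) := fun z _ => by
    obtain ⟨x, rfl⟩ := (maximalIdeal L).toCotangent_surjective z
    obtain ⟨c, hc⟩ := Ideal.mem_span_range_iff_exists_fun.1 (hspan.ge x.2)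
    have hx : x = ∑ i, c i • (⟨rs i, hspan ▸ Ideal.subset_span ⟨i, rfl⟩⟩ : maximalIdeal L) := Subtype.ext (by
      rw [AddSubmonoidClass.coe_finsetSum, ← hc]; exact Finset.sum_congr rfl fun i _ => rfl)
    rw [hx, map_sum]
    refine Submodule.sum_mem _ fun i _ => ?_
    rw [map_smul, ← algebraMap_smul (ResidueField L)]
    exact Submodule.smul_mem _ _ (Submodule.subset_span ⟨i, rfl⟩)
  have hli : LinearIndependent (ResidueField L) v := linearIndependent_of_top_le_span_of_card_eq_finrank htop (by
    rw [Fintype.card_fin, ← IsLocalRing.spanFinrank_maximalIdeal_eq_finrank_cotangentSpace, hd])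
  rw [← IsLocalRing.residue_eq_zero_iff]
  refine Fintype.linearIndependent_iff.1 hli (fun i => residue L (a i)) ?_ i
  have : (maximalIdeal L).toCotangent (∑ i, a i • (⟨rs i, hspan ▸ Ideal.subset_span ⟨i, rfl⟩⟩ : maximalIdeal L)) = 0 := by
    rw [Ideal.toCotangent_eq_zero, AddSubmonoidClass.coe_finsetSum]
    exact ha
  rw [map_sum] at this
  refine Eq.trans (Finset.sum_congr rfl fun i _ => ?_) this
  rw [map_smul, ← algebraMap_smul (ResidueField L) (a i), IsLocalRing.ResidueField.algebraMap_eq]

/-- Clearing denominators of generators of `q A_p`. -/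
theorem exists_mem_unit_mul {q : Ideal A} {x : Localization.AtPrime p}
    (hx : x ∈ q.map (algebraMap A (Localization.AtPrime p))) :
    ∃ (a : A) (u : Localization.AtPrime p), a ∈ q ∧ IsUnit u ∧ algebraMap A _ a = u * x := by
  obtain ⟨⟨a, s⟩, h⟩ := (IsLocalization.mem_map_algebraMap_iff p.primeCompl _).1 hx
  exact ⟨a, algebraMap A _ s, a.2, IsLocalization.map_units _ s, by rw [← h, mul_comm]⟩

variable [IsNoetherianRing A] [IsRegularLocalRing (Localization.AtPrime p)] {r : ℕ}

/-- A separating family of derivations turns regularity of a quotient into an invertible minor. -/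
theorem exists_det_of_regular {k : Type u} [CommRing k] [Algebra k A] (δ : Fin r → Derivation k A A)
    (hinj : ∀ g ∈ p, (∀ i, δ i g ∈ p) → algebraMap A (Localization.AtPrime p) g ∈
      maximalIdeal (Localization.AtPrime p) ^ 2)
    (q : Ideal A) (hqp : q ≤ p) [(p.map (Ideal.Quotient.mk q)).IsPrime]
    (hreg : IsRegularLocalRing (Localization.AtPrime (p.map (Ideal.Quotient.mk q)))) :
    ∃ (m : ℕ) (D : Fin m → Derivation k A A) (f : Fin m → A), (∀ i, f i ∈ q) ∧
      q.map (algebraMap A (Localization.AtPrime p)) =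
        Ideal.span (Set.range fun i => algebraMap A (Localization.AtPrime p) (f i)) ∧
      Matrix.det (Matrix.of fun i j => D i (f j)) ∉ p := by
  classical
  let L := Localization.AtPrime p
  let J := q.map (algebraMap A L)
  obtain ⟨e, -⟩ := exists_quotient_algEquiv (k := k) hqp
  haveI : IsRegularLocalRing (L ⧸ J) := IsRegularLocalRing.of_ringEquiv e.toRingEquiv.symm
  obtain ⟨d, hd⟩ : ∃ d, (maximalIdeal L).spanFinrank = d := ⟨_, rfl⟩
  obtain ⟨rs, hlen, hrs, c, hcd, hJ⟩ := CAlgH3.exists_sop_of_regular_quotient d L hd J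
  let ρ : Fin d → L := fun i => rs.get (i.cast hlen.symm)
  have hρspan : Ideal.span (Set.range ρ) = maximalIdeal L := by
    rw [← hrs, Ideal.ofList]
    congr 1
    ext z
    constructor
    · rintro ⟨i, rfl⟩; exact List.get_mem rs _
    · intro hz
      obtain ⟨i, hi⟩ := List.get_of_mem hz
      exact ⟨i.cast hlen, hi⟩
  let emb : Fin c → Fin d := Fin.castLE hcd
  have hJ' : J = Ideal.span (Set.range (ρ ∘ emb)) := by
    rw [hJ, Ideal.ofList]
    congr 1
    ext z
    constructor
    · intro hz
      obtain ⟨i, hi, rfl⟩ := List.mem_take_iff_getElem.1 hz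
      exact ⟨⟨i, lt_of_lt_of_le hi (min_le_left _ _)⟩, rfl⟩
    · rintro ⟨i, rfl⟩
      exact List.mem_take_iff_getElem.2 ⟨i, lt_min i.2 (by rw [hlen]; exact lt_of_lt_of_le i.2 hcd), rfl⟩
  choose f u hfq hu hf using fun i : Fin c => exists_mem_unit_mul p (q := q) (x := ρ (emb i))
    (hJ'.ge (Ideal.subset_span ⟨i, rfl⟩))
  have hspanq : J = Ideal.span (Set.range fun i => algebraMap A L (f i)) := by
    refine le_antisymm ?_ (Ideal.span_le.2 ?_)
    · rw [hJ', Ideal.span_le]
      rintro _ ⟨i, rfl⟩
      refine (Ideal.unit_mul_mem_iff_mem _ (hu i)).1 ?_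
      show u i * ρ (emb i) ∈ _
      rw [← hf]
      exact Ideal.subset_span ⟨i, rfl⟩
    · rintro _ ⟨i, rfl⟩
      exact Ideal.mem_map_of_mem _ (hfq i)
  -- the Jacobian has independent rows modulo `p`
  let κ := FractionRing (A ⧸ p)
  have hκ : ∀ x : A, algebraMap (A ⧸ p) κ (Ideal.Quotient.mk p x) = 0 ↔ x ∈ p := fun x => by
    rw [← map_zero (algebraMap (A ⧸ p) κ), (IsFractionRing.injective (A ⧸ p) κ).eq_iff, Ideal.Quotient.eq_zero_iff_mem]
  let M : Matrix (Fin c) (Fin r) κ := Matrix.of fun j i => algebraMap (A ⧸ p) κ (Ideal.Quotient.mk p (δ i (f j)))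
  have hli : LinearIndependent κ M.row := Fintype.linearIndependent_iff.2 fun co hco j => by
    obtain ⟨⟨b, hb⟩, hb'⟩ := IsLocalization.exist_integer_multiples (nonZeroDivisors (A ⧸ p)) (Finset.univ : Finset (Fin c)) co
    choose w hw using fun i => hb' i (Finset.mem_univ i)
    choose a ha using fun i => Ideal.Quotient.mk_surjective (w i)
    have hbne : algebraMap (A ⧸ p) κ b ≠ 0 := fun h => nonZeroDivisors.ne_zero hb
      ((IsFractionRing.injective (A ⧸ p) κ) (h.trans (map_zero _).symm))
    have hwa : ∀ i, algebraMap (A ⧸ p) κ (Ideal.Quotient.mk p (a i)) = algebraMap (A ⧸ p) κ b * co i := fun i => by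
      rw [ha, hw i]; exact Algebra.smul_def _ _
    have hg : ∀ i, δ i (∑ j, a j * f j) ∈ p := fun i => by
      rw [← hκ, map_sum, map_sum, map_sum]
      have h1 := congrArg (fun z => algebraMap (A ⧸ p) κ b * z) (congrFun hco i)
      simp only [Finset.sum_apply, Pi.smul_apply, Pi.zero_apply, mul_zero, Finset.mul_sum, smul_eq_mul] at h1
      refine Eq.trans (Finset.sum_congr rfl fun j _ => ?_) h1
      rw [Derivation.leibniz, map_add, map_add, smul_eq_mul, smul_eq_mul, map_mul, map_mul, map_mul, map_mul,
        (hκ (f j)).2 (hqp (hfq j)), zero_mul, add_zero, hwa, mul_assoc]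
      rfl
    have hgp : (∑ j, a j * f j) ∈ p := p.sum_mem fun j _ => p.mul_mem_left _ (hqp (hfq j))
    have hsq := hinj _ hgp hg
    let A' : Fin d → L := fun i => ∑ j, if emb j = i then algebraMap A L (a j) * u j else 0
    have hA' : ∑ i, A' i * ρ i = algebraMap A L (∑ j, a j * f j) := by
      have : ∀ i, A' i * ρ i = ∑ j, if emb j = i then algebraMap A L (a j) * u j * ρ i else 0 := fun i => by
        show (∑ j, if emb j = i then algebraMap A L (a j) * u j else 0) * ρ i = _
        rw [Finset.sum_mul]
        exact Finset.sum_congr rfl fun j _ => by split_ifs <;> simp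
      rw [Finset.sum_congr rfl fun i _ => this i, Finset.sum_comm, map_sum]
      refine Finset.sum_congr rfl fun j _ => ?_
      rw [Finset.sum_ite_eq, if_pos (Finset.mem_univ _), map_mul, hf, mul_assoc]
    have hmem := coeff_mem_of_sum_mem_sq ρ hd hρspan A' (hA' ▸ hsq) (emb j)
    have hA'j : A' (emb j) = algebraMap A L (a j) * u j := by
      show (∑ j', if emb j' = emb j then _ else 0) = _
      rw [Finset.sum_eq_single j (fun j' _ hne => if_neg fun h => hne (Fin.castLE_injective hcd h))
        (fun h => absurd (Finset.mem_univ j) h), if_pos rfl]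
    rw [hA'j, Ideal.mul_unit_mem_iff_mem _ (hu j), IsLocalization.AtPrime.to_map_mem_maximal_iff L p] at hmem
    have h2 := hwa j
    rw [(hκ _).2 hmem] at h2
    exact (mul_eq_zero.1 h2.symm).resolve_left hbne
  -- choose independent columns
  have hrank : M.rank = c := by rw [LinearIndependent.rank_matrix hli, Fintype.card_fin]
  rw [Matrix.rank_eq_finrank_span_cols] at hrank
  obtain ⟨g, hgmem, -, hgli⟩ := Submodule.exists_fun_fin_finrank_span_eq κ (Set.range M.col)
  choose idx hidx using hgmem
  let ix : Fin c → Fin r := fun i => idx (i.cast hrank.symm)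
  have hcols : LinearIndependent κ (Matrix.of fun i j => M j (ix i)).row := by
    have h0 : (fun i : Fin c => M.col (ix i)) = fun i => g (i.cast hrank.symm) := funext fun i => hidx _
    have h1 := hgli.comp (fun i : Fin c => i.cast hrank.symm) (Fin.cast_injective _)
    show LinearIndependent κ (fun i : Fin c => M.col (ix i))
    rw [h0]; exact h1
  refine ⟨c, fun i => δ (ix i), f, hfq, hspanq, fun hdet => ?_⟩
  rw [Matrix.linearIndependent_rows_iff_isUnit, Matrix.isUnit_iff_isUnit_det] at hcols
  refine hcols.ne_zero ?_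
  rw [← (hκ _).2 hdet, RingHom.map_det, RingHom.map_det]
  rfl

end Regular

/-- The residue field of a quotient of power series is finite over the coefficients. -/
theorem finite_residueField_quotient {k : Type u} [Field k] {r : ℕ} (p : Ideal (MvPowerSeries (Fin r) k))
    [IsLocalRing (MvPowerSeries (Fin r) k ⧸ p)] : Module.Finite k (ResidueField (MvPowerSeries (Fin r) k ⧸ p)) := by
  refine ⟨⟨{(1 : ResidueField _)}, eq_top_iff.2 fun z _ => ?_⟩⟩
  obtain ⟨y, rfl⟩ := residue_surjective z
  obtain ⟨a, rfl⟩ := Ideal.Quotient.mk_surjective y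
  rw [Finset.coe_singleton, Submodule.mem_span_singleton]
  refine ⟨MvPowerSeries.constantCoeff a, ?_⟩
  rw [← Algebra.algebraMap_eq_smul_one]
  symm
  rw [IsScalarTower.algebraMap_apply k (MvPowerSeries (Fin r) k ⧸ p), IsLocalRing.ResidueField.algebraMap_eq,
    ← sub_eq_zero, ← map_sub, IsScalarTower.algebraMap_apply k (MvPowerSeries (Fin r) k) _,
    Ideal.Quotient.algebraMap_eq, ← map_sub, residue_eq_zero_iff, mem_maximalIdeal, mem_nonunits_iff]
  intro hu
  have hmk : IsLocalHom (Ideal.Quotient.mk p) := IsLocalHom.of_surjective _ Ideal.Quotient.mk_surjective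
  have := hmk.map_nonunit _ hu
  rw [MvPowerSeries.isUnit_iff_constantCoeff, map_sub] at this
  simp [MvPowerSeries.algebraMap_apply] at this

section PowerSeries

variable {k : Type u} [Field k] {r s : ℕ} (p : Ideal (MvPowerSeries (Fin r) k)) [p.IsPrime]
  [Algebra (MvPowerSeries (Fin s) k) (MvPowerSeries (Fin r) k ⧸ p)]
  [IsScalarTower k (MvPowerSeries (Fin s) k) (MvPowerSeries (Fin r) k ⧸ p)]
  [Module.Finite (MvPowerSeries (Fin s) k) (MvPowerSeries (Fin r) k ⧸ p)]

/-- An element of `p` killed modulo `p` by all partial derivatives lies in the symbolic square of `p`. -/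
theorem mem_sq_of_pderiv [IsRegularLocalRing (Localization.AtPrime p)]
    (hinj : Function.Injective (algebraMap (MvPowerSeries (Fin s) k) (MvPowerSeries (Fin r) k ⧸ p)))
    (hsep : ∀ a : MvPowerSeries (Fin r) k ⧸ p, ∃ P : Polynomial (MvPowerSeries (Fin s) k), Polynomial.aeval a P = 0 ∧
      (P.map (algebraMap (MvPowerSeries (Fin s) k) (FractionRing (MvPowerSeries (Fin s) k)))).Separable)
    (g : MvPowerSeries (Fin r) k) (hg : g ∈ p) (hdg : ∀ i, MvPowerSeries.pderiv k i g ∈ p) :
    algebraMap _ (Localization.AtPrime p) g ∈ maximalIdeal (Localization.AtPrime p) ^ 2 := by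
  classical
  let A := MvPowerSeries (Fin r) k
  let C := A ⧸ p
  let κ := FractionRing C
  let L := Localization.AtPrime p
  haveI : IsAdicComplete (maximalIdeal A) A := by
    rw [CAlgH3.maximalIdeal_mvPowerSeries_eq]; exact CAlgH.isAdicComplete_mvPowerSeries (Fin r) k
  haveI : IsLocalRing C := IsLocalRing.of_surjective' _ Ideal.Quotient.mk_surjective
  haveI : IsAdicComplete (maximalIdeal C) C := CAlgH.isAdicComplete_quotient p
  have hrank : Module.finrank κ (κ ⊗[C] CommAlg6.CKaehler k C) = s := S4557.result k s C hinj hsep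
  have hκ : ∀ x : A, algebraMap C κ (Ideal.Quotient.mk p x) = 0 ↔ x ∈ p := fun x => by
    rw [← map_zero (algebraMap C κ), (IsFractionRing.injective C κ).eq_iff, Ideal.Quotient.eq_zero_iff_mem]
  let grad : A → (Fin r → C) := fun a i => Ideal.Quotient.mk p (MvPowerSeries.pderiv k i a)
  let toK : (Fin r → C) →ₗ[C] (Fin r → κ) := LinearMap.pi fun i => (Algebra.linearMap C κ).comp (LinearMap.proj i)
  let W : Submodule κ (Fin r → κ) := Submodule.span κ ((fun a => toK (grad a)) '' p)
  -- the rank of `W`
  let P : Submodule C (Fin r → C) := Submodule.span C (grad '' p)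
  let δ : Derivation k C ((Fin r → C) ⧸ P) :=
    Derivation.mk'
      (Submodule.liftQ (p.restrictScalars k)
        { toFun := fun a => Submodule.Quotient.mk (grad a)
          map_add' := fun a b => by
            rw [← Submodule.Quotient.mk_add]; congr 1; funext i; simp [grad]
          map_smul' := fun c a => by
            rw [RingHom.id_apply, ← Submodule.Quotient.mk_smul]; congr 1; funext i
            show Ideal.Quotient.mk p (MvPowerSeries.pderiv k i (c • a)) = c • Ideal.Quotient.mk p _
            rw [Derivation.map_smul]; rfl }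
        (fun a ha => (Submodule.Quotient.mk_eq_zero P).2 (Submodule.subset_span ⟨a, ha, rfl⟩)))
      (fun x y => by
        obtain ⟨a, rfl⟩ := Ideal.Quotient.mk_surjective x
        obtain ⟨b, rfl⟩ := Ideal.Quotient.mk_surjective y
        show Submodule.Quotient.mk (grad (a * b)) = Ideal.Quotient.mk p a • Submodule.Quotient.mk (grad b) +
          Ideal.Quotient.mk p b • Submodule.Quotient.mk (grad a)
        rw [← Submodule.Quotient.mk_smul, ← Submodule.Quotient.mk_smul, ← Submodule.Quotient.mk_add]
        congr 1; funext i; simp [grad])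
  haveI : Module.Finite C ((Fin r → C) ⧸ P) := inferInstance
  obtain ⟨ψ, hψ⟩ := CommAlg6.exists_cKaehler_lift k C δ
  let toW : ((Fin r → C) ⧸ P) →ₗ[C] ((Fin r → κ) ⧸ W) := Submodule.liftQ P ((W.mkQ.restrictScalars C).comp toK) (by
    rw [Submodule.span_le]
    rintro _ ⟨a, ha, rfl⟩
    exact (Submodule.Quotient.mk_eq_zero W).2 (Submodule.subset_span ⟨a, ha, rfl⟩))
  let Φ : κ ⊗[C] CommAlg6.CKaehler k C →ₗ[κ] ((Fin r → κ) ⧸ W) := LinearMap.liftBaseChange κ (toW.comp ψ)
  have hΦ : Function.Surjective Φ := fun z => by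
    obtain ⟨y, rfl⟩ := W.mkQ_surjective z
    refine ⟨∑ i, y i • ((1 : κ) ⊗ₜ[C] CommAlg6.cD k C (Ideal.Quotient.mk p (MvPowerSeries.X i))), ?_⟩
    conv_rhs => rw [pi_eq_sum_univ y, map_sum]
    rw [map_sum]
    refine Finset.sum_congr rfl fun i _ => ?_
    rw [map_smul, map_smul, LinearMap.liftBaseChange_tmul, one_smul, LinearMap.comp_apply, hψ]
    congr 1
    show W.mkQ (toK (grad (MvPowerSeries.X i))) = _
    congr 1
    funext j
    show algebraMap C κ (Ideal.Quotient.mk p (MvPowerSeries.pderiv k j (MvPowerSeries.X i))) = _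
    rw [MvPowerSeries.pderiv_X, Pi.single_apply]
    by_cases h : i = j
    · rw [if_pos h, if_pos h, map_one, map_one]
    · rw [if_neg h, if_neg h, map_zero, map_zero]
  haveI hres : Module.Finite k (ResidueField C) := finite_residueField_quotient p
  haveI := CommAlg6.finite_cKaehler k C
  have hW : r ≤ Module.finrank κ W + s := by
    have h1 := LinearMap.finrank_le_finrank_of_surjective hΦ
    rw [hrank] at h1
    have h2 := Submodule.finrank_quotient_add_finrank W
    rw [Module.finrank_fintype_fun_eq_card, Fintype.card_fin] at h2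
    omega
  -- regular system of parameters in `p`
  obtain ⟨d, hd⟩ : ∃ d, (maximalIdeal L).spanFinrank = d := ⟨_, rfl⟩
  have hdim : d + s = r := by
    have h1 : ringKrullDim L = (d : WithBot ℕ∞) := by
      rw [← hd, IsRegularLocalRing.spanFinrank_maximalIdeal]
    haveI : IsRegularLocalRing (MvPowerSeries (Fin r) k) := (CAlgH.isRegularLocalRing_mvPowerSeries k r).1
    haveI : _root_.LocCoh.IsCohenMacaulayLocalRing (MvPowerSeries (Fin r) k) := CAlgH3.isCohenMacaulayLocalRing_of_regular _
    have h2 := CAlgH3.height_add_ringKrullDim_quotient p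
    rw [← IsLocalization.AtPrime.ringKrullDim_eq_height p L, h1,
      ← DimLib.ringKrullDim_eq_of_isIntegral (R := MvPowerSeries (Fin s) k) (S := C) hinj,
      CAlgH.AdicSmooth.ringKrullDim_mvPowerSeries_regular, CAlgH.AdicSmooth.ringKrullDim_mvPowerSeries_regular,
      ringKrullDim_eq_zero_of_field, zero_add, zero_add, ← Nat.cast_add] at h2
    exact_mod_cast h2
  have hfg : (maximalIdeal L).FG := IsNoetherian.noetherian _
  obtain ⟨ρ, hρ⟩ : ∃ ρ : Fin d → L, Ideal.span (Set.range ρ) = maximalIdeal L := by
    haveI := (Submodule.FG.finite_generators hfg).fintype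
    have hcard : Fintype.card (Submodule.generators (maximalIdeal L)) = d := by
      rw [← Nat.card_eq_fintype_card, Nat.card_coe_set_eq, Submodule.FG.generators_ncard hfg, hd]
    refine ⟨fun i => ((Fintype.equivFinOfCardEq hcard).symm i).1, ?_⟩
    rw [show Set.range (fun i => ((Fintype.equivFinOfCardEq hcard).symm i).1) = Submodule.generators (maximalIdeal L) by
      rw [show (fun i => ((Fintype.equivFinOfCardEq hcard).symm i).1) = Subtype.val ∘ (Fintype.equivFinOfCardEq hcard).symm from rfl,
        Set.range_comp, Equiv.range_eq_univ, Set.image_univ, Subtype.range_coe]]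
    exact Submodule.span_generators _
  have hρmem : ∀ j, ρ j ∈ p.map (algebraMap A L) := fun j => by
    rw [IsLocalization.AtPrime.map_eq_maximalIdeal p L, ← hρ]; exact Ideal.subset_span ⟨j, rfl⟩
  choose f u hfp hu hf using fun j => exists_mem_unit_mul p (hρmem j)
  have hρ' : maximalIdeal L = Ideal.span (Set.range fun j => algebraMap A L (f j)) := by
    refine le_antisymm ?_ (Ideal.span_le.2 ?_)
    · conv_lhs => rw [← hρ]
      rw [Ideal.span_le]
      rintro _ ⟨j, rfl⟩
      refine (Ideal.unit_mul_mem_iff_mem _ (hu j)).1 ?_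
      rw [← hf]
      exact Ideal.subset_span ⟨j, rfl⟩
    · rintro _ ⟨j, rfl⟩
      rw [← IsLocalization.AtPrime.map_eq_maximalIdeal p L]
      exact Ideal.mem_map_of_mem _ (hfp j)
  have key : ∀ a ∈ p, ∃ (t : A) (b : Fin d → A), t ∉ p ∧ t * a = ∑ j, b j * f j := fun a ha => by
    have h1 : algebraMap A L a ∈ (Ideal.span (Set.range f)).map (algebraMap A L) := by
      rw [Ideal.map_span, ← Set.range_comp]
      show algebraMap A L a ∈ Ideal.span (Set.range fun j => algebraMap A L (f j))
      rw [← hρ', ← IsLocalization.AtPrime.map_eq_maximalIdeal p L]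
      exact Ideal.mem_map_of_mem _ ha
    obtain ⟨⟨⟨x, hx⟩, t⟩, ht⟩ := (IsLocalization.mem_map_algebraMap_iff p.primeCompl L).1 h1
    rw [← map_mul, IsLocalization.eq_iff_exists p.primeCompl] at ht
    obtain ⟨c, hc⟩ := ht
    obtain ⟨b, hb⟩ := Ideal.mem_span_range_iff_exists_fun.1 hx
    refine ⟨c * t, fun j => c * b j, (c * t).2, ?_⟩
    rw [mul_assoc, mul_comm (t : A), hc]
    show (c : A) * x = _
    rw [← hb, Finset.mul_sum]
    simp only [mul_assoc]
  have hgrad : ∀ (a : A) (t : A) (b : Fin d → A), a ∈ p → t * a = ∑ j, b j * f j →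
      algebraMap C κ (Ideal.Quotient.mk p t) • toK (grad a) =
        ∑ j, algebraMap C κ (Ideal.Quotient.mk p (b j)) • toK (grad (f j)) := fun a t b ha h => by
    funext i
    have h1 := congrArg (fun z => algebraMap C κ (Ideal.Quotient.mk p (MvPowerSeries.pderiv k i z))) h
    simp only [map_sum, Derivation.leibniz, smul_eq_mul, map_add, map_mul, (hκ a).2 ha, zero_mul, add_zero] at h1
    simp only [(hκ _).2 (hfp _), zero_mul, add_zero] at h1
    rw [Finset.sum_apply]
    exact h1
  have hWle : W ≤ Submodule.span κ (Set.range fun j => toK (grad (f j))) := by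
    rw [Submodule.span_le]
    rintro _ ⟨a, ha, rfl⟩
    obtain ⟨t, b, ht, h⟩ := key a ha
    refine (Submodule.smul_mem_iff _ (fun h0 => ht ((hκ t).1 h0))).1 ?_
    rw [hgrad a t b ha h]
    exact Submodule.sum_mem _ fun j _ => Submodule.smul_mem _ _ (Submodule.subset_span ⟨j, rfl⟩)
  have hli : LinearIndependent κ (fun j => toK (grad (f j))) := by
    refine linearIndependent_iff_card_le_finrank_span.2 ?_
    have h1 := Submodule.finrank_mono hWle
    rw [Fintype.card_fin]
    show d ≤ Module.finrank κ (Submodule.span κ (Set.range fun j => toK (grad (f j))))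
    omega
  obtain ⟨t, b, ht, h⟩ := key g hg
  have h0 : ∑ j, algebraMap C κ (Ideal.Quotient.mk p (b j)) • toK (grad (f j)) = 0 := by
    rw [← hgrad g t b hg h]
    have : toK (grad g) = 0 := funext fun i => (hκ _).2 (hdg i)
    rw [this, smul_zero]
  have hb := Fintype.linearIndependent_iff.1 hli _ h0
  refine (Ideal.unit_mul_mem_iff_mem _ (IsLocalization.map_units L (⟨t, ht⟩ : p.primeCompl))).1 ?_
  rw [← map_mul, h, map_sum, pow_two]
  refine Ideal.sum_mem _ fun j _ => ?_
  rw [map_mul]
  exact Ideal.mul_mem_mul ((IsLocalization.AtPrime.to_map_mem_maximal_iff L p _).2 ((hκ _).1 (hb j)))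
    ((IsLocalization.AtPrime.to_map_mem_maximal_iff L p _).2 (hfp j))

end PowerSeries

end Groth.Agent.EGA41Lib.NJ
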