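import Mathlib
import Groth.Agent.EGA41Lib.FrobeniusStage
import Groth.Agent.CommAlg6.CompletedKaehlerRank

/-!
# Differentials relative to a stage
-/

set_option autoImplicit false
set_option backward.isDefEq.respectTransparency.types false

universe u v

open MvPowerSeries TensorProduct

namespace Groth.Agent.EGA41Lib.FS

open Classical in
/-- A finite `p`-basis with dual derivations, for a finite height-one extension. -/
theorem exists_pbasis_dual (p : ℕ) [hp : Fact p.Prime] {K : Type u} [Field K] [CharP K p] (M : Type v) [Field M]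
    [Algebra M K] [Module.Finite M K] (hM : ∀ x : K, x ^ p ∈ Set.range (algebraMap M K)) :
    ∃ (β : Finset K) (D : K → Derivation M K K), (∀ b ∈ β, ∀ b' ∈ β, D b b' = if b = b' then 1 else 0) ∧
      Algebra.adjoin M (β : Set K) = ⊤ ∧ Module.finrank M K = p ^ β.card ∧
      Module.finrank K Ω[K⁄M] = β.card ∧ Module.Finite K Ω[K⁄M] := by
  classical
  have hinj : Function.Injective (algebraMap M K) := (algebraMap M K).injective
  obtain ⟨B, -, -, hB, hgen⟩ := PB.exists_indOn_between (p := p) hM hinj (id : K → K)
    (Set.empty_subset Set.univ) (PB.indOn_empty hM hinj _)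
  have hli := PB.linearIndependent_comp_of_indOn (x := (id : K → K)) (Subtype.val : B → K) Subtype.val_injective
    (fun i => i.2) hB
  have hadj : Algebra.adjoin M (Set.range (Subtype.val : B → K)) = ⊤ := by
    rw [Subtype.range_coe, eq_top_iff]
    intro k _
    simpa using hgen k (Set.mem_univ k)
  haveI hfinR : Finite (PB.Red p B) := hli.finite
  haveI : Finite B := by
    refine Finite.of_injective (fun b : B => (⟨Finsupp.single b 1, fun i => ?_⟩ : PB.Red p B)) fun b b' h => ?_
    · rw [Finsupp.single_apply]; split_ifs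
      · exact hp.out.one_lt
      · exact hp.out.pos
    · exact Finsupp.single_left_injective one_ne_zero (congrArg Subtype.val h)
  haveI := Fintype.ofFinite B
  choose D hD using fun b : B => PB.exists_derivation (p := p) (M := M) (Subtype.val : B → K) (fun i => hM _)
    hli hadj (fun i => if b = i then (1 : K) else 0)
  refine ⟨B.toFinset, fun b => if hb : b ∈ B then D ⟨b, hb⟩ else 0, fun b hb b' hb' => ?_, by simpa using hadj, ?_, ?_⟩
  · rw [Set.mem_toFinset] at hb hb'
    simp only [dif_pos hb, hD ⟨b, hb⟩ ⟨b', hb'⟩]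
    simp only [Subtype.mk.injEq]
  · have hspan := (PB.span_mon_eq_top_iff (M := M) hp.out.pos (Subtype.val : B → K) (fun i => hM _)).2 hadj
    haveI := Fintype.ofFinite (PB.Red p B)
    rw [Module.finrank_eq_card_basis (Module.Basis.mk hli hspan.ge), Set.toFinset_card]
    let e : PB.Red p B ≃ (B → Fin p) :=
      { toFun := fun e i => ⟨e.1 i, e.2 i⟩
        invFun := fun f => ⟨Finsupp.equivFunOnFinite.symm fun i => (f i : ℕ), fun i => (f i).2⟩
        left_inv := fun e => Subtype.ext (Finsupp.ext fun i => rfl)
        right_inv := fun f => rfl }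
    rw [Fintype.card_congr e, Fintype.card_fun, Fintype.card_fin]
  · have hMA : ∀ m : M, algebraMap M K m ∈ Algebra.adjoin M (Set.range fun y : K => y ^ p) :=
      fun m => Subalgebra.algebraMap_mem _ m
    obtain ⟨b, -⟩ := PB.exists_basis_kaehler (A := M) (M := M) hMA (Subtype.val : B → K) (fun i => hM _) hli hadj
    exact ⟨by rw [Module.finrank_eq_card_basis b, Set.toFinset_card], .of_basis b⟩

variable (p : ℕ) [hp : Fact p.Prime] {K : Type u} [Field K] [CharP K p] {M : Subfield K} {n : ℕ}

/-- Coordinates on the differentials relative to a stage. -/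
theorem exists_coordinates [Module.Finite M K] (hM : ∀ x : K, x ^ p ∈ M) :
    ∃ (m : ℕ) (ι : Type u) (_ : Fintype ι) (x : ι → MvPowerSeries (Fin n) K)
      (δ : ι → Derivation (stage p M n) (MvPowerSeries (Fin n) K) (MvPowerSeries (Fin n) K)),
      Fintype.card ι = m + n ∧ Module.finrank M K = p ^ m ∧ (∀ i, δ i (x i) = 1) ∧ (∀ i j, i ≠ j → δ i (x j) = 0) ∧
      Submodule.span (MvPowerSeries (Fin n) K)
        (Set.range fun i => KaehlerDifferential.D (stage p M n) (MvPowerSeries (Fin n) K) (x i)) = ⊤ := by
  classical
  let A := MvPowerSeries (Fin n) K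
  let S := stage p M n
  obtain ⟨β, D, hD, hadj, hrank, -, -⟩ := exists_pbasis_dual p M (fun x : K => ⟨⟨_, hM x⟩, rfl⟩)
  have hDM : ∀ (b : K) (a : M) (z : K), D b ((a : K) * z) = (a : K) * D b z := fun b a z => (D b).map_smul a z
  let dc : K → A → A := fun b f q => D b (coeff q f)
  have hdcS : ∀ b, ∀ s ∈ S, ∀ f, dc b (s * f) = s * dc b f := fun b s hs f => MvPowerSeries.ext fun q => by
    show D b (coeff q (s * f)) = coeff q (s * dc b f)
    rw [coeff_mul, coeff_mul, map_sum]
    exact Finset.sum_congr rfl fun x _ => hDM b ⟨_, (mem_stage_iff.1 hs).1 x.1⟩ _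
  let δK : K → Derivation S A A := fun b => Derivation.mk'
    { toFun := dc b
      map_add' := fun f g => MvPowerSeries.ext fun q => by
        show D b (coeff q (f + g)) = D b (coeff q f) + D b (coeff q g)
        rw [map_add, map_add]
      map_smul' := fun s f => hdcS b s s.2 f }
    fun f g => MvPowerSeries.ext fun q => by
      show D b (coeff q (f * g)) = coeff q (f * dc b g + g * dc b f)
      rw [map_add, mul_comm g, coeff_mul, coeff_mul, coeff_mul, map_sum, ← Finset.sum_add_distrib]
      refine Finset.sum_congr rfl fun x _ => ?_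
      rw [Derivation.leibniz, smul_eq_mul, smul_eq_mul]
      show _ = coeff x.1 f * D b (coeff x.2 g) + D b (coeff x.1 f) * coeff x.2 g
      ring
  have hδC : ∀ b z, δK b (MvPowerSeries.C z) = MvPowerSeries.C (D b z) := fun b z => MvPowerSeries.ext fun q => by
    show D b (coeff q (MvPowerSeries.C z)) = _
    rw [coeff_C, coeff_C]; split_ifs
    · rfl
    · exact map_zero _
  have hδX : ∀ b i, δK b (MvPowerSeries.X i) = 0 := fun b i => MvPowerSeries.ext fun q => by
    show D b (coeff q (MvPowerSeries.X i : A)) = coeff q (0 : A)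
    rw [coeff_X, map_zero]; split_ifs
    · exact (D b).map_one_eq_zero
    · exact map_zero _
  have hpS : ∀ i, ∀ s ∈ S, pderiv K i s = 0 := fun i s hs => MvPowerSeries.ext fun q => by
    rw [coeff_pderiv, map_zero]
    by_cases h : p ∣ q i + 1
    · rw [show ((q i : K) + 1) = ((q i + 1 : ℕ) : K) by norm_num, (CharP.cast_eq_zero_iff K p _).2 h, mul_zero]
    · rw [(mem_stage_iff.1 hs).2 _ i (by simpa [Finsupp.single_eq_same] using h), zero_mul]
  let δT : Fin n → Derivation S A A := fun i => Derivation.mk'
    { toFun := pderiv K i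
      map_add' := map_add _
      map_smul' := fun s f => by
        show pderiv K i ((s : A) * f) = (s : A) * pderiv K i f
        rw [Derivation.leibniz, hpS i s s.2, smul_zero, add_zero, smul_eq_mul] }
    fun f g => (pderiv K i).leibniz f g
  let x : ↥β ⊕ Fin n → A := Sum.elim (fun b => MvPowerSeries.C (b : K)) MvPowerSeries.X
  let δ : ↥β ⊕ Fin n → Derivation S A A := Sum.elim (fun b => δK b) δT
  refine ⟨β.card, ↥β ⊕ Fin n, inferInstance, x, δ, by simp, hrank, ?_, ?_, ?_⟩
  · rintro (b | i)
    · show δK b (MvPowerSeries.C (b : K)) = 1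
      rw [hδC, hD b b.2 b b.2, if_pos rfl, map_one]
    · exact pderiv_X_self
  · rintro (b | i) (b' | j) h
    · show δK b (MvPowerSeries.C (b' : K)) = 0
      rw [hδC, hD b b.2 b' b'.2, if_neg (fun e => h (congrArg Sum.inl (Subtype.ext e))), map_zero]
    · exact hδX _ _
    · exact pderiv_C
    · exact pderiv_X_of_ne fun e => h (congrArg Sum.inr e.symm)
  · let P : Submodule A Ω[A⁄S] := Submodule.span A (Set.range fun i => KaehlerDifferential.D S A (x i))
    let Q : A → Prop := fun f => KaehlerDifferential.D S A f ∈ P
    have hadd : ∀ f g, Q f → Q g → Q (f + g) := fun f g hf hg => by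
      show KaehlerDifferential.D S A (f + g) ∈ P
      rw [map_add]; exact add_mem hf hg
    have hmul : ∀ f g, Q f → Q g → Q (f * g) := fun f g hf hg => by
      show KaehlerDifferential.D S A (f * g) ∈ P
      rw [Derivation.leibniz]; exact add_mem (P.smul_mem _ hg) (P.smul_mem _ hf)
    have hS : ∀ s ∈ S, Q s := fun s hs => by
      show KaehlerDifferential.D S A (algebraMap S A ⟨s, hs⟩) ∈ P
      rw [Derivation.map_algebraMap]; exact zero_mem _
    have hC : ∀ z, Q (MvPowerSeries.C z) := fun z => by
      have hz : z ∈ Algebra.adjoin M (β : Set K) := hadj ▸ Algebra.mem_top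
      induction hz using Algebra.adjoin_induction with
      | mem y hy => exact Submodule.subset_span ⟨Sum.inl ⟨y, hy⟩, rfl⟩
      | algebraMap a => exact hS _ (C_mem_stage a.2)
      | add a b _ _ ha hb => rw [map_add]; exact hadd _ _ ha hb
      | mul a b _ _ ha hb => rw [map_mul]; exact hmul _ _ ha hb
    have hX : ∀ (e : Fin n →₀ ℕ), Q (monomial e 1) := fun e => by
      induction e using Finsupp.induction with
      | zero => rw [monomial_zero_one]; exact hS 1 (one_mem _)
      | single_add a b f _ _ ih =>
        rw [show monomial (Finsupp.single a b + f) (1 : K) = (MvPowerSeries.X a : A) ^ b * monomial f 1 by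
          rw [MvPowerSeries.X_pow_eq, monomial_mul_monomial, one_mul]]
        refine hmul _ _ ?_ ih
        clear * - hmul hS
        induction b with
        | zero => rw [pow_zero]; exact hS 1 (one_mem _)
        | succ b ihb => rw [pow_succ]; exact hmul _ _ ihb (Submodule.subset_span ⟨Sum.inr a, rfl⟩)
    rw [eq_top_iff]
    refine (KaehlerDifferential.span_range_derivation S A).ge.trans (Submodule.span_le.2 ?_)
    rintro _ ⟨f, rfl⟩
    obtain ⟨B, hB⟩ := exists_basis (p := p) (n := n) (Module.finBasis M K)
    have hf : f ∈ Submodule.span S (Set.range B) := B.span_eq.ge Submodule.mem_top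
    show Q f
    induction hf using Submodule.span_induction with
    | mem y hy =>
      obtain ⟨i, rfl⟩ := hy
      rw [hB, show monomial (expo i.1) ((Module.finBasis M K) i.2) =
        (MvPowerSeries.C ((Module.finBasis M K) i.2) : A) * monomial (expo i.1) 1 by
          rw [← monomial_zero_eq_C_apply, monomial_mul_monomial, zero_add, mul_one]]
      exact hmul _ _ (hC _) (hX _)
    | zero => exact hS 0 (zero_mem _)
    | add a b _ _ ha hb => exact hadd _ _ ha hb
    | smul s a _ ha => exact hmul _ _ (hS _ s.2) ha

section Fibre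

variable {R A : Type*} [CommRing R] [CommRing A] [Algebra R A]

/-- Differentials with dual derivations form a basis after base change. -/
theorem exists_basis_baseChange (κ : Type*) [Field κ] [Algebra A κ] {ι : Type*} [Fintype ι] (x : ι → A)
    (δ : ι → Derivation R A A) (h1 : ∀ i, δ i (x i) = 1) (h0 : ∀ i j, i ≠ j → δ i (x j) = 0)
    (hsp : Submodule.span A (Set.range fun i => KaehlerDifferential.D R A (x i)) = ⊤) :
    ∃ b : Module.Basis ι κ (κ ⊗[A] Ω[A⁄R]),
      ∀ (a : A) (i : ι), b.repr ((1 : κ) ⊗ₜ[A] KaehlerDifferential.D R A a) i = algebraMap A κ (δ i a) := by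
  classical
  have hli : LinearIndependent A fun i => KaehlerDifferential.D R A (x i) := Fintype.linearIndependent_iff.2 fun g hg i => by
    have := congrArg (δ i).liftKaehlerDifferential hg
    simp only [map_sum, map_smul, Derivation.liftKaehlerDifferential_comp_D, map_zero, smul_eq_mul] at this
    rw [Finset.sum_eq_single i (fun j _ hj => by rw [h0 i j (Ne.symm hj), mul_zero]) (fun h => absurd (Finset.mem_univ i) h),
      h1, mul_one] at this
    exact this
  let b0 := Module.Basis.mk hli hsp.ge
  refine ⟨Algebra.TensorProduct.basis κ b0, fun a i => ?_⟩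
  rw [Algebra.TensorProduct.basis_repr_tmul]
  simp only [Finsupp.mapRange_apply, one_mul, Finsupp.smul_apply, smul_eq_mul]
  congr 1
  have hrepr : ∀ ω, (δ i).liftKaehlerDifferential ω = b0.repr ω i := fun ω => by
    refine LinearMap.congr_fun (?_ : (δ i).liftKaehlerDifferential = (Finsupp.lapply i).comp b0.repr.toLinearMap) ω
    refine b0.ext fun j => ?_
    rw [LinearMap.comp_apply, LinearEquiv.coe_coe, b0.repr_self, Finsupp.lapply_apply, Module.Basis.mk_apply,
      Derivation.liftKaehlerDifferential_comp_D, Finsupp.single_apply]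
    by_cases h : j = i
    · subst h; rw [if_pos rfl, h1]
    · rw [if_neg h, h0 i j (Ne.symm h)]
  rw [← hrepr, Derivation.liftKaehlerDifferential_comp_D]

end Fibre

end Groth.Agent.EGA41Lib.FS
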