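import Mathlib
import Groth.Agent.EGA41Lib.StageKaehler
import Groth.Agent.EGA41Lib.AdmissibleFamily
import Groth.Agent.EGA41Lib.NagataJacobian

/-!
# Auxiliary results for Nagata's criterion in characteristic `p`
-/

set_option autoImplicit false
set_option backward.isDefEq.respectTransparency.types false

universe u

open IsLocalRing MvPowerSeries

namespace Groth.Agent.EGA41Lib.FS

/-- The field generated by a subfield of the base and all `p`-th powers. -/
def compPow (p : ℕ) {L κ : Type u} [Field L] [Field κ] [Algebra L κ] (F : Subfield L) : Subfield κ :=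
  Subfield.closure (algebraMap L κ '' F ∪ Set.range fun y : κ => y ^ p)

variable (p : ℕ) [hp : Fact p.Prime]

section Compositum

variable {L κ : Type u} [Field L] [Field κ] [Algebra L κ]

omit hp in
theorem compPow_mono {F F' : Subfield L} (h : F ≤ F') : compPow p (κ := κ) F ≤ compPow p F' :=
  Subfield.closure_mono (Set.union_subset_union_left _ (Set.image_mono h))

omit hp in
theorem pow_mem_compPow (F : Subfield L) (x : κ) : x ^ p ∈ compPow p F :=
  Subfield.subset_closure (Or.inr ⟨x, rfl⟩)

omit hp in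
theorem algebraMap_mem_compPow {F : Subfield L} {x : L} (hx : x ∈ F) : algebraMap L κ x ∈ compPow p F :=
  Subfield.subset_closure (Or.inl ⟨x, hx, rfl⟩)

/-- Subfields intersecting in the `p`-th powers still do so in a finite extension, with bounded index. -/
theorem exists_compositum [CharP κ p] [Module.Finite L κ] {ι : Type*} [Nonempty ι] (F : ι → Subfield L)
    (hdir : ∀ a b, ∃ c, F c ≤ F a ∧ F c ≤ F b) (hF : ∀ i (x : L), x ^ p ∈ F i)
    (hint : ∀ x : L, (∀ i, x ∈ F i) → ∃ y, y ^ p = x) :
    ∃ i₀, (∀ i, F i ≤ F i₀ → Module.Finite (F i) L →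
        Module.Finite (compPow p (κ := κ) (F i)) κ ∧
          Module.finrank (compPow p (κ := κ) (F i)) κ ≤ Module.finrank (F i) L) ∧
      ∀ x : κ, (∀ i, x ∈ compPow p (F i)) → ∃ y, y ^ p = x := by
  classical
  haveI : CharP L p := (RingHom.charP_iff_charP (algebraMap L κ) p).2 inferInstance
  let φ := algebraMap L κ
  let u := Module.finBasis L κ
  let e := Module.finrank L κ
  let M : ι → IntermediateField (⊥ : Subfield κ) κ := fun i => ((F i).map φ).toIntermediateField fun z => (bot_le : (⊥ : Subfield κ) ≤ _) z.2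
  have hmemM : ∀ i c, c ∈ M i ↔ ∃ a ∈ F i, φ a = c := fun i c => Iff.rfl
  have hMdir : ∀ a b, ∃ c, M c ≤ M a ∧ M c ≤ M b := fun a b => by
    obtain ⟨c, h1, h2⟩ := hdir a b
    refine ⟨c, fun z hz => ?_, fun z hz => ?_⟩
    · obtain ⟨x, hx, rfl⟩ := (hmemM c z).1 hz; exact (hmemM a _).2 ⟨x, h1 hx, rfl⟩
    · obtain ⟨x, hx, rfl⟩ := (hmemM c z).1 hz; exact (hmemM b _).2 ⟨x, h2 hx, rfl⟩
  obtain ⟨i₀, hi₀⟩ := exists_stage_indep M hMdir
    (fun j => u j ^ p) Finset.univ (fun c hc h0 j _ => by
      have hb : ∀ j, ∃ b, φ b ^ p = c j := fun j => by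
        have hmem : ∀ i, c j ∈ M i := fun i => (iInf_le M i : _ ≤ M i) (hc j)
        choose a ha hac using fun i => (hmemM i (c j)).1 (hmem i)
        let i' := Classical.arbitrary ι
        obtain ⟨y, hy⟩ := hint (a i') fun i => by
          rw [show a i' = a i from φ.injective ((hac i').trans (hac i).symm)]; exact ha i
        exact ⟨y, by rw [← map_pow, hy, hac]⟩
      choose b hb using hb
      have h1 : (∑ j, b j • u j) ^ p = 0 := by
        rw [sum_pow_char]
        refine Eq.trans (Finset.sum_congr rfl fun j _ => ?_) h0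
        rw [Algebra.smul_def, mul_pow, hb]
      have h2 := Fintype.linearIndependent_iff.1 u.linearIndependent b (eq_zero_of_pow_eq_zero h1) j
      rw [← hb, h2, map_zero, zero_pow hp.out.ne_zero])
  have hspan : ∀ i (y : κ), y ^ p ∈ Submodule.span (F i) (Set.range fun j => u j ^ p) := fun i y => by
    rw [← u.sum_repr y, sum_pow_char]
    refine Submodule.sum_mem _ fun j _ => ?_
    rw [Algebra.smul_def, mul_pow, ← map_pow, ← Algebra.smul_def]
    exact Submodule.smul_mem (Submodule.span (F i) (Set.range fun j => u j ^ p)) (⟨_, hF i (u.repr y j)⟩ : F i)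
      (Submodule.subset_span ⟨j, rfl⟩)
  have hli : ∀ i, F i ≤ F i₀ → LinearIndependent (F i) fun j => u j ^ p := fun i hi =>
    Fintype.linearIndependent_iff.2 fun g hg j => by
      have := hi₀ (fun j => φ (g j : L)) (fun j => (hmemM _ _).2 ⟨_, hi (g j).2, rfl⟩)
        (by rw [← hg]; exact Finset.sum_congr rfl fun j _ => (Algebra.smul_def (g j : L) (u j ^ p)).symm) j (Finset.mem_univ j)
      exact Subtype.ext (φ.injective (this.trans (map_zero φ).symm))
  refine ⟨i₀, fun i hi hfin => ?_, fun x hx => ?_⟩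
  · haveI := hfin
    haveI : Module.Finite (F i) κ := Module.Finite.trans L κ
    let E := compPow p (κ := κ) (F i)
    letI : Algebra (F i) E := ((φ.comp (F i).subtype).codRestrict E fun a => algebraMap_mem_compPow p a.2).toAlgebra
    haveI : IsScalarTower (F i) E κ := IsScalarTower.of_algebraMap_eq fun a => rfl
    haveI : Module.Finite E κ := Module.Finite.right (F i) E κ
    refine ⟨inferInstance, ?_⟩
    haveI : Module.Finite (F i) E :=
      Module.Finite.of_injective (IsScalarTower.toAlgHom (F i) E κ).toLinearMap Subtype.val_injective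
    have h1 : e ≤ Module.finrank (F i) E := by
      have hli' : LinearIndependent (F i) fun j => (⟨u j ^ p, pow_mem_compPow p _ _⟩ : E) :=
        LinearIndependent.of_comp (IsScalarTower.toAlgHom (F i) E κ).toLinearMap (hli i hi)
      simpa using hli'.fintype_card_le_finrank
    have h2 : Module.finrank (F i) E * Module.finrank E κ = Module.finrank (F i) L * e := by
      rw [Module.finrank_mul_finrank, Module.finrank_mul_finrank]
    have he : 0 < e := Module.finrank_pos
    have h3 : e * Module.finrank E κ ≤ Module.finrank (F i) E * Module.finrank E κ := Nat.mul_le_mul_right _ h1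
    exact Nat.le_of_mul_le_mul_left (by rw [h2, mul_comm _ e] at h3; exact h3) he
  · -- the coefficients are constant
    have hfind : ∀ i, F i ≤ F i₀ → ∃ a : Fin e → L, (∀ j, a j ∈ F i) ∧ x = ∑ j, φ (a j) * u j ^ p := fun i hi => by
      haveI : Algebra.IsIntegral (F i) L := ⟨fun z => IsIntegral.of_pow hp.out.pos
        (isIntegral_algebraMap (x := (⟨_, hF i z⟩ : F i)))⟩
      haveI : Algebra.IsIntegral (F i) κ := Algebra.IsIntegral.trans L
      have hx' := hx i
      have : x ∈ Submodule.span (F i) (Set.range fun j => u j ^ p) := by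
        let V := Submodule.span (F i) (Set.range fun j => u j ^ p)
        haveI : Module.Finite (F i) V := Module.Finite.span_of_finite _ (Set.finite_range _)
        let S : Subalgebra (F i) κ := Algebra.adjoin (F i) (Set.range fun y : κ => y ^ p)
        have hS : Subalgebra.toSubmodule S ≤ V := by
          rw [Algebra.adjoin_eq_span,
            show (Submonoid.closure (Set.range fun y : κ => y ^ p) : Set κ) = Set.range fun y : κ => y ^ p from
              congrArg SetLike.coe (Submonoid.closure_eq (MonoidHom.mrange (powMonoidHom p : κ →* κ)))]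
          exact Submodule.span_le.2 (by rintro _ ⟨y, rfl⟩; exact hspan i y)
        haveI : Module.Finite (F i) S :=
          Module.Finite.of_injective (Submodule.inclusion hS) (Submodule.inclusion_injective hS)
        refine hS ?_
        have hle : compPow p (F i) ≤ ({ S.toSubring with
            inv_mem' := fun z hz => S.inv_mem_of_algebraic (x := ⟨z, hz⟩) (Algebra.IsAlgebraic.isAlgebraic _) } :
            Subfield κ) := by
          rw [compPow, Subfield.closure_le]
          rintro z (⟨a, ha, rfl⟩ | hz)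
          · exact S.algebraMap_mem ⟨a, ha⟩
          · exact Algebra.subset_adjoin hz
        exact hle hx'
      obtain ⟨a, ha⟩ := (Submodule.mem_span_range_iff_exists_fun _).1 this
      exact ⟨fun j => a j, fun j => (a j).2, by rw [← ha]; exact Finset.sum_congr rfl fun j _ => Algebra.smul_def (a j : L) (u j ^ p)⟩
    obtain ⟨a, ha, hxa⟩ := hfind i₀ le_rfl
    have hconst : ∀ i j, a j ∈ F i := fun i j => by
      obtain ⟨c, h1, h2⟩ := hdir i i₀
      obtain ⟨a', ha', hxa'⟩ := hfind c h2
      have h0 : ∑ j, (φ (a j) - φ (a' j)) * u j ^ p = 0 := by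
        simp only [sub_mul, Finset.sum_sub_distrib, ← hxa, ← hxa', sub_self]
      have := hi₀ (fun j => φ (a j) - φ (a' j))
        (fun j => sub_mem ((hmemM _ _).2 ⟨_, ha j, rfl⟩) ((hmemM _ _).2 ⟨_, h2 (ha' j), rfl⟩)) h0 j (Finset.mem_univ j)
      rw [φ.injective (sub_eq_zero.1 this)]
      exact h1 (ha' j)
    choose b hb using fun j => hint (a j) fun i => hconst i j
    refine ⟨∑ j, φ (b j) * u j, ?_⟩
    rw [sum_pow_char, hxa]
    exact Finset.sum_congr rfl fun j _ => by rw [mul_pow, ← map_pow, hb]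

end Compositum

/-- The constants of a derivation of a field form a subfield. -/
theorem exists_constants {κ : Type u} [Field κ] (θ : Derivation ℤ κ κ) : ∃ S : Subfield κ, ∀ x, x ∈ S ↔ θ x = 0 :=
  ⟨{ carrier := {x | θ x = 0}
     mul_mem' := fun {a b} (ha : θ a = 0) (hb : θ b = 0) =>
      show θ (a * b) = 0 by rw [θ.leibniz, ha, hb, smul_zero, smul_zero, add_zero]
     one_mem' := θ.map_one_eq_zero
     add_mem' := fun {a b} (ha : θ a = 0) (hb : θ b = 0) => show θ (a + b) = 0 by rw [map_add, ha, hb, add_zero]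
     zero_mem' := map_zero θ
     neg_mem' := fun {a} (ha : θ a = 0) => show θ (-a) = 0 by rw [map_neg, ha, neg_zero]
     inv_mem' := fun a (ha : θ a = 0) => show θ a⁻¹ = 0 by rw [θ.leibniz_inv, ha, smul_zero] }, fun _ => Iff.rfl⟩

/-- A derivation into a field killing the kernel descends to the field of fractions. -/
theorem exists_derivation_descend {A κ : Type u} [CommRing A] [Algebra ℤ A] [Field κ] [Algebra A κ]
    (hfrac : ∀ x : κ, ∃ a b : A, algebraMap A κ b ≠ 0 ∧ x = algebraMap A κ a / algebraMap A κ b)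
    (δ : Derivation ℤ A κ) (hδ : ∀ a, algebraMap A κ a = 0 → δ a = 0) :
    ∃ θ : Derivation ℤ κ κ, ∀ a, θ (algebraMap A κ a) = δ a := by
  let π := algebraMap A κ
  choose N D hD hx using hfrac
  have hx' : ∀ x, x = π (N x) / π (D x) := hx
  have hD' : ∀ x, π (D x) ≠ 0 := hD
  let G : A → A → κ := fun a b => (π b * δ a - π a * δ b) / π b ^ 2
  have hmul : ∀ a b, δ (a * b) = π a * δ b + π b * δ a := fun a b => by
    rw [δ.leibniz, Algebra.smul_def, Algebra.smul_def]
  have key : ∀ x a b, π b ≠ 0 → x = π a / π b → G (N x) (D x) = G a b := fun x a b hb h => by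
    have h1 : π (N x) * π b = π a * π (D x) := (div_eq_div_iff (hD x) hb).1 ((hx x).symm.trans h)
    have h2 : δ (N x * b - a * D x) = 0 := hδ _ (by rw [map_sub, map_mul, map_mul]; exact sub_eq_zero.2 h1)
    rw [map_sub, hmul, hmul] at h2
    show (π (D x) * δ (N x) - π (N x) * δ (D x)) / π (D x) ^ 2 = (π b * δ a - π a * δ b) / π b ^ 2
    rw [div_eq_div_iff (pow_ne_zero _ (hD x)) (pow_ne_zero _ hb)]
    linear_combination (π (D x) * π b) * h2 - (π b * δ (D x) + π (D x) * δ b) * h1
  let θ : κ →+ κ := AddMonoidHom.mk' (fun x => G (N x) (D x)) fun x y => by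
    have hxy : x + y = π (N x * D y + N y * D x) / π (D x * D y) := by
      conv_lhs => rw [hx' x, hx' y, div_add_div _ _ (hD x) (hD y)]
      rw [map_add, map_mul, map_mul, map_mul, mul_comm (π (N y))]
    show G (N (x + y)) (D (x + y)) = G (N x) (D x) + G (N y) (D y)
    rw [key _ _ _ (by rw [map_mul]; exact mul_ne_zero (hD x) (hD y)) hxy]
    have := hD' x
    have := hD' y
    simp only [G, map_add, map_mul, hmul]
    field_simp
    ring
  have hθmul : ∀ x y, θ (x * y) = x * θ y + y * θ x := fun x y => by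
    have hxy : x * y = π (N x * N y) / π (D x * D y) := by
      conv_lhs => rw [hx' x, hx' y, div_mul_div_comm]
      rw [map_mul, map_mul]
    show G (N (x * y)) (D (x * y)) = x * G (N y) (D y) + y * G (N x) (D x)
    rw [key _ _ _ (by rw [map_mul]; exact mul_ne_zero (hD x) (hD y)) hxy]
    conv_rhs => enter [1, 1]; rw [hx' x]
    conv_rhs => enter [2, 1]; rw [hx' y]
    have := hD' x
    have := hD' y
    simp only [G, map_mul, hmul]
    field_simp
    ring
  refine ⟨Derivation.mk' θ.toIntLinearMap hθmul, fun a => ?_⟩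
  show G (N (π a)) (D (π a)) = δ a
  rw [key (π a) a 1 (by rw [map_one]; exact one_ne_zero) (by rw [map_one, div_one])]
  simp [G]

/-- Values of derivations on finitely many elements are attained relative to a member of the family. -/
theorem exists_stage_derivation {κ : Type u} [Field κ] [CharP κ p] {ι : Type*} [Nonempty ι] (E : ι → Subfield κ)
    (hdir : ∀ a b, ∃ c, E c ≤ E a ∧ E c ≤ E b) (hE : ∀ i (x : κ), x ^ p ∈ E i)
    (hint : ∀ x : κ, (∀ i, x ∈ E i) → ∃ y, y ^ p = x) {J : Type u} [Finite J] (a : J → κ) :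
    ∃ i, ∀ θ : Derivation ℤ κ κ, ∃ θ' : Derivation (E i) κ κ, ∀ j, θ' (a j) = θ (a j) := by
  classical
  let P : Subfield κ := (frobenius κ p).fieldRange
  have hPp : ∀ x : κ, x ^ p ∈ Set.range (algebraMap P κ) := fun x => ⟨⟨x ^ p, x, rfl⟩, rfl⟩
  have hPinj : Function.Injective (algebraMap P κ) := Subtype.val_injective
  obtain ⟨B, -, -, hB, hgen⟩ := PB.exists_indOn_between (p := p) hPp hPinj a (Set.empty_subset Set.univ)
    (PB.indOn_empty hPp hPinj _)
  let y : B → κ := fun b => a b
  have hliP : LinearIndependent P fun e : PB.Red p B => PB.mon y e.1 :=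
    PB.linearIndependent_comp_of_indOn (x := a) Subtype.val Subtype.val_injective (fun b => b.2) hB
  haveI : Finite (PB.Red p B) := Finite.of_injective (fun e : PB.Red p B => fun j => (⟨e.1 j, e.2 j⟩ : Fin p))
    fun e e' hee => Subtype.ext (Finsupp.ext fun j => congrArg Fin.val (congrFun hee j))
  letI := Fintype.ofFinite (PB.Red p B)
  let M : ι → IntermediateField (⊥ : Subfield κ) κ := fun i => (E i).toIntermediateField fun z => (bot_le : (⊥ : Subfield κ) ≤ _) z.2
  obtain ⟨i, hi⟩ := exists_stage_indep M (fun a b => hdir a b) (fun e : PB.Red p B => PB.mon y e.1) Finset.univ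
    (fun c hc h0 e _ => by
      choose b hb using fun e => hint (c e) fun i => (iInf_le M i : _ ≤ M i) (hc e)
      have h1 : ∀ e, c e = ((⟨b e ^ p, b e, rfl⟩ : P) : κ) := fun e => (hb e).symm
      have := Fintype.linearIndependent_iff.1 hliP (fun e => ⟨b e ^ p, b e, rfl⟩)
        (by rw [← h0]; exact Finset.sum_congr rfl fun e _ => by rw [h1]; rfl) e
      rw [h1, this]; rfl)
  refine ⟨i, fun θ => ?_⟩
  have hEp : ∀ x : κ, x ^ p ∈ Set.range (algebraMap (E i) κ) := fun x => ⟨⟨_, hE i x⟩, rfl⟩
  have hEinj : Function.Injective (algebraMap (E i) κ) := Subtype.val_injective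
  have hliE : LinearIndependent (E i) fun e : PB.Red p B => PB.mon y e.1 :=
    Fintype.linearIndependent_iff.2 fun g hg e =>
      Subtype.ext (hi (fun e => (g e : κ)) (fun e => (g e).2) (by rw [← hg]; rfl) e (Finset.mem_univ e))
  let x : B ⊕ κ → κ := Sum.elim y id
  obtain ⟨B', hsub, -, hB', hgen'⟩ := PB.exists_indOn_between (p := p) hEp hEinj x
    (Set.subset_univ (Set.range (Sum.inl : B → B ⊕ κ)))
    (PB.indOn_range_of_linearIndependent hEp Sum.inl hEinj hliE)
  have hli' := PB.linearIndependent_comp_of_indOn (x := x) (Subtype.val : B' → B ⊕ κ) Subtype.val_injective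
    (fun k => k.2) hB'
  have hadj : Algebra.adjoin (E i) (Set.range (x ∘ (Subtype.val : B' → B ⊕ κ))) = ⊤ := by
    rw [Set.range_comp, Subtype.range_coe, eq_top_iff]
    intro z _
    exact hgen' (Sum.inr z) (Set.mem_univ _)
  obtain ⟨θ', hθ'⟩ := PB.exists_derivation (p := p) (x ∘ (Subtype.val : B' → B ⊕ κ)) (fun k => hEp _) hli' hadj
    (fun k => θ ((x ∘ (Subtype.val : B' → B ⊕ κ)) k))
  refine ⟨θ', fun j => ?_⟩
  suffices h : ∀ z ∈ Algebra.adjoin P (a '' B), θ' z = θ z from h _ (hgen j (Set.mem_univ j))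
  intro z hz
  induction hz using Algebra.adjoin_induction with
  | mem w hw =>
    obtain ⟨b, hb, rfl⟩ := hw
    exact hθ' ⟨Sum.inl ⟨b, hb⟩, hsub ⟨_, rfl⟩⟩
  | algebraMap r =>
    obtain ⟨_, z, rfl⟩ := r
    show θ' (z ^ p) = θ (z ^ p)
    rw [PB.derivation_pow_eq_zero, PB.derivation_pow_eq_zero]
  | add x y _ _ hx hy => rw [map_add, map_add, hx, hy]
  | mul x y _ _ hx hy => rw [Derivation.leibniz, Derivation.leibniz, hx, hy]

section Normalisation

variable {K : Type u} [Field K] {n : ℕ}

/-- Noether normalisation modulo a prime, with generators of the prime at itself. -/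
theorem exists_normalisation (P : Ideal (MvPowerSeries (Fin n) K)) [P.IsPrime] :
    ∃ (s d : ℕ) (φ : MvPowerSeries (Fin s) K →+* MvPowerSeries (Fin n) K) (f : Fin d → MvPowerSeries (Fin n) K),
      φ.comp MvPowerSeries.C = MvPowerSeries.C ∧ (∀ i, constantCoeff (φ (X i)) = 0) ∧
      ((Ideal.Quotient.mk P).comp φ).Finite ∧ Function.Injective ((Ideal.Quotient.mk P).comp φ) ∧ d + s = n ∧
      (∀ j, f j ∈ P) ∧ ∀ a ∈ P, ∃ (t : MvPowerSeries (Fin n) K) (b : Fin d → MvPowerSeries (Fin n) K), t ∉ P ∧ t * a = ∑ j, b j * f j := by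
  classical
  let A := MvPowerSeries (Fin n) K
  haveI : IsAdicComplete (maximalIdeal A) A := by
    rw [CAlgH3.maximalIdeal_mvPowerSeries_eq]; exact CAlgH.isAdicComplete_mvPowerSeries (Fin n) K
  let C := A ⧸ P
  haveI : IsLocalRing C := IsLocalRing.of_surjective' _ Ideal.Quotient.mk_surjective
  haveI : IsAdicComplete (maximalIdeal C) C := CAlgH.isAdicComplete_quotient P
  haveI : Module.Finite K (ResidueField C) := NJ.finite_residueField_quotient P
  obtain ⟨s, t, hs, ht, hart⟩ := CAlgH.exists_sop C
  obtain ⟨N, hN⟩ : ∃ N, maximalIdeal C ^ N ≤ Ideal.span (Set.range t) := by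
    haveI := hart
    refine Ideal.exists_pow_le_of_le_radical_of_fg ?_ (IsNoetherian.noetherian _)
    rw [Ideal.radical_eq_sInf]
    refine le_sInf fun Q ⟨hQ, hQp⟩ => ?_
    haveI := hQp
    haveI : (Q.map (Ideal.Quotient.mk (Ideal.span (Set.range t)))).IsPrime :=
      Ideal.map_isPrime_of_surjective Ideal.Quotient.mk_surjective (by rw [Ideal.mk_ker]; exact hQ)
    have hmax : (Q.map (Ideal.Quotient.mk (Ideal.span (Set.range t)))).IsMaximal  :=
      IsArtinianRing.isMaximal_of_isPrime (Q.map (Ideal.Quotient.mk (Ideal.span (Set.range t))))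
    have hc := Ideal.comap_isMaximal_of_surjective (Ideal.Quotient.mk (Ideal.span (Set.range t)))
      Ideal.Quotient.mk_surjective (K := Q.map (Ideal.Quotient.mk _))
    rw [Ideal.comap_map_of_surjective _ Ideal.Quotient.mk_surjective, ← RingHom.ker_eq_comap_bot, Ideal.mk_ker,
      sup_eq_left.2 hQ] at hc
    exact (eq_maximalIdeal hc).ge
  choose t' ht' using fun i => Ideal.Quotient.mk_surjective (t i)
  have ht'm : ∀ i, t' i ∈ maximalIdeal A := fun i => by
    rw [mem_maximalIdeal, mem_nonunits_iff]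
    intro hu
    refine (mem_maximalIdeal _).1 (ht i) ?_
    rw [← ht' i]; exact hu.map _
  obtain ⟨φ, hC, hX⟩ := CAlgH.exists_mvPowerSeries_eval (MvPowerSeries.C : K →+* A) (maximalIdeal A) t' ht'm
  have hX' : ∀ i, ((Ideal.Quotient.mk P).comp φ) (X i) = t i := fun i => by
    rw [RingHom.comp_apply, hX, ht']
  have hfin : ((Ideal.Quotient.mk P).comp φ).Finite := by
    refine CAlgH.finite_mvPowerSeries_hom _ (maximalIdeal C) (fun i => (hX' i).symm ▸ ht i) ?_
    rw [funext hX', RingHom.comp_assoc, hC]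
    haveI := CommAlg6.finite_quotient_pow_maximalIdeal (k := K) (A := C) N
    haveI : Module.Finite K (C ⧸ Ideal.span (Set.range t)) :=
      Module.Finite.of_surjective (Ideal.Quotient.factorₐ K hN).toLinearMap (Ideal.Quotient.factor_surjective hN)
    exact (RingHom.finite_algebraMap (A := K) (B := C ⧸ Ideal.span (Set.range t))).2 this
  have hinj : Function.Injective ((Ideal.Quotient.mk P).comp φ) :=
    CAlgH.injective_mvPowerSeries_hom _ hfin (by rw [ringKrullDim_eq_zero_of_field, zero_add, hs])
  haveI : IsRegularLocalRing A := (CAlgH.isRegularLocalRing_mvPowerSeries K n).1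
  let L := Localization.AtPrime P
  haveI : IsRegularLocalRing L := CAlgH3.isRegularLocalRing_localization P
  obtain ⟨d, hd⟩ : ∃ d, (maximalIdeal L).spanFinrank = d := ⟨_, rfl⟩
  have hdim : d + s = n := by
    have h1 : ringKrullDim L = (d : WithBot ℕ∞) := by rw [← hd, IsRegularLocalRing.spanFinrank_maximalIdeal]
    haveI : _root_.LocCoh.IsCohenMacaulayLocalRing A := CAlgH3.isCohenMacaulayLocalRing_of_regular _
    have h2 := CAlgH3.height_add_ringKrullDim_quotient P
    rw [← IsLocalization.AtPrime.ringKrullDim_eq_height P L, h1, show ringKrullDim (A ⧸ P) = s from hs,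
      CAlgH.AdicSmooth.ringKrullDim_mvPowerSeries_regular, ringKrullDim_eq_zero_of_field, zero_add, ← Nat.cast_add] at h2
    exact_mod_cast h2
  have hfg : (maximalIdeal L).FG := IsNoetherian.noetherian _
  haveI := (Submodule.FG.finite_generators hfg).fintype
  have hcard : Fintype.card (Submodule.generators (maximalIdeal L)) = d := by
    rw [← Nat.card_eq_fintype_card, Nat.card_coe_set_eq, Submodule.FG.generators_ncard hfg, hd]
  let ρ : Fin d → L := fun j => ((Fintype.equivFinOfCardEq hcard).symm j).1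
  have hρ : Ideal.span (Set.range ρ) = maximalIdeal L := by
    rw [show Set.range ρ = Submodule.generators (maximalIdeal L) by
      rw [show ρ = Subtype.val ∘ (Fintype.equivFinOfCardEq hcard).symm from rfl,
        Set.range_comp, Equiv.range_eq_univ, Set.image_univ, Subtype.range_coe]]
    exact Submodule.span_generators _
  choose f u hfP hu hf using fun j => NJ.exists_mem_unit_mul P (q := P) (x := ρ j) (by
    rw [IsLocalization.AtPrime.map_eq_maximalIdeal P L, ← hρ]; exact Ideal.subset_span ⟨j, rfl⟩)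
  refine ⟨s, d, φ, f, hC, fun i => ?_, hfin, hinj, hdim, hfP, fun a ha => ?_⟩
  · rw [hX]
    by_contra h0
    exact (mem_maximalIdeal _).1 (ht'm i) (MvPowerSeries.isUnit_iff_constantCoeff.2 (isUnit_iff_ne_zero.2 h0))
  · have hle : maximalIdeal L ≤ (Ideal.span (Set.range f)).map (algebraMap A L) := by
      rw [← hρ, Ideal.span_le]
      rintro _ ⟨j, rfl⟩
      refine (Ideal.unit_mul_mem_iff_mem _ (hu j)).1 ?_
      rw [← hf]
      exact Ideal.mem_map_of_mem _ (Ideal.subset_span ⟨j, rfl⟩)
    obtain ⟨⟨⟨x, hx⟩, t⟩, ht⟩ := (IsLocalization.mem_map_algebraMap_iff P.primeCompl L).1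
      (hle ((IsLocalization.AtPrime.to_map_mem_maximal_iff L P a).2 ha))
    rw [← map_mul, IsLocalization.eq_iff_exists P.primeCompl] at ht
    obtain ⟨c, hc⟩ := ht
    obtain ⟨b, hb⟩ := Ideal.mem_span_range_iff_exists_fun.1 hx
    refine ⟨c * t, fun j => c * b j, (c * t).2, ?_⟩
    rw [mul_assoc, mul_comm (t : A), hc]
    show (c : A) * x = _
    rw [← hb, Finset.mul_sum]
    simp only [mul_assoc]

variable {p} [CharP K p] {s : ℕ} (M : Subfield K)

omit [CharP K p] in
theorem stageHom_C (c : M) : stageHom p M n (MvPowerSeries.C c) = MvPowerSeries.C (c : K) := by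
  show expand p hp.out.ne_zero (MvPowerSeries.map M.subtype (MvPowerSeries.C c)) = _
  rw [map_C, expand_C]; rfl

omit [CharP K p] in
theorem stageHom_X (i : Fin n) : stageHom p M n (X i) = (X i : MvPowerSeries (Fin n) K) ^ p := by
  show expand p hp.out.ne_zero (MvPowerSeries.map M.subtype (X i)) = _
  rw [map_X, expand_X]

/-- Maps fixing the coefficients respect the stages. -/
theorem map_mem_stage (hM : ∀ x : K, x ^ p ∈ M) (φ : MvPowerSeries (Fin s) K →+* MvPowerSeries (Fin n) K)
    (hC : φ.comp MvPowerSeries.C = MvPowerSeries.C) (hX : ∀ i, constantCoeff (φ (X i)) = 0) {f : MvPowerSeries (Fin s) K}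
    (hf : f ∈ stage p M s) : φ f ∈ stage p M n := by
  classical
  let A := MvPowerSeries (Fin n) K
  let R := MvPowerSeries (Fin n) M
  haveI : IsAdicComplete (maximalIdeal R) R := by
    rw [CAlgH3.maximalIdeal_mvPowerSeries_eq]; exact CAlgH.isAdicComplete_mvPowerSeries (Fin n) M
  haveI : IsAdicComplete (maximalIdeal A) A := by
    rw [CAlgH3.maximalIdeal_mvPowerSeries_eq]; exact CAlgH.isAdicComplete_mvPowerSeries (Fin n) K
  choose g hg using fun i => (show φ (X i) ^ p ∈ stage p M n from pow_mem_stage hM _)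
  have hmemA : ∀ z : A, constantCoeff z = 0 → z ∈ maximalIdeal A := fun z hz => by
    rw [mem_maximalIdeal, mem_nonunits_iff, MvPowerSeries.isUnit_iff_constantCoeff, hz]; simp
  have hgm : ∀ i, g i ∈ maximalIdeal R := fun i => by
    rw [mem_maximalIdeal, mem_nonunits_iff]
    intro hu
    have hu' := hu.map (stageHom p M n)
    rw [hg, isUnit_pow_iff hp.out.ne_zero] at hu'
    exact (mem_maximalIdeal _).1 (hmemA _ (hX i)) hu'
  obtain ⟨ψ, hψC, hψX⟩ := CAlgH.exists_mvPowerSeries_eval (MvPowerSeries.C : M →+* R) (maximalIdeal R) g hgm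
  obtain ⟨f, rfl⟩ := hf
  refine ⟨ψ f, ?_⟩
  refine IsHausdorff.eq_iff_smodEq (I := maximalIdeal A) |>.2 fun N => ?_
  rw [SModEq.sub_mem, smul_eq_mul, Ideal.mul_top, ← Ideal.Quotient.eq]
  let q := Ideal.Quotient.mk (maximalIdeal A ^ N)
  have h := CAlgH.AdicSmooth.mvPowerSeries_hom_ext_ring (q.comp ((stageHom p M n).comp ψ))
    (q.comp (φ.comp (stageHom p M s))) ?_ ?_ ((maximalIdeal A).map q) ?_ (N := N) ?_
  · exact RingHom.congr_fun h f
  · refine RingHom.ext fun c => ?_
    simp only [RingHom.comp_apply]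
    rw [← RingHom.comp_apply ψ, hψC, stageHom_C, stageHom_C, ← RingHom.comp_apply φ, hC]
  · intro i
    simp only [RingHom.comp_apply]
    rw [hψX, hg, stageHom_X, map_pow φ]
  · intro i
    simp only [RingHom.comp_apply]
    rw [hψX, hg]
    exact Ideal.mem_map_of_mem _ (Ideal.pow_mem_of_mem _ (hmemA _ (hX i)) _ hp.out.pos)
  · rw [← Ideal.map_pow, Ideal.map_quotient_self]

end Normalisation

end Groth.Agent.EGA41Lib.FS
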