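import Mathlib
import Groth.Agent.EGA41Lib.NagataKeyAux

/-!
# Derivations of power series rings at a prime, in characteristic `p`

On finitely many elements, every derivation with values in the residue field at a prime agrees with a combination
of finitely many derivations of the ring into itself.
-/

set_option autoImplicit false
set_option backward.isDefEq.respectTransparency.types false

universe u

open IsLocalRing MvPowerSeries

namespace Groth.Agent.EGA41Lib.FS

variable (p : ℕ) [hp : Fact p.Prime]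

section Finite

variable {C A κ : Type u} [CommRing C] [CommRing A] [Field κ] [Algebra A κ] (L : Type u) [Field L] [Algebra C L]
  [Algebra L κ]

omit hp in
/-- A residue field of a finite algebra is finite over the fraction field. -/
theorem finite_of_fractions (P : Ideal A) (hP : ∀ a, algebraMap A κ a = 0 ↔ a ∈ P)
    (hfrac : ∀ x : κ, ∃ a b : A, algebraMap A κ b ≠ 0 ∧ x = algebraMap A κ a / algebraMap A κ b)
    (φ : C →+* A) (hfin : ((Ideal.Quotient.mk P).comp φ).Finite)
    (hcomm : ∀ c, algebraMap L κ (algebraMap C L c) = algebraMap A κ (φ c)) : Module.Finite L κ := by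
  classical
  let π := algebraMap A κ
  letI : Algebra C (A ⧸ P) := ((Ideal.Quotient.mk P).comp φ).toAlgebra
  haveI : Module.Finite C (A ⧸ P) := hfin
  obtain ⟨r, g, hg⟩ := Module.Finite.exists_fin (R := C) (M := A ⧸ P)
  choose g' hg' using fun i => Ideal.Quotient.mk_surjective (g i)
  let V : Submodule L κ := Submodule.span L (Set.range fun i => π (g' i))
  have hV : ∀ a, π a ∈ V := fun a => by
    obtain ⟨c, hc⟩ := (Submodule.mem_span_range_iff_exists_fun C).1
      (hg.ge (Submodule.mem_top (x := Ideal.Quotient.mk P a)))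
    have h1 : a - ∑ i, φ (c i) * g' i ∈ P := by
      rw [← Ideal.Quotient.eq, ← hc, map_sum]
      refine Finset.sum_congr rfl fun i _ => ?_
      rw [map_mul, hg']
      rfl
    have h2 := (hP _).2 h1
    rw [map_sub, sub_eq_zero, map_sum] at h2
    show algebraMap A κ a ∈ V
    rw [h2]
    refine Submodule.sum_mem _ fun i _ => ?_
    rw [map_mul, ← hcomm, ← Algebra.smul_def]
    exact V.smul_mem _ (Submodule.subset_span ⟨i, rfl⟩)
  let S : Subalgebra L κ := Algebra.adjoin L (Set.range π)
  have hS : Subalgebra.toSubmodule S ≤ V := by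
    rw [Algebra.adjoin_eq_span,
      show (Submonoid.closure (Set.range π) : Set κ) = Set.range π from
        congrArg SetLike.coe (Submonoid.closure_eq (MonoidHom.mrange (π : A →* κ)))]
    exact Submodule.span_le.2 (by rintro _ ⟨a, rfl⟩; exact hV a)
  haveI : Module.Finite L V := Module.Finite.span_of_finite _ (Set.finite_range _)
  haveI : Module.Finite L S := Module.Finite.of_injective (Submodule.inclusion hS) (Submodule.inclusion_injective hS)
  have htop : Subalgebra.toSubmodule S = ⊤ := eq_top_iff.2 fun x _ => by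
    obtain ⟨a, b, -, rfl⟩ := hfrac x
    show π a / π b ∈ S
    rw [div_eq_mul_inv]
    refine S.mul_mem (Algebra.subset_adjoin ⟨a, rfl⟩) ?_
    exact S.inv_mem_of_algebraic (x := ⟨π b, Algebra.subset_adjoin ⟨b, rfl⟩⟩)
      ((Algebra.IsIntegral.isIntegral (R := L) (⟨π b, Algebra.subset_adjoin ⟨b, rfl⟩⟩ : S)).map S.val).isAlgebraic
  exact ⟨(eq_top_iff.2 (htop.ge.trans hS) : V = ⊤) ▸ Submodule.fg_span (Set.finite_range _)⟩

end Finite

variable {K : Type u} [Field K] [CharP K p] {n : ℕ} {κ : Type u} [Field κ] [Algebra (MvPowerSeries (Fin n) K) κ]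

set_option maxHeartbeats 1000000 in
include p hp in
/-- The key step of Nagata's criterion in characteristic `p`. -/
theorem exists_stage
    (hfrac : ∀ x : κ, ∃ a b : MvPowerSeries (Fin n) K, algebraMap _ κ b ≠ 0 ∧
      x = algebraMap _ κ a / algebraMap _ κ b)
    {J : Type u} [Finite J] (a : J → MvPowerSeries (Fin n) K) :
    ∃ (idx : Type u) (_ : Fintype idx)
      (D : idx → Derivation ℤ (MvPowerSeries (Fin n) K) (MvPowerSeries (Fin n) K)),
      ∀ δ : Derivation ℤ (MvPowerSeries (Fin n) K) κ, ∃ w : idx → κ,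
        ∀ j, δ (a j) = ∑ i, w i * algebraMap _ κ (D i (a j)) := by
  classical
  let A := MvPowerSeries (Fin n) K
  let π : A →+* κ := algebraMap _ κ
  haveI : CharP κ p := (RingHom.charP_iff_charP (π.comp MvPowerSeries.C) p).1 inferInstance
  let P : Ideal A := RingHom.ker π
  haveI : P.IsPrime := RingHom.ker_isPrime π
  obtain ⟨s, d, φ, f, hφC, hφX, hφfin, hφinj, hds, hfP, hgen⟩ := exists_normalisation P
  let C := MvPowerSeries (Fin s) K
  haveI : IsDomain C := CAlgH.isDomain_mvPowerSeries_fin s K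
  let L := FractionRing C
  have hinjC : Function.Injective (π.comp φ) := by
    rw [injective_iff_map_eq_zero]
    intro z hz
    apply hφinj
    rw [map_zero, RingHom.comp_apply, Ideal.Quotient.eq_zero_iff_mem]
    exact hz
  letI : Algebra L κ := (IsFractionRing.lift (K := L) hinjC).toAlgebra
  have hcomm : ∀ c : C, algebraMap L κ (algebraMap C L c) = π (φ c) := fun c =>
    IsFractionRing.lift_algebraMap hinjC c
  haveI : Module.Finite L κ := finite_of_fractions L P (fun _ => RingHom.mem_ker.symm) hfrac φ hφfin hcomm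
  -- the family
  obtain ⟨ι, _, Mf, hdir, hMf, hint⟩ := exists_family p K
  let F : ι → Subfield L := fun i => fracStage p (Mf i) s L
  have hFmono : ∀ i j, Mf i ≤ Mf j → F i ≤ F j := fun i j h =>
    Subfield.closure_mono (Set.image_mono fun z hz => stage_mono h hz)
  obtain ⟨i₀, hfinE, hintE⟩ := exists_compositum p (κ := κ) F
    (fun a b => by obtain ⟨c, h1, h2⟩ := hdir a b; exact ⟨c, hFmono _ _ h1, hFmono _ _ h2⟩)
    (fun i x => pow_mem_fracStage (hMf i).1 x)
    (fun x hx => exists_pow_eq_of_forall_mem_fracStage p Mf (fun i => (hMf i).1) (fun i => (hMf i).2) hint hx)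
  haveI : Nonempty {i // Mf i ≤ Mf i₀} := ⟨⟨i₀, le_rfl⟩⟩
  obtain ⟨⟨i, hi⟩, hstage⟩ := exists_stage_derivation p (fun i : {i // Mf i ≤ Mf i₀} => compPow p (κ := κ) (F i.1))
    (fun a b => by
      obtain ⟨c, h1, h2⟩ := hdir a.1 b.1
      exact ⟨⟨c, h1.trans a.2⟩, compPow_mono p (hFmono _ _ h1), compPow_mono p (hFmono _ _ h2)⟩)
    (fun i x => pow_mem_compPow p _ x)
    (fun x hx => hintE x fun j => by
      obtain ⟨c, h1, h2⟩ := hdir j i₀
      exact compPow_mono p (hFmono _ _ h1) (hx ⟨c, h2⟩))
    (fun j => π (a j))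
  let M := Mf i
  haveI : Module.Finite M K := (hMf i).2
  let E := compPow p (κ := κ) (F i)
  obtain ⟨hFfin, hFrank⟩ := finite_fracStage (p := p) (M := M) (n := s) (L := L) (hMf i).1
  obtain ⟨hEfin, hErank⟩ := hfinE i (hFmono _ _ hi) hFfin
  haveI : Module.Finite E κ := hEfin
  obtain ⟨m, idx, _, x, dd, hcard, hm, hd1, hd0, -⟩ := exists_coordinates (n := n) p (hMf i).1
  let D : idx → Derivation ℤ A A := fun i => Derivation.mk' (dd i).toLinearMap.toAddMonoidHom.toIntLinearMap
    fun a b => (dd i).leibniz a b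
  refine ⟨idx, inferInstance, D, ?_⟩
  -- combinations of the coordinate derivations
  let dw : (idx → κ) → Derivation ℤ A κ := fun w =>
    Derivation.mk' (AddMonoidHom.mk' (fun z => ∑ i, w i * π (D i z))
      (fun z z' => by simp only [map_add, mul_add, Finset.sum_add_distrib])).toIntLinearMap
      (fun z z' => by
        show ∑ i, w i * π (D i (z * z')) = z • ∑ i, w i * π (D i z') + z' • ∑ i, w i * π (D i z)
        rw [Algebra.smul_def, Algebra.smul_def, Finset.mul_sum, Finset.mul_sum, ← Finset.sum_add_distrib]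
        refine Finset.sum_congr rfl fun i _ => ?_
        rw [Derivation.leibniz, smul_eq_mul, smul_eq_mul, map_add, map_mul, map_mul]
        ring)
  have hdw : ∀ w z, dw w z = ∑ i, w i * π (D i z) := fun w z => rfl
  have hkill : ∀ δ : Derivation ℤ A κ, (∀ l, δ (f l) = 0) → ∀ z, π z = 0 → δ z = 0 := fun δ hδ z hz => by
    obtain ⟨t, b, ht, hb⟩ := hgen z hz
    have h1 := congrArg δ hb
    rw [δ.leibniz, map_sum, Algebra.smul_def, Algebra.smul_def, show algebraMap A κ z = 0 from hz, zero_mul,
      add_zero, Finset.sum_eq_zero fun l _ => by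
        rw [δ.leibniz, hδ, smul_zero, zero_add, Algebra.smul_def, show algebraMap A κ (f l) = 0 from hfP l,
          zero_mul]] at h1
    exact (mul_eq_zero.1 h1).resolve_left fun h => ht h
  have hE : ∀ (w : idx → κ) (θ : Derivation ℤ κ κ), (∀ z, θ (π z) = dw w z) → ∀ y ∈ E, θ y = 0 := fun w θ hθ => by
    obtain ⟨S, hS⟩ := exists_constants θ
    intro y hy
    rw [← hS]
    refine (Subfield.closure_le.2 ?_ : E ≤ S) hy
    rintro z (⟨l, hl, rfl⟩ | ⟨z, rfl⟩)
    · refine (Subfield.closure_le.2 ?_ : F i ≤ S.comap (algebraMap L κ)) hl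
      rintro _ ⟨c, hc, rfl⟩
      show algebraMap L κ (algebraMap C L c) ∈ S
      rw [hS, hcomm, hθ, hdw]
      refine Finset.sum_eq_zero fun i' _ => ?_
      have h0 : dd i' (φ c) = 0 :=
        (dd i').map_algebraMap (⟨φ c, map_mem_stage M (hMf i).1 φ hφC hφX hc⟩ : stage p M n)
      rw [show D i' (φ c) = 0 from h0, map_zero, mul_zero]
    · exact (hS _).2 (PB.derivation_pow_eq_zero θ z)
  obtain ⟨β, -, -, hadj, hβrank, -, -⟩ := exists_pbasis_dual p E (fun y : κ => ⟨⟨_, pow_mem_compPow p _ y⟩, rfl⟩)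
  have hβcard : β.card ≤ s + m := by
    refine (Nat.pow_le_pow_iff_right hp.out.one_lt).1 ?_
    rw [← hβrank, pow_add, ← hm]
    exact hErank.trans hFrank
  choose num den hden hb using fun b : β => hfrac b
  let g : β → A := fun b => num b * den b ^ (p - 1)
  have hg : ∀ b : β, π (g b) = (b : κ) * π (den b) ^ p := fun b => by
    rw [hb b, map_mul, map_pow, div_mul_eq_mul_div, eq_div_iff (hden b), mul_assoc, ← pow_succ,
      Nat.sub_add_cancel hp.out.one_le]
  have hagree : ∀ θ θ' : κ →+ κ, (∀ y z, θ (y * z) = y * θ z + z * θ y) → (∀ y z, θ' (y * z) = y * θ' z + z * θ' y) →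
      (∀ y ∈ E, θ y = 0) → (∀ y ∈ E, θ' y = 0) → (∀ b, θ (π (g b)) = θ' (π (g b))) → ∀ y, θ y = θ' y := by
    intro θ θ' hθ hθ' hθE hθ'E hgb y
    have hy : y ∈ Algebra.adjoin E (β : Set κ) := hadj ▸ Algebra.mem_top
    induction hy using Algebra.adjoin_induction with
    | mem y hy =>
      have h := hgb ⟨y, hy⟩
      have hpE : π (den ⟨y, hy⟩) ^ p ∈ E := pow_mem_compPow p _ _
      rw [hg, hθ, hθ', hθE _ hpE, hθ'E _ hpE, mul_zero, zero_add, zero_add] at h
      exact mul_left_cancel₀ (pow_ne_zero _ (hden ⟨y, hy⟩)) h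
    | algebraMap r => exact (hθE _ r.2).trans (hθ'E _ r.2).symm
    | add y z _ _ hy hz => rw [map_add, map_add, hy, hz]
    | mul y z _ _ hy hz => rw [hθ, hθ', hy, hz]
  let Ef : (idx → κ) →ₗ[κ] (Fin d → κ) :=
    { toFun := fun w l => dw w (f l)
      map_add' := fun w w' => funext fun l => by
        simp only [hdw, Pi.add_apply, add_mul, Finset.sum_add_distrib]
      map_smul' := fun c w => funext fun l => by
        simp only [hdw, Pi.smul_apply, smul_eq_mul, Finset.mul_sum, mul_assoc, RingHom.id_apply] }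
  let G : LinearMap.ker Ef →ₗ[κ] (β → κ) :=
    { toFun := fun w b => dw w.1 (g b)
      map_add' := fun w w' => funext fun l => by
        simp only [hdw, Submodule.coe_add, Pi.add_apply, add_mul, Finset.sum_add_distrib]
      map_smul' := fun c w => funext fun l => by
        simp only [hdw, Submodule.coe_smul, Pi.smul_apply, smul_eq_mul, Finset.mul_sum, mul_assoc, RingHom.id_apply] }
  have hθw : ∀ w : LinearMap.ker Ef, ∃ θ : Derivation ℤ κ κ, ∀ z, θ (π z) = dw w.1 z := fun w =>
    exists_derivation_descend hfrac (dw w.1) (hkill (dw w.1) fun l => congrFun (LinearMap.mem_ker.1 w.2) l)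
  have hG : Function.Injective G := by
    rw [← LinearMap.ker_eq_bot, LinearMap.ker_eq_bot']
    intro w hw
    obtain ⟨θ, hθ⟩ := hθw w
    have h0 := hagree θ.toLinearMap.toAddMonoidHom 0 (fun y z => θ.leibniz y z) (fun y z => by simp) (hE _ θ hθ)
      (fun _ _ => rfl) (fun b => (hθ (g b)).trans (congrFun hw b))
    refine Subtype.ext (funext fun i' => ?_)
    have h1 : dw w.1 (x i') = 0 := (hθ (x i')).symm.trans (h0 _)
    rw [hdw, Finset.sum_eq_single i' (fun j _ hj => by
      rw [show D j (x i') = 0 from hd0 j i' hj, map_zero, mul_zero]) (fun h => absurd (Finset.mem_univ _) h),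
      show D i' (x i') = 1 from hd1 i', map_one, mul_one] at h1
    exact h1
  have h1 := LinearMap.finrank_range_add_finrank_ker Ef
  have h2 := LinearMap.finrank_le_finrank_of_injective hG
  rw [Module.finrank_fintype_fun_eq_card, hcard] at h1
  rw [Module.finrank_fintype_fun_eq_card, Fintype.card_coe] at h2
  have h3 := Submodule.finrank_le (LinearMap.range Ef)
  rw [Module.finrank_fintype_fun_eq_card, Fintype.card_fin] at h3
  have hEf : LinearMap.range Ef = ⊤ := Submodule.eq_top_of_finrank_eq (by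
    rw [Module.finrank_fintype_fun_eq_card, Fintype.card_fin]; omega)
  have hGsurj : Function.Surjective G := (LinearMap.injective_iff_surjective_of_finrank_eq_finrank (by
    rw [Module.finrank_fintype_fun_eq_card, Fintype.card_coe]; omega)).1 hG
  intro δ
  obtain ⟨w₁, hw₁⟩ := LinearMap.range_eq_top.1 hEf fun l => δ (f l)
  obtain ⟨θ, hθ⟩ := exists_derivation_descend hfrac (δ - dw w₁) (hkill _ fun l => by
    show δ (f l) - dw w₁ (f l) = 0
    exact sub_eq_zero.2 (congrFun hw₁ l).symm)
  obtain ⟨θ', hθ'⟩ := hstage θ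
  obtain ⟨w₂, hw₂⟩ := hGsurj fun b => θ' (π (g b))
  obtain ⟨θ₂, hθ₂⟩ := hθw w₂
  have h4 := hagree θ₂.toLinearMap.toAddMonoidHom θ'.toLinearMap.toAddMonoidHom (fun y z => θ₂.leibniz y z)
    (fun y z => θ'.leibniz y z) (hE _ θ₂ hθ₂) (fun y hy => θ'.map_algebraMap (⟨y, hy⟩ : E))
    (fun b => (hθ₂ (g b)).trans (congrFun hw₂ b))
  refine ⟨w₁ + w₂.1, fun j => ?_⟩
  have h5 : dw w₂.1 (a j) = δ (a j) - dw w₁ (a j) :=
    ((hθ₂ (a j)).symm.trans (h4 _)).trans ((hθ' j).trans (hθ (a j)))
  have h6 : δ (a j) = dw w₁ (a j) + dw w₂.1 (a j) := by rw [h5]; ring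
  rw [h6, hdw, hdw, ← Finset.sum_add_distrib]
  exact Finset.sum_congr rfl fun i' _ => (add_mul _ _ _).symm

end Groth.Agent.EGA41Lib.FS
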