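import Groth.Agent.EGA41Lib.SymGrMain
import Groth.Agent.EGA41Lib.AdicBridge

/-!
# Extending derivations, and the Jacobian criterion for adic formal smoothness
-/

set_option autoImplicit false

universe u

open TensorProduct KaehlerDifferential

namespace Groth.Agent.EGA41Lib.SymGr

variable {Λ A B : Type u} [CommRing Λ] [CommRing A] [CommRing B] [Algebra Λ A] [Algebra A B] [Algebra Λ B]
  [IsScalarTower Λ A B] {J : Ideal B}

/-- Derivations of the base into a discrete module extend to an adically formally smooth algebra. -/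
theorem exists_derivation_extend (h : CAlgX.IsAdicFormallySmooth A B J) {M : Type u} [AddCommGroup M] [Module B M]
    [Module A M] [Module Λ M] [IsScalarTower A B M] [IsScalarTower Λ A M] [IsScalarTower Λ B M] {k : ℕ}
    (hk : Module.IsTorsionBySet B M (↑(J ^ k) : Set B)) (δ : Derivation Λ A M) :
    ∃ D : Derivation Λ B M, ∀ a, D (algebraMap A B a) = δ a := by
  letI := hk.module
  haveI : IsScalarTower B (B ⧸ J ^ k) M := Module.IsTorsionBySet.isScalarTower _
  letI : Module (B ⧸ J ^ k)ᵐᵒᵖ M := Module.compHom M ((RingHom.id (B ⧸ J ^ k)).fromOpposite fun x y => mul_comm _ _)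
  haveI : IsCentralScalar (B ⧸ J ^ k) M := ⟨fun _ _ => rfl⟩
  have hsmul : ∀ (b : B) (x : M), Ideal.Quotient.mk (J ^ k) b • x = b • x := fun b x => algebraMap_smul (B ⧸ J ^ k) b x
  let f : A →+* TrivSqZeroExt (B ⧸ J ^ k) M :=
    { toFun := fun a => TrivSqZeroExt.inl (algebraMap A (B ⧸ J ^ k) a) + TrivSqZeroExt.inr (δ a)
      map_one' := by ext <;> simp
      map_zero' := by ext <;> simp
      map_add' := fun a b => by ext <;> simp
      map_mul' := fun a b => by
        refine TrivSqZeroExt.ext ?_ ?_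
        · simp
        · simp only [TrivSqZeroExt.snd_add, TrivSqZeroExt.snd_inl, TrivSqZeroExt.snd_inr, zero_add,
            TrivSqZeroExt.snd_mul, TrivSqZeroExt.fst_add, TrivSqZeroExt.fst_inl, TrivSqZeroExt.fst_inr, add_zero,
            op_smul_eq_smul, IsScalarTower.algebraMap_apply A B (B ⧸ J ^ k), Ideal.Quotient.algebraMap_eq, hsmul,
            algebraMap_smul, Derivation.leibniz] }
  let K : Ideal (TrivSqZeroExt (B ⧸ J ^ k) M) := RingHom.ker (TrivSqZeroExt.fstHom ℤ (B ⧸ J ^ k) M)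
  have hK : K ^ 2 = ⊥ := by
    rw [sq, ← le_bot_iff, Ideal.mul_le]
    intro a ha b hb
    rw [Ideal.mem_bot]
    refine TrivSqZeroExt.ext ?_ ?_ <;> simp [show a.fst = 0 from ha, show b.fst = 0 from hb]
  let ψ : B →+* TrivSqZeroExt (B ⧸ J ^ k) M ⧸ K :=
    (Ideal.Quotient.mk K).comp ((TrivSqZeroExt.inlHom (B ⧸ J ^ k) M).comp (Ideal.Quotient.mk (J ^ k)))
  obtain ⟨χ, hχ1, hχ2⟩ := Groth.Agent.CAlgH.AdicSmooth.exists_lift_ringHom h f K hK ψ
    (RingHom.ext fun a => Ideal.Quotient.eq.2 (show TrivSqZeroExt.fst (_ - f a) = 0 by simp [f]))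
    ⟨k, fun x hx => by
      show Ideal.Quotient.mk K (TrivSqZeroExt.inl (Ideal.Quotient.mk (J ^ k) x)) = 0
      rw [Ideal.Quotient.eq_zero_iff_mem.2 hx, TrivSqZeroExt.inl_zero, map_zero]⟩
  have hfst : ∀ b, (χ b).fst = Ideal.Quotient.mk (J ^ k) b := fun b => by
    have h1 : TrivSqZeroExt.fst (χ b - TrivSqZeroExt.inl (Ideal.Quotient.mk (J ^ k) b)) = 0 :=
      Ideal.Quotient.eq.1 (RingHom.congr_fun hχ2 b)
    simpa [sub_eq_zero] using h1
  let d : B →+ M := AddMonoidHom.mk' (fun b => (χ b).snd) fun a b => by rw [map_add, TrivSqZeroExt.snd_add]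
  have hd : ∀ a b, d (a * b) = a • d b + b • d a := fun a b => by
    show (χ (a * b)).snd = _
    rw [map_mul, TrivSqZeroExt.snd_mul, op_smul_eq_smul, hfst, hfst, hsmul, hsmul]
    rfl
  have hdA : ∀ a, d (algebraMap A B a) = δ a := fun a => by
    show (χ (algebraMap A B a)).snd = _
    rw [show χ (algebraMap A B a) = f a from RingHom.congr_fun hχ1 a]
    simp [f]
  refine ⟨Derivation.mk' { d with map_smul' := fun r b => ?_ } hd, hdA⟩
  show d (r • b) = r • d b
  rw [Algebra.smul_def, hd, IsScalarTower.algebraMap_apply Λ A B, hdA, Derivation.map_algebraMap, smul_zero, add_zero,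
    ← IsScalarTower.algebraMap_apply Λ A B, algebraMap_smul]

/-- The map on differentials, modulo `J`. -/
theorem mkₐ_exact :
    Function.Exact ((mapBaseChange Λ A B).baseChange (B ⧸ J)) ((KaehlerDifferential.map Λ A B B).baseChange (B ⧸ J)) :=
  lTensor_exact (B ⧸ J) (KaehlerDifferential.exact_mapBaseChange_map Λ A B) (KaehlerDifferential.map_surjective Λ A B)

theorem exists_retraction [Module.Projective (B ⧸ J) ((B ⧸ J) ⊗[B] (Ω[B⁄A]))]
    (hinj : Function.Injective ((mapBaseChange Λ A B).lTensor (B ⧸ J))) :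
    ∃ r : (B ⧸ J) ⊗[B] (Ω[B⁄Λ]) →ₗ[B ⧸ J] (B ⧸ J) ⊗[B] (B ⊗[A] Ω[A⁄Λ]),
      ∀ x, r ((mapBaseChange Λ A B).baseChange (B ⧸ J) x) = x := by
  obtain ⟨s, hs⟩ := Module.projective_lifting_property ((KaehlerDifferential.map Λ A B B).baseChange (B ⧸ J))
    LinearMap.id (LinearMap.lTensor_surjective _ (KaehlerDifferential.map_surjective Λ A B))
  let P : (B ⧸ J) ⊗[B] (Ω[B⁄Λ]) →ₗ[B ⧸ J] (B ⧸ J) ⊗[B] (Ω[B⁄Λ]) :=
    LinearMap.id - s ∘ₗ (KaehlerDifferential.map Λ A B B).baseChange (B ⧸ J)
  have hP : ∀ x, P x ∈ LinearMap.range ((mapBaseChange Λ A B).baseChange (B ⧸ J)) := fun x => by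
    refine (mkₐ_exact _).1 ?_
    show _ = (0 : (B ⧸ J) ⊗[B] (Ω[B⁄A]))
    rw [LinearMap.sub_apply, LinearMap.id_apply, LinearMap.comp_apply, map_sub, sub_eq_zero]
    exact (LinearMap.congr_fun hs _).symm
  have hinj' : Function.Injective ((mapBaseChange Λ A B).baseChange (B ⧸ J)) := hinj
  refine ⟨(LinearEquiv.ofInjective _ hinj').symm.toLinearMap ∘ₗ P.codRestrict _ hP, fun x => ?_⟩
  apply hinj'
  have h1 := congrArg Subtype.val ((LinearEquiv.ofInjective _ hinj').apply_symm_apply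
    ⟨P ((mapBaseChange Λ A B).baseChange (B ⧸ J) x), hP _⟩)
  refine h1.trans ?_
  show _ - s _ = _
  rw [((mkₐ_exact _).2 ⟨x, rfl⟩ : (KaehlerDifferential.map Λ A B B).baseChange (B ⧸ J) _ = 0), map_zero, sub_zero]
  rfl

theorem exists_derivation_extend_of_retraction (hΛ : CAlgX.IsAdicFormallySmooth Λ B J)
    (r : (B ⧸ J) ⊗[B] (Ω[B⁄Λ]) →ₗ[B ⧸ J] (B ⧸ J) ⊗[B] (B ⊗[A] Ω[A⁄Λ]))
    (hr : ∀ x, r ((mapBaseChange Λ A B).baseChange (B ⧸ J) x) = x) :
    ∀ (k : ℕ) {M : Type u} [AddCommGroup M] [Module B M] [Module A M] [Module Λ M] [IsScalarTower A B M]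
      [IsScalarTower Λ A M] [IsScalarTower Λ B M], Module.IsTorsionBySet B M (↑(J ^ k) : Set B) →
      ∀ δ : Derivation Λ A M, ∃ D : Derivation Λ B M, ∀ a, D (algebraMap A B a) = δ a := by
  intro k
  induction k with
  | zero =>
    intro M _ _ _ _ _ _ _ hk δ
    refine ⟨0, fun a => ?_⟩
    have h1 : ∀ x : M, x = 0 := fun x => by simpa using @hk x ⟨1, by simp⟩
    rw [h1 (δ a)]; rfl
  | succ k ih =>
    intro M _ _ _ _ _ _ _ hk δ
    let N : Submodule B M := J • ⊤
    have hN : Module.IsTorsionBySet B N (↑(J ^ k) : Set B) := fun x b => by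
      have hmem : ∀ y ∈ (J • ⊤ : Submodule B M), (b : B) • y = 0 := fun y hy => by
        refine Submodule.smul_induction_on hy (fun j hj m _ => ?_) fun y z hy hz => by rw [smul_add, hy, hz, add_zero]
        rw [← mul_smul]
        exact @hk m ⟨(b : B) * j, by rw [pow_succ]; exact Ideal.mul_mem_mul b.2 hj⟩
      exact Subtype.ext (hmem x x.2)
    have hQ : Module.IsTorsionBySet B (M ⧸ N) (↑J : Set B) := fun x b => by
      obtain ⟨m, rfl⟩ := Submodule.Quotient.mk_surjective _ x
      rw [← Submodule.Quotient.mk_smul, Submodule.Quotient.mk_eq_zero]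
      exact Submodule.smul_mem_smul b.2 trivial
    letI := hQ.module
    haveI : IsScalarTower B (B ⧸ J) (M ⧸ N) := Module.IsTorsionBySet.isScalarTower _
    let δ₁ : Derivation Λ A (M ⧸ N) := (N.mkQ.restrictScalars A).compDer δ
    let g₁ : (B ⧸ J) ⊗[B] (B ⊗[A] Ω[A⁄Λ]) →ₗ[B ⧸ J] M ⧸ N :=
      ((δ₁.liftKaehlerDifferential).liftBaseChange B).liftBaseChange (B ⧸ J)
    let D₁ : Derivation Λ B (M ⧸ N) :=
      ((g₁ ∘ₗ r).restrictScalars B ∘ₗ TensorProduct.mk B (B ⧸ J) (Ω[B⁄Λ]) 1).compDer (KaehlerDifferential.D Λ B)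
    have hD₁ : ∀ a, D₁ (algebraMap A B a) = δ₁ a := fun a => by
      have h1 : (1 : B ⧸ J) ⊗ₜ[B] (KaehlerDifferential.D Λ B (algebraMap A B a)) =
          (mapBaseChange Λ A B).baseChange (B ⧸ J) (1 ⊗ₜ ((1 : B) ⊗ₜ[A] KaehlerDifferential.D Λ A a)) := by
        rw [LinearMap.baseChange_tmul, mapBaseChange_tmul, one_smul, KaehlerDifferential.map_D]
      show g₁ (r ((1 : B ⧸ J) ⊗ₜ[B] (KaehlerDifferential.D Λ B (algebraMap A B a)))) = _
      rw [h1, hr]
      simp [g₁]
    letI := hk.module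
    haveI : IsScalarTower B (B ⧸ J ^ (k + 1)) M := Module.IsTorsionBySet.isScalarTower _
    have hQ' : Module.IsTorsionBySet B (M ⧸ N) (↑(J ^ (k + 1)) : Set B) := fun x b => by
      obtain ⟨m, rfl⟩ := Submodule.Quotient.mk_surjective _ x
      rw [← Submodule.Quotient.mk_smul, @hk m b, Submodule.Quotient.mk_zero]
    letI := hQ'.module
    haveI : IsScalarTower B (B ⧸ J ^ (k + 1)) (M ⧸ N) := Module.IsTorsionBySet.isScalarTower _
    let π : M →ₗ[B ⧸ J ^ (k + 1)] M ⧸ N :=
      { toFun := N.mkQ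
        map_add' := map_add _
        map_smul' := fun c x => by
          obtain ⟨b, rfl⟩ := Ideal.Quotient.mk_surjective c
          rw [RingHom.id_apply, ← Ideal.Quotient.algebraMap_eq, algebraMap_smul, algebraMap_smul, map_smul] }
    have hbot : ∃ c : ℕ, ((⊥ : Ideal Λ) ^ c).map (algebraMap Λ B) ≤ J := ⟨1, by rw [pow_one, Ideal.map_bot]; exact bot_le⟩
    obtain ⟨D₀, hD₀⟩ := Groth.Agent.EGA41Lib.exists_derivation_lift hbot ((isFormallySmoothAdic_iff hbot).2 hΛ)
      (J ^ (k + 1)) ⟨k + 1, le_rfl⟩ π N.mkQ_surjective D₁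
    have hdiff : ∀ a, δ a - D₀ (algebraMap A B a) ∈ N := fun a => by
      rw [← Submodule.Quotient.eq]
      exact ((hD₀ _).trans (hD₁ a)).symm
    let δ' : Derivation Λ A N := Derivation.mk'
      { toFun := fun a => ⟨δ a - D₀ (algebraMap A B a), hdiff a⟩
        map_add' := fun a b => Subtype.ext (by
          show δ (a + b) - D₀ (algebraMap A B (a + b)) = (δ a - D₀ (algebraMap A B a)) + (δ b - D₀ (algebraMap A B b))
          rw [map_add, map_add, map_add]; abel)
        map_smul' := fun c a => Subtype.ext (by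
          show δ (c • a) - D₀ (algebraMap A B (c • a)) = c • (δ a - D₀ (algebraMap A B a))
          rw [show algebraMap A B (c • a) = c • algebraMap A B a from (IsScalarTower.toAlgHom Λ A B).toLinearMap.map_smul c a,
            Derivation.map_smul, Derivation.map_smul, smul_sub]) }
      fun a b => Subtype.ext (by
        show δ (a * b) - D₀ (algebraMap A B (a * b)) =
          a • (δ b - D₀ (algebraMap A B b)) + b • (δ a - D₀ (algebraMap A B a))
        rw [Derivation.leibniz δ, map_mul, Derivation.leibniz, algebraMap_smul, algebraMap_smul, smul_sub, smul_sub]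
        abel)
    obtain ⟨D', hD'⟩ := ih (M := N) hN δ'
    refine ⟨D₀ + N.subtype.compDer D', fun a => ?_⟩
    show D₀ (algebraMap A B a) + (D' (algebraMap A B a) : M) = δ a
    rw [hD' a]
    exact add_sub_cancel _ _

theorem isAdicFormallySmooth_of_retraction (hΛ : CAlgX.IsAdicFormallySmooth Λ B J)
    (r : (B ⧸ J) ⊗[B] (Ω[B⁄Λ]) →ₗ[B ⧸ J] (B ⧸ J) ⊗[B] (B ⊗[A] Ω[A⁄Λ]))
    (hr : ∀ x, r ((mapBaseChange Λ A B).baseChange (B ⧸ J) x) = x) : CAlgX.IsAdicFormallySmooth A B J := by
  intro T _ _ I hI ψ ⟨k, hk⟩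
  letI : Algebra Λ T := ((algebraMap A T).comp (algebraMap Λ A)).toAlgebra
  haveI : IsScalarTower Λ A T := IsScalarTower.of_algebraMap_eq fun _ => rfl
  obtain ⟨χ, hχ⟩ := hΛ T I hI (ψ.restrictScalars Λ) ⟨k, hk⟩
  have hχ' : ∀ b, Ideal.Quotient.mk I (χ b) = ψ b := fun b => AlgHom.congr_fun hχ b
  have hII : ∀ x ∈ I, ∀ y ∈ I, x * y = 0 := fun x hx y hy => by
    have := Ideal.mul_mem_mul hx hy
    rwa [← sq, hI, Ideal.mem_bot] at this
  have hmem : ∀ a, χ (algebraMap A B a) - algebraMap A T a ∈ I := fun a =>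
    Ideal.Quotient.eq.1 (by rw [hχ', AlgHom.commutes]; rfl)
  letI : Module B I := Module.compHom I χ.toRingHom
  have hsmulB : ∀ (b : B) (x : I), ((b • x : I) : T) = χ b * x := fun _ _ => rfl
  have hsmulA : ∀ (a : A) (x : I), ((a • x : I) : T) = algebraMap A T a * x := fun a x =>
    (Submodule.coe_smul_of_tower a x).trans (Algebra.smul_def _ _)
  haveI : IsScalarTower A B I := IsScalarTower.of_algebraMap_smul fun a x => Subtype.ext (by
    rw [hsmulB, hsmulA, ← sub_eq_zero, ← sub_mul]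
    exact hII _ (hmem a) _ x.2)
  haveI : IsScalarTower Λ B I := IsScalarTower.of_algebraMap_smul fun c x => Subtype.ext (by
    rw [hsmulB, AlgHom.commutes, Submodule.coe_smul_of_tower, Algebra.smul_def])
  have htors : Module.IsTorsionBySet B I (↑(J ^ k) : Set B) := fun x b => Subtype.ext (by
    rw [hsmulB]
    exact hII _ (Ideal.Quotient.eq_zero_iff_mem.1 ((hχ' b).trans (hk b b.2))) _ x.2)
  let δ : Derivation Λ A I := Derivation.mk'
    { toFun := fun a => ⟨χ (algebraMap A B a) - algebraMap A T a, hmem a⟩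
      map_add' := fun a b => Subtype.ext (by simp only [map_add, Submodule.coe_add]; ring)
      map_smul' := fun c a => Subtype.ext (by
        show χ (algebraMap A B (c • a)) - algebraMap A T (c • a) = ((c • (⟨_, hmem a⟩ : I) : I) : T)
        rw [Submodule.coe_smul_of_tower, Algebra.smul_def c a, map_mul, map_mul, map_mul,
          ← IsScalarTower.algebraMap_apply Λ A B, ← IsScalarTower.algebraMap_apply Λ A T, AlgHom.commutes,
          Algebra.smul_def c (_ - _), mul_sub]) }
    fun a b => Subtype.ext (by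
      show χ (algebraMap A B (a * b)) - algebraMap A T (a * b) =
        ((a • (⟨_, hmem b⟩ : I) : I) : T) + ((b • (⟨_, hmem a⟩ : I) : I) : T)
      rw [hsmulA, hsmulA, map_mul, map_mul, map_mul]
      linear_combination hII _ (hmem a) _ (hmem b))
  obtain ⟨D, hD⟩ := exists_derivation_extend_of_retraction hΛ r hr k htors δ
  refine ⟨{ toFun := fun b => χ b - (D b : T)
            map_one' := by rw [map_one, Derivation.map_one_eq_zero, ZeroMemClass.coe_zero, sub_zero]
            map_zero' := by rw [map_zero, map_zero, ZeroMemClass.coe_zero, sub_zero]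
            map_add' := fun a b => by rw [map_add, map_add, Submodule.coe_add]; ring
            map_mul' := fun a b => by
              rw [map_mul, Derivation.leibniz, Submodule.coe_add, hsmulB, hsmulB]
              linear_combination - hII _ (D a).2 _ (D b).2
            commutes' := fun a => by
              show χ (algebraMap A B a) - (D (algebraMap A B a) : T) = algebraMap A T a
              rw [hD]
              exact sub_sub_cancel _ _ }, AlgHom.ext fun b => ?_⟩
  show Ideal.Quotient.mk I (χ b - (D b : T)) = ψ b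
  rw [map_sub, hχ', Ideal.Quotient.eq_zero_iff_mem.2 (D b).2, sub_zero]

theorem injective_lTensor_of_adicSmooth (h : CAlgX.IsAdicFormallySmooth A B J) :
    Function.Injective ((mapBaseChange Λ A B).lTensor (B ⧸ J)) := by
  have htors : Module.IsTorsionBySet B ((B ⧸ J) ⊗[B] (B ⊗[A] Ω[A⁄Λ])) (↑(J ^ 1) : Set B) := fun x b => by
    rw [← algebraMap_smul (B ⧸ J) (b : B) x, Ideal.Quotient.algebraMap_eq,
      Ideal.Quotient.eq_zero_iff_mem.2 (by simpa using b.2), zero_smul]
  let L : Ω[A⁄Λ] →ₗ[A] (B ⧸ J) ⊗[B] (B ⊗[A] Ω[A⁄Λ]) :=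
    (TensorProduct.mk B (B ⧸ J) (B ⊗[A] Ω[A⁄Λ]) 1).restrictScalars A ∘ₗ TensorProduct.mk A B Ω[A⁄Λ] 1
  obtain ⟨D, hD⟩ := exists_derivation_extend h htors (L.compDer (KaehlerDifferential.D Λ A))
  let r := D.liftKaehlerDifferential.liftBaseChange (B ⧸ J)
  have hL : ∀ ω, D.liftKaehlerDifferential (KaehlerDifferential.map Λ Λ A B ω) = L ω := fun ω => by
    refine LinearMap.congr_fun (?_ : (D.liftKaehlerDifferential.restrictScalars A) ∘ₗ KaehlerDifferential.map Λ Λ A B = L) ω
    refine Derivation.liftKaehlerDifferential_unique _ _ (Derivation.ext fun a => ?_)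
    show D.liftKaehlerDifferential (KaehlerDifferential.map Λ Λ A B (KaehlerDifferential.D Λ A a)) = _
    rw [KaehlerDifferential.map_D, Derivation.liftKaehlerDifferential_comp_D, hD]
  refine Function.LeftInverse.injective (g := r) fun x => ?_
  induction x with
  | zero => rw [map_zero, map_zero]
  | add x y hx hy => rw [map_add, map_add, hx, hy]
  | tmul c y =>
    induction y with
    | zero => rw [TensorProduct.tmul_zero, map_zero, map_zero]
    | add x y hx hy => rw [TensorProduct.tmul_add, map_add, map_add, hx, hy]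
    | tmul b ω =>
      rw [LinearMap.lTensor_tmul, mapBaseChange_tmul, LinearMap.liftBaseChange_tmul, map_smul, hL]
      show c • b • ((1 : B ⧸ J) ⊗ₜ[B] ((1 : B) ⊗ₜ[A] ω)) = c ⊗ₜ[B] (b ⊗ₜ[A] ω)
      rw [← TensorProduct.tmul_smul, TensorProduct.smul_tmul', TensorProduct.smul_tmul', smul_eq_mul, smul_eq_mul,
        mul_one, mul_one]

end Groth.Agent.EGA41Lib.SymGr
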