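import Mathlib
import Groth.Agent.EGA41Lib.NagataKey
import Groth.Agent.EGA41Lib.SymGrJacobi
import Groth.Agent.CAlgH.RegularPowerSeries

/-!
# Nagata's Jacobian criterion
-/

set_option autoImplicit false
set_option backward.isDefEq.respectTransparency.types false

universe u

open IsLocalRing MvPowerSeries

namespace Groth.Agent.EGA41Lib.NC

/-- Smoothness over a separable extension gives smoothness over the base field. -/
theorem adicSmooth_of_separable {k K₀ A : Type u} [Field k] [Field K₀] [Algebra k K₀]
    [Algebra.IsGeometricallyReduced k K₀] [CommRing A] [IsLocalRing A] [Algebra k A] [Algebra K₀ A]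
    [IsScalarTower k K₀ A] (hA : CAlgX.IsAdicFormallySmooth K₀ A (maximalIdeal A)) :
    CAlgX.IsAdicFormallySmooth k A (maximalIdeal A) := by
  haveI : Algebra.FormallySmooth k K₀ := (formallySmooth_iff_isGeometricallyReduced_field k K₀).2 inferInstance
  refine CAlgH.AdicSmooth.trans (R := k) (S := K₀) (𝔫 := ⊥) ?_ CAlgH.AdicSmooth.of_formallySmooth hA
  rw [Ideal.map_bot]
  exact bot_le

/-- Membership of the square of the maximal ideal at a prime. -/
theorem mem_sq_iff {A : Type u} [CommRing A] (p : Ideal A) [p.IsPrime] (g : A) :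
    algebraMap A (Localization.AtPrime p) g ∈ maximalIdeal (Localization.AtPrime p) ^ 2 ↔
      ∃ t ∉ p, t * g ∈ p ^ 2 := by
  rw [← IsLocalization.AtPrime.map_eq_maximalIdeal p (Localization.AtPrime p), ← Ideal.map_pow,
    IsLocalization.algebraMap_mem_map_algebraMap_iff p.primeCompl (Localization.AtPrime p)]
  exact Iff.rfl

/-- Nagata's criterion in characteristic zero, for `e : K[[T]] ≃ A`. -/
theorem hinj_of_charZero {k K : Type u} [Field k] [Field K] [CharZero K] [Algebra k K] {r : ℕ}
    {A : Type u} [CommRing A] [Algebra k A] (e : MvPowerSeries (Fin r) K ≃ₐ[k] A) (p : Ideal A) [p.IsPrime]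
    (g : A) (hg : g ∈ p) (hdg : ∀ i, e (MvPowerSeries.pderiv K i (e.symm g)) ∈ p) :
    algebraMap A (Localization.AtPrime p) g ∈ maximalIdeal (Localization.AtPrime p) ^ 2 := by
  classical
  let P := MvPowerSeries (Fin r) K
  let p' : Ideal P := p.comap (e : P ≃+* A).toRingHom
  haveI : p'.IsPrime := Ideal.comap_isPrime _ _
  obtain ⟨s, d, φ, f, hC, -, hfin, hinj, -, -, -⟩ := FS.exists_normalisation p'
  let C := MvPowerSeries (Fin s) K
  letI : Algebra C (P ⧸ p') := ((Ideal.Quotient.mk p').comp φ).toAlgebra
  haveI : Module.Finite C (P ⧸ p') := hfin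
  haveI : IsScalarTower K C (P ⧸ p') := IsScalarTower.of_algebraMap_eq fun c =>
    (congrArg (Ideal.Quotient.mk p') (RingHom.congr_fun hC c)).symm
  haveI : IsRegularLocalRing P := (CAlgH.isRegularLocalRing_mvPowerSeries K r).1
  haveI : IsRegularLocalRing (Localization.AtPrime p') := CAlgH3.isRegularLocalRing_localization p'
  haveI : IsDomain C := CAlgH.isDomain_mvPowerSeries_fin s K
  let L := FractionRing C
  haveI : CharZero C := charZero_of_injective_algebraMap (algebraMap K C).injective
  haveI : CharZero L := charZero_of_injective_algebraMap (IsFractionRing.injective C L)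
  have h := NJ.mem_sq_of_pderiv p' hinj (fun a => ?_) (e.symm g)
    (show e (e.symm g) ∈ p by rwa [e.apply_symm_apply]) hdg
  · obtain ⟨t, ht, htg⟩ := (mem_sq_iff p' _).1 h
    refine (mem_sq_iff p g).2 ⟨e t, ht, ?_⟩
    have h1 := Ideal.mem_map_of_mem (e : P ≃+* A).toRingHom htg
    rw [Ideal.map_pow] at h1
    have h2 := Ideal.pow_right_mono (Ideal.map_comap_le (f := (e : P ≃+* A).toRingHom) (K := p)) 2 h1
    simpa using h2
  · -- separability
    have hint : IsIntegral C a := Algebra.IsIntegral.isIntegral a
    refine ⟨minpoly C a, minpoly.aeval C a, ?_⟩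
    haveI : FaithfulSMul C (P ⧸ p') := (faithfulSMul_iff_algebraMap_injective C _).2 hinj
    haveI : IsRegularLocalRing C := (CAlgH.isRegularLocalRing_mvPowerSeries K s).1
    have hirr : Irreducible ((minpoly C a).map (algebraMap C L)) := by
      letI : Algebra L (FractionRing (P ⧸ p')) := FractionRing.liftAlgebra C _
      haveI : IsScalarTower C L (FractionRing (P ⧸ p')) := FractionRing.isScalarTower_liftAlgebra C _
      haveI : IsIntegrallyClosed C := CAlgH3.isIntegrallyClosed_of_regular C
      rw [← minpoly.isIntegrallyClosed_eq_field_fractions L (FractionRing (P ⧸ p')) hint]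
      exact minpoly.irreducible ((hint.map (IsScalarTower.toAlgHom C (P ⧸ p') (FractionRing (P ⧸ p')))).tower_top)
    exact hirr.separable

/-- Derivations of the base field extend into a residue field killed by the topology. -/
theorem exists_derivation_over {k L κ : Type u} [Field k] [CommRing L] [Algebra k L] [Field κ] [Algebra L κ]
    [Algebra k κ] [IsScalarTower k L κ] (M : Subfield k) {I : Ideal L} (hI : ∀ a ∈ I, algebraMap L κ a = 0)
    (h : CAlgX.IsAdicFormallySmooth k L I) (D : Derivation M k k) :
    ∃ E : L →+ κ, (∀ a b, E (a * b) = algebraMap L κ a * E b + algebraMap L κ b * E a) ∧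
      ∀ x, E (algebraMap k L x) = algebraMap k κ (D x) := by
  haveI : IsScalarTower M L κ := IsScalarTower.of_algebraMap_eq fun x => IsScalarTower.algebraMap_apply k L κ (x : k)
  obtain ⟨E, hE⟩ := SymGr.exists_derivation_extend (Λ := M) (A := k) (B := L) h (M := κ) (k := 1)
    (fun z a => by
      have h1 : (a : L) ∈ I := by have h := a.2; simp only [pow_one] at h; exact h
      show (a : L) • z = 0
      rw [Algebra.smul_def, hI _ h1, zero_mul])
    ((Algebra.linearMap k κ).compDer D)
  exact ⟨E.toLinearMap.toAddMonoidHom, fun a b => (E.leibniz a b).trans (by rw [Algebra.smul_def, Algebra.smul_def]; rfl),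
    fun x => hE x⟩

open Classical in
/-- Smoothness of a quotient at a prime gives derivations with invertible Jacobian. -/
theorem exists_det_of_adicSmooth (p : ℕ) {k A : Type u} [Field k] [ExpChar k p]
    (hk : p = 1 ∨ Module.Finite (frobenius k p).fieldRange k)
    [CommRing A] [IsLocalRing A] [IsNoetherianRing A] [IsAdicComplete (maximalIdeal A) A] [Algebra k A]
    (hA : CAlgX.IsAdicFormallySmooth k A (maximalIdeal A))
    (q 𝔭 : Ideal A) [𝔭.IsPrime] (hq : q ≤ 𝔭) [(𝔭.map (Ideal.Quotient.mk q)).IsPrime]
    (hB : CAlgX.IsAdicFormallySmooth k (Localization.AtPrime (𝔭.map (Ideal.Quotient.mk q)))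
      (maximalIdeal (Localization.AtPrime (𝔭.map (Ideal.Quotient.mk q))))) :
    ∃ (m : ℕ) (D : Fin m → Derivation k A A) (f : Fin m → A), (∀ i, f i ∈ q) ∧
        q.map (algebraMap A (Localization.AtPrime 𝔭)) =
          Ideal.span (Set.range fun i => algebraMap A (Localization.AtPrime 𝔭) (f i)) ∧
        Matrix.det (Matrix.of fun i j => D i (f j)) ∉ 𝔭 := by
  classical
  haveI : IsRegularLocalRing A := CAlgH.AdicSmooth.isRegularLocalRing_of_adicSmooth hA
  let L := Localization.AtPrime 𝔭
  have hAp := CAlgH.AdicSmooth.of_localization_prime hA 𝔭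
  cases ‹ExpChar k p›
  case zero =>
    obtain ⟨s, hs1, hs2⟩ := CAlgH.exists_coefficient_field_perfect (k := k) (R := A)
    obtain ⟨r, e, he⟩ := CAlgH.exists_equiv_mvPowerSeries_of_coefficient s fun y => ⟨y, hs2 y⟩
    haveI : CharZero (ResidueField A) := charZero_of_injective_algebraMap (algebraMap k (ResidueField A)).injective
    let e' : MvPowerSeries (Fin r) (ResidueField A) ≃ₐ[k] A := AlgEquiv.ofRingEquiv (f := e) fun c => by
      rw [MvPowerSeries.algebraMap_apply, he]
      exact RingHom.congr_fun hs1 c
    haveI : IsRegularLocalRing L := CAlgH3.isRegularLocalRing_localization 𝔭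
    let δ : Fin r → Derivation k A A := fun i => Derivation.mk'
      (e'.toLinearMap.comp (((MvPowerSeries.pderiv (ResidueField A) i).toLinearMap.restrictScalars k).comp
        e'.symm.toLinearMap))
      fun a b => by
        show e' (MvPowerSeries.pderiv _ i (e'.symm (a * b))) = a • e' (MvPowerSeries.pderiv _ i (e'.symm b)) +
          b • e' (MvPowerSeries.pderiv _ i (e'.symm a))
        rw [map_mul, Derivation.leibniz, smul_eq_mul, smul_eq_mul, smul_eq_mul, smul_eq_mul, map_add, map_mul, map_mul,
          e'.apply_symm_apply, e'.apply_symm_apply]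
    exact NJ.exists_det_of_regular 𝔭 δ (fun g hg hdg => hinj_of_charZero e' 𝔭 g hg hdg) q hq
      (CAlgH.AdicSmooth.isRegularLocalRing_of_adicSmooth hB)
  case prime hpp hcp =>
    haveI := Fact.mk hpp
    haveI : CharP A p := charP_of_injective_algebraMap (algebraMap k A).injective p
    let M : Subfield k := (frobenius k p).fieldRange
    haveI : Module.Finite M k := hk.resolve_left hpp.ne_one
    obtain ⟨β, Dk, hDk, hadj, -, -, -⟩ := FS.exists_pbasis_dual p M (fun x : k => ⟨⟨x ^ p, x, rfl⟩, rfl⟩)
    -- generators of `q` at `𝔭`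
    let J := q.map (algebraMap A L)
    have hJ : J ≤ maximalIdeal L := by
      rw [← IsLocalization.AtPrime.map_eq_maximalIdeal 𝔭 L]; exact Ideal.map_mono hq
    let κ := ResidueField L
    let V := J ⧸ maximalIdeal L • (⊤ : Submodule L J)
    have htors : Module.IsTorsionBySet L V (maximalIdeal L : Set L) := fun z a => by
      obtain ⟨z, rfl⟩ := Submodule.Quotient.mk_surjective _ z
      exact (Submodule.Quotient.mk_eq_zero _).2 (Submodule.smul_mem_smul a.2 Submodule.mem_top)
    letI : Module κ V := htors.module
    haveI : IsScalarTower L κ V := htors.isScalarTower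
    haveI : Module.Finite L J := Module.Finite.iff_fg.2 (IsNoetherian.noetherian _)
    haveI : Module.Finite κ V := Module.Finite.of_restrictScalars_finite L κ V
    let cls : q → V := fun a => Submodule.Quotient.mk ⟨algebraMap A L a, Ideal.mem_map_of_mem _ a.2⟩
    have hcls : Submodule.span κ (Set.range cls) = ⊤ := by
      rw [eq_top_iff]
      rintro z -
      obtain ⟨⟨z, hz⟩, rfl⟩ := Submodule.Quotient.mk_surjective _ z
      obtain ⟨a, v, ha, hv, hav⟩ := NJ.exists_mem_unit_mul 𝔭 hz
      obtain ⟨v, rfl⟩ := hv
      have : (⟨z, hz⟩ : J) = (↑v⁻¹ : L) • (⟨algebraMap A L a, Ideal.mem_map_of_mem _ ha⟩ : J) := Subtype.ext (by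
        show z = (↑v⁻¹ : L) * algebraMap A L a
        rw [hav, Units.inv_mul_cancel_left])
      rw [this, Submodule.Quotient.mk_smul, ← algebraMap_smul κ (↑v⁻¹ : L)]
      exact Submodule.smul_mem _ _ (Submodule.subset_span ⟨⟨a, ha⟩, rfl⟩)
    obtain ⟨gen, hgenmem, hgenspan, hgenli⟩ := Submodule.exists_fun_fin_finrank_span_eq κ (Set.range cls)
    choose fq hfq using hgenmem
    let m := Module.finrank κ (Submodule.span κ (Set.range cls))
    let B : Module.Basis (Fin m) κ V := Module.Basis.mk hgenli (hcls.ge.trans hgenspan.ge)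
    let f : Fin m → A := fun i => fq i
    have hfmem : ∀ i, f i ∈ q := fun i => (fq i).2
    have hspan : J = Ideal.span (Set.range fun i => algebraMap A L (f i)) := by
      refine le_antisymm ?_ (Ideal.span_le.2 fun _ ⟨i, hi⟩ => hi ▸ Ideal.mem_map_of_mem _ (hfmem i))
      refine Submodule.le_of_le_smul_of_le_jacobson_bot (I := maximalIdeal L) (IsNoetherian.noetherian _)
        (IsLocalRing.maximalIdeal_le_jacobson _) fun z hz => ?_
      let z' : J := ⟨z, hz⟩
      have hz' := B.sum_repr (Submodule.Quotient.mk z')
      choose c hc using fun i => residue_surjective (R := L) (B.repr (Submodule.Quotient.mk z') i)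
      have h0 : z' - ∑ i, c i • (⟨algebraMap A L (f i), Ideal.mem_map_of_mem _ (hfmem i)⟩ : J) ∈
          maximalIdeal L • (⊤ : Submodule L J) := by
        rw [← Submodule.Quotient.eq, ← hz']
        refine Eq.trans ?_ (map_sum (maximalIdeal L • (⊤ : Submodule L J)).mkQ _ _).symm
        refine Finset.sum_congr rfl fun i _ => ?_
        rw [map_smul, Module.Basis.mk_apply, ← hfq, ← hc, ← IsLocalRing.ResidueField.algebraMap_eq, algebraMap_smul]
        rfl
      have h1 := Submodule.mem_map_of_mem (f := Submodule.subtype J) h0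
      rw [Submodule.map_smul'', Submodule.map_top, Submodule.range_subtype, map_sub, map_sum] at h1
      have h2 : ∑ i, c i * algebraMap A L (f i) ∈ Ideal.span (Set.range fun i => algebraMap A L (f i)) :=
        Ideal.sum_mem _ fun i _ => Ideal.mul_mem_left _ _ (Ideal.subset_span ⟨i, rfl⟩)
      refine Submodule.mem_sup.2 ⟨_, h2, _, h1, ?_⟩
      show ∑ i, c i * algebraMap A L (f i) + (z - _) = z
      simp
    refine ⟨m, ?_⟩
    -- derivations into the residue field
    have hsmq : CAlgX.IsAdicFormallySmooth k (L ⧸ J) ((maximalIdeal L).map (Ideal.Quotient.mk J)) := by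
      obtain ⟨e, -⟩ := NJ.exists_quotient_algEquiv (k := k) hq
      haveI : Nontrivial (L ⧸ J) :=
        Ideal.Quotient.nontrivial_iff.2 fun h => (maximalIdeal.isMaximal L).ne_top (top_le_iff.1 (h ▸ hJ))
      haveI : IsLocalRing (L ⧸ J) := IsLocalRing.of_surjective' _ Ideal.Quotient.mk_surjective
      refine CAlgH.AdicSmooth.of_algEquiv e.symm ?_ hB
      refine Eq.trans (IsLocalRing.map_maximalIdeal_of_surjective _ e.symm.surjective) ?_
      exact (IsLocalRing.map_maximalIdeal_of_surjective _ Ideal.Quotient.mk_surjective).symm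
    haveI : IsNoetherianRing L := IsLocalization.isNoetherianRing 𝔭.primeCompl L inferInstance
    obtain ⟨d, hd⟩ := SplitJac.exists_derivation_of_adicSmooth (A := k) (B := L) (I := maximalIdeal L) (J := J)
      (Qb := maximalIdeal L) hJ (n := 1) (by rw [pow_one]) hsmq
    let π : A →+* κ := algebraMap A κ
    have hπL : ∀ a, π a = residue L (algebraMap A L a) := fun a => rfl
    have hπsmul : ∀ (a : A) (z : κ), a • z = π a * z := fun a z => Algebra.smul_def a z
    -- derivations dual to `f`
    let δ : Fin m → Derivation ℤ A κ := fun i => Derivation.mk'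
      (AddMonoidHom.mk' (fun a => B.coord i (d (algebraMap A L a))) fun a b => by rw [map_add, map_add, map_add]).toIntLinearMap
      fun a b => by
        show B.coord i (d (algebraMap A L (a * b))) = a • B.coord i (d (algebraMap A L b)) + b • B.coord i (d (algebraMap A L a))
        rw [map_mul, Derivation.leibniz, ← algebraMap_smul κ (algebraMap A L a), ← algebraMap_smul κ (algebraMap A L b),
          map_add, map_smul, map_smul, hπsmul, hπsmul]
        rfl
    have hδk : ∀ i (x : k), δ i (algebraMap k A x) = 0 := fun i x => by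
      show B.coord i (d (algebraMap A L (algebraMap k A x))) = 0
      rw [← IsScalarTower.algebraMap_apply k A L, Derivation.map_algebraMap, map_zero]
    have hδf : ∀ i j, δ i (f j) = if j = i then 1 else 0 := fun i j => by
      show B.coord i (d (algebraMap A L (f j))) = _
      rw [hd ⟨algebraMap A L (f j), Ideal.mem_map_of_mem _ (hfmem j)⟩]
      rw [show Submodule.Quotient.mk (⟨algebraMap A L (f j), Ideal.mem_map_of_mem _ (hfmem j)⟩ : J) = B j from
        (hfq j).trans (Module.Basis.mk_apply hgenli _ j).symm, Module.Basis.coord_apply, B.repr_self, Finsupp.single_apply]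
    -- derivations dual to the `p`-basis
    have hex : ∀ b : β, ∃ ε : Derivation ℤ A κ, ∀ b' : β, ε (algebraMap k A b') = if b = b' then 1 else 0 := fun b => by
      obtain ⟨E, hEmul, hE⟩ := exists_derivation_over (κ := κ) M
        (fun a (ha : a ∈ maximalIdeal L) => (residue_eq_zero_iff a).2 ha) hAp (Dk b)
      refine ⟨Derivation.mk'
        (AddMonoidHom.mk' (fun a => E (algebraMap A L a)) fun a a' => by rw [map_add, map_add]).toIntLinearMap
        fun a a' => ?_, fun b' => ?_⟩
      · show E (algebraMap A L (a * a')) = a • E (algebraMap A L a') + a' • E (algebraMap A L a)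
        rw [map_mul, hEmul, hπsmul, hπsmul]
        rfl
      · show E (algebraMap A L (algebraMap k A b')) = _
        rw [← IsScalarTower.algebraMap_apply k A L, hE]
        show algebraMap k κ (Dk b b') = _
        rw [hDk _ b.2 _ b'.2]
        simp only [Subtype.coe_inj]
        split_ifs <;> simp
    choose ε hε using hex
    let fam : β ⊕ Fin m → A := Sum.elim (fun b => algebraMap k A b) f
    have hunit : ∀ c, ∃ η : Derivation ℤ A κ, ∀ c', η (fam c') = if c = c' then 1 else 0 := by
      rintro (b | i)
      · refine ⟨Derivation.mk' (AddMonoidHom.mk' (fun a => ε b a - ∑ i, ε b (f i) * δ i a) fun a a' => by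
          simp only [map_add, mul_add, Finset.sum_add_distrib]; ring).toIntLinearMap fun a a' => ?_, ?_⟩
        · show ε b (a * a') - ∑ i, ε b (f i) * δ i (a * a') =
            a • (ε b a' - ∑ i, ε b (f i) * δ i a') + a' • (ε b a - ∑ i, ε b (f i) * δ i a)
          simp only [Derivation.leibniz, hπsmul, mul_sub, Finset.mul_sum, mul_add, Finset.sum_add_distrib]
          have e1 : ∀ (a a' : A), ∑ i, ε b (f i) * (π a * δ i a') = ∑ i, π a * (ε b (f i) * δ i a') :=
            fun a a' => Finset.sum_congr rfl fun i _ => by ring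
          rw [e1, e1]
          rw [← Finset.mul_sum, ← Finset.mul_sum]; ring
        · rintro (b' | j)
          · show ε b (algebraMap k A b') - ∑ i, ε b (f i) * δ i (algebraMap k A b') = _
            simp only [hδk, mul_zero, Finset.sum_const_zero, sub_zero, hε, Sum.inl.injEq]
          · show ε b (f j) - ∑ i, ε b (f i) * δ i (f j) = _
            simp [hδf]
      · refine ⟨δ i, ?_⟩
        rintro (b' | j)
        · rw [if_neg (fun h => nomatch h)]; exact hδk i b'
        · show δ i (f j) = _
          rw [hδf]
          simp only [Sum.inr.injEq, eq_comm]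
    choose η hη using hunit
    -- transport to power series
    obtain ⟨r, ⟨e⟩⟩ := CAlgH.exists_ringEquiv_mvPowerSeries_residueField k A
    let K := ResidueField A
    let P := MvPowerSeries (Fin r) K
    haveI : CharP K p := charP_of_injective_algebraMap (algebraMap k K).injective p
    letI : Algebra P κ := (π.comp e.symm.toRingHom).toAlgebra
    have hfrac : ∀ x : κ, ∃ a b : P, algebraMap P κ b ≠ 0 ∧ x = algebraMap P κ a / algebraMap P κ b := fun x => by
      obtain ⟨l, rfl⟩ := residue_surjective x
      obtain ⟨⟨a, t⟩, hat⟩ := IsLocalization.surj 𝔭.primeCompl l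
      refine ⟨e a, e t, ?_, ?_⟩
      · show π (e.symm (e t)) ≠ 0
        rw [e.symm_apply_apply, hπL, Ne, residue_eq_zero_iff, IsLocalization.AtPrime.to_map_mem_maximal_iff L 𝔭]
        exact t.2
      · show _ = π (e.symm (e a)) / π (e.symm (e t))
        rw [e.symm_apply_apply, e.symm_apply_apply, eq_div_iff (by
          rw [hπL, Ne, residue_eq_zero_iff, IsLocalization.AtPrime.to_map_mem_maximal_iff L 𝔭]; exact t.2),
          hπL, hπL, ← map_mul, hat]
    obtain ⟨idx, _, DP, hDP⟩ := FS.exists_stage p hfrac fun c => e (fam c)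
    let DA : idx → Derivation ℤ A A := fun i => Derivation.mk'
      (AddMonoidHom.mk' (fun a => e.symm (DP i (e a))) fun a a' => by rw [map_add, map_add, map_add]).toIntLinearMap
      fun a a' => by
        show e.symm (DP i (e (a * a'))) = a • e.symm (DP i (e a')) + a' • e.symm (DP i (e a))
        rw [map_mul, Derivation.leibniz, smul_eq_mul, smul_eq_mul, smul_eq_mul, smul_eq_mul, map_add, map_mul, map_mul,
          e.symm_apply_apply, e.symm_apply_apply]
    choose w hw using fun c => hDP (Derivation.mk'
      (AddMonoidHom.mk' (fun z => η c (e.symm z)) fun z z' => by rw [map_add, map_add]).toIntLinearMap fun z z' => by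
        show η c (e.symm (z * z')) = z • η c (e.symm z') + z' • η c (e.symm z)
        rw [map_mul, Derivation.leibniz]
        simp only [Algebra.smul_def]
        rfl)
    have hw' : ∀ c c', (if c = c' then (1 : κ) else 0) = ∑ i, w c i * π (DA i (fam c')) := fun c c' => by
      rw [← hη c c']
      have : η c (e.symm (e (fam c'))) = ∑ i, w c i * π (e.symm (DP i (e (fam c')))) := hw c c'
      rw [e.symm_apply_apply] at this
      exact this
    choose wl hwl using fun c i => residue_surjective (R := L) (w c i)
    obtain ⟨⟨t, ht⟩, htw⟩ := IsLocalization.exist_integer_multiples 𝔭.primeCompl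
      (Finset.univ : Finset ((β ⊕ Fin m) × idx)) fun z => wl z.1 z.2
    choose u hu using fun c i => htw (c, i) (Finset.mem_univ _)
    have hπu : ∀ c i, π (u c i) = π t * w c i := fun c i => by
      rw [hπL, hu, hπL, ← hwl]
      show residue L ((⟨t, ht⟩ : 𝔭.primeCompl) • wl c i) = _
      rw [show (⟨t, ht⟩ : 𝔭.primeCompl) • wl c i = algebraMap A L t * wl c i from Algebra.smul_def t _, map_mul]
    let D' : β ⊕ Fin m → Derivation ℤ A A := fun c => Derivation.mk'
      (AddMonoidHom.mk' (fun a => ∑ i, u c i * DA i a) fun a a' => by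
        simp only [map_add, mul_add, Finset.sum_add_distrib]).toIntLinearMap
      fun a a' => by
        show ∑ i, u c i * DA i (a * a') = a • ∑ i, u c i * DA i a' + a' • ∑ i, u c i * DA i a
        simp only [Derivation.leibniz, smul_eq_mul, Finset.mul_sum, ← Finset.sum_add_distrib]
        exact Finset.sum_congr rfl fun i _ => by ring
    let Q : Matrix (β ⊕ Fin m) (β ⊕ Fin m) A := Matrix.of fun c c' => D' c (fam c')
    have hQ : π.mapMatrix Q = π t • 1 := by
      ext c c'
      rw [RingHom.mapMatrix_apply, Matrix.map_apply, Matrix.smul_apply, Matrix.one_apply, smul_eq_mul, hw',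
        Finset.mul_sum]
      show π (∑ i, u c i * DA i (fam c')) = _
      rw [map_sum]
      exact Finset.sum_congr rfl fun i _ => by rw [map_mul, hπu, mul_assoc]
    have hπ0 : ∀ a, π a = 0 ↔ a ∈ 𝔭 := fun a => by
      rw [hπL, residue_eq_zero_iff, IsLocalization.AtPrime.to_map_mem_maximal_iff L 𝔭]
    have hdet : Q.det ∉ 𝔭 := fun h => by
      rw [← hπ0, RingHom.map_det, hQ, Matrix.det_smul, Matrix.det_one, mul_one] at h
      exact ht ((hπ0 t).1 (eq_zero_of_pow_eq_zero h))
    -- exact duality
    let D : β ⊕ Fin m → Derivation ℤ A A := fun c => Derivation.mk'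
      (AddMonoidHom.mk' (fun a => ∑ l, Q.adjugate c l * D' l a) fun a a' => by
        simp only [map_add, mul_add, Finset.sum_add_distrib]).toIntLinearMap
      fun a a' => by
        show ∑ l, Q.adjugate c l * D' l (a * a') = a • ∑ l, Q.adjugate c l * D' l a' + a' • ∑ l, Q.adjugate c l * D' l a
        simp only [Derivation.leibniz, smul_eq_mul, Finset.mul_sum, ← Finset.sum_add_distrib]
        exact Finset.sum_congr rfl fun i _ => by ring
    have hD : ∀ c c', D c (fam c') = if c = c' then Q.det else 0 := fun c c' => by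
      show (Q.adjugate * Q) c c' = _
      rw [Matrix.adjugate_mul, Matrix.smul_apply, Matrix.one_apply, smul_eq_mul, mul_ite, mul_one, mul_zero]
    have hDk0 : ∀ i (x : k), D (Sum.inr i) (algebraMap k A x) = 0 := fun i x => by
      have hx : x ∈ Algebra.adjoin M (β : Set k) := hadj ▸ Algebra.mem_top
      induction hx using Algebra.adjoin_induction with
      | mem y hy => exact (hD (Sum.inr i) (Sum.inl ⟨y, hy⟩)).trans (if_neg (fun h => nomatch h))
      | algebraMap z =>
        obtain ⟨_, z, rfl⟩ := z
        show D (Sum.inr i) (algebraMap k A (z ^ p)) = 0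
        rw [map_pow, PB.derivation_pow_eq_zero]
      | add a b _ _ ha hb => rw [map_add, map_add, ha, hb, add_zero]
      | mul a b _ _ ha hb => rw [map_mul, Derivation.leibniz, ha, hb, smul_zero, smul_zero, add_zero]
    refine ⟨fun i => Derivation.mk'
      { toFun := D (Sum.inr i)
        map_add' := map_add _
        map_smul' := fun x a => by
          rw [RingHom.id_apply, Algebra.smul_def, Algebra.smul_def, Derivation.leibniz, hDk0, smul_zero, add_zero,
            smul_eq_mul] }
      (D (Sum.inr i)).leibniz, f, hfmem, hspan, ?_⟩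
    have hmat : (Matrix.of fun i j => D (Sum.inr i) (f j)) = Q.det • (1 : Matrix (Fin m) (Fin m) A) := by
      ext i j
      rw [Matrix.of_apply, Matrix.smul_apply, Matrix.one_apply, smul_eq_mul, mul_ite, mul_one, mul_zero,
        show f j = fam (Sum.inr j) from rfl, hD]
      simp only [Sum.inr.injEq]
    show Matrix.det (Matrix.of fun i j => D (Sum.inr i) (f j)) ∉ 𝔭
    rw [hmat, Matrix.det_smul, Matrix.det_one, mul_one]
    exact fun h => hdet (‹𝔭.IsPrime›.mem_of_pow_mem _ h)

end Groth.Agent.EGA41Lib.NC

namespace Groth.Agent.EGA41Lib.NC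

/-- Adic smoothness at a prime only depends on the prime. -/
theorem adicSmooth_congr {k B : Type u} [CommRing k] [CommRing B] [Algebra k B] {n n' : Ideal B} [n.IsPrime]
    [n'.IsPrime] (h : n = n')
    (hn : CAlgX.IsAdicFormallySmooth k (Localization.AtPrime n) (maximalIdeal (Localization.AtPrime n))) :
    CAlgX.IsAdicFormallySmooth k (Localization.AtPrime n') (maximalIdeal (Localization.AtPrime n')) := by
  subst h; exact hn

/-- The smooth locus of a quotient is open, given the criterion. -/
theorem isOpen_smoothLocus {k A : Type u} [CommRing k] [CommRing A] [IsNoetherianRing A] [Algebra k A]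
    (hAp : ∀ (P : Ideal A) [P.IsPrime],
      CAlgX.IsAdicFormallySmooth k (Localization.AtPrime P) (maximalIdeal (Localization.AtPrime P)))
    (q : Ideal A)
    (hcrit : ∀ (P : Ideal A) [P.IsPrime] [(P.map (Ideal.Quotient.mk q)).IsPrime], q ≤ P →
      CAlgX.IsAdicFormallySmooth k (Localization.AtPrime (P.map (Ideal.Quotient.mk q)))
        (maximalIdeal (Localization.AtPrime (P.map (Ideal.Quotient.mk q)))) →
      ∃ (m : ℕ) (D : Fin m → Derivation k A A) (f : Fin m → A), (∀ i, f i ∈ q) ∧
        q.map (algebraMap A (Localization.AtPrime P)) =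
          Ideal.span (Set.range fun i => algebraMap A (Localization.AtPrime P) (f i)) ∧
        Matrix.det (Matrix.of fun i j => D i (f j)) ∉ P) :
    IsOpen {n : PrimeSpectrum (A ⧸ q) |
      CAlgX.IsAdicFormallySmooth k (Localization.AtPrime n.asIdeal) (maximalIdeal (Localization.AtPrime n.asIdeal))} := by
  classical
  rw [isOpen_iff_forall_mem_open]
  intro n hn
  let π := Ideal.Quotient.mk q
  have hmap : ∀ n : PrimeSpectrum (A ⧸ q), (n.asIdeal.comap π).map π = n.asIdeal := fun n =>
    Ideal.map_comap_of_surjective π Ideal.Quotient.mk_surjective _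
  have hle : ∀ n : PrimeSpectrum (A ⧸ q), q ≤ n.asIdeal.comap π := fun n x hx => by
    show π x ∈ n.asIdeal
    rw [Ideal.Quotient.eq_zero_iff_mem.2 hx]; exact zero_mem _
  let P := n.asIdeal.comap π
  haveI : (P.map π).IsPrime := by rw [hmap]; exact n.2
  obtain ⟨m, D, f, hf, hspan, hdet⟩ := hcrit P (hle n) (adicSmooth_congr (hmap n).symm hn)
  let L := Localization.AtPrime P
  let I := Ideal.span (Set.range f)
  have key : ∀ y ∈ q, ∃ c ∉ P, c * y ∈ I := fun y hy => by
    have h : algebraMap A L y ∈ I.map (algebraMap A L) := by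
      rw [Ideal.map_span, ← Set.range_comp]
      exact hspan.le (Ideal.mem_map_of_mem _ hy)
    obtain ⟨c, hc, hcy⟩ := (IsLocalization.algebraMap_mem_map_algebraMap_iff P.primeCompl L I y).1 h
    exact ⟨c, hc, hcy⟩
  obtain ⟨G, hG⟩ := (IsNoetherian.noetherian q : Submodule.FG _)
  choose! c hc hcy using key
  let C := ∏ y ∈ G, c y
  have hGq : ∀ y ∈ G, y ∈ q := fun y hy => hG ▸ Submodule.subset_span hy
  have hC : C ∉ P := fun h => by
    obtain ⟨y, hy, h'⟩ := ((inferInstance : P.IsPrime).prod_mem_iff).1 h
    exact hc y (hGq y hy) h'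
  have hCq : ∀ y ∈ q, C * y ∈ I := fun y hy => by
    rw [← hG] at hy
    induction hy using Submodule.span_induction with
    | mem y hy =>
      obtain ⟨r, hr⟩ := Finset.dvd_prod_of_mem c hy
      show C * y ∈ I
      rw [show C = c y * r from hr, mul_comm (c y), mul_assoc]
      exact I.mul_mem_left _ (hcy y (hGq y hy))
    | zero => simp
    | add a b _ _ ha hb => rw [mul_add]; exact add_mem ha hb
    | smul a b _ hb => rw [smul_eq_mul, mul_left_comm]; exact I.mul_mem_left _ hb
  let g := C * Matrix.det (Matrix.of fun i j => D i (f j))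
  refine ⟨PrimeSpectrum.basicOpen (π g), fun n' hn' => ?_, (PrimeSpectrum.basicOpen (π g)).isOpen, ?_⟩
  · let P' := n'.asIdeal.comap π
    have hg : g ∉ P' := hn'
    haveI : (P'.map π).IsPrime := by rw [hmap]; exact n'.2
    refine adicSmooth_congr (hmap n') (NJ.adicSmooth_of_det q P' (hle n') (hAp P') D f ?_
      fun h => hg (P'.mul_mem_left _ h))
    refine le_antisymm (Ideal.map_le_iff_le_comap.2 fun y hy => ?_)
      (Ideal.span_le.2 fun _ ⟨i, hi⟩ => hi ▸ Ideal.mem_map_of_mem _ (hf i))
    have hu : IsUnit (algebraMap A (Localization.AtPrime P') C) :=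
      IsLocalization.map_units _ (⟨C, fun h => hg (P'.mul_mem_right _ h)⟩ : P'.primeCompl)
    show algebraMap A _ y ∈ Ideal.span (Set.range fun i => algebraMap A (Localization.AtPrime P') (f i))
    refine (Ideal.unit_mul_mem_iff_mem _ hu).1 ?_
    rw [← map_mul]
    have h := Ideal.mem_map_of_mem (algebraMap A (Localization.AtPrime P')) (hCq y hy)
    rwa [Ideal.map_span, ← Set.range_comp] at h
  · show π g ∉ n.asIdeal
    exact fun h => ((inferInstance : P.IsPrime).mem_or_mem (show g ∈ P from h)).elim hC hdet

end Groth.Agent.EGA41Lib.NC
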