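import Groth.Agent.EGA41Lib.PMonomials
import Groth.Prelude.Def_EGA41

/-!
# `p`-bases over a base containing the `p`-th powers

EGA 0, 21.2: when `B^p` lies in the image of `A`, `A[B^p]` is that image.
-/

set_option autoImplicit false

universe u

namespace Groth.Agent.EGA41Lib.PB

variable {p : ℕ} {A B : Type u} [CommRing A] [CommRing B] [Algebra A B] {ι : Type u} {x : ι → B}

lemma pPowerSubalgebra_eq_bot (hpow : ∀ b : B, b ^ p ∈ Set.range (algebraMap A B)) :
    EGA41.pPowerSubalgebra p A B = ⊥ :=
  eq_bot_iff.2 (Algebra.adjoin_le (Set.range_subset_iff.2 fun b => Algebra.mem_bot.2 (hpow b)))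

/-- Independence as a statement on coefficients in the base. -/
theorem isPIndependent_iff_coeff (hpow : ∀ b : B, b ^ p ∈ Set.range (algebraMap A B)) :
    EGA41.IsPIndependent p A x ↔ ∀ (t : Finset (Red p ι)) (a : Red p ι → A),
      ∑ e ∈ t, algebraMap A B (a e) * mon x e.1 = 0 → ∀ e ∈ t, algebraMap A B (a e) = 0 := by
  rw [EGA41.IsPIndependent, linearIndependent_iff']
  constructor
  · intro h t a ha e he
    exact congrArg Subtype.val
      (h t (fun e => ⟨algebraMap A B (a e), Subalgebra.algebraMap_mem _ _⟩) ha e he)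
  · intro h t g hg e he
    have hmem : ∀ e : Red p ι, ∃ a, algebraMap A B a = (g e : B) := fun e => by
      exact Algebra.mem_bot.1 (pPowerSubalgebra_eq_bot hpow ▸ (g e).2)
    choose a ha using hmem
    refine Subtype.ext ((ha e).symm.trans (h t a ?_ e he))
    rw [← hg]
    exact Finset.sum_congr rfl fun e _ => by rw [ha, Subalgebra.smul_def, smul_eq_mul]; rfl

/-- Independence over the base itself. -/
theorem linearIndependent_base (hinj : Function.Injective (algebraMap A B))
    (hpow : ∀ b : B, b ^ p ∈ Set.range (algebraMap A B)) (hx : EGA41.IsPIndependent p A x) :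
    LinearIndependent A fun e : Red p ι => mon x e.1 := by
  rw [linearIndependent_iff']
  intro t a ha e he
  apply hinj
  rw [map_zero]
  refine (isPIndependent_iff_coeff hpow).1 hx t a ?_ e he
  rw [← ha]
  exact Finset.sum_congr rfl fun e _ => (Algebra.smul_def _ _).symm

/-- Generation over the base itself. -/
theorem isPGenerating_iff_adjoin (hp : 0 < p) (hpow : ∀ b : B, b ^ p ∈ Set.range (algebraMap A B)) :
    EGA41.IsPGenerating p A x ↔ Algebra.adjoin A (Set.range x) = ⊤ := by
  rw [show EGA41.IsPGenerating p A x ↔ Algebra.adjoin (EGA41.pPowerSubalgebra p A B) (Set.range x) = ⊤ from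
    span_mon_eq_top_iff hp x fun i => ⟨⟨x i ^ p, Algebra.subset_adjoin ⟨x i, rfl⟩⟩, rfl⟩]
  constructor
  · intro h
    refine _root_.eq_top_iff.2 fun b h' => ?_
    clear h'
    have hb : b ∈ Algebra.adjoin (EGA41.pPowerSubalgebra p A B) (Set.range x) := h ▸ Algebra.mem_top
    induction hb using Algebra.adjoin_induction with
    | mem y hy => exact Algebra.subset_adjoin hy
    | algebraMap m =>
      have hm : (m : B) ∈ (⊥ : Subalgebra A B) := (pPowerSubalgebra_eq_bot hpow).le m.2
      obtain ⟨a, ha⟩ := Algebra.mem_bot.1 hm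
      rw [show algebraMap (EGA41.pPowerSubalgebra p A B) B m = (m : B) from rfl, ← ha]
      exact Subalgebra.algebraMap_mem _ _
    | add y z _ _ hy hz => exact add_mem hy hz
    | mul y z _ _ hy hz => exact mul_mem hy hz
  · intro h
    refine _root_.eq_top_iff.2 fun b h' => ?_
    clear h'
    have hb : b ∈ Algebra.adjoin A (Set.range x) := h ▸ Algebra.mem_top
    induction hb using Algebra.adjoin_induction with
    | mem y hy => exact Algebra.subset_adjoin hy
    | algebraMap a =>
      exact Subalgebra.algebraMap_mem (Algebra.adjoin (EGA41.pPowerSubalgebra p A B) (Set.range x))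
        ⟨algebraMap A B a, Subalgebra.algebraMap_mem _ a⟩
    | add y z _ _ hy hz => exact add_mem hy hz
    | mul y z _ _ hy hz => exact mul_mem hy hz

/-- Lifts with prescribed values on a `p`-basis. -/
theorem exists_algHom_base (hp : 0 < p) (hinj : Function.Injective (algebraMap A B))
    (hpow : ∀ b : B, b ^ p ∈ Set.range (algebraMap A B)) (hx : EGA41.IsPBasis p A x)
    {E : Type*} [CommRing E] [Algebra A E] (y : ι → E)
    (hy : ∀ (i : ι) (a : A), algebraMap A B a = x i ^ p → y i ^ p = algebraMap A E a) :
    ∃ v : B →ₐ[A] E, ∀ i, v (x i) = y i := by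
  choose a ha using fun i => hpow (x i)
  exact exists_algHom hp x a (fun i => (ha i).symm) (linearIndependent_base hinj hpow hx.1)
    ((isPGenerating_iff_adjoin hp hpow).1 hx.2) y fun i => hy i (a i) (ha i)

end Groth.Agent.EGA41Lib.PB
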