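import Groth.Agent.EGA41Lib.PMonomials
import Mathlib.Algebra.Field.Subfield.Basic
import Mathlib.FieldTheory.Minpoly.Field
import Mathlib.FieldTheory.KummerPolynomial
import Mathlib.Order.Zorn

/-!
# `p`-independence in fields of characteristic `p`

EGA 0, 21.4: `p`-independence is a finitary exchange property; existence of `p`-bases; the criterion
by differentials.
-/

set_option autoImplicit false

universe u v w z

namespace Groth.Agent.EGA41Lib.PB

variable {p : ℕ} [hp : Fact p.Prime] {M : Type w} {K : Type v} [CommRing M] [Field K] [Algebra M K] [CharP K p]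
  {ι : Type u}

/-- A subalgebra containing the `p`-th powers of a field, as a subfield. -/
def subfieldOf (S : Subalgebra M K) (hS : ∀ b : K, b ^ p ∈ S) : Subfield K where
  toSubring := S.toSubring
  inv_mem' := fun b hb => by
    change b⁻¹ ∈ S
    rcases eq_or_ne b 0 with rfl | h
    · rw [inv_zero]; exact S.zero_mem
    · have h1 : b⁻¹ = b ^ (p - 1) * (b⁻¹) ^ p := by
        have hb' : b ^ (p - 1) * b = b ^ p := by rw [← pow_succ, Nat.sub_add_cancel hp.out.one_le]
        rw [inv_pow, eq_mul_inv_iff_mul_eq₀ (pow_ne_zero _ h), ← hb', mul_comm b⁻¹,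
          mul_assoc, mul_inv_cancel₀ h, mul_one]
      rw [h1]
      exact S.mul_mem (S.pow_mem hb _) (hS _)

omit [CharP K p] in
lemma mem_subfieldOf (S : Subalgebra M K) (hS : ∀ b : K, b ^ p ∈ S) (b : K) :
    b ∈ subfieldOf S hS ↔ b ∈ S := Iff.rfl

/-- Powers of an element outside such a subfield are independent over it. -/
theorem coeffs_eq_zero_of_not_mem (S : Subalgebra M K) (hS : ∀ b : K, b ^ p ∈ S) {y : K} (hy : y ∉ S)
    (c : ℕ → K) (hc : ∀ j, c j ∈ S) (h : ∑ j ∈ Finset.range p, c j * y ^ j = 0) {j : ℕ} (hj : j < p) :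
    c j = 0 := by
  classical
  let F := subfieldOf S hS
  let a : F := ⟨y ^ p, hS y⟩
  have hirr : Irreducible (Polynomial.X ^ p - Polynomial.C a : Polynomial F) := by
    refine X_pow_sub_C_irreducible_of_prime hp.out fun b hb => hy ?_
    have h1 : (b : K) ^ p = y ^ p := congrArg Subtype.val hb
    have : (b : K) = y := frobenius_inj K p (by simpa [frobenius_def] using h1)
    rw [← this]
    exact b.2
  have hmin : minpoly F y = Polynomial.X ^ p - Polynomial.C a := by
    refine (minpoly.eq_of_irreducible_of_monic hirr ?_ (Polynomial.monic_X_pow_sub_C _ hp.out.ne_zero)).symm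
    simp [a]
    exact sub_self _
  let P : Polynomial F := ∑ i ∈ Finset.range p, Polynomial.monomial i (⟨c i, hc i⟩ : F)
  have hP : Polynomial.aeval y P = 0 := by
    rw [map_sum, ← h]
    refine Finset.sum_congr rfl fun i _ => ?_
    rw [Polynomial.aeval_monomial]
    rfl
  have hP0 : P = 0 := by
    by_contra hne
    have h1 := Polynomial.natDegree_le_of_dvd (minpoly.dvd F y hP) hne
    rw [hmin, Polynomial.natDegree_X_pow_sub_C] at h1
    have h2 : P.natDegree ≤ p - 1 :=
      Polynomial.natDegree_sum_le_of_forall_le _ _ fun i hi =>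
        (Polynomial.natDegree_monomial_le _).trans (by have := Finset.mem_range.1 hi; omega)
    have := hp.out.pos
    omega
  have := congrArg (fun Q => Polynomial.coeff Q j) hP0
  simp only [P, Polynomial.finsetSum_coeff, Polynomial.coeff_monomial, Finset.sum_ite_eq',
    Finset.mem_range, if_pos hj, Polynomial.coeff_zero] at this
  exact congrArg Subtype.val this

variable (p M) in
/-- The reduced monomials in the variables of `s` are independent. -/
def IndOn (x : ι → K) (s : Set ι) : Prop :=
  ∀ c : Red p ι →₀ M, (∀ e ∈ c.support, ∀ i, e.1 i ≠ 0 → i ∈ s) →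
    Finsupp.linearCombination M (fun e : Red p ι => mon x e.1) c = 0 → c = 0

omit hp [CharP K p] in
lemma indOn_univ_iff (x : ι → K) :
    IndOn p M x Set.univ ↔ LinearIndependent M fun e : Red p ι => mon x e.1 := by
  rw [linearIndependent_iff]
  exact ⟨fun h c => h c fun _ _ i _ => Set.mem_univ i, fun h c _ => h c⟩

omit hp [CharP K p] in
lemma IndOn.mono {x : ι → K} {s t : Set ι} (h : IndOn p M x t) (hst : s ⊆ t) : IndOn p M x s :=
  fun c hc => h c fun e he i hi => hst (hc e he i hi)

variable (hMp : ∀ b : K, b ^ p ∈ Set.range (algebraMap M K))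

omit hp [CharP K p] in
include hMp in
lemma pow_mem_subalgebra (S : Subalgebra M K) (b : K) : b ^ p ∈ S := by
  obtain ⟨m, hm⟩ := hMp b
  exact hm ▸ S.algebraMap_mem m

omit [CharP K p] in
lemma mon_mem_adjoin (x : ι → K) (e : ι →₀ ℕ) (s : Set ι) (he : ∀ i, e i ≠ 0 → i ∈ s) :
    mon x e ∈ Algebra.adjoin M (x '' s) :=
  Subalgebra.prod_mem _ fun i hi =>
    Subalgebra.pow_mem _ (Algebra.subset_adjoin (Set.mem_image_of_mem x (he i (Finsupp.mem_support_iff.1 hi)))) _

include hMp in
/-- The exchange step. -/
theorem indOn_insert (hinj : Function.Injective (algebraMap M K)) {x : ι → K} {s : Set ι} {a : ι}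
    (hs : IndOn p M x s) (ha : x a ∉ Algebra.adjoin M (x '' s)) : IndOn p M x (insert a s) := by
  classical
  have has : a ∉ s := fun h => ha (Algebra.subset_adjoin ⟨a, h, rfl⟩)
  intro c hc h0
  let g : Red p ι → Red p ι := fun e => ⟨e.1.erase a, fun i => by
    rw [Finsupp.erase_apply]
    split
    · exact hp.out.pos
    · exact e.2 i⟩
  let C : ℕ → K := fun j => ∑ e ∈ c.support.filter (fun e => e.1 a = j), algebraMap M K (c e) * mon x (g e).1
  have hsplit : ∀ e : Red p ι, mon x e.1 = mon x (g e).1 * x a ^ e.1 a := fun e => by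
    rw [mon, ← Finsupp.mul_prod_erase' e.1 a (fun i n => x i ^ n) (fun i => pow_zero _), mul_comm]
    rfl
  have hCS : ∀ j, C j ∈ Algebra.adjoin M (x '' s) := fun j =>
    Subalgebra.sum_mem _ fun e he => Subalgebra.mul_mem _ (Subalgebra.algebraMap_mem _ _)
      (mon_mem_adjoin x _ s fun i hi => by
        change (e.1.erase a) i ≠ 0 at hi
        rw [Finsupp.erase_apply] at hi
        split at hi
        · exact absurd rfl hi
        · exact (hc e (Finset.mem_filter.1 he).1 i hi).resolve_left ‹_›)
  have hsum : ∑ j ∈ Finset.range p, C j * x a ^ j = 0 := by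
    refine Eq.trans ?_ h0
    rw [Finsupp.linearCombination_apply, Finsupp.sum,
      ← Finset.sum_fiberwise_of_maps_to (fun e _ => Finset.mem_range.2 (e.2 a)) (fun e => c e • mon x e.1)]
    refine Finset.sum_congr rfl fun j _ => ?_
    rw [Finset.sum_mul]
    refine Finset.sum_congr rfl fun e he => ?_
    rw [Algebra.smul_def, hsplit e, (Finset.mem_filter.1 he).2, mul_assoc]
  have hC0 : ∀ j, j < p → C j = 0 := fun j hj =>
    coeffs_eq_zero_of_not_mem _ (pow_mem_subalgebra hMp _) ha C hCS hsum hj
  ext e
  by_contra hne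
  have hes : e ∈ c.support := Finsupp.mem_support_iff.2 hne
  let d : Red p ι →₀ M := ∑ e' ∈ c.support.filter (fun e' => e'.1 a = e.1 a), Finsupp.single (g e') (c e')
  have hd0 : d = 0 := by
    refine hs d (fun e' he' i hi => ?_) ?_
    · obtain ⟨e'', he'', hmem⟩ := Finset.mem_biUnion.1 (Finsupp.support_finsetSum he')
      have := Finset.mem_singleton.1 (Finsupp.support_single_subset hmem)
      subst this
      change (e''.1.erase a) i ≠ 0 at hi
      rw [Finsupp.erase_apply] at hi
      split at hi
      · exact absurd rfl hi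
      · exact (hc e'' (Finset.mem_filter.1 he'').1 i hi).resolve_left ‹_›
    · simp only [d, map_sum, Finsupp.linearCombination_single, Algebra.smul_def]
      exact hC0 _ (e.2 a)
  have h1 := DFunLike.congr_fun hd0 (g e)
  simp only [d, Finsupp.finsetSum_apply, Finsupp.zero_apply] at h1
  have hmem : e ∈ c.support.filter (fun e' => e'.1 a = e.1 a) := Finset.mem_filter.2 ⟨hes, rfl⟩
  rw [Finset.sum_eq_single_of_mem e hmem, Finsupp.single_eq_same] at h1
  · exact hne h1
  · intro e' he' hne'
    refine Finsupp.single_eq_of_ne fun hge => hne' (Subtype.ext (Finsupp.ext fun i => ?_))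
    by_cases hia : i = a
    · subst hia; exact (Finset.mem_filter.1 he').2
    · have := DFunLike.congr_fun (congrArg Subtype.val hge) i
      simp [g, hia] at this
      exact this.symm

omit [CharP K p] in
include hMp in
lemma indOn_empty (hinj : Function.Injective (algebraMap M K)) (x : ι → K) : IndOn p M x ∅ := by
  intro c hc h0
  ext e
  by_contra hne
  have he : ∀ e' ∈ c.support, e' = e := fun e' he' => Subtype.ext (Finsupp.ext fun i => by
    have h1 : e'.1 i = 0 := by by_contra h; exact hc e' he' i h
    have h2 : e.1 i = 0 := by by_contra h; exact hc e (Finsupp.mem_support_iff.2 hne) i h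
    rw [h1, h2])
  rw [Finsupp.linearCombination_apply, Finsupp.sum,
    Finset.sum_eq_single_of_mem e (Finsupp.mem_support_iff.2 hne) (fun e' he' h => absurd (he e' he') h),
    show e.1 = 0 from Finsupp.ext fun i => by by_contra h; exact hc e (Finsupp.mem_support_iff.2 hne) i h,
    mon, Finsupp.prod_zero_index, Algebra.smul_def, mul_one] at h0
  exact hne (hinj (h0.trans (map_zero _).symm))

include hMp in
/-- EGA 0 21.4.2: the criterion by exchange. -/
theorem linearIndependent_iff_forall_not_mem (hinj : Function.Injective (algebraMap M K)) (x : ι → K) :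
    (LinearIndependent M fun e : Red p ι => mon x e.1) ↔
      ∀ a, x a ∉ Algebra.adjoin M (x '' {b | b ≠ a}) := by
  classical
  constructor
  · intro hind a ha
    let x' : {b // b ≠ a} → K := fun b => x b.1
    have hrange : Set.range x' = x '' {b | b ≠ a} := by
      ext y; simp [x', Set.mem_image]
    rw [← hrange, ← Subalgebra.mem_toSubmodule,
      ← span_mon_eq_adjoin hp.out.pos x' (fun i => hMp _), Finsupp.mem_span_range_iff_exists_finsupp] at ha
    obtain ⟨c, hc⟩ := ha
    let emb : Red p {b // b ≠ a} → Red p ι := fun e => ⟨e.1.mapDomain Subtype.val, fun i => by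
      by_cases hi : i ≠ a
      · rw [show i = Subtype.val (⟨i, hi⟩ : {b // b ≠ a}) from rfl,
          Finsupp.mapDomain_apply Subtype.val_injective]
        exact e.2 _
      · rw [Finsupp.mapDomain_notin_range]
        · exact hp.out.pos
        · rintro ⟨j, rfl⟩; exact hi j.2⟩
    let δ : Red p ι := ⟨Finsupp.single a 1, fun i => by
      rw [Finsupp.single_apply]; split
      · exact hp.out.one_lt
      · exact hp.out.pos⟩
    have hmon : ∀ e, mon x (emb e).1 = mon x' e.1 := fun e => by
      simp only [emb, mon]
      rw [Finsupp.prod_mapDomain_index (fun _ => pow_zero _) (fun _ _ _ => pow_add _ _ _)]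
    let C : Red p ι →₀ M := c.mapDomain emb - Finsupp.single δ 1
    have hC : Finsupp.linearCombination M (fun e : Red p ι => mon x e.1) C = 0 := by
      have hδ : mon x δ.1 = x a := by simp [δ, mon]
      rw [map_sub, Finsupp.linearCombination_mapDomain, Finsupp.linearCombination_single, one_smul, hδ,
        sub_eq_zero, Finsupp.linearCombination_apply, ← hc]
      exact Finsupp.sum_congr fun e _ => by rw [Function.comp_apply, hmon]
    have h1 := DFunLike.congr_fun (linearIndependent_iff.1 hind C hC) δ
    rw [Finsupp.sub_apply, Finsupp.single_eq_same, Finsupp.mapDomain_notin_range, Finsupp.zero_apply,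
      zero_sub, neg_eq_zero] at h1
    · exact one_ne_zero (α := K) (by rw [← map_one (algebraMap M K), h1, map_zero])
    · rintro ⟨e, he⟩
      have := DFunLike.congr_fun (congrArg Subtype.val he) a
      simp only [emb, δ, Finsupp.single_eq_same] at this
      rw [Finsupp.mapDomain_notin_range] at this
      · exact zero_ne_one this
      · rintro ⟨j, hj⟩; exact j.2 hj
  · intro h
    rw [← indOn_univ_iff]
    have hfin : ∀ s : Finset ι, IndOn p M x s := fun s => by
      induction s using Finset.induction with
      | empty => rw [Finset.coe_empty]; exact indOn_empty hMp hinj x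
      | insert a s has ih =>
        rw [Finset.coe_insert]
        refine indOn_insert hMp hinj ih fun hmem => h a ?_
        exact Algebra.adjoin_mono (Set.image_mono fun i hi (hia : i = a) => has (hia ▸ hi)) hmem
    intro c _ h0
    exact hfin (c.support.biUnion fun e => e.1.support) c
      (fun e he i hi => Finset.mem_biUnion.2 ⟨e, he, Finsupp.mem_support_iff.2 hi⟩) h0

omit [CharP K p] in
include hMp in
/-- Reindexing along an equivalence of index types. -/
theorem linearIndependent_comp_iff {κ : Type z} (e : κ ≃ ι) (x : ι → K) [CharP K p]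
    (hinj : Function.Injective (algebraMap M K)) :
    (LinearIndependent M fun f : Red p κ => mon (x ∘ e) f.1) ↔
      LinearIndependent M fun f : Red p ι => mon x f.1 := by
  rw [linearIndependent_iff_forall_not_mem hMp hinj, linearIndependent_iff_forall_not_mem hMp hinj]
  refine e.forall_congr fun a => ?_
  have : (x ∘ e) '' {b | b ≠ a} = x '' {b | b ≠ e a} := by
    rw [Set.image_comp]
    congr 1
    ext i
    simp [Set.mem_image_equiv, Equiv.symm_apply_eq]
  rw [this]
  rfl

include hMp in
/-- Independence on a set of indices. -/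
theorem indOn_of_forall_not_mem (hinj : Function.Injective (algebraMap M K)) {x : ι → K} {s : Set ι}
    (h : ∀ a ∈ s, x a ∉ Algebra.adjoin M (x '' (s \ {a}))) : IndOn p M x s := by
  classical
  have hfin : ∀ t : Finset ι, (t : Set ι) ⊆ s → IndOn p M x t := fun t => by
    induction t using Finset.induction with
    | empty => intro _; rw [Finset.coe_empty]; exact indOn_empty hMp hinj x
    | insert a t hat ih =>
      rw [Finset.coe_insert, Set.insert_subset_iff]
      rintro ⟨ha, ht⟩
      refine indOn_insert hMp hinj (ih ht) fun hmem => h a ha ?_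
      refine Algebra.adjoin_mono (Set.image_mono ?_) hmem
      intro i hi
      exact ⟨ht hi, fun (hia : i = a) => hat (hia ▸ hi)⟩
  intro c hc h0
  refine hfin (c.support.biUnion fun e => e.1.support) (fun i hi => ?_) c
    (fun e he i hi => Finset.mem_biUnion.2 ⟨e, he, Finsupp.mem_support_iff.2 hi⟩) h0
  obtain ⟨e, he, hi⟩ := Finset.mem_biUnion.1 hi
  exact hc e he i (Finsupp.mem_support_iff.1 hi)

include hMp in
theorem indOn_range_of_linearIndependent {κ : Type z} {x : ι → K} (f : κ → ι)
    (hinj : Function.Injective (algebraMap M K))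
    (h : LinearIndependent M fun e : Red p κ => mon (x ∘ f) e.1) : IndOn p M x (Set.range f) := by
  refine indOn_of_forall_not_mem hMp hinj ?_
  rintro _ ⟨k, rfl⟩ hmem
  refine (linearIndependent_iff_forall_not_mem hMp hinj _).1 h k (Algebra.adjoin_mono ?_ hmem)
  rintro _ ⟨_, ⟨⟨l, rfl⟩, hl⟩, rfl⟩
  exact ⟨l, fun h => hl (h ▸ rfl), rfl⟩

omit [CharP K p] in
theorem linearIndependent_comp_of_indOn {κ : Type z} {x : ι → K} (f : κ → ι) (hf : Function.Injective f)
    {s : Set ι} (hs : ∀ k, f k ∈ s) (h : IndOn p M x s) :
    LinearIndependent M fun e : Red p κ => mon (x ∘ f) e.1 := by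
  classical
  let emb : Red p κ → Red p ι := fun e => ⟨e.1.mapDomain f, fun i => by
    by_cases hi : i ∈ Set.range f
    · obtain ⟨k, rfl⟩ := hi
      rw [Finsupp.mapDomain_apply hf]
      exact e.2 k
    · rw [Finsupp.mapDomain_notin_range _ _ hi]
      exact hp.out.pos⟩
  have hemb : Function.Injective emb := fun e e' he =>
    Subtype.ext (Finsupp.mapDomain_injective hf (congrArg Subtype.val he))
  rw [linearIndependent_iff]
  intro c hc
  refine Finsupp.mapDomain_injective hemb ?_
  rw [Finsupp.mapDomain_zero]
  refine h _ (fun e he i hi => ?_) ?_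
  · obtain ⟨e', -, rfl⟩ := Finset.mem_image.1 (Finsupp.mapDomain_support he)
    by_cases hi' : i ∈ Set.range f
    · obtain ⟨k, rfl⟩ := hi'; exact hs k
    · exact absurd (Finsupp.mapDomain_notin_range _ _ hi') hi
  · rw [Finsupp.linearCombination_mapDomain, ← hc]
    refine LinearMap.congr_fun (congrArg _ (funext fun e => ?_)) c
    simp only [Function.comp_apply, emb, mon]
    rw [Finsupp.prod_mapDomain_index (fun _ => pow_zero _) (fun _ _ _ => pow_add _ _ _)]

include hMp in
/-- EGA 0 21.4.3: a maximal independent subset between an independent set and a larger one. -/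
theorem exists_indOn_between (hinj : Function.Injective (algebraMap M K)) (x : ι → K) {S L : Set ι}
    (hLS : L ⊆ S) (hL : IndOn p M x L) :
    ∃ B : Set ι, L ⊆ B ∧ B ⊆ S ∧ IndOn p M x B ∧ ∀ i ∈ S, x i ∈ Algebra.adjoin M (x '' B) := by
  classical
  obtain ⟨B, hLB, hB⟩ := zorn_subset_nonempty {B : Set ι | B ⊆ S ∧ IndOn p M x B} (fun C hC hch hne => by
    refine ⟨⋃₀ C, ⟨Set.sUnion_subset fun s hs => (hC hs).1, fun c hc h0 => ?_⟩, fun s hs => Set.subset_sUnion_of_mem hs⟩
    let T : Finset ι := c.support.biUnion fun e => e.1.support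
    have hT : (T : Set ι) ⊆ ⋃₀ C := fun i hi => by
      obtain ⟨e, he, hi'⟩ := Finset.mem_biUnion.1 hi
      exact hc e he i (Finsupp.mem_support_iff.1 hi')
    obtain ⟨s, hs, hTs⟩ := hch.directedOn.exists_mem_subset_of_finset_subset_biUnion hne
      (s := T) (f := fun s => s) (by rwa [← Set.sUnion_eq_biUnion])
    exact (hC hs).2 c (fun e he i hi => hTs (Finset.mem_biUnion.2 ⟨e, he, Finsupp.mem_support_iff.2 hi⟩)) h0)
    L ⟨hLS, hL⟩
  refine ⟨B, hLB, hB.prop.1, hB.prop.2, fun i hi => ?_⟩
  by_contra hiB
  have hmem : insert i B ∈ {B : Set ι | B ⊆ S ∧ IndOn p M x B} :=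
    ⟨Set.insert_subset hi hB.prop.1, indOn_insert hMp hinj hB.prop.2 hiB⟩
  exact hiB (Algebra.subset_adjoin ⟨i, hB.le_of_ge hmem (Set.subset_insert i B) (Set.mem_insert i B), rfl⟩)

end Groth.Agent.EGA41Lib.PB
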