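import Groth.Agent.EGA41Lib.PBasisBase
import Mathlib.RingTheory.Smooth.Basic
import Mathlib.FieldTheory.Perfect

/-!
# Algebras with a `p`-basis over a perfect ring

EGA 0, 21.2.7.
-/

set_option autoImplicit false

universe u

namespace Groth.Agent.EGA41Lib.PB

variable {p : ℕ} [hp : Fact p.Prime] {A B : Type u} [CommRing A] [CharP A p] [PerfectRing A p] [CommRing B]
  [Algebra A B] [CharP B p] [IsReduced B] {ι : Type u} {x : ι → B}

omit [IsReduced B] in
theorem exists_root_of_mem (m : EGA41.pPowerSubalgebra p A B) : ∃ c : B, c ^ p = m := by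
  obtain ⟨m, hm⟩ := m
  change m ∈ Algebra.adjoin A (Set.range fun b : B => b ^ p) at hm
  induction hm using Algebra.adjoin_induction with
  | mem y hy => exact hy
  | algebraMap a =>
    obtain ⟨a', rfl⟩ := surjective_frobenius A p a
    exact ⟨algebraMap A B a', by simp only [frobenius_def, map_pow]⟩
  | add y z _ _ hy hz =>
    obtain ⟨a, rfl⟩ := hy
    obtain ⟨b, rfl⟩ := hz
    exact ⟨a + b, add_pow_char a b p⟩
  | mul y z _ _ hy hz =>
    obtain ⟨a, rfl⟩ := hy
    obtain ⟨b, rfl⟩ := hz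
    exact ⟨a * b, mul_pow a b p⟩

/-- The square-zero case. -/
theorem existsUnique_lift_sq (hx : EGA41.IsPBasis p A x) {E : Type u} [CommRing E] [Algebra A E]
    (R : Ideal E) (hR : R ^ 2 = ⊥) (v : B →ₐ[A] E ⧸ R) (z : ι → E)
    (hz : ∀ i, Ideal.Quotient.mk R (z i) = v (x i)) :
    ∃! w : B →ₐ[A] E, (Ideal.Quotient.mkₐ A R).comp w = v ∧ ∀ i, w (x i) = z i := by
  have hpE : (p : E) = 0 := by rw [← map_natCast (algebraMap A E) p, CharP.cast_eq_zero, map_zero]
  have hpow : ∀ e e' : E, Ideal.Quotient.mk R e = Ideal.Quotient.mk R e' → e ^ p = e' ^ p := by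
    intro e e' h
    have hr : (e - e') ^ 2 = 0 := by
      have := Ideal.pow_mem_pow (Ideal.Quotient.eq.1 h) 2
      rwa [hR, Submodule.mem_bot] at this
    obtain ⟨r, hr'⟩ := exists_add_pow_prime_eq hp.out e' (e - e')
    rw [add_sub_cancel, hpE, zero_mul, zero_mul, zero_mul, add_zero, pow_eq_zero_of_le hp.out.two_le hr,
      add_zero] at hr'
    exact hr'
  choose root hroot using exists_root_of_mem (p := p) (A := A) (B := B)
  choose lift hlift using fun c => Ideal.Quotient.mk_surjective (v c)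
  have hψ : ∀ (m : EGA41.pPowerSubalgebra p A B) (c : B) (e : E),
      c ^ p = (m : B) → Ideal.Quotient.mk R e = v c → (lift (root m)) ^ p = e ^ p := by
    intro m c e hc he
    refine hpow _ _ ?_
    rw [hlift, he]
    congr 1
    exact frobenius_inj B p (by simpa [frobenius_def] using (hroot m).trans hc.symm)
  let ψ : EGA41.pPowerSubalgebra p A B →+* E :=
    { toFun := fun m => (lift (root m)) ^ p
      map_one' := (hψ 1 1 1 (by simp) (by simp)).trans (one_pow _)
      map_mul' := fun m m' => (hψ (m * m') (root m * root m') (lift (root m) * lift (root m'))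
        (by rw [mul_pow, hroot, hroot]; rfl) (by rw [map_mul, map_mul, hlift, hlift])).trans (mul_pow _ _ _)
      map_zero' := (hψ 0 0 0 (by simp [hp.out.ne_zero]) (by simp)).trans (zero_pow hp.out.ne_zero)
      map_add' := fun m m' => by
        refine (hψ (m + m') (root m + root m') (lift (root m) + lift (root m'))
          (by rw [add_pow_char, hroot, hroot]; rfl) (by rw [map_add, map_add, hlift, hlift])).trans ?_
        obtain ⟨r, hr⟩ := exists_add_pow_prime_eq hp.out (lift (root m)) (lift (root m'))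
        rw [hr, hpE, zero_mul, zero_mul, zero_mul, add_zero] }
  letI : Algebra (EGA41.pPowerSubalgebra p A B) E := ψ.toAlgebra
  haveI : IsScalarTower A (EGA41.pPowerSubalgebra p A B) E := .of_algebraMap_eq fun a => by
    obtain ⟨a', rfl⟩ := surjective_frobenius A p a
    refine Eq.symm ((hψ _ (algebraMap A B a') (algebraMap A E a') ?_ ?_).trans ?_)
    · simp [frobenius_def]
    · rw [AlgHom.commutes]; rfl
    · simp [frobenius_def]
  have hpowx : ∀ i, x i ^ p ∈ Set.range (algebraMap (EGA41.pPowerSubalgebra p A B) B) :=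
    fun i => ⟨⟨x i ^ p, Algebra.subset_adjoin ⟨x i, rfl⟩⟩, rfl⟩
  have hadj := (span_mon_eq_top_iff hp.out.pos x hpowx).1 hx.2
  obtain ⟨w₀, hw₀⟩ := exists_algHom hp.out.pos x
    (fun i => (⟨x i ^ p, Algebra.subset_adjoin ⟨x i, rfl⟩⟩ : EGA41.pPowerSubalgebra p A B)) (fun i => rfl)
    hx.1 hadj z (fun i => (hψ _ (x i) (z i) rfl (hz i)).symm)
  have hw₀v : ∀ b, Ideal.Quotient.mk R (w₀ b) = v b := by
    intro b
    have hb : b ∈ Algebra.adjoin (EGA41.pPowerSubalgebra p A B) (Set.range x) := hadj ▸ Algebra.mem_top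
    induction hb using Algebra.adjoin_induction with
    | mem y hy => obtain ⟨i, rfl⟩ := hy; rw [hw₀, hz]
    | algebraMap m =>
      rw [AlgHom.commutes]
      change Ideal.Quotient.mk R ((lift (root m)) ^ p) = v (m : B)
      rw [map_pow, hlift, ← map_pow, hroot]
    | add a b _ _ ha hb => rw [map_add, map_add, map_add, ha, hb]
    | mul a b _ _ ha hb => rw [map_mul, map_mul, map_mul, ha, hb]
  refine ⟨w₀.restrictScalars A, ⟨AlgHom.ext hw₀v, hw₀⟩, fun w ⟨hw, hwx⟩ => AlgHom.ext fun b => ?_⟩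
  have hb : b ∈ Algebra.adjoin (EGA41.pPowerSubalgebra p A B) (Set.range x) := hadj ▸ Algebra.mem_top
  induction hb using Algebra.adjoin_induction with
  | mem y hy => obtain ⟨i, rfl⟩ := hy; rw [hwx, AlgHom.restrictScalars_apply, hw₀]
  | algebraMap m =>
    rw [AlgHom.restrictScalars_apply, AlgHom.commutes]
    change w (m : B) = (lift (root m)) ^ p
    rw [hψ m (root m) (w (root m)) (hroot m) (DFunLike.congr_fun hw (root m)), ← map_pow, hroot]
  | add a b _ _ ha hb => rw [map_add, map_add, ha, hb]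
  | mul a b _ _ ha hb => rw [map_mul, map_mul, ha, hb]

/-- EGA 0 21.2.7. -/
theorem existsUnique_lift (hx : EGA41.IsPBasis p A x) {E : Type u} [CommRing E] [Algebra A E]
    (R : Ideal E) (hR : IsNilpotent R) (v : B →ₐ[A] E ⧸ R) (z : ι → E)
    (hz : ∀ i, Ideal.Quotient.mk R (z i) = v (x i)) :
    ∃! w : B →ₐ[A] E, (Ideal.Quotient.mkₐ A R).comp w = v ∧ ∀ i, w (x i) = z i := by
  revert v z
  revert ‹Algebra A E›
  apply Ideal.IsNilpotent.induction_on (S := E) R hR
  · intro E _ R hR _ v z hz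
    exact existsUnique_lift_sq hx R hR v z hz
  · intro E _ I J hIJ h₁ h₂ _ v z hz
    let e : ((E ⧸ I) ⧸ J.map (Ideal.Quotient.mk I)) ≃ₐ[A] E ⧸ J :=
      { (DoubleQuot.quotQuotEquivQuotSup I J).trans
          (Ideal.quotEquivOfEq (sup_eq_right.mpr hIJ)) with
        commutes' := fun x => rfl }
    have he : ∀ t : E, e (Ideal.Quotient.mk _ (Ideal.Quotient.mk I t)) = Ideal.Quotient.mk J t := fun t => rfl
    obtain ⟨w₁, ⟨hw₁, hw₁x⟩, huniq₁⟩ := h₂ (e.symm.toAlgHom.comp v) (fun i => Ideal.Quotient.mk I (z i))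
      (fun i => by
        apply e.injective
        rw [he, hz, AlgHom.comp_apply]
        exact (e.apply_symm_apply _).symm)
    obtain ⟨w, ⟨hw, hwx⟩, huniq⟩ := h₁ w₁ z (fun i => (hw₁x i).symm)
    refine ⟨w, ⟨AlgHom.ext fun b => ?_, hwx⟩, fun w' ⟨hw', hw'x⟩ => huniq w' ⟨?_, hw'x⟩⟩
    · change Ideal.Quotient.mk J (w b) = v b
      rw [← he, show Ideal.Quotient.mk I (w b) = w₁ b from DFunLike.congr_fun hw b,
        show Ideal.Quotient.mk _ (w₁ b) = e.symm (v b) from DFunLike.congr_fun hw₁ b, e.apply_symm_apply]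
    · refine huniq₁ _ ⟨AlgHom.ext fun b => e.injective ?_, fun i => ?_⟩
      · change e (Ideal.Quotient.mk _ (Ideal.Quotient.mk I (w' b))) = e (e.symm (v b))
        rw [he, e.apply_symm_apply]
        exact DFunLike.congr_fun hw' b
      · change Ideal.Quotient.mk I (w' (x i)) = Ideal.Quotient.mk I (z i)
        rw [hw'x]

end Groth.Agent.EGA41Lib.PB
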