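import Groth.Agent.EGA41Lib.PMonomials
import Mathlib.RingTheory.AlgebraTower

/-!
# `p`-bases in towers

EGA 0, 21.2.3.
-/

set_option autoImplicit false

universe u v w z

namespace Groth.Agent.EGA41Lib.PB

variable {p : ℕ} {M : Type w} {C B : Type v} [CommRing M] [CommRing C] [CommRing B] [Algebra M C] [Algebra C B]
  [Algebra M B] [IsScalarTower M C B] {ι κ : Type u}

variable (p ι κ) in
/-- Splitting exponent vectors on a sum of index types. -/
noncomputable def redSum : Red p (ι ⊕ κ) ≃ Red p ι × Red p κ where
  toFun e := (⟨(Finsupp.sumFinsuppEquivProdFinsupp e.1).1, fun i => by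
      rw [Finsupp.fst_sumFinsuppEquivProdFinsupp]; exact e.2 _⟩,
    ⟨(Finsupp.sumFinsuppEquivProdFinsupp e.1).2, fun i => by
      rw [Finsupp.snd_sumFinsuppEquivProdFinsupp]; exact e.2 _⟩)
  invFun f := ⟨Finsupp.sumElim f.1.1 f.2.1, fun i => by
    cases i with
    | inl i => simpa using f.1.2 i
    | inr i => simpa using f.2.2 i⟩
  left_inv e := Subtype.ext (Finsupp.sumFinsuppEquivProdFinsupp.left_inv e.1)
  right_inv f := by
    ext <;> simp

lemma mon_sumElim (u : ι → C) (v : κ → B) (f : Red p ι × Red p κ) :
    mon (Sum.elim (fun i => algebraMap C B (u i)) v) ((redSum p ι κ).symm f).1 = mon u f.1.1 • mon v f.2.1 := by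
  change mon _ (Finsupp.sumElim f.1.1 f.2.1) = _
  rw [mon, Finsupp.prod_sumElim, Algebra.smul_def, mon, mon, map_finsuppProd]
  congr 1
  exact Finsupp.prod_congr fun i _ => by simp

/-- Independence in a tower. -/
theorem linearIndependent_sum (u : ι → C) (v : κ → B) (hu : LinearIndependent M fun e : Red p ι => mon u e.1)
    (hv : LinearIndependent C fun e : Red p κ => mon v e.1) :
    LinearIndependent M fun e : Red p (ι ⊕ κ) => mon (Sum.elim (fun i => algebraMap C B (u i)) v) e.1 := by
  rw [← linearIndependent_equiv (redSum p ι κ).symm]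
  convert linearIndependent_smul hu hv using 1
  funext f
  exact mon_sumElim u v f

/-- The converse, when the lower family generates. -/
theorem linearIndependent_of_sum (u : ι → C) (v : κ → B)
    (hu : Submodule.span M (Set.range fun e : Red p ι => mon u e.1) = ⊤)
    (huv : LinearIndependent M fun e : Red p (ι ⊕ κ) => mon (Sum.elim (fun i => algebraMap C B (u i)) v) e.1) :
    LinearIndependent C fun e : Red p κ => mon v e.1 := by
  classical
  rw [← linearIndependent_equiv (redSum p ι κ).symm] at huv
  rw [linearIndependent_iff']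
  intro t c hc f hf
  have hcm : ∀ f, ∃ d : Red p ι →₀ M, (d.sum fun e m => m • mon u e.1) = c f := fun f =>
    Finsupp.mem_span_range_iff_exists_finsupp.1 (hu ▸ Submodule.mem_top)
  choose d hd using hcm
  let S := t.biUnion fun f => (d f).support
  have hdS : ∀ f ∈ t, c f = ∑ e ∈ S, d f e • mon u e.1 := fun f hf => by
    rw [← hd f]
    exact Finset.sum_subset (fun e he => Finset.mem_biUnion.2 ⟨f, hf, he⟩)
      (fun e _ he => by simp [Finsupp.notMem_support_iff.1 he])
  have h0 : ∑ q ∈ S ×ˢ t, d q.2 q.1 • (mon (Sum.elim (fun i => algebraMap C B (u i)) v)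
      ((redSum p ι κ).symm q).1) = 0 := by
    rw [Finset.sum_product_right, ← hc]
    refine Finset.sum_congr rfl fun f hf => ?_
    rw [hdS f hf, Finset.sum_smul]
    exact Finset.sum_congr rfl fun e _ => by rw [mon_sumElim, smul_assoc]
  have h2 := linearIndependent_iff'.1 huv (S ×ˢ t) (fun q => d q.2 q.1) h0
  rw [hdS f hf]
  exact Finset.sum_eq_zero fun e he => by rw [h2 (e, f) (Finset.mk_mem_product he hf), zero_smul]

omit [IsScalarTower M C B] in
/-- Generation in a tower. -/
theorem adjoin_sum_eq_top [IsScalarTower M C B] (u : ι → C) (v : κ → B)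
    (hu : Algebra.adjoin M (Set.range u) = ⊤) (hv : Algebra.adjoin C (Set.range v) = ⊤) :
    Algebra.adjoin M (Set.range (Sum.elim (fun i => algebraMap C B (u i)) v)) = ⊤ := by
  let S := Algebra.adjoin M (Set.range (Sum.elim (fun i => algebraMap C B (u i)) v))
  have hC : ∀ c : C, algebraMap C B c ∈ S := by
    intro c
    have hc : c ∈ Algebra.adjoin M (Set.range u) := hu ▸ Algebra.mem_top
    induction hc using Algebra.adjoin_induction with
    | mem y hy => obtain ⟨i, rfl⟩ := hy; exact Algebra.subset_adjoin ⟨Sum.inl i, rfl⟩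
    | algebraMap m => rw [← IsScalarTower.algebraMap_apply]; exact S.algebraMap_mem m
    | add y z _ _ hy hz => rw [map_add]; exact add_mem hy hz
    | mul y z _ _ hy hz => rw [map_mul]; exact mul_mem hy hz
  refine _root_.eq_top_iff.2 fun b h' => ?_
  clear h'
  have hb : b ∈ Algebra.adjoin C (Set.range v) := hv ▸ Algebra.mem_top
  induction hb using Algebra.adjoin_induction with
  | mem y hy => obtain ⟨i, rfl⟩ := hy; exact Algebra.subset_adjoin ⟨Sum.inr i, rfl⟩
  | algebraMap c => exact hC c
  | add y z _ _ hy hz => exact add_mem hy hz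
  | mul y z _ _ hy hz => exact mul_mem hy hz

omit [CommRing C] [Algebra M C] [Algebra C B] [IsScalarTower M C B] in
/-- Independence read on coefficients in another ring with the same image. -/
theorem linearIndependent_iff_coeff {A : Type z} [CommRing A] [Algebra A B] {η : Type*} (f : η → B)
    (hinj : Function.Injective (algebraMap M B))
    (hMA : ∀ m : M, ∃ a : A, algebraMap A B a = algebraMap M B m)
    (hAM : ∀ a : A, ∃ m : M, algebraMap M B m = algebraMap A B a) :
    LinearIndependent M f ↔ ∀ (t : Finset η) (a : η → A),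
      ∑ e ∈ t, algebraMap A B (a e) * f e = 0 → ∀ e ∈ t, algebraMap A B (a e) = 0 := by
  rw [linearIndependent_iff']
  constructor
  · intro h t a ha e he
    choose m hm using fun e => hAM (a e)
    have := h t m (by rw [← ha]; exact Finset.sum_congr rfl fun e _ => by rw [Algebra.smul_def, hm]) e he
    rw [← hm, this, map_zero]
  · intro h t m hm e he
    choose a ha using fun e => hMA (m e)
    apply hinj
    rw [map_zero, ← ha]
    refine h t a ?_ e he
    rw [← hm]
    exact Finset.sum_congr rfl fun e _ => by rw [Algebra.smul_def, ha]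

end Groth.Agent.EGA41Lib.PB
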