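import Mathlib.RingTheory.Kaehler.Basic
import Mathlib.RingTheory.MvPolynomial.Basic
import Mathlib.Algebra.TrivSqZeroExt.Basic
import Mathlib.Algebra.CharP.Lemmas
import Mathlib.RingTheory.Derivation.Basic

/-!
# Reduced monomials in characteristic `p`

EGA 0, 21.1–21.2: for `B ⊇ M ⊇ B^p`, the monomials in a family with exponents `< p`.
-/

set_option autoImplicit false

universe u v w z

open MvPolynomial

namespace Groth.Agent.EGA41Lib.PB

variable (p : ℕ)

/-- Exponent vectors with all entries `< p`. -/
abbrev Red (ι : Type u) := {e : ι →₀ ℕ // ∀ i, e i < p}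

/-- The monomial of an exponent vector. -/
noncomputable def mon {B : Type v} [CommRing B] {ι : Type u} (x : ι → B) (e : ι →₀ ℕ) : B :=
  e.prod fun i n => x i ^ n

variable {p} {M : Type w} {B : Type v} [CommRing M] [CommRing B] [Algebra M B] {ι : Type u}

lemma aeval_monomial_one (x : ι → B) (e : ι →₀ ℕ) :
    aeval x (monomial e (1 : M)) = mon x e := by
  rw [MvPolynomial.aeval_monomial, map_one, one_mul]
  rfl

variable (p) in
/-- The ideal of the relations `X_i ^ p = a_i`. -/
noncomputable def relIdeal (a : ι → M) : Ideal (MvPolynomial ι M) :=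
  Ideal.span (Set.range fun i => X i ^ p - C (a i))

lemma relIdeal_le_ker {E : Type z} [CommRing E] [Algebra M E] (a : ι → M) (y : ι → E)
    (hy : ∀ i, y i ^ p = algebraMap M E (a i)) :
    relIdeal p a ≤ RingHom.ker (aeval y : MvPolynomial ι M →ₐ[M] E) := by
  rw [relIdeal, Ideal.span_le]
  rintro _ ⟨i, rfl⟩
  simp [hy]

variable (p) in
/-- The reduced polynomial with given coefficients. -/
noncomputable def redPoly : (Red p ι →₀ M) →ₗ[M] MvPolynomial ι M :=
  Finsupp.linearCombination M fun e : Red p ι => monomial e.1 (1 : M)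

lemma aeval_redPoly (x : ι → B) (c : Red p ι →₀ M) :
    aeval x (redPoly p c) = Finsupp.linearCombination M (fun e : Red p ι => mon x e.1) c := by
  rw [redPoly]
  change (aeval x : MvPolynomial ι M →ₐ[M] B).toLinearMap _ = _
  rw [Finsupp.apply_linearCombination]
  congr 2
  exact funext fun e => aeval_monomial_one x e.1

/-- Every polynomial is congruent to a reduced one. -/
theorem exists_reduced (hp : 0 < p) (a : ι → M) (P : MvPolynomial ι M) :
    ∃ c : Red p ι →₀ M, P - redPoly p c ∈ relIdeal p a := by
  classical
  induction P using MvPolynomial.induction_on' with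
  | add P Q hP hQ =>
    obtain ⟨c, hc⟩ := hP
    obtain ⟨d, hd⟩ := hQ
    refine ⟨c + d, ?_⟩
    rw [map_add, add_sub_add_comm]
    exact Ideal.add_mem _ hc hd
  | monomial e m =>
    have key : ∀ (n : ℕ) (e : ι →₀ ℕ) (m : M), (e.sum fun _ k => k) = n →
        ∃ c : Red p ι →₀ M, monomial e m - redPoly p c ∈ relIdeal p a := by
      intro n
      induction n using Nat.strong_induction_on with
      | _ n ih =>
        intro e m he
        by_cases h : ∀ i, e i < p
        · refine ⟨Finsupp.single ⟨e, h⟩ m, ?_⟩
          rw [redPoly, Finsupp.linearCombination_single, MvPolynomial.smul_monomial, smul_eq_mul, mul_one,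
            sub_self]
          exact Submodule.zero_mem _
        · push Not at h
          obtain ⟨i, hi⟩ := h
          let e' := e - Finsupp.single i p
          have he' : e' + Finsupp.single i p = e :=
            tsub_add_cancel_of_le (Finsupp.single_le_iff.2 hi)
          have hlt : (e'.sum fun _ k => k) < n := by
            rw [← he, ← he', Finsupp.sum_add_index' (fun _ => rfl) (fun _ _ _ => rfl),
              Finsupp.sum_single_index rfl]
            omega
          obtain ⟨c, hc⟩ := ih _ hlt e' (m * a i) rfl
          refine ⟨c, ?_⟩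
          have h1 : monomial e m - monomial e' (m * a i) = monomial e' m * (X i ^ p - C (a i)) := by
            rw [mul_sub, MvPolynomial.X_pow_eq_monomial, MvPolynomial.monomial_mul, he', mul_one,
              mul_comm (monomial e' m) (C (a i)), MvPolynomial.C_mul_monomial, mul_comm (a i) m]
          have h2 : monomial e m - monomial e' (m * a i) ∈ relIdeal p a := by
            rw [h1]
            exact Ideal.mul_mem_left _ _ (Ideal.subset_span ⟨i, rfl⟩)
          have := Ideal.add_mem _ h2 hc
          rwa [sub_add_sub_cancel] at this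
    exact key _ e m rfl

/-- The span of the reduced monomials is the subalgebra they generate. -/
theorem span_mon_eq_adjoin (hp : 0 < p) (x : ι → B) (hx : ∀ i, x i ^ p ∈ Set.range (algebraMap M B)) :
    Submodule.span M (Set.range fun e : Red p ι => mon x e.1) =
      Subalgebra.toSubmodule (Algebra.adjoin M (Set.range x)) := by
  apply le_antisymm
  · rw [Submodule.span_le]
    rintro _ ⟨e, rfl⟩
    exact Subalgebra.prod_mem _ fun i _ =>
      Subalgebra.pow_mem _ (Algebra.subset_adjoin (Set.mem_range_self i)) _
  · intro b hb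
    rw [Subalgebra.mem_toSubmodule, Algebra.adjoin_range_eq_range_aeval] at hb
    obtain ⟨P, rfl⟩ := hb
    choose a ha using hx
    obtain ⟨c, hc⟩ := exists_reduced hp a P
    have h := relIdeal_le_ker a x (fun i => (ha i).symm) hc
    rw [RingHom.mem_ker, map_sub, sub_eq_zero, aeval_redPoly] at h
    change aeval x P ∈ _
    rw [h, Finsupp.mem_span_range_iff_exists_finsupp]
    exact ⟨c, (Finsupp.linearCombination_apply M c).symm⟩

theorem span_mon_eq_top_iff (hp : 0 < p) (x : ι → B) (hx : ∀ i, x i ^ p ∈ Set.range (algebraMap M B)) :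
    Submodule.span M (Set.range fun e : Red p ι => mon x e.1) = ⊤ ↔ Algebra.adjoin M (Set.range x) = ⊤ := by
  rw [span_mon_eq_adjoin hp x hx, ← Algebra.top_toSubmodule, Subalgebra.toSubmodule.injective.eq_iff]

/-- The universal property of a `p`-basis. -/
theorem exists_algHom (hp : 0 < p) (x : ι → B) (a : ι → M) (hx : ∀ i, x i ^ p = algebraMap M B (a i))
    (hind : LinearIndependent M fun e : Red p ι => mon x e.1) (hgen : Algebra.adjoin M (Set.range x) = ⊤)
    {E : Type z} [CommRing E] [Algebra M E] (y : ι → E) (hy : ∀ i, y i ^ p = algebraMap M E (a i)) :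
    ∃ v : B →ₐ[M] E, ∀ i, v (x i) = y i := by
  have hker : RingHom.ker (aeval x : MvPolynomial ι M →ₐ[M] B) ≤
      RingHom.ker (aeval y : MvPolynomial ι M →ₐ[M] E) := by
    intro P hP
    obtain ⟨c, hc⟩ := exists_reduced hp a P
    have h := relIdeal_le_ker a x hx hc
    rw [RingHom.mem_ker, map_sub, RingHom.mem_ker.1 hP, zero_sub, neg_eq_zero, aeval_redPoly] at h
    rw [linearIndependent_iff.1 hind c h, map_zero, sub_zero] at hc
    exact relIdeal_le_ker a y hy hc
  have hsurj : Function.Surjective (aeval x : MvPolynomial ι M →ₐ[M] B) := by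
    rw [← AlgHom.range_eq_top, ← Algebra.adjoin_range_eq_range_aeval, hgen]
  refine ⟨AlgHom.liftOfSurjective (aeval x) hsurj (aeval y) hker, fun i => ?_⟩
  have := AlgHom.liftOfSurjective_apply (aeval x) hsurj (aeval y) hker (X i)
  simpa using this

variable [Fact p.Prime] [CharP B p]

/-- A derivation of a ring of characteristic `p` kills the `p`-th powers. -/
lemma derivation_pow_eq_zero {A : Type z} [CommRing A] [Algebra A B] {N : Type*} [AddCommGroup N]
    [Module B N] [Module A N] (D : Derivation A B N) (b : B) : D (b ^ p) = 0 := by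
  rw [Derivation.leibniz_pow, ← Nat.cast_smul_eq_nsmul B, CharP.cast_eq_zero B p, zero_smul]

lemma derivation_eq_zero_of_mem_adjoin_pow {A : Type z} [CommRing A] [Algebra A B] {N : Type*}
    [AddCommGroup N] [Module B N] [Module A N] (D : Derivation A B N) {b : B}
    (hb : b ∈ Algebra.adjoin A (Set.range fun y : B => y ^ p)) : D b = 0 := by
  induction hb using Algebra.adjoin_induction with
  | mem x hx => obtain ⟨y, rfl⟩ := hx; exact derivation_pow_eq_zero D y
  | algebraMap a => exact D.map_algebraMap a
  | add x y _ _ hx hy => rw [map_add, hx, hy, add_zero]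
  | mul x y _ _ hx hy => rw [Derivation.leibniz, hx, hy, smul_zero, smul_zero, add_zero]

/-- Derivations with prescribed values on a `p`-basis. -/
theorem exists_derivation (x : ι → B) (hx : ∀ i, x i ^ p ∈ Set.range (algebraMap M B))
    (hind : LinearIndependent M fun e : Red p ι => mon x e.1) (hgen : Algebra.adjoin M (Set.range x) = ⊤)
    {N : Type z} [AddCommGroup N] [Module B N] [Module M N] [IsScalarTower M B N] (m : ι → N) :
    ∃ D : Derivation M B N, ∀ i, D (x i) = m i := by
  letI : Module Bᵐᵒᵖ N := Module.compHom N (RingEquiv.toOpposite B).symm.toRingHom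
  haveI : IsCentralScalar B N := ⟨fun _ _ => rfl⟩
  letI : Module Mᵐᵒᵖ N := Module.compHom N (RingEquiv.toOpposite M).symm.toRingHom
  haveI : IsCentralScalar M N := ⟨fun _ _ => rfl⟩
  haveI : IsScalarTower M Bᵐᵒᵖ N := ⟨fun a b n => smul_assoc a b.unop n⟩
  choose a ha using hx
  have hy : ∀ i, (TrivSqZeroExt.inl (x i) + TrivSqZeroExt.inr (m i) : TrivSqZeroExt B N) ^ p =
      algebraMap M (TrivSqZeroExt B N) (a i) := fun i => by
    apply TrivSqZeroExt.ext
    · simp [← ha i]; rfl
    · rw [TrivSqZeroExt.snd_pow, ← Nat.cast_smul_eq_nsmul B, CharP.cast_eq_zero B p]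
      simp; rfl
  obtain ⟨v, hv⟩ := exists_algHom (Nat.Prime.pos Fact.out) x a (fun i => (ha i).symm) hind hgen
    (fun i => TrivSqZeroExt.inl (x i) + TrivSqZeroExt.inr (m i)) hy
  have hfst : ∀ b, (v b).fst = b := by
    intro b
    have : (TrivSqZeroExt.fstHom M B N).comp v = AlgHom.id M B :=
      AlgHom.ext_of_adjoin_eq_top hgen (by rintro _ ⟨i, rfl⟩; simp [hv])
    exact DFunLike.congr_fun this b
  refine ⟨Derivation.mk' { toFun := fun b => (v b).snd
                           map_add' := fun b c => by rw [map_add, TrivSqZeroExt.snd_add]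
                           map_smul' := fun r b => by rw [map_smul, TrivSqZeroExt.snd_smul]; rfl }
    (fun b c => ?_), fun i => ?_⟩
  · change (v (b * c)).snd = b • (v c).snd + c • (v b).snd
    rw [map_mul, TrivSqZeroExt.snd_mul, hfst, hfst, op_smul_eq_smul]
  · change (v (x i)).snd = m i
    simp [hv]

/-- EGA 0 21.2.4: the differentials of a `p`-basis form a basis. -/
theorem exists_basis_kaehler {A : Type z} [CommRing A] [Algebra A B] [Algebra A M] [IsScalarTower A M B]
    (hM : ∀ m : M, algebraMap M B m ∈ Algebra.adjoin A (Set.range fun y : B => y ^ p))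
    (x : ι → B) (hx : ∀ i, x i ^ p ∈ Set.range (algebraMap M B))
    (hind : LinearIndependent M fun e : Red p ι => mon x e.1) (hgen : Algebra.adjoin M (Set.range x) = ⊤) :
    ∃ b : Module.Basis ι B Ω[B⁄A], ∀ i, b i = KaehlerDifferential.D A B (x i) := by
  classical
  have hli : LinearIndependent B fun i => KaehlerDifferential.D A B (x i) := by
    rw [linearIndependent_iff']
    intro s g hg i hi
    obtain ⟨D, hD⟩ := exists_derivation x hx hind hgen (N := B) (fun j => if j = i then 1 else 0)
    have h := congrArg (D.restrictScalars A).liftKaehlerDifferential hg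
    simp only [map_sum, map_smul, map_zero, Derivation.liftKaehlerDifferential_comp_D] at h
    simpa [hD, hi] using h
  refine ⟨Module.Basis.mk hli ?_, fun i => Module.Basis.mk_apply hli _ i⟩
  intro ω _
  have key : ∀ b, KaehlerDifferential.D A B b ∈
      Submodule.span B (Set.range fun i => KaehlerDifferential.D A B (x i)) := by
    intro b
    have hb : b ∈ Algebra.adjoin M (Set.range x) := hgen ▸ Algebra.mem_top
    induction hb using Algebra.adjoin_induction with
    | mem y hy => obtain ⟨i, rfl⟩ := hy; exact Submodule.subset_span ⟨i, rfl⟩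
    | algebraMap m =>
      rw [derivation_eq_zero_of_mem_adjoin_pow _ (hM m)]
      exact Submodule.zero_mem _
    | add y y' _ _ hy hy' => rw [map_add]; exact Submodule.add_mem _ hy hy'
    | mul y y' _ _ hy hy' =>
      rw [Derivation.leibniz]
      exact Submodule.add_mem _ (Submodule.smul_mem _ _ hy') (Submodule.smul_mem _ _ hy)
  have : Submodule.span B (Set.range (KaehlerDifferential.D A B)) ≤
      Submodule.span B (Set.range fun i => KaehlerDifferential.D A B (x i)) :=
    Submodule.span_le.2 (Set.range_subset_iff.2 key)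
  exact this (by rw [KaehlerDifferential.span_range_derivation]; trivial)

end Groth.Agent.EGA41Lib.PB
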