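import Mathlib
import Groth.Agent.EGA41Lib.EisensteinCotangent

/-!
# Quotients by `p`-polynomials with `p`-independent constant terms
-/

set_option autoImplicit false
set_option backward.isDefEq.respectTransparency.types false

universe u w

open IsLocalRing

namespace Groth.Agent.EGA41Lib.PPoly

variable {A : Type u} [CommRing A] (p : ℕ) [Fact p.Prime]

/-- The polynomial `T ^ p + p ∑ c_j T ^ (p - j) - f`. -/
noncomputable def poly (c : Fin p → A) (f : A) : Polynomial A :=
  Polynomial.X ^ p + ((p : Polynomial A) * (Finset.univ.sum fun j : Fin p =>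
    if (j : ℕ) = 0 then 0 else Polynomial.C (c j) * Polynomial.X ^ (p - (j : ℕ)))) - Polynomial.C f

theorem degree_tail_lt (c : Fin p → A) (f : A) :
    (((p : Polynomial A) * (Finset.univ.sum fun j : Fin p =>
      if (j : ℕ) = 0 then 0 else Polynomial.C (c j) * Polynomial.X ^ (p - (j : ℕ)))) - Polynomial.C f).degree < p := by
  have hp := (Fact.out : p.Prime).pos
  refine (Polynomial.degree_sub_le _ _).trans_lt (max_lt ?_ (Polynomial.degree_C_le.trans_lt (WithBot.coe_lt_coe.2 hp)))
  rw [← Polynomial.C_eq_natCast, Finset.mul_sum]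
  refine (Polynomial.degree_sum_le _ _).trans_lt ((Finset.sup_lt_iff (WithBot.bot_lt_coe p)).2 fun j _ => ?_)
  split_ifs with h
  · rw [mul_zero, Polynomial.degree_zero]; exact WithBot.bot_lt_coe p
  · rw [← mul_assoc, ← map_mul]
    exact (Polynomial.degree_C_mul_X_pow_le _ _).trans_lt
      (WithBot.coe_lt_coe.2 (Nat.sub_lt hp (Nat.pos_of_ne_zero h)))

theorem poly_monic (c : Fin p → A) (f : A) : (poly p c f).Monic := by
  rw [poly, add_sub_assoc]
  exact Polynomial.monic_X_pow_add (degree_tail_lt p c f)

theorem poly_natDegree [Nontrivial A] (c : Fin p → A) (f : A) : (poly p c f).natDegree = p := by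
  refine Polynomial.natDegree_eq_of_degree_eq_some ?_
  rw [poly, add_sub_assoc, Polynomial.degree_add_eq_left_of_degree_lt, Polynomial.degree_X_pow]
  rw [Polynomial.degree_X_pow]
  exact degree_tail_lt p c f

theorem exists_aeval_poly {S : Type*} [CommRing S] [Algebra A S] (c : Fin p → A) (f : A) (z : S) :
    ∃ r : S, Polynomial.aeval z (poly p c f) = z ^ p + (p : S) * r - algebraMap A S f :=
  ⟨Polynomial.aeval z (Finset.univ.sum fun j : Fin p =>
      if (j : ℕ) = 0 then 0 else Polynomial.C (c j) * Polynomial.X ^ (p - (j : ℕ))),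
    by rw [poly, map_sub, map_add, map_pow, map_mul, Polynomial.aeval_X, map_natCast, Polynomial.aeval_C]⟩

theorem rel_poly {σ : Type w} (c : σ → Fin p → A) (f : σ → A) :
    SepQuot.rel (fun i => poly p (c i) (f i)) = Ideal.span (Set.range fun i =>
      MvPolynomial.X i ^ p + (p : MvPolynomial σ A) * (Finset.univ.sum fun j : Fin p =>
        if (j : ℕ) = 0 then 0 else MvPolynomial.C (c i j) * MvPolynomial.X i ^ (p - (j : ℕ))) - MvPolynomial.C (f i)) := by
  unfold SepQuot.rel
  congr 2
  funext i
  simp only [poly, map_sub, map_add, map_pow, map_mul, Polynomial.aeval_X, map_natCast, Polynomial.aeval_C,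
    map_sum, MvPolynomial.algebraMap_eq]
  congr 3
  refine Finset.sum_congr rfl fun j _ => ?_
  split_ifs with h
  · exact map_zero _
  · simp [MvPolynomial.algebraMap_eq]

/-- `p`-independence of residues. -/
def Indep [IsLocalRing A] {σ : Type w} [Fintype σ] [DecidableEq σ] (a : σ → ResidueField A) : Prop :=
  ∀ r : (σ → Fin p) → ResidueField A, ∑ e, r e ^ p * ∏ i, a i ^ (e i : ℕ) = 0 → r = 0

variable [IsLocalRing A] [CharP (ResidueField A) p] {σ : Type w} [Fintype σ] [DecidableEq σ]

/-- With `p`-independent constant terms the quotient is local and unramified. -/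
theorem isLocalRing_of_indep (c : σ → Fin p → A) (f : σ → A) (hind : Indep p fun i => residue A (f i)) :
    IsLocalRing (SepQuot.Alg fun i => poly p (c i) (f i)) ∧
      ∀ M : Ideal (SepQuot.Alg fun i => poly p (c i) (f i)), M.IsMaximal →
        M = (maximalIdeal A).map (algebraMap A _) := by
  classical
  let g := fun i => poly p (c i) (f i)
  have hmon : ∀ i, (g i).Monic := fun i => poly_monic p _ _
  have hdeg : ∀ i, (g i).natDegree = p := fun i => poly_natDegree p _ _
  haveI := SepQuot.moduleFinite g hmon
  haveI : Algebra.IsIntegral A (SepQuot.Alg g) := Algebra.IsIntegral.of_finite _ _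
  let L := AlgebraicClosure (ResidueField A)
  haveI : CharP L p := charP_of_injective_algebraMap (algebraMap (ResidueField A) L).injective p
  choose α hα using fun i => IsAlgClosed.exists_pow_nat_eq (algebraMap A L (f i)) (Fact.out : p.Prime).pos
  obtain ⟨φ, hφ⟩ := SepQuot.exists_lift g α (fun i => by
    obtain ⟨r, hr⟩ := exists_aeval_poly p (c i) (f i) (α i)
    rw [hr, CharP.cast_eq_zero, zero_mul, add_zero, hα, sub_self])
  obtain ⟨b, hb⟩ := SepQuot.exists_basis g hmon
  let ec : (σ → Fin p) ≃ (∀ i, Fin (g i).natDegree) := Equiv.piCongrRight fun i => finCongr (hdeg i).symm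
  have hker : RingHom.ker φ.toRingHom = (maximalIdeal A).map (algebraMap A (SepQuot.Alg g)) := by
    refine le_antisymm (fun x hx => ?_) ?_
    · rw [SepQuot.mem_map_iff b]
      have h0 : φ x = 0 := hx
      rw [← b.sum_repr x, map_sum] at h0
      simp only [map_smul, hb, SepQuot.mono, map_prod, map_pow, hφ] at h0
      have h1 := congrArg (fun z => z ^ p) h0
      simp only [zero_pow (Fact.out : p.Prime).ne_zero] at h1
      rw [sum_pow_char] at h1
      rw [← Equiv.sum_comp ec] at h1
      have h2 : ∑ e : σ → Fin p, residue A (b.repr x (ec e)) ^ p * ∏ i, residue A (f i) ^ (e i : ℕ) = 0 := by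
        refine (algebraMap (ResidueField A) L).injective ?_
        rw [map_zero, map_sum, ← h1]
        refine Finset.sum_congr rfl fun e _ => ?_
        rw [Algebra.smul_def, mul_pow, map_mul, map_pow, map_prod, ← Finset.prod_pow]
        simp only [map_pow]
        rw [IsScalarTower.algebraMap_apply A (ResidueField A) L, ResidueField.algebraMap_eq]
        congr 1
        refine Finset.prod_congr rfl fun i _ => ?_
        rw [← pow_mul, mul_comm, pow_mul, hα, IsScalarTower.algebraMap_apply A (ResidueField A) L,
          ResidueField.algebraMap_eq]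
        rfl
      intro e
      have h3 := congrFun (hind _ h2) (ec.symm e)
      rw [Equiv.apply_symm_apply] at h3
      exact (residue_eq_zero_iff _).1 h3
    · rw [Ideal.map_le_iff_le_comap]
      intro a ha
      show φ (algebraMap A _ a) = 0
      rw [φ.commutes, IsScalarTower.algebraMap_apply A (ResidueField A) L, ResidueField.algebraMap_eq,
        (residue_eq_zero_iff _).2 ha, map_zero]
  have hmax : ((maximalIdeal A).map (algebraMap A (SepQuot.Alg g))).IsMaximal := by
    haveI : (RingHom.ker φ.toRingHom).IsPrime := RingHom.ker_isPrime _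
    rw [← hker]
    refine Ideal.isMaximal_of_isIntegral_of_isMaximal_comap (R := A) _ ?_
    convert! maximalIdeal.isMaximal A
    ext a
    show φ (algebraMap A _ a) = 0 ↔ _
    rw [φ.commutes, IsScalarTower.algebraMap_apply A (ResidueField A) L, ResidueField.algebraMap_eq,
      map_eq_zero, residue_eq_zero_iff]
  have huniq : ∀ M : Ideal (SepQuot.Alg g), M.IsMaximal → M = (maximalIdeal A).map (algebraMap A _) := fun M hM => by
    refine (hmax.eq_of_le hM.ne_top ?_).symm
    rw [Ideal.map_le_iff_le_comap]
    exact (IsLocalRing.eq_maximalIdeal (Ideal.isMaximal_comap_of_isIntegral_of_isMaximal (R := A) M)).ge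
  exact ⟨IsLocalRing.of_unique_max_ideal ⟨_, hmax, huniq⟩, huniq⟩

omit [Fact p.Prime] [CharP (ResidueField A) p] in
/-- Cotangent independence in an unramified free extension. -/
theorem linearIndependent_cotangent_iff {C : Type*} [CommRing C] [IsLocalRing C] [Algebra A C] {κ : Type*} [Fintype κ]
    (b : Module.Basis κ A C) (hm : maximalIdeal C = (maximalIdeal A).map (algebraMap A C))
    {J : Type*} [Fintype J] (x : J → maximalIdeal A) :
    LinearIndependent (ResidueField A) (fun j => (maximalIdeal A).toCotangent (x j)) ↔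
      LinearIndependent (ResidueField C) (fun j => (maximalIdeal C).toCotangent
        ⟨algebraMap A C (x j), hm.ge (Ideal.mem_map_of_mem _ (x j).2)⟩) := by
  classical
  have e1 : ∀ r : J → A, ∑ j, residue A (r j) • (maximalIdeal A).toCotangent (x j) = 0 ↔
      ∑ j, r j * x j ∈ maximalIdeal A ^ 2 := fun r => by
    rw [show ∑ j, r j * (x j : A) = ((∑ j, r j • x j : maximalIdeal A) : A) by simp [AddSubmonoidClass.coe_finsetSum],
      ← Ideal.toCotangent_eq_zero, map_sum]
    refine Eq.congr (Finset.sum_congr rfl fun j _ => ?_) rfl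
    rw [map_smul, ← algebraMap_smul (ResidueField A) (r j), ResidueField.algebraMap_eq]
  have e2 : ∀ r : J → C, ∑ j, residue C (r j) • (maximalIdeal C).toCotangent
      ⟨algebraMap A C (x j), hm.ge (Ideal.mem_map_of_mem _ (x j).2)⟩ = 0 ↔
      ∀ e, ∑ j, b.repr (r j) e * x j ∈ maximalIdeal A ^ 2 := fun r => by
    have h : (∑ j, residue C (r j) • (maximalIdeal C).toCotangent
        ⟨algebraMap A C (x j), hm.ge (Ideal.mem_map_of_mem _ (x j).2)⟩ = 0) ↔
        ∑ j, r j * algebraMap A C (x j) ∈ maximalIdeal C ^ 2 := by
      rw [show ∑ j, r j * algebraMap A C (x j : A) =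
        ((∑ j, r j • (⟨algebraMap A C (x j), hm.ge (Ideal.mem_map_of_mem _ (x j).2)⟩ : maximalIdeal C) :
          maximalIdeal C) : C) by simp [AddSubmonoidClass.coe_finsetSum],
        ← Ideal.toCotangent_eq_zero, map_sum]
      refine Eq.congr (Finset.sum_congr rfl fun j _ => ?_) rfl
      rw [map_smul, ← algebraMap_smul (ResidueField C) (r j), ResidueField.algebraMap_eq]
    rw [h, hm, ← Ideal.map_pow, SepQuot.mem_map_iff b]
    refine forall_congr' fun e => ?_
    rw [map_sum, Finsupp.finsetSum_apply]
    refine iff_of_eq (congrArg (· ∈ maximalIdeal A ^ 2) (Finset.sum_congr rfl fun j _ => ?_))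
    rw [mul_comm (r j), ← Algebra.smul_def, map_smul, Finsupp.smul_apply, smul_eq_mul, mul_comm]
  rw [Fintype.linearIndependent_iff, Fintype.linearIndependent_iff]
  constructor
  · intro h co hco j
    choose r hr using fun j => IsLocalRing.residue_surjective (R := C) (co j)
    rw [Finset.sum_congr rfl fun j _ => by rw [← hr j], e2] at hco
    rw [← hr j, residue_eq_zero_iff, hm, SepQuot.mem_map_iff b]
    exact fun e => (residue_eq_zero_iff _).1 (h _ ((e1 fun j => b.repr (r j) e).2 (hco e)) j)
  · intro h co hco j
    choose r hr using fun j => IsLocalRing.residue_surjective (R := A) (co j)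
    rw [Finset.sum_congr rfl fun j _ => by rw [← hr j], e1] at hco
    have hC := h (fun j => residue C (algebraMap A C (r j))) ((e2 _).2 fun e => by
      simp only [Algebra.algebraMap_eq_smul_one, map_smul, Finsupp.smul_apply, smul_eq_mul]
      rw [Finset.sum_congr rfl fun j _ => show r j * b.repr 1 e * (x j : A) = b.repr 1 e * (r j * x j) by ring,
        ← Finset.mul_sum]
      exact Ideal.mul_mem_left _ _ hco) j
    rw [← hr j, residue_eq_zero_iff]
    by_contra hn
    exact (mem_maximalIdeal _).1 ((residue_eq_zero_iff _).1 hC) ((notMem_maximalIdeal.1 hn).map _)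

omit [Fact p.Prime] [CharP (ResidueField A) p] in
/-- Cotangent dimension of an unramified free extension. -/
theorem finrank_cotangent_eq [IsNoetherianRing A] {C : Type*} [CommRing C] [IsLocalRing C] [Algebra A C] {κ : Type*}
    [Fintype κ] (b : Module.Basis κ A C) (hm : maximalIdeal C = (maximalIdeal A).map (algebraMap A C)) :
    Module.finrank (ResidueField A) (CotangentSpace A) = Module.finrank (ResidueField C) (CotangentSpace C) := by
  classical
  let bA := Module.finBasis (ResidueField A) (CotangentSpace A)
  choose x hx using fun i => (maximalIdeal A).toCotangent_surjective (bA i)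
  have hli := (linearIndependent_cotangent_iff b hm x).1
    (by rw [show (fun j => (maximalIdeal A).toCotangent (x j)) = bA from funext hx]; exact bA.linearIndependent)
  have hspanA : maximalIdeal A ≤ Ideal.span (Set.range fun i => (x i : A)) ⊔ maximalIdeal A ^ 2 := fun a ha => by
    choose r hr using fun i => IsLocalRing.residue_surjective (bA.repr ((maximalIdeal A).toCotangent ⟨a, ha⟩) i)
    have : (maximalIdeal A).toCotangent (⟨a, ha⟩ - ∑ i, r i • x i) = 0 := by
      rw [map_sub, map_sum, sub_eq_zero]
      conv_lhs => rw [← bA.sum_repr ((maximalIdeal A).toCotangent ⟨a, ha⟩)]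
      refine Finset.sum_congr rfl fun i _ => ?_
      rw [map_smul, ← algebraMap_smul (ResidueField A) (r i), ResidueField.algebraMap_eq, hr, hx]
    rw [Ideal.toCotangent_eq_zero] at this
    rw [← add_sub_cancel (∑ i, r i * (x i : A)) a]
    refine Submodule.add_mem_sup (Ideal.sum_mem _ fun i _ => Ideal.mul_mem_left _ _ (Ideal.subset_span ⟨i, rfl⟩)) ?_
    simpa [AddSubmonoidClass.coe_finsetSum] using this
  have hsp : ⊤ ≤ Submodule.span (ResidueField C) (Set.range fun i => (maximalIdeal C).toCotangent
      ⟨algebraMap A C (x i), hm.ge (Ideal.mem_map_of_mem _ (x i).2)⟩) := fun y _ => by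
    obtain ⟨⟨z, hz⟩, rfl⟩ := (maximalIdeal C).toCotangent_surjective y
    have hz' := (hm.trans_le (Ideal.map_mono hspanA)) hz
    rw [Ideal.map_sup, Ideal.map_span, ← Set.range_comp, Ideal.map_pow, ← hm] at hz'
    obtain ⟨s, hs, t, ht, rfl⟩ := Submodule.mem_sup.1 hz'
    obtain ⟨co, rfl⟩ := Ideal.mem_span_range_iff_exists_fun.1 hs
    have e : (maximalIdeal C).toCotangent ⟨_, hz⟩ = ∑ i, residue C (co i) • (maximalIdeal C).toCotangent
        ⟨algebraMap A C (x i), hm.ge (Ideal.mem_map_of_mem _ (x i).2)⟩ := by
      rw [show (⟨_, hz⟩ : maximalIdeal C) = (∑ i, co i • ⟨algebraMap A C (x i), hm.ge (Ideal.mem_map_of_mem _ (x i).2)⟩) +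
        ⟨t, Ideal.pow_le_self two_ne_zero ht⟩ from Subtype.ext (by simp [AddSubmonoidClass.coe_finsetSum]), map_add,
        show (maximalIdeal C).toCotangent ⟨t, _⟩ = 0 from (Ideal.toCotangent_eq_zero _ _).2 ht, add_zero, map_sum]
      refine Finset.sum_congr rfl fun i _ => ?_
      rw [map_smul, ← algebraMap_smul (ResidueField C) (co i), ResidueField.algebraMap_eq]
    rw [e]
    exact Submodule.sum_mem _ fun i _ => Submodule.smul_mem _ _ (Submodule.subset_span ⟨i, rfl⟩)
  rw [Module.finrank_eq_card_basis (Module.Basis.mk hli hsp), Fintype.card_fin]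

end Groth.Agent.EGA41Lib.PPoly
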