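import Mathlib
import Groth.Agent.EGA41Lib.PPolyQuotient
import Groth.Agent.EGA41Lib.PBasisKaehler
import Groth.Agent.CAlgH.FieldSmooth
import Groth.Agent.EGA41Lib.FieldSeparableSmooth

/-!
# Cotangent spaces of quotients by `p`-polynomials
-/

set_option autoImplicit false
set_option maxHeartbeats 1000000
set_option backward.isDefEq.respectTransparency.types false

universe u

open IsLocalRing TrivSqZeroExt TensorProduct
open scoped Groth.Agent.EGA41Lib.EisCot

namespace Groth.Agent.EGA41Lib.PPoly

variable {A : Type u} [CommRing A] [IsLocalRing A] (p : ℕ) [Fact p.Prime] [CharP (ResidueField A) p]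

omit [Fact p.Prime] [CharP (ResidueField A) p] in
/-- A retraction onto the cotangent space, when `p ∈ 𝔪²`. -/
theorem exists_derivation_cotangent [Fact p.Prime] [CharP (ResidueField A) p] (hp : (p : A) ∈ maximalIdeal A ^ 2) :
    ∃ D : Derivation ℤ A (CotangentSpace A), ∀ x : maximalIdeal A, D x = (maximalIdeal A).toCotangent x := by
  let A2 := A ⧸ maximalIdeal A ^ 2
  let K := ResidueField A
  have hp2 : (p : A2) = 0 := by
    rw [← map_natCast (Ideal.Quotient.mk (maximalIdeal A ^ 2)), Ideal.Quotient.eq_zero_iff_mem]; exact hp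
  haveI : Nontrivial A2 := Ideal.Quotient.nontrivial_iff.2
    (ne_top_of_le_ne_top (maximalIdeal.isMaximal A).ne_top (Ideal.pow_le_self two_ne_zero))
  haveI : CharP A2 p := (CharP.charP_iff_prime_eq_zero Fact.out).2 hp2
  letI : Algebra (ZMod p) A2 := ZMod.algebra A2 p
  letI : Algebra (ZMod p) K := ZMod.algebra K p
  haveI : Algebra.FormallySmooth (ZMod p) K := CAlgH.formallySmooth_of_perfectField_any (ZMod p) K
  let π : A2 →ₐ[ZMod p] K :=
    { Ideal.Quotient.lift (maximalIdeal A ^ 2) (residue A)
        (fun x hx => (residue_eq_zero_iff x).2 (Ideal.pow_le_self two_ne_zero hx)) with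
      commutes' := fun r => RingHom.congr_fun (RingHom.ext_zmod ((Ideal.Quotient.lift (maximalIdeal A ^ 2) (residue A)
        (fun x hx => (residue_eq_zero_iff x).2 (Ideal.pow_le_self two_ne_zero hx))).comp (algebraMap (ZMod p) A2))
        (algebraMap (ZMod p) K)) r }
  have hπ : ∀ a : A, π (Ideal.Quotient.mk _ a) = residue A a := fun a => rfl
  have hker : IsNilpotent (RingHom.ker π) := ⟨2, by
    have hle : RingHom.ker π ≤ (maximalIdeal A).map (Ideal.Quotient.mk (maximalIdeal A ^ 2)) := fun z hz => by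
      obtain ⟨a, rfl⟩ := Ideal.Quotient.mk_surjective z
      exact Ideal.mem_map_of_mem _ ((residue_eq_zero_iff a).1 ((hπ a).symm.trans hz))
    refine le_bot_iff.1 ((Ideal.pow_right_mono hle 2).trans ?_)
    rw [← Ideal.map_pow, Ideal.map_quotient_self]⟩
  have hsurj : Function.Surjective π := fun z => by
    obtain ⟨a, rfl⟩ := IsLocalRing.residue_surjective z; exact ⟨Ideal.Quotient.mk _ a, rfl⟩
  obtain ⟨σ, hσ⟩ : ∃ σ : K →ₐ[ZMod p] A2, π.comp σ = AlgHom.id _ K :=
    ⟨Algebra.FormallySmooth.liftOfSurjective (AlgHom.id (ZMod p) K) π hsurj hker,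
      AlgHom.ext fun x => Algebra.FormallySmooth.liftOfSurjective_apply (AlgHom.id (ZMod p) K) π hsurj hker x⟩
  choose s hs using fun k : K => Ideal.Quotient.mk_surjective (σ k)
  have hres : ∀ k, residue A (s k) = k := fun k => by
    rw [← hπ, hs]; exact AlgHom.congr_fun hσ k
  have hmem : ∀ a, a - s (residue A a) ∈ maximalIdeal A := fun a => by
    rw [← residue_eq_zero_iff, map_sub, hres, sub_self]
  let F : A → CotangentSpace A := fun a => (maximalIdeal A).toCotangent ⟨_, hmem a⟩
  have heq : ∀ (a b : maximalIdeal A), (a : A) - b ∈ maximalIdeal A ^ 2 →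
      (maximalIdeal A).toCotangent a = (maximalIdeal A).toCotangent b := fun a b h => (Ideal.toCotangent_eq _).2 h
  let D0 : A →+ CotangentSpace A :=
    { toFun := F
      map_zero' := (Ideal.toCotangent_eq_zero _ _).2 (by
        show (0 : A) - s (residue A 0) ∈ _
        rw [map_zero, zero_sub, neg_mem_iff, ← Ideal.Quotient.eq_zero_iff_mem, hs, map_zero])
      map_add' := fun a b => by
        show F (a + b) = F a + F b
        rw [← map_add]
        refine heq _ _ ?_
        show a + b - s (residue A (a + b)) - (a - s (residue A a) + (b - s (residue A b))) ∈ _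
        rw [← Ideal.Quotient.eq_zero_iff_mem]
        simp only [map_sub, map_add, hs]
        abel }
  refine ⟨Derivation.mk' D0.toIntLinearMap fun a b => ?_, fun x => ?_⟩
  · show F (a * b) = a • F b + b • F a
    rw [← map_smul, ← map_smul, ← map_add]
    refine heq _ _ ?_
    show a * b - s (residue A (a * b)) - (a * (b - s (residue A b)) + b * (a - s (residue A a))) ∈ _
    have h1 : s (residue A (a * b)) - s (residue A a) * s (residue A b) ∈ maximalIdeal A ^ 2 := by
      rw [← Ideal.Quotient.eq_zero_iff_mem, map_sub, map_mul (Ideal.Quotient.mk _) (s (residue A a)) (s (residue A b)), hs, hs, hs,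
        map_mul (residue A), map_mul σ, sub_self]
    rw [show a * b - s (residue A (a * b)) - (a * (b - s (residue A b)) + b * (a - s (residue A a))) =
      -(s (residue A (a * b)) - s (residue A a) * s (residue A b)) -
        (a - s (residue A a)) * (b - s (residue A b)) by ring]
    refine sub_mem (neg_mem h1) ?_
    rw [pow_two]
    exact Ideal.mul_mem_mul (hmem a) (hmem b)
  · show F x = _
    refine heq _ _ ?_
    show (x : A) - s (residue A x) - x ∈ _
    rw [(residue_eq_zero_iff (x : A)).2 x.2, sub_sub_cancel_left, neg_mem_iff, ← Ideal.Quotient.eq_zero_iff_mem, hs, map_zero]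

/-- `1 ⊗ dx`. -/
noncomputable abbrev dRes (a : A) : ResidueField A ⊗[A] Ω[A⁄ℤ] :=
  (1 : ResidueField A) ⊗ₜ[A] KaehlerDifferential.D ℤ A a

omit [Fact p.Prime] [CharP (ResidueField A) p] in
theorem dRes_add (a b : A) : dRes (a + b) = dRes a + dRes b := by
  rw [dRes, map_add, TensorProduct.tmul_add]

omit [Fact p.Prime] [CharP (ResidueField A) p] in
theorem dRes_mul (a b : A) : dRes (a * b) = residue A a • dRes b + residue A b • dRes a := by
  simp only [dRes, Derivation.leibniz, TensorProduct.tmul_add, TensorProduct.tmul_smul,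
    ← ResidueField.algebraMap_eq, algebraMap_smul]

theorem dRes_pow (a : A) : dRes (a ^ p) = 0 := by
  rw [dRes, Derivation.leibniz_pow, TensorProduct.tmul_smul, ← Nat.cast_smul_eq_nsmul (ResidueField A),
    CharP.cast_eq_zero, zero_smul]

/-- The conormal map is injective modulo `𝔪²`. -/
theorem dRes_eq_zero_iff (hp : (p : A) ∈ maximalIdeal A ^ 2) {x : A} (hx : x ∈ maximalIdeal A) :
    dRes x = 0 ↔ x ∈ maximalIdeal A ^ 2 := by
  refine ⟨fun h => ?_, fun h => ?_⟩
  · obtain ⟨D, hD⟩ := exists_derivation_cotangent p hp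
    have := congrArg (LinearMap.liftBaseChange (ResidueField A) D.liftKaehlerDifferential) h
    rw [dRes, LinearMap.liftBaseChange_tmul, one_smul, Derivation.liftKaehlerDifferential_comp_D, map_zero,
      hD ⟨x, hx⟩, Ideal.toCotangent_eq_zero] at this
    exact this
  · rw [pow_two] at h
    refine Submodule.mul_induction_on h (fun a ha b hb => ?_) fun a b ha hb => by rw [dRes_add, ha, hb, add_zero]
    rw [dRes_mul, (residue_eq_zero_iff a).2 ha, (residue_eq_zero_iff b).2 hb, zero_smul, zero_smul, add_zero]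

variable {σ : Type} [Fintype σ] [DecidableEq σ] [IsNoetherianRing A]

/-- Passing between the differentials of the `f_i` and the corrected constant terms. -/
theorem translate (hp : (p : A) ∈ maximalIdeal A ^ 2) (f : σ → A) {S : Set σ} [DecidablePred (· ∈ S)]
    (hdS : LinearIndependent (ResidueField A) fun i : S => KaehlerDifferential.D ℤ (ResidueField A) (residue A (f i)))
    (γ h : {i : σ // i ∉ S} → A) (hγ : ∀ j, γ j ∈ maximalIdeal A) (hsum : ∀ j : {i : σ // i ∉ S}, f j = γ j + h j)
    (hV : ∀ j, dRes (h j) ∈ Submodule.span (ResidueField A) (Set.range fun i : S => dRes (f i))) :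
    LinearIndependent (ResidueField A) (fun j => (maximalIdeal A).toCotangent ⟨γ j, hγ j⟩) ↔
      LinearIndependent (ResidueField A) fun i => dRes (f i) := by
  classical
  let K := ResidueField A
  let J := {i : σ // i ∉ S}
  let V : Submodule K (K ⊗[A] Ω[A⁄ℤ]) := Submodule.span K (Set.range fun i : S => dRes (f i))
  have hγD : ∀ r : J → A, ∑ j, residue A (r j) • dRes (γ j) = 0 ↔
      ∑ j, residue A (r j) • (maximalIdeal A).toCotangent ⟨γ j, hγ j⟩ = 0 := fun r => by
    have h1 : ∑ j, residue A (r j) • dRes (γ j) = dRes (∑ j, r j * γ j) := by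
      have : ∀ s : Finset J, dRes (∑ j ∈ s, r j * γ j) = ∑ j ∈ s, residue A (r j) • dRes (γ j) := fun s => by
        induction s using Finset.induction_on with
        | empty =>
          rw [Finset.sum_empty, Finset.sum_empty]
          show (1 : ResidueField A) ⊗ₜ[A] KaehlerDifferential.D ℤ A 0 = 0
          rw [map_zero, TensorProduct.tmul_zero]
        | insert x s hx ih =>
          rw [Finset.sum_insert hx, Finset.sum_insert hx, dRes_add, ih, dRes_mul, (residue_eq_zero_iff _).2 (hγ x),
            zero_smul, add_zero]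
      exact (this _).symm
    rw [h1, dRes_eq_zero_iff p hp (Ideal.sum_mem _ fun j _ => Ideal.mul_mem_left _ _ (hγ j)),
      show ∑ j, r j * γ j = ((∑ j, r j • (⟨γ j, hγ j⟩ : maximalIdeal A) : maximalIdeal A) : A) by
        simp [AddSubmonoidClass.coe_finsetSum],
      ← Ideal.toCotangent_eq_zero, map_sum]
    refine Eq.congr (Finset.sum_congr rfl fun j _ => ?_) rfl
    rw [map_smul, ← algebraMap_smul (ResidueField A) (r j), ResidueField.algebraMap_eq]
  -- images in the differentials of the residue field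
  let π : K ⊗[A] Ω[A⁄ℤ] →ₗ[K] Ω[K⁄ℤ] := KaehlerDifferential.mapBaseChange ℤ A K
  have hπ : ∀ x : A, π (dRes x) = KaehlerDifferential.D ℤ K (residue A x) := fun x => by
    show KaehlerDifferential.mapBaseChange ℤ A K ((1 : K) ⊗ₜ[A] KaehlerDifferential.D ℤ A x) = _
    rw [KaehlerDifferential.mapBaseChange_tmul, KaehlerDifferential.map_D, one_smul, IsLocalRing.ResidueField.algebraMap_eq]
  have hVk : ∀ v ∈ V, π v = 0 → v = 0 := fun v hv h0 => by
    obtain ⟨co, rfl⟩ := (Submodule.mem_span_range_iff_exists_fun K).1 hv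
    rw [map_sum] at h0
    simp only [map_smul, hπ] at h0
    have := Fintype.linearIndependent_iff.1 hdS co h0
    exact Finset.sum_eq_zero fun i _ => by rw [this i, zero_smul]
  have hπγ : ∀ j, π (dRes (γ j)) = 0 := fun j => by
    rw [hπ, (residue_eq_zero_iff _).2 (hγ j), map_zero]
  have hfj : ∀ j : J, dRes (f j) = dRes (γ j) + dRes (h j) := fun j => by
    rw [← dRes_add, ← hsum]
  constructor
  · intro hli
    rw [Fintype.linearIndependent_iff]
    intro co hco
    rw [← Fintype.sum_subtype_add_sum_subtype (fun i => i ∈ S) (fun i => co i • dRes (f i))] at hco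
    simp only [hfj, smul_add, Finset.sum_add_distrib] at hco
    have hsum1 : ∑ i : {i // i ∈ S}, co i • dRes (f i) ∈ V :=
      Submodule.sum_mem _ fun i _ => V.smul_mem _ (Submodule.subset_span ⟨i, rfl⟩)
    have hsum2 : ∑ j : J, co j • dRes (h j) ∈ V := Submodule.sum_mem _ fun j _ => V.smul_mem _ (hV j)
    have hv : ∑ i : {i // i ∈ S}, co i • dRes (f i) + ∑ j : J, co j • dRes (h j) = -∑ j : J, co j • dRes (γ j) := by
      rw [eq_neg_iff_add_eq_zero, ← hco]; abel
    have hz := hVk _ (add_mem hsum1 hsum2) (by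
      rw [hv, map_neg, map_sum, Finset.sum_eq_zero (fun j _ => by rw [map_smul, hπγ, smul_zero]), neg_zero])
    rw [hz, eq_comm, neg_eq_zero] at hv
    choose r hr using fun j : J => IsLocalRing.residue_surjective (co j)
    have hJ : ∀ j : J, co j = 0 := fun j => by
      rw [← hr j]
      refine Fintype.linearIndependent_iff.1 hli (fun j => residue A (r j)) ((hγD r).1 ?_) j
      rw [← hv]; exact Finset.sum_congr rfl fun j _ => by rw [hr]
    have h0 : ∑ j : J, co j • dRes (h j) = 0 := Finset.sum_eq_zero fun j _ => by rw [hJ, zero_smul]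
    rw [h0, add_zero] at hz
    have hS0 := Fintype.linearIndependent_iff.1 hdS (fun i => co i) (by
      have := congrArg π hz
      rw [map_sum, map_zero] at this
      simpa only [map_smul, hπ] using this)
    intro i
    by_cases hi : i ∈ S
    · exact hS0 ⟨i, hi⟩
    · exact hJ ⟨i, hi⟩
  · intro hli
    rw [Fintype.linearIndependent_iff]
    intro co hco
    choose r hr using fun j : J => IsLocalRing.residue_surjective (co j)
    have h0 : ∑ j : J, co j • dRes (γ j) = 0 := by
      rw [Finset.sum_congr rfl fun j _ => by rw [← hr j]]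
      exact (hγD r).2 (by rw [Finset.sum_congr rfl fun j _ => by rw [hr j]]; exact hco)
    have hin : ∑ j : J, co j • dRes (h j) ∈ V := Submodule.sum_mem _ fun j _ => V.smul_mem _ (hV j)
    obtain ⟨e, he⟩ := (Submodule.mem_span_range_iff_exists_fun K).1 hin
    let w : σ → K := fun i => if hi : i ∈ S then - e ⟨i, hi⟩ else co ⟨i, hi⟩
    have hw := Fintype.linearIndependent_iff.1 hli w (by
      rw [← Fintype.sum_subtype_add_sum_subtype (fun i => i ∈ S) (fun i => w i • dRes (f i))]
      rw [Finset.sum_congr rfl fun (i : {i // i ∈ S}) _ =>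
          show w i • dRes (f i) = -(e i • dRes (f i)) by rw [show w i = -e i from dif_pos i.2]; exact neg_smul (R := K) (e i) (dRes (f i)),
        Finset.sum_congr rfl fun (j : J) _ =>
          show w j • dRes (f j) = co j • dRes (γ j) + co j • dRes (h j) by
            rw [show w j = co j from dif_neg j.2, hfj, smul_add],
        Finset.sum_add_distrib, h0, zero_add, Finset.sum_neg_distrib, ← he]
      exact neg_add_cancel _)
    intro j
    rw [← show w j = co j from dif_neg j.2]
    exact hw j


/-- Dimension criterion for quotients by `p`-polynomials. -/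
theorem main (hp : (p : A) ∈ maximalIdeal A ^ 2) (c : σ → Fin p → A) (f : σ → A) :
    ∃ _ : IsLocalRing (SepQuot.Alg fun i => poly p (c i) (f i)),
      (Module.finrank (ResidueField A) (CotangentSpace A) =
          Module.finrank (ResidueField (SepQuot.Alg fun i => poly p (c i) (f i)))
            (CotangentSpace (SepQuot.Alg fun i => poly p (c i) (f i))) ↔
        LinearIndependent (ResidueField A) fun i => dRes (f i)) := by
  classical
  let K := ResidueField A
  let a : σ → K := fun i => residue A (f i)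
  have hprime : p.Prime := Fact.out
  -- a maximal `p`-independent part of the residues
  obtain ⟨S, -, -, hS, hgenS⟩ := PB.exists_indOn_between (PB.pow_mem_range_powAlg p ℤ) PB.powAlg_injective a
    (Set.empty_subset (Set.univ : Set σ)) (PB.indOn_empty (PB.pow_mem_range_powAlg p ℤ) PB.powAlg_injective a)
  have hdS : LinearIndependent K fun i : S => KaehlerDifferential.D ℤ K (a i) :=
    PB.linearIndependent_D_of_indOn p ℤ a S hS
  have hmem_pow : ∀ z : PB.powAlg p ℤ K, ∃ y : K, y ^ p = (z : K) := fun z =>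
    exists_pow_eq_of_mem_powAlg (E := K) ℤ p (exists_pow_eq_algebraMap_int p) z.2
  have hindS : Indep p fun i : S => a i := fun r hr => by
    have hli := PB.linearIndependent_comp_of_indOn (p := p) (M := PB.powAlg p ℤ K) (K := K) (x := a)
      (f := (Subtype.val : S → σ)) (hf := Subtype.val_injective) (hs := fun i => i.2) (h := hS)
    let em : (↥S → Fin p) → PB.Red p S := fun e =>
      ⟨Finsupp.equivFunOnFinite.symm fun i => (e i : ℕ), fun i => (e i).2⟩
    have hem : Function.Injective em := fun e e' h => funext fun i =>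
      Fin.ext (DFunLike.congr_fun (congrArg Subtype.val h) i)
    have h0 := Fintype.linearIndependent_iff.1 (hli.comp em hem)
      (fun e => (⟨r e ^ p, Algebra.subset_adjoin ⟨r e, rfl⟩⟩ : PB.powAlg p ℤ K)) (by
        refine Eq.trans (Finset.sum_congr rfl fun e _ => ?_) hr
        show r e ^ p * PB.mon _ _ = _
        rw [PB.mon, Finsupp.prod_fintype _ _ (fun i => pow_zero _)]
        rfl)
    funext e
    exact (pow_eq_zero_iff hprime.ne_zero).1 (congrArg Subtype.val (h0 e))
  let g₁ := fun i : S => poly p (c i) (f i)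
  let g := fun i => poly p (c i) (f i)
  obtain ⟨hloc1, hmax1⟩ := isLocalRing_of_indep p (fun i : S => c i) (fun i : S => f i) hindS
  let A1 := SepQuot.Alg g₁
  let B := SepQuot.Alg g
  haveI : IsLocalRing A1 := hloc1
  have hm1 : maximalIdeal A1 = (maximalIdeal A).map (algebraMap A A1) := hmax1 _ (maximalIdeal.isMaximal _)
  have hmon1 : ∀ i : S, (g₁ i).Monic := fun i => poly_monic p _ _
  have hmon : ∀ i, (g i).Monic := fun i => poly_monic p _ _
  haveI : Module.Finite A A1 := SepQuot.moduleFinite g₁ hmon1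
  haveI : Module.Finite A B := SepQuot.moduleFinite g hmon
  haveI : IsNoetherianRing A1 := isNoetherian_of_tower A (inferInstance : IsNoetherian A A1)
  haveI : Nontrivial B := (SepQuot.nontrivial g hmon (fun i => by
    show 0 < (poly p (c i) (f i)).natDegree
    rw [poly_natDegree]; exact hprime.pos)).nontrivial
  obtain ⟨b1, -⟩ := SepQuot.exists_basis g₁ hmon1
  obtain ⟨ι₁, hι₁⟩ := SepQuot.exists_lift g₁ (fun i : S => SepQuot.gen g i) (fun i => SepQuot.aeval_gen g i)
  letI : Algebra A1 B := ι₁.toRingHom.toAlgebra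
  haveI : @IsScalarTower A A1 B Algebra.toSMul Algebra.toSMul Algebra.toSMul := IsScalarTower.of_algebraMap_eq fun x => (ι₁.commutes x).symm
  haveI : Module.Finite A1 B := Module.Finite.of_restrictScalars_finite A A1 B
  have hp1 : (p : A1) ∈ maximalIdeal A1 ^ 2 := by
    rw [hm1, ← Ideal.map_pow, ← map_natCast (algebraMap A A1)]; exact Ideal.mem_map_of_mem _ hp
  -- the remaining residues are `p`-th powers plus combinations of the chosen ones
  let V : Submodule K (K ⊗[A] Ω[A⁄ℤ]) := Submodule.span K (Set.range fun i : S => dRes (f i))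
  have hQ : ∀ y ∈ Algebra.adjoin (PB.powAlg p ℤ K) (a '' S), ∃ (h : A) (P : A1), residue A h = y ∧
      algebraMap A A1 h - P ^ p ∈ maximalIdeal A1 ^ 2 ∧ dRes h ∈ V := by
    intro y hy
    induction hy using Algebra.adjoin_induction with
    | mem y hy =>
      obtain ⟨i, hi, rfl⟩ := hy
      refine ⟨f i, SepQuot.gen g₁ ⟨i, hi⟩, rfl, ?_, Submodule.subset_span ⟨⟨i, hi⟩, rfl⟩⟩
      obtain ⟨r, hr⟩ := exists_aeval_poly p (c i) (f i) (SepQuot.gen g₁ ⟨i, hi⟩)
      have h0 : Polynomial.aeval (SepQuot.gen g₁ ⟨i, hi⟩) (poly p (c i) (f i)) = 0 := SepQuot.aeval_gen g₁ ⟨i, hi⟩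
      rw [hr, sub_eq_zero] at h0
      rw [← h0, add_sub_cancel_left]
      exact Ideal.mul_mem_right _ _ hp1
    | algebraMap z =>
      obtain ⟨y, hy⟩ := hmem_pow z
      obtain ⟨h, rfl⟩ := IsLocalRing.residue_surjective y
      refine ⟨h ^ p, algebraMap A A1 h, by rw [map_pow, hy]; rfl, by rw [map_pow, sub_self]; exact zero_mem _, ?_⟩
      rw [dRes_pow]; exact zero_mem _
    | add x y _ _ hx hy =>
      obtain ⟨h, P, rfl, hP, hV⟩ := hx
      obtain ⟨h', P', rfl, hP', hV'⟩ := hy
      refine ⟨h + h', P + P', map_add _ _ _, ?_, by rw [dRes_add]; exact add_mem hV hV'⟩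
      obtain ⟨r, hr⟩ := exists_add_pow_prime_eq hprime P P'
      rw [hr, map_add, show algebraMap A A1 h + algebraMap A A1 h' - (P ^ p + P' ^ p + p * P * P' * r) =
        (algebraMap A A1 h - P ^ p) + (algebraMap A A1 h' - P' ^ p) - p * (P * P' * r) by ring]
      exact sub_mem (add_mem hP hP') (Ideal.mul_mem_right _ _ hp1)
    | mul x y _ _ hx hy =>
      obtain ⟨h, P, rfl, hP, hV⟩ := hx
      obtain ⟨h', P', rfl, hP', hV'⟩ := hy
      refine ⟨h * h', P * P', map_mul _ _ _, ?_, ?_⟩
      · rw [map_mul, mul_pow, show algebraMap A A1 h * algebraMap A A1 h' - P ^ p * P' ^ p =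
          (algebraMap A A1 h - P ^ p) * algebraMap A A1 h' + P ^ p * (algebraMap A A1 h' - P' ^ p) by ring]
        exact add_mem (Ideal.mul_mem_right _ _ hP) (Ideal.mul_mem_left _ _ hP')
      · rw [dRes_mul]; exact add_mem (V.smul_mem _ hV') (V.smul_mem _ hV)
  let J := {i : σ // i ∉ S}
  choose h P hres hP hV using fun j : J => hQ (a j) (hgenS j (Set.mem_univ _))
  let γ : J → A := fun j => f j - h j
  have hγ : ∀ j, γ j ∈ maximalIdeal A := fun j => by
    rw [← residue_eq_zero_iff, map_sub, hres, sub_self]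
  let g' : J → A1 := fun j => algebraMap A A1 (γ j)
  have hg' : ∀ j, g' j ∈ maximalIdeal A1 := fun j => hm1.ge (Ideal.mem_map_of_mem _ (hγ j))
  haveI : Nontrivial (A1 ⧸ EisCot.cutIdeal g') := Ideal.Quotient.nontrivial_iff.2
    (ne_top_of_le_ne_top (maximalIdeal.isMaximal A1).ne_top (EisCot.cutIdeal_le g' hg'))
  haveI : IsLocalRing (A1 ⧸ EisCot.cutIdeal g') := IsLocalRing.of_surjective' _ Ideal.Quotient.mk_surjective
  let u : J → B := fun j => SepQuot.gen g j - algebraMap A1 B (P j)
  -- the relation satisfied by the new generators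
  let N : Ideal B := (maximalIdeal A1 ^ 2).map (algebraMap A1 B)
  have hpN : (p : B) ∈ N := by rw [← map_natCast (algebraMap A1 B)]; exact Ideal.mem_map_of_mem _ hp1
  have hkey : ∀ j, u j ^ p - algebraMap A1 B (g' j) ∈ N := fun j => by
    obtain ⟨r, hr⟩ := exists_add_pow_prime_eq hprime (u j) (algebraMap A1 B (P j))
    rw [sub_add_cancel] at hr
    obtain ⟨r', hr'⟩ := exists_aeval_poly p (c j) (f j) (SepQuot.gen g j)
    have h0 : Polynomial.aeval (SepQuot.gen g j) (poly p (c j) (f j)) = 0 := SepQuot.aeval_gen g j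
    rw [hr', sub_eq_zero, hr] at h0
    have e : u j ^ p - algebraMap A1 B (g' j) =
        algebraMap A1 B (algebraMap A A1 (h j) - P j ^ p) -
          (p : B) * (u j * algebraMap A1 B (P j) * r + r') := by
      simp only [g', γ, map_sub, ← IsScalarTower.algebraMap_apply, map_pow]
      rw [← h0]; ring
    rw [e]
    exact sub_mem (Ideal.mem_map_of_mem _ (hP j)) (Ideal.mul_mem_right _ _ hpN)
  have hgen : Algebra.adjoin A1 (Set.range u) = ⊤ := by
    refine eq_top_iff.2 fun x _ => ?_
    have hx : x ∈ Algebra.adjoin A (Set.range (SepQuot.gen g)) := by rw [SepQuot.adjoin_gen]; exact Algebra.mem_top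
    induction hx using Algebra.adjoin_induction with
    | mem y hy =>
      obtain ⟨i, rfl⟩ := hy
      by_cases hi : i ∈ S
      · exact (hι₁ ⟨i, hi⟩) ▸ Subalgebra.algebraMap_mem _ (SepQuot.gen g₁ ⟨i, hi⟩)
      · rw [show SepQuot.gen g i = u ⟨i, hi⟩ + algebraMap A1 B (P ⟨i, hi⟩) by simp [u]]
        exact add_mem (Algebra.subset_adjoin ⟨_, rfl⟩) (Subalgebra.algebraMap_mem _ _)
    | algebraMap r => rw [IsScalarTower.algebraMap_apply A A1 B]; exact Subalgebra.algebraMap_mem _ _
    | add x y _ _ hx hy => exact add_mem (hx trivial) (hy trivial)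
    | mul x y _ _ hx hy => exact mul_mem (hx trivial) (hy trivial)
  have hN : ∀ M : Ideal B, M.IsMaximal → (maximalIdeal A1).map (algebraMap A1 B) ≤ M := fun M hM =>
    Ideal.map_le_iff_le_comap.2
      (IsLocalRing.eq_maximalIdeal (Ideal.isMaximal_comap_of_isIntegral_of_isMaximal (R := A1) M)).ge
  have hnil : ∀ M : Ideal B, M.IsMaximal → ∀ j, u j ∈ M := fun M hM j => by
    refine hM.isPrime.mem_of_pow_mem p ?_
    rw [← sub_add_cancel (u j ^ p) (algebraMap A1 B (g' j))]
    exact add_mem ((Ideal.map_mono (Ideal.pow_le_self two_ne_zero)).trans (hN M hM) (hkey j))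
      (hN M hM (Ideal.mem_map_of_mem _ (hg' j)))
  obtain ⟨hlocB, -⟩ := isLocalRing_of_gen u hgen hnil
  refine ⟨hlocB, ?_⟩
  have hdata : EisCot.Data B u g' := by
    refine ⟨hN _ (maximalIdeal.isMaximal _), hnil _ (maximalIdeal.isMaximal _), hg', fun j => ?_, hgen, ?_⟩
    · rw [← sub_sub_cancel (u j ^ p) (algebraMap A1 B (g' j))]
      refine sub_mem (Ideal.pow_le_pow_right hprime.two_le (Ideal.pow_mem_pow (hnil _ (maximalIdeal.isMaximal _) j) p)) ?_
      refine (?_ : N ≤ maximalIdeal B ^ 2) (hkey j)
      show Ideal.map _ _ ≤ _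
      rw [Ideal.map_pow]
      exact Ideal.pow_right_mono (hN _ (maximalIdeal.isMaximal _)) 2
    · let R0 := A1 ⧸ EisCot.cutIdeal g'
      let D := TrivSqZeroExt R0 (J → ResidueField R0)
      have hpD : (p : D) = 0 := by
        rw [← map_natCast (algebraMap A1 D), TrivSqZeroExt.algebraMap_eq_inl', Ideal.Quotient.algebraMap_eq,
          Ideal.Quotient.eq_zero_iff_mem.2 (show (p : A1) ∈ EisCot.cutIdeal g' from Ideal.mem_sup_left hp1), inl_zero]
      let z : σ → D := fun i => if hi : i ∈ S then algebraMap A1 D (SepQuot.gen g₁ ⟨i, hi⟩)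
        else algebraMap A1 D (P ⟨i, hi⟩) + inr (Pi.single ⟨i, hi⟩ 1)
      obtain ⟨φ, hφ⟩ := SepQuot.exists_lift g z (fun i => by
        obtain ⟨r, hr⟩ := exists_aeval_poly p (c i) (f i) (z i)
        show Polynomial.aeval (z i) (poly p (c i) (f i)) = 0
        rw [hr, hpD, zero_mul, add_zero, sub_eq_zero]
        by_cases hi : i ∈ S
        · simp only [z, dif_pos hi]
          obtain ⟨r', hr'⟩ := exists_aeval_poly p (c i) (f i) (SepQuot.gen g₁ ⟨i, hi⟩)
          have h0 : Polynomial.aeval (SepQuot.gen g₁ ⟨i, hi⟩) (poly p (c i) (f i)) = 0 := SepQuot.aeval_gen g₁ ⟨i, hi⟩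
          rw [hr', sub_eq_zero] at h0
          rw [IsScalarTower.algebraMap_apply A A1 D, ← h0, map_add, map_mul, map_natCast, hpD, zero_mul, add_zero,
            map_pow]
        · simp only [z, dif_neg hi]
          obtain ⟨r', hr'⟩ := exists_add_pow_prime_eq hprime (algebraMap A1 D (P ⟨i, hi⟩))
            (inr (Pi.single ⟨i, hi⟩ 1) : D)
          have hsq : (inr (Pi.single ⟨i, hi⟩ 1) : D) ^ p = 0 := by
            rw [← Nat.sub_add_cancel hprime.two_le, pow_add, pow_two]
            simp [inr_mul_inr]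
          rw [hr', hsq, hpD, zero_mul, zero_mul, zero_mul, add_zero, add_zero, ← map_pow,
            IsScalarTower.algebraMap_apply A A1 D, ← sub_eq_zero, ← map_sub, TrivSqZeroExt.algebraMap_eq_inl',
            Ideal.Quotient.algebraMap_eq, Ideal.Quotient.eq_zero_iff_mem.2 ?_, inl_zero]
          rw [show P ⟨i, hi⟩ ^ p - algebraMap A A1 (f i) =
            -(algebraMap A A1 (h ⟨i, hi⟩) - P ⟨i, hi⟩ ^ p) - g' ⟨i, hi⟩ by simp [g', γ]]
          exact sub_mem (neg_mem (Ideal.mem_sup_left (hP ⟨i, hi⟩))) (Ideal.mem_sup_right (Ideal.subset_span ⟨_, rfl⟩)))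
      have hcomp : φ.comp ι₁ = IsScalarTower.toAlgHom A A1 D := SepQuot.algHom_ext g₁ fun i => by
        rw [AlgHom.comp_apply, hι₁, hφ, IsScalarTower.toAlgHom_apply]
        simp only [z, dif_pos i.2]
        rfl
      refine ⟨{ φ.toRingHom with commutes' := fun x => AlgHom.congr_fun hcomp x }, fun j => ?_⟩
      show φ (u j) = _
      rw [map_sub, hφ, show φ (algebraMap A1 B (P j)) = algebraMap A1 D (P j) from AlgHom.congr_fun hcomp _]
      simp only [z, dif_neg j.2]
      exact add_sub_cancel_left _ _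
  -- translate to differentials
  rw [finrank_cotangent_eq (C := A1) b1 hm1, hdata.finrank_eq_iff,
    ← linearIndependent_cotangent_iff b1 hm1 (fun j => (⟨γ j, hγ j⟩ : maximalIdeal A))]
  exact translate p hp f (S := S) hdS γ h hγ (fun j => (sub_add_cancel _ _).symm) hV

end Groth.Agent.EGA41Lib.PPoly
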