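import Groth.Agent.EGA41Lib.PBasisKaehler
import Mathlib.RingTheory.Nilpotent.GeometricallyReduced
import Mathlib.RingTheory.TensorProduct.Free
import Mathlib.LinearAlgebra.Basis.VectorSpace
import Mathlib.RingTheory.AlgebraTower

/-!
# Separable extensions of fields of characteristic `p` and differentials

EGA 0, 20.6.3 and 21.4: Mac Lane's criterion, and its translation into injectivity on differentials.
-/

set_option autoImplicit false

universe v v' w

open TensorProduct

namespace Groth.Agent.EGA41Lib.PB

variable (p : ℕ) [hp : Fact p.Prime] {E : Type v} {F : Type v'} [Field E] [Field F] [Algebra E F] [CharP F p]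

variable (E F) in
/-- Mac Lane's criterion. -/
def MacLane : Prop := ∀ {ι : Type v'} (s : ι → F), LinearIndependent E s → LinearIndependent E fun i => s i ^ p

omit hp [CharP F p] in
/-- Coefficients of a tensor on an independent family. -/
theorem tmul_sum_eq_zero {L : Type*} [Field L] [Algebra E L] {ι : Type*} {s : ι → F}
    (hs : LinearIndependent E s) (t : Finset ι) (r : ι → L) (h : ∑ i ∈ t, r i ⊗ₜ[E] s i = 0) :
    ∀ i ∈ t, r i = 0 := by
  classical
  have hs' := hs.linearIndepOn_id
  let B := Module.Basis.extend hs'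
  have hB : ∀ i, ∃ e, B e = s i ∧ (e : F) = s i := fun i =>
    ⟨⟨s i, hs'.subset_extend _ ⟨i, rfl⟩⟩, Module.Basis.extend_apply_self _ _, rfl⟩
  choose e he he' using hB
  intro i hi
  have h2 := congrArg (fun z => (Algebra.TensorProduct.basis L B).repr z (e i)) h
  simp only [map_sum, map_zero, Finsupp.zero_apply, Finsupp.finsetSum_apply,
    Algebra.TensorProduct.basis_repr_tmul] at h2
  rw [Finset.sum_eq_single_of_mem i hi] at h2
  · simpa [← he i] using h2
  · intro j _ hji
    have hne : e j ≠ e i := fun heq => hji (hs.injective (by rw [← he' j, heq, he' i]))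
    simp [← he j, hne]

theorem macLane_of_isGeometricallyReduced [Algebra.IsGeometricallyReduced E F] : MacLane p E F := by
  classical
  intro ι s hs
  rw [linearIndependent_iff']
  intro t c hc i hi
  let Ω := AlgebraicClosure E
  haveI : CharP (Ω ⊗[E] F) p :=
    charP_of_injective_ringHom (f := (Algebra.TensorProduct.includeRight : F →ₐ[E] Ω ⊗[E] F).toRingHom)
      (Algebra.TensorProduct.includeRight_injective (RingHom.injective _)) p
  choose r hr using fun j => IsAlgClosed.exists_pow_nat_eq (algebraMap E Ω (c j)) hp.out.pos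
  let x : Ω ⊗[E] F := ∑ j ∈ t, r j ⊗ₜ[E] s j
  have hxp : x ^ p = 0 := by
    rw [sum_pow_char]
    calc ∑ j ∈ t, (r j ⊗ₜ[E] s j) ^ p = ∑ j ∈ t, (1 : Ω) ⊗ₜ[E] (c j • s j ^ p) := by
          refine Finset.sum_congr rfl fun j _ => ?_
          rw [Algebra.TensorProduct.tmul_pow, hr, Algebra.algebraMap_eq_smul_one, TensorProduct.smul_tmul]
      _ = 0 := by rw [← TensorProduct.tmul_sum, hc, TensorProduct.tmul_zero]
  have h0 := tmul_sum_eq_zero hs t r (IsReduced.eq_zero _ ⟨p, hxp⟩) i hi
  have := hr i
  rw [h0, zero_pow hp.out.ne_zero] at this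
  exact (map_eq_zero_iff _ (RingHom.injective _)).1 this.symm

theorem isGeometricallyReduced_of_macLane (h : MacLane p E F) : Algebra.IsGeometricallyReduced E F := by
  classical
  rw [Algebra.isGeometricallyReduced_field_iff]
  let Ω := AlgebraicClosure E
  haveI : CharP (Ω ⊗[E] F) p :=
    charP_of_injective_ringHom (f := (Algebra.TensorProduct.includeRight : F →ₐ[E] Ω ⊗[E] F).toRingHom)
      (Algebra.TensorProduct.includeRight_injective (RingHom.injective _)) p
  rw [isReduced_iff_pow_one_lt p hp.out.one_lt]
  intro x hx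
  let β := Module.Basis.ofVectorSpace E F
  let B := Algebra.TensorProduct.basis Ω β
  have hx' : x = ∑ j ∈ (B.repr x).support, B.repr x j ⊗ₜ[E] β j := by
    conv_lhs => rw [← B.linearCombination_repr x]
    rw [Finsupp.linearCombination_apply, Finsupp.sum]
    refine Finset.sum_congr rfl fun j _ => ?_
    simp only [B, Algebra.TensorProduct.basis_apply, TensorProduct.smul_tmul', smul_eq_mul, mul_one]
  have h1 : ∑ j ∈ (B.repr x).support, ((B.repr x j) ^ p) ⊗ₜ[E] ((β j) ^ p) = 0 := by
    rw [← hx]
    conv_rhs => rw [hx', sum_pow_char]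
    exact Finset.sum_congr rfl fun j _ => by rw [Algebra.TensorProduct.tmul_pow]
  have h2 := tmul_sum_eq_zero (h _ β.linearIndependent) _ _ h1
  refine B.repr.injective ?_
  rw [map_zero]
  ext j
  by_contra hne
  exact hne (eq_zero_of_pow_eq_zero (h2 j (Finsupp.mem_support_iff.2 hne)))

variable {R : Type w} [CommRing R] [Algebra R E] [Algebra R F] [IsScalarTower R E F] [CharP E p]

omit hp [CharP F p] [CharP E p] in
lemma adjoin_pow_eq_span (K : Type*) [Field K] [Algebra R K] :
    Subalgebra.toSubmodule (powAlg p R K) = Submodule.span R (Set.range fun y : K => y ^ p) := by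
  rw [Algebra.adjoin_eq_span]
  congr 1
  refine Set.Subset.antisymm ?_ Submonoid.subset_closure
  intro y hy
  induction hy using Submonoid.closure_induction with
  | mem z hz => exact hz
  | one => exact ⟨1, one_pow _⟩
  | mul a b _ _ ha hb =>
    obtain ⟨a', rfl⟩ := ha
    obtain ⟨b', rfl⟩ := hb
    exact ⟨a' * b', mul_pow _ _ _⟩

/-- Independence over `R[E^p]` persists over `R[F^p]`. -/
theorem linearIndependent_powAlg_of_macLane (h : MacLane p E F) {κ : Type*} (u : κ → E)
    (hu : LinearIndependent (powAlg p R E) u) :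
    LinearIndependent (powAlg p R F) fun k => algebraMap E F (u k) := by
  classical
  let β := Module.Basis.ofVectorSpace E F
  have hβ := h _ β.linearIndependent
  let P := fun (d : _ →₀ powAlg p R E) => d.sum fun j m => algebraMap E F (m : E) * β j ^ p
  have hP : ∀ c : F, c ∈ powAlg p R F → ∃ d, P d = c := by
    have hadd : ∀ d d', P (d + d') = P d + P d' := fun d d' =>
      Finsupp.sum_add_index' (fun j => by simp) (fun j a b => by simp [add_mul])
    intro c hc
    rw [← Subalgebra.mem_toSubmodule, adjoin_pow_eq_span] at hc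
    induction hc using Submodule.span_induction with
    | mem z hz =>
      obtain ⟨y, rfl⟩ := hz
      refine ⟨(β.repr y).mapRange (fun a => ⟨a ^ p, Algebra.subset_adjoin ⟨a, rfl⟩⟩)
        (Subtype.ext (zero_pow hp.out.ne_zero)), ?_⟩
      change P _ = y ^ p
      conv_rhs => rw [← β.linearCombination_repr y]
      rw [Finsupp.linearCombination_apply, Finsupp.sum, sum_pow_char]
      simp only [P]
      rw [Finsupp.sum_mapRange_index (fun j => by simp), Finsupp.sum]
      exact Finset.sum_congr rfl fun j _ => by simp [Algebra.smul_def, mul_pow]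
    | zero => exact ⟨0, Finsupp.sum_zero_index⟩
    | add z z' _ _ hz hz' =>
      obtain ⟨d, rfl⟩ := hz
      obtain ⟨d', rfl⟩ := hz'
      exact ⟨d + d', hadd d d'⟩
    | smul r z _ hz =>
      obtain ⟨d, rfl⟩ := hz
      refine ⟨r • d, ?_⟩
      simp only [P]
      rw [Finsupp.sum_smul_index' (fun j => by simp), Finsupp.smul_sum]
      exact Finsupp.sum_congr fun j _ => by
        rw [Algebra.smul_def r (_ * _), ← mul_assoc, IsScalarTower.algebraMap_apply R E F, ← map_mul,
          Subalgebra.coe_smul, Algebra.smul_def r]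
  rw [linearIndependent_iff']
  intro t c hc k hk
  choose d hd using fun k : κ => hP _ (c k).2
  let J := t.biUnion fun k => (d k).support
  have hdJ : ∀ k ∈ t, (c k : F) = ∑ j ∈ J, algebraMap E F (d k j : E) * β j ^ p := fun k hk => by
    rw [← hd k]
    exact Finset.sum_subset (fun j hj => Finset.mem_biUnion.2 ⟨k, hk, hj⟩)
      (fun j _ hj => by simp [Finsupp.notMem_support_iff.1 hj])
  have hc' : ∑ j ∈ J, (∑ k ∈ t, (d k j : E) * u k) • β j ^ p = 0 := by
    rw [← hc]
    simp only [Finset.sum_smul]
    rw [Finset.sum_comm]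
    refine Finset.sum_congr rfl fun k hk => ?_
    rw [Subalgebra.smul_def, smul_eq_mul, hdJ k hk, Finset.sum_mul]
    exact Finset.sum_congr rfl fun j _ => by rw [Algebra.smul_def, map_mul]; ring
  have hcol := linearIndependent_iff'.1 hβ J _ hc'
  apply Subtype.ext
  rw [hdJ k hk, ZeroMemClass.coe_zero]
  refine Finset.sum_eq_zero fun j hj => ?_
  have := linearIndependent_iff'.1 hu t (fun k => d k j) (by simpa [Subalgebra.smul_def] using hcol j hj) k hk
  simp [this]

variable (R) in
/-- Persistence of independence gives injectivity on differentials. -/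
theorem injective_mapBaseChange_of_persist
    (h : ∀ {κ : Type v} (u : κ → E), LinearIndependent (powAlg p R E) u →
      LinearIndependent (powAlg p R F) fun k => algebraMap E F (u k)) :
    Function.Injective (KaehlerDifferential.mapBaseChange R E F) := by
  classical
  obtain ⟨B, hind, hgen⟩ := exists_pBasis p R E
  obtain ⟨b, hb⟩ := (exists_basis_iff p R (Subtype.val : B → E)).1 ⟨hind, by rwa [Subtype.range_coe]⟩
  have h1 := h _ hind
  have h2 : LinearIndependent F fun i : B => KaehlerDifferential.D R F (algebraMap E F i) := by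
    rw [← linearIndependent_mon_iff_D p R]
    have : (fun e : Red p B => mon (fun i : B => algebraMap E F i) e.1) =
        fun e : Red p B => algebraMap E F (mon (Subtype.val : B → E) e.1) := by
      funext e
      simp [mon, Finsupp.prod, map_prod]
    rw [this]
    exact h1
  rw [injective_iff_map_eq_zero]
  intro z hz
  let b' := Algebra.TensorProduct.basis F b
  refine b'.repr.injective ?_
  rw [map_zero]
  rw [← b'.linearCombination_repr z, Finsupp.apply_linearCombination] at hz
  refine linearIndependent_iff.1 h2 _ ?_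
  rw [← hz]
  refine LinearMap.congr_fun (congrArg _ (funext fun i => ?_)) _
  rw [Function.comp_apply, Algebra.TensorProduct.basis_apply, KaehlerDifferential.mapBaseChange_tmul,
    one_smul, hb, KaehlerDifferential.map_D]

variable (R) in
/-- EGA 0 20.6.3 (i). -/
theorem injective_mapBaseChange_of_macLane (h : MacLane p E F) :
    Function.Injective (KaehlerDifferential.mapBaseChange R E F) :=
  injective_mapBaseChange_of_persist p R fun u hu => linearIndependent_powAlg_of_macLane p h u hu

variable (R) in
/-- EGA 0 20.6.3 (ii), reduced to relations with coefficients in `R[E^p]`. -/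
theorem macLane_of_injective (hinj : Function.Injective (KaehlerDifferential.mapBaseChange R E F))
    (H : ∀ {ι : Type v'} (t : Finset ι) (s : ι → F), LinearIndependent E s → ∀ c : ι → E,
      (∀ i, c i ∈ powAlg p R E) → ∑ i ∈ t, c i • s i ^ p = 0 → ∀ i ∈ t, c i = 0) :
    MacLane p E F := by
  classical
  intro ι s hs
  rw [linearIndependent_iff']
  intro t
  induction t using Finset.strongInduction with
  | _ t ih =>
    intro c hc
    by_contra! hne
    obtain ⟨a, ha, hca⟩ := hne
    let c' : ι → E := fun i => if i ∈ t then c i / c a else 0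
    have hc' : ∑ i ∈ t, c' i • s i ^ p = 0 := by
      calc ∑ i ∈ t, c' i • s i ^ p = ∑ i ∈ t, (c a)⁻¹ • (c i • s i ^ p) :=
            Finset.sum_congr rfl fun i hi => by simp [c', hi, smul_smul, div_eq_inv_mul]
        _ = 0 := by rw [← Finset.smul_sum, hc, smul_zero]
    have hc'a : c' a = 1 := by simp [c', ha, hca]
    let z : F ⊗[E] Ω[E⁄R] := ∑ i ∈ t, (s i ^ p) ⊗ₜ[E] KaehlerDifferential.D R E (c' i)
    have hz : KaehlerDifferential.mapBaseChange R E F z = 0 := by
      have h3 := congrArg (KaehlerDifferential.D R F) hc'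
      rw [map_sum, map_zero] at h3
      rw [map_sum, ← h3]
      refine Finset.sum_congr rfl fun i _ => ?_
      rw [KaehlerDifferential.mapBaseChange_tmul, KaehlerDifferential.map_D, Algebra.smul_def,
        Derivation.leibniz, derivation_pow_eq_zero, smul_zero, zero_add]
    have hz0 : z = 0 := hinj (hz.trans (map_zero _).symm)
    let b := Module.Basis.ofVectorSpace E Ω[E⁄R]
    have hd : ∀ i ∈ t, KaehlerDifferential.D R E (c' i) = 0 := by
      intro i hi
      refine b.repr.injective ?_
      rw [map_zero]
      ext k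
      by_cases hia : i = a
      · simp [hia, hc'a]
      have h4 := congrArg (fun y => (Algebra.TensorProduct.basis F b).repr y k) hz0
      simp only [z, map_sum, map_zero, Finsupp.zero_apply, Finsupp.finsetSum_apply,
        Algebra.TensorProduct.basis_repr_tmul] at h4
      have h5 : ∑ j ∈ t.erase a, (b.repr (KaehlerDifferential.D R E (c' j)) k) • s j ^ p = 0 := by
        rw [Finset.sum_erase _ (by simp [hc'a])]
        rw [← h4]
        exact Finset.sum_congr rfl fun j _ => by simp [Algebra.smul_def, mul_comm]
      exact ih _ (Finset.erase_ssubset ha) _ h5 i (Finset.mem_erase.2 ⟨hia, hi⟩)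
    have hmem : ∀ i, c' i ∈ powAlg p R E := fun i => by
      by_cases hi : i ∈ t
      · exact (D_eq_zero_iff_mem p R _).1 (hd i hi)
      · simp [c', hi]
    exact one_ne_zero (α := E) (hc'a ▸ H t s hs c' hmem hc' a ha)

omit [CharP E p] in
/-- The relations with coefficients that are `p`-th powers. -/
theorem eq_zero_of_forall_pow {ι : Type v'} (t : Finset ι) (s : ι → F) (hs : LinearIndependent E s)
    (c : ι → E) (hc : ∀ i, ∃ e, e ^ p = c i) (h0 : ∑ i ∈ t, c i • s i ^ p = 0) : ∀ i ∈ t, c i = 0 := by
  choose e he using hc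
  have h1 : (∑ i ∈ t, e i • s i) ^ p = 0 := by
    rw [sum_pow_char, ← h0]
    exact Finset.sum_congr rfl fun i _ => by rw [smul_pow, he]
  intro i hi
  rw [← he i, linearIndependent_iff'.1 hs t e (eq_zero_of_pow_eq_zero h1) i hi, zero_pow hp.out.ne_zero]

end Groth.Agent.EGA41Lib.PB
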