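import Groth.Agent.EGA41Lib.SemiLocalSop
import Groth.Agent.S5767
import Mathlib

/-! Parameters chosen inside an ideal of given height (semi-local Noetherian rings). -/

set_option autoImplicit false
set_option backward.isDefEq.respectTransparency.types false
universe u

namespace Groth.Agent.EGA41Lib

variable {A : Type u} [CommRing A] [IsNoetherianRing A] [Finite (MaximalSpectrum A)]

omit [IsNoetherianRing A] [Finite (MaximalSpectrum A)] in
theorem supportDim_quotient_ideal (J : Ideal A) :
    Module.supportDim A (A ⧸ J) = ringKrullDim (A ⧸ J) :=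
  Module.supportDim_quotient_eq_ringKrullDim J

omit [IsNoetherianRing A] [Finite (MaximalSpectrum A)] in
theorem supportDim_quotient_sup (J K : Ideal A) :
    Module.supportDim A ((A ⧸ J) ⧸ (K • (⊤ : Submodule A (A ⧸ J)))) = ringKrullDim (A ⧸ (J ⊔ K)) := by
  rw [← Module.supportDim_quotient_eq_ringKrullDim, Module.supportDim, Module.supportDim, Module.support_quotient,
    Module.support_eq_zeroLocus, Ideal.annihilator_quotient, ← PrimeSpectrum.zeroLocus_sup,
    Module.support_eq_zeroLocus, Ideal.annihilator_quotient]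

omit [Finite (MaximalSpectrum A)] in
theorem height_add_ringKrullDim_quotient_le (p : Ideal A) [p.IsPrime] :
    ((p.height : ℕ∞) : WithBot ℕ∞) + ringKrullDim (A ⧸ p) ≤ ringKrullDim A := by
  have h := supportDim_localized_add_le (A := A) (M := A) ⟨p, inferInstance⟩
  have hp : (⟨p, inferInstance⟩ : PrimeSpectrum A) ∈ Module.support A A := by
    rw [Module.support_eq_zeroLocus]
    intro a ha
    have := Module.mem_annihilator.1 ha (1 : A)
    rw [smul_eq_mul, mul_one] at this
    rw [this]; exact p.zero_mem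
  rw [supportDim_quotient_prime _ hp, Module.supportDim_self_eq_ringKrullDim (R := A)] at h
  refine le_trans (add_le_add (le_of_eq ?_) le_rfl) h
  rw [supportDim_localizedModule_eq_height _ hp, WithBot.coe_inj, (⟨p, inferInstance⟩ : PrimeSpectrum A).height_eq_orderHeight]
  let e : Module.support A A ≃o PrimeSpectrum A :=
    { toFun := Subtype.val
      invFun := fun q => ⟨q, by
        rw [Module.support_eq_zeroLocus]
        intro a ha
        have := Module.mem_annihilator.1 ha (1 : A)
        rw [smul_eq_mul, mul_one] at this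
        rw [this]; exact q.asIdeal.zero_mem⟩
      left_inv := fun _ => rfl, right_inv := fun _ => rfl, map_rel_iff' := Iff.rfl }
  exact Order.height_orderIso e ⟨_, hp⟩

theorem exists_parameters_in_ideal (a : Ideal A) (h d : ℕ) (hh : a.height = h)
    (hd : ringKrullDim A = ((d : ℕ∞) : WithBot ℕ∞)) (hhd : h ≤ d) :
    ∀ i ≤ h, ∃ x : Fin i → A, (∀ j, x j ∈ a) ∧ (∀ j, x j ∈ Ring.jacobson A) ∧
      ringKrullDim (A ⧸ Ideal.span (Set.range x)) = (((d - i : ℕ) : ℕ∞) : WithBot ℕ∞) ∧
      ∀ p : Ideal A, p.IsPrime → Ideal.span (Set.range x) ≤ p → (i : ℕ∞) ≤ p.height ∨ p.IsMaximal := by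
  intro i
  induction i with
  | zero =>
    intro _
    refine ⟨Fin.elim0, fun j => j.elim0, fun j => j.elim0, ?_, fun p _ _ => Or.inl (by simp)⟩
    have h0 : Ideal.span (Set.range (Fin.elim0 : Fin 0 → A)) = ⊥ := by simp
    rw [ringKrullDim_eq_of_ringEquiv ((Ideal.quotEquivOfEq h0).trans (RingEquiv.quotientBot A)), hd, Nat.sub_zero]
  | succ i ih =>
    intro hi
    obtain ⟨x, hxa, hxr, hdim, hht⟩ := ih (by omega)
    let J := Ideal.span (Set.range x)
    let S : Set (Ideal A) := {p | p ∈ J.minimalPrimes ∧ ¬ p.IsMaximal ∧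
      (p.height ≤ i ∨ ringKrullDim (A ⧸ p) = (((d - i : ℕ) : ℕ∞) : WithBot ℕ∞))}
    have hfin : S.Finite := J.finite_minimalPrimes_of_isNoetherianRing.subset fun p hp => hp.1
    have hnot : ∀ p ∈ S, ¬ (a ⊓ Ring.jacobson A ≤ p) := by
      rintro p ⟨hp, hpm, hp'⟩ hle
      have := hp.1.1
      rcases (Ideal.IsPrime.inf_le hp.1.1).1 hle with hap | hjp
      · have h1 : (h : ℕ∞) ≤ p.height := hh ▸ Ideal.height_mono hap
        rcases hp' with hp' | hp'
        · have : (h : ℕ∞) ≤ i := h1.trans hp'
          norm_cast at this; omega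
        · have h2 := height_add_ringKrullDim_quotient_le p
          rw [hp', hd, ← WithBot.coe_add, WithBot.coe_le_coe] at h2
          have h3 : ((h + (d - i) : ℕ) : ℕ∞) ≤ d := by
            push_cast; exact (add_le_add h1 le_rfl).trans h2
          norm_cast at h3; omega
      · have := Fintype.ofFinite (MaximalSpectrum A)
        have hJ : (Finset.univ.inf fun m : MaximalSpectrum A => m.asIdeal) ≤ p := by
          refine le_trans ?_ hjp
          rw [Ring.jacobson_eq_sInf_isMaximal]
          exact le_sInf fun m hm => Finset.inf_le (f := fun m : MaximalSpectrum A => m.asIdeal) (Finset.mem_univ ⟨m, hm⟩)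
        obtain ⟨m, -, hm⟩ := (Ideal.IsPrime.inf_le' hp.1.1).1 hJ
        exact hpm (m.2.eq_of_le hp.1.1.ne_top hm ▸ m.2)
    obtain ⟨y, hy, hyS⟩ : ∃ y ∈ a ⊓ Ring.jacobson A, ∀ p ∈ S, y ∉ p := by
      by_contra hcon
      push Not at hcon
      have hle : ((a ⊓ Ring.jacobson A : Ideal A) : Set A) ⊆ ⋃ p ∈ (hfin.toFinset : Set (Ideal A)), id p := by
        intro z hz
        obtain ⟨p, hp, hzp⟩ := hcon z hz
        exact Set.mem_biUnion (by simpa using hp) hzp
      obtain ⟨p, hp, hle'⟩ := (Ideal.subset_union_prime ⊥ ⊥ (fun p hp _ _ => ((hfin.mem_toFinset).1 hp).1.1.1)).1 hle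
      exact hnot p ((hfin.mem_toFinset).1 hp) hle'
    refine ⟨Fin.snoc x y, ?_, ?_, ?_, ?_⟩
    · intro j; induction j using Fin.lastCases with
      | last => rw [Fin.snoc_last]; exact hy.1
      | cast j => rw [Fin.snoc_castSucc]; exact hxa j
    · intro j; induction j using Fin.lastCases with
      | last => rw [Fin.snoc_last]; exact hy.2
      | cast j => rw [Fin.snoc_castSucc]; exact hxr j
    · rw [Fin.range_snoc, Set.insert_eq, Set.union_comm, Ideal.span_union]
      have hiff := (Groth.Agent.S5767.result A (A ⧸ J) y hy.2).2 fun p hp hpd hyp => by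
        rw [Module.support_eq_zeroLocus, Ideal.annihilator_quotient] at hp
        rw [supportDim_quotient_ideal, hdim] at hpd
        have hne : ¬ p.asIdeal.IsMaximal := fun hm => by
          rw [ringKrullDim_eq_zero_of_isField ((Ideal.Quotient.maximal_ideal_iff_isField_quotient _).1 hm)] at hpd
          have : 0 = d - i := by exact_mod_cast hpd
          omega
        obtain ⟨q, hq, hqp⟩ := Ideal.exists_minimalPrimes_le (hp : J ≤ p.asIdeal)
        rcases hqp.lt_or_eq with hlt | heq
        · have := hq.1.1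
          have h1 := (CAlgH3.ringKrullDim_quotient_add_one_le hlt).trans
            (ringKrullDim_le_of_surjective (Ideal.Quotient.factor hq.1.2) (Ideal.Quotient.factor_surjective _))
          rw [hpd, hdim] at h1
          have : (d - i) + 1 ≤ d - i := by exact_mod_cast h1
          omega
        · exact hyS p.asIdeal ⟨heq ▸ hq, hne, Or.inr hpd⟩ hyp
      rw [supportDim_quotient_ideal, hdim, Module.supportDim_eq_of_equiv (Submodule.quotEquivOfEq _
        (Ideal.span {y} • (⊤ : Submodule A (A ⧸ J))) (Submodule.ideal_span_singleton_smul y ⊤).symm)] at hiff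
      rw [supportDim_quotient_sup] at hiff
      have e : ((((d - (i + 1) : ℕ) : ℕ∞) : WithBot ℕ∞)) + 1 = (((d - i : ℕ) : ℕ∞) : WithBot ℕ∞) := by
        rw [show d - i = d - (i + 1) + 1 by omega]; push_cast; rfl
      exact CAlgH3.withBot_add_one_cancel (hiff.trans e.symm)
    · intro p hp hle
      rw [Fin.range_snoc, Set.insert_eq, Set.union_comm, Ideal.span_union] at hle
      by_cases hm : p.IsMaximal
      · exact Or.inr hm
      left
      obtain ⟨q, hq, hqp⟩ := Ideal.exists_minimalPrimes_le (le_sup_left.trans hle)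
      have := hq.1.1
      have hqm : ¬ q.IsMaximal := fun h' => hm ((h'.eq_of_le hp.ne_top hqp) ▸ h')
      rcases hht q hq.1.1 hq.1.2 with hqh | hqh
      · rcases hqp.lt_or_eq with hlt | heq
        · have h1 : q.height + 1 ≤ p.height := Ideal.height_add_one_le_of_lt_of_isPrime hlt
          refine le_trans ?_ h1
          push_cast; exact add_le_add hqh le_rfl
        · subst heq
          by_contra hlt
          refine hyS q ⟨hq, hqm, Or.inl ?_⟩ ((le_sup_right.trans hle) (Ideal.subset_span rfl))
          rw [not_le, Nat.cast_add, Nat.cast_one] at hlt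
          exact Order.le_of_lt_add_one hlt
      · exact absurd hqh hqm

theorem exists_parameters (a : Ideal A) (ha : a ≠ ⊤) (h : ℕ) (hh : a.height = h) :
    ∃ x : Fin h → A, (∀ i, x i ∈ a) ∧ (∀ i, x i ∈ Ring.jacobson A) ∧
      (∃ ys : List A, (∀ y ∈ ys, y ∈ Ring.jacobson A) ∧
        (((h + ys.length : ℕ) : ℕ∞) : WithBot ℕ∞) = ringKrullDim A ∧
        IsFiniteLength A (A ⧸ (Ideal.span (Set.range x) ⊔ Ideal.ofList ys))) ∧
      (a.map (Ideal.Quotient.mk (Ideal.span (Set.range x)))).height = 0 := by
  have : Nontrivial A := ⟨⟨0, 1, fun h01 => ha (Ideal.eq_top_iff_one a |>.2 (h01 ▸ a.zero_mem))⟩⟩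
  obtain ⟨d, hd⟩ := supportDim_eq_natCast_of_semilocal (A := A) A
  rw [Module.supportDim_self_eq_ringKrullDim] at hd
  have hhd : h ≤ d := by
    have h1 := Ideal.height_le_ringKrullDim_of_ne_top ha
    rw [hh, hd] at h1
    exact_mod_cast h1
  obtain ⟨x, hxa, hxr, hdim, hht⟩ := exists_parameters_in_ideal a h d hh hd hhd h le_rfl
  let J := Ideal.span (Set.range x)
  refine ⟨x, hxa, hxr, ?_, ?_⟩
  · obtain ⟨ys, h1, h2, h3⟩ := exists_sop (d - h) (A ⧸ J) (by rw [supportDim_quotient_ideal]; exact hdim)
    refine ⟨ys, h2, ?_, ?_⟩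
    · rw [hd, h1, Nat.add_sub_cancel' hhd]
    · rw [isFiniteLength_iff_supportDim_le_zero, supportDim_quotient_ideal, ← supportDim_quotient_sup]
      exact h3
  · -- a prime `q ⊇ a` of height `h` is minimal over `J`
    obtain ⟨q, hqP, haq, hqh⟩ := Ideal.exists_isPrime_height_eq hh
    have hJq : J ≤ q := le_trans (Ideal.span_le.2 (by rintro _ ⟨i, rfl⟩; exact hxa i)) haq
    have hmin : q ∈ J.minimalPrimes := by
      refine ⟨⟨inferInstance, hJq⟩, fun r hr hrq => ?_⟩
      rcases hrq.lt_or_eq with hlt | heq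
      · exfalso
        have := hr.1
        rcases hht r hr.1 hr.2 with hrh | hrm
        · have h1 : r.height + 1 ≤ q.height := Ideal.height_add_one_le_of_lt_of_isPrime hlt
          rw [hqh] at h1
          have h2 : ((h + 1 : ℕ) : ℕ∞) ≤ h := by push_cast; exact (add_le_add hrh le_rfl).trans h1
          norm_cast at h2; omega
        · exact hlt.ne (hrm.eq_of_le hqP.ne_top hlt.le)
      · exact heq.ge
    have hmap : (q.map (Ideal.Quotient.mk J)).comap (Ideal.Quotient.mk J) = q := by
      rw [Ideal.comap_map_of_surjective _ Ideal.Quotient.mk_surjective, ← RingHom.ker_eq_comap_bot, Ideal.mk_ker]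
      exact sup_eq_left.2 hJq
    have hqp : (q.map (Ideal.Quotient.mk J)).IsPrime :=
      Ideal.map_isPrime_of_surjective Ideal.Quotient.mk_surjective (by rwa [Ideal.mk_ker])
    have hq0 : (q.map (Ideal.Quotient.mk J)).height = 0 := by
      have := hqp
      rw [(⟨q.map (Ideal.Quotient.mk J), hqp⟩ : PrimeSpectrum (A ⧸ J)).height_eq_orderHeight, Order.height_eq_zero]
      intro r hr
      have hJr : J ≤ r.asIdeal.comap (Ideal.Quotient.mk J) := fun z hz => by
        rw [Ideal.mem_comap, Ideal.Quotient.eq_zero_iff_mem.2 hz]; exact r.asIdeal.zero_mem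
      have := hmin.2 (y := r.asIdeal.comap (Ideal.Quotient.mk J)) ⟨inferInstance, hJr⟩
        ((Ideal.comap_mono (show r.asIdeal ≤ q.map (Ideal.Quotient.mk J) from hr)).trans hmap.le)
      exact (Ideal.map_le_iff_le_comap.2 this : q.map (Ideal.Quotient.mk J) ≤ r.asIdeal)
    exact le_antisymm ((Ideal.height_mono (Ideal.map_mono haq)).trans hq0.le) bot_le

end Groth.Agent.EGA41Lib
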