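import Mathlib
import Groth.Agent.CAlgH3.MoriFamily

/-!
# Residue fields of the integral closure of a Noetherian local domain
-/

set_option autoImplicit false
set_option backward.isDefEq.respectTransparency.types false

universe u

open IsLocalRing

namespace Groth.Agent.EGA41Lib.SLC

open CAlgH3.Mori

/-- The residue field of the completion is that of the ring. -/
theorem residue_completion_surjective (A : Type u) [CommRing A] [IsLocalRing A] [IsNoetherianRing A] :
    Function.Surjective ((residue (Ahat A)).comp (algebraMap A (Ahat A))) := by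
  intro z
  obtain ⟨y, rfl⟩ := residue_surjective z
  obtain ⟨a, ha⟩ := Ideal.Quotient.mk_surjective (AdicCompletion.evalOneₐ (maximalIdeal A) y)
  refine ⟨a, ?_⟩
  show residue _ (algebraMap A (Ahat A) a) = residue _ y
  rw [← sub_eq_zero, ← map_sub, residue_eq_zero_iff, mem_maximalIdeal, mem_nonunits_iff]
  intro hu
  have := hu.map (AdicCompletion.evalOneₐ (maximalIdeal A))
  rw [map_sub, AlgHom.commutes, Ideal.Quotient.algebraMap_eq, ha, sub_self] at this
  exact not_isUnit_zero this

/-- Finiteness over a smaller ring of a finite residue field extension. -/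
theorem finite_trans_residue {A R D : Type u} [CommRing A] [CommRing R] [IsLocalRing R] [CommRing D] [Algebra R D]
    [Algebra.IsIntegral R D] [Algebra A R] [Algebra A D] [IsScalarTower A R D] [Module.Finite A (R ⧸ maximalIdeal R)]
    (N : Ideal D) [N.IsMaximal] [Module.Finite R (D ⧸ N)] : Module.Finite A (D ⧸ N) := by
  have hN : maximalIdeal R ≤ N.comap (algebraMap R D) :=
    (IsLocalRing.eq_maximalIdeal (Ideal.isMaximal_comap_of_isIntegral_of_isMaximal N)).ge
  letI : Algebra (R ⧸ maximalIdeal R) (D ⧸ N) := (Ideal.quotientMap N (algebraMap R D) hN).toAlgebra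
  haveI : IsScalarTower R (R ⧸ maximalIdeal R) (D ⧸ N) := IsScalarTower.of_algebraMap_eq fun _ => rfl
  haveI : IsScalarTower A (R ⧸ maximalIdeal R) (D ⧸ N) := IsScalarTower.of_algebraMap_eq fun a => by
    show Ideal.Quotient.mk N (algebraMap A D a) = Ideal.Quotient.mk N (algebraMap R D (algebraMap A R a))
    rw [← IsScalarTower.algebraMap_apply]
  haveI : Module.Finite (R ⧸ maximalIdeal R) (D ⧸ N) := Module.Finite.of_restrictScalars_finite R _ _
  exact Module.Finite.trans (R ⧸ maximalIdeal R) _

/-- Residue fields of the integral closure in the fraction field are finite. -/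
theorem finite_residue (A K : Type u) [CommRing A] [IsDomain A] [IsLocalRing A] [IsNoetherianRing A] [Field K]
    [Algebra A K] [IsFractionRing A K] (M : Ideal (integralClosure A K)) [M.IsMaximal] :
    Module.Finite A (integralClosure A K ⧸ M) := by
  obtain ⟨P, hPp, hP, q, hq, hqM⟩ := exists_maximal_over A K (Ah := Ahat A) M
  let D := D (Ahat A) P
  haveI : Module.Finite (Ahat A ⧸ P) D := finite_D A P
  haveI : Module.Finite (Ahat A) D := Module.Finite.trans (Ahat A ⧸ P) _
  haveI : Algebra.IsIntegral (Ahat A) D := Algebra.IsIntegral.of_finite _ _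
  haveI : Module.Finite A (Ahat A ⧸ maximalIdeal (Ahat A)) :=
    Module.Finite.of_surjective (Algebra.linearMap A (Ahat A ⧸ maximalIdeal (Ahat A))) (residue_completion_surjective A)
  haveI : Module.Finite (Ahat A) (D ⧸ q) := inferInstance
  haveI hA : Module.Finite A (D ⧸ q) := finite_trans_residue (R := Ahat A) q
  let g : (integralClosure A K ⧸ M) →ₐ[A] D ⧸ q :=
    Ideal.Quotient.liftₐ M ((Ideal.Quotient.mkₐ A q).comp (ψ A K hP)) fun x hx => by
      show Ideal.Quotient.mk q (ψ A K hP x) = 0
      rw [Ideal.Quotient.eq_zero_iff_mem]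
      exact hqM.ge hx
  refine Module.Finite.of_injective g.toLinearMap ((injective_iff_map_eq_zero g).2 fun z hz => ?_)
  obtain ⟨x, rfl⟩ := Ideal.Quotient.mk_surjective z
  rw [Ideal.Quotient.eq_zero_iff_mem]
  have hz' : Ideal.Quotient.mk q (ψ A K hP x) = 0 := hz
  exact hqM.le (Ideal.Quotient.eq_zero_iff_mem.1 hz' : ψ A K hP x ∈ q)

/-- Maximal ideals of the integral closure over a maximal ideal `m` come from the localisation at `m`. -/
theorem exists_maximal_comap {A B R K' : Type u} [CommRing A] [CommRing B] [CommRing R] [Field K'] [Algebra A K']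
    [Algebra A B] [Algebra B K'] [IsScalarTower A B K'] [Algebra.IsIntegral A B]
    (m : Ideal B) [m.IsPrime] [Algebra B R] [IsLocalization m.primeCompl R] [Algebra R K'] [IsScalarTower B R K']
    [Algebra A R] [IsScalarTower A R K']
    (M : Ideal (integralClosure A K')) [hM : M.IsMaximal]
    (hMm : ∀ b : B, ∀ h : IsIntegral A (algebraMap B K' b), (⟨algebraMap B K' b, h⟩ : integralClosure A K') ∈ M → b ∈ m) :
    ∃ (N : Ideal (integralClosure R K')) (g : (integralClosure A K' ⧸ M) →ₐ[A] integralClosure R K' ⧸ N),
      Function.Injective g ∧ N.IsMaximal ∧ ∀ x : integralClosure A K', x ∈ M ↔ (⟨x, x.2.tower_top⟩ : integralClosure R K') ∈ N := by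
  classical
  let j : integralClosure A K' →ₐ[A] integralClosure R K' :=
    { toFun := fun x => ⟨x, x.2.tower_top⟩
      map_one' := rfl
      map_mul' := fun _ _ => rfl
      map_zero' := rfl
      map_add' := fun _ _ => rfl
      commutes' := fun a => Subtype.ext rfl }
  have hne : M.map j.toRingHom ≠ ⊤ := fun htop => by
    have h1 : ∃ t : B, t ∉ m ∧ ∀ h, (⟨algebraMap B K' t, h⟩ : integralClosure A K') ∈ M := by
      suffices H : ∀ z ∈ M.map j.toRingHom, ∃ (t : B) (w : integralClosure A K'), t ∉ m ∧ w ∈ M ∧
          (w : K') = algebraMap B K' t * (z : K') by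
        obtain ⟨t, w, ht, hw, hwt⟩ := H 1 (htop ▸ Submodule.mem_top)
        refine ⟨t, ht, fun h => ?_⟩
        convert! hw using 1
        exact Subtype.ext (by rw [hwt]; simp)
      intro z hz
      rw [Ideal.map] at hz
      induction hz using Submodule.span_induction with
      | mem z hz =>
        obtain ⟨x, hx, rfl⟩ := hz
        exact ⟨1, x, fun h => Ideal.IsPrime.ne_top inferInstance (m.eq_top_of_isUnit_mem h isUnit_one), hx,
          by rw [map_one, one_mul]; rfl⟩
      | zero => exact ⟨1, 0, fun h => Ideal.IsPrime.ne_top inferInstance (m.eq_top_of_isUnit_mem h isUnit_one),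
          M.zero_mem, by simp⟩
      | add z z' _ _ hz hz' =>
        obtain ⟨t, w, ht, hw, hwt⟩ := hz
        obtain ⟨t', w', ht', hw', hwt'⟩ := hz'
        have hB : ∀ b : B, IsIntegral A (algebraMap B K' b) := fun b =>
          (Algebra.IsIntegral.isIntegral (R := A) b).algebraMap
        refine ⟨t * t', ⟨_, hB t'⟩ * w + ⟨_, hB t⟩ * w', Ideal.IsPrime.mul_notMem inferInstance ht ht',
          M.add_mem (M.mul_mem_left _ hw) (M.mul_mem_left _ hw'), ?_⟩
        show algebraMap B K' t' * (w : K') + algebraMap B K' t * (w' : K') = _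
        rw [hwt, hwt', Subalgebra.coe_add, map_mul]; ring
      | smul r z _ hz =>
        obtain ⟨t, w, ht, hw, hwt⟩ := hz
        have hr : IsIntegral R (r : K') := r.2
        obtain ⟨⟨c, hc⟩, hci⟩ := IsIntegral.exists_multiple_integral_of_isLocalization m.primeCompl (r : K') hr
        have hci' : IsIntegral A (algebraMap B K' c * (r : K')) := by
          rw [← Algebra.smul_def]
          exact isIntegral_trans (R := A) _ hci
        refine ⟨c * t, ⟨_, hci'⟩ * w, Ideal.IsPrime.mul_notMem inferInstance hc ht, M.mul_mem_left _ hw, ?_⟩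
        show algebraMap B K' c * (r : K') * (w : K') = _
        rw [hwt, smul_eq_mul, Subalgebra.coe_mul, map_mul]; ring
    obtain ⟨t, ht, h⟩ := h1
    exact ht (hMm t _ (h ((Algebra.IsIntegral.isIntegral (R := A) t).algebraMap)))
  obtain ⟨N, hN, hle⟩ := Ideal.exists_le_maximal _ hne
  have hMN : N.comap j.toRingHom = M :=
    (hM.eq_of_le (Ideal.comap_ne_top _ hN.ne_top) (Ideal.map_le_iff_le_comap.1 hle)).symm
  refine ⟨N, Ideal.Quotient.liftₐ M ((Ideal.Quotient.mkₐ A N).comp j) fun x hx => ?_,
    (injective_iff_map_eq_zero _).2 fun z hz => ?_, hN, fun x => ?_⟩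
  · show Ideal.Quotient.mk N (j x) = 0
    rw [Ideal.Quotient.eq_zero_iff_mem]
    exact hMN.ge hx
  · obtain ⟨x, rfl⟩ := Ideal.Quotient.mk_surjective z
    rw [Ideal.Quotient.eq_zero_iff_mem]
    have hz' : Ideal.Quotient.mk N (j x) = 0 := hz
    exact hMN.le (Ideal.Quotient.eq_zero_iff_mem.1 hz' : j x ∈ N)
  · rw [← hMN]; rfl

/-- Maximal ideals over one maximal ideal of an intermediate ring. -/
theorem over_one {A B R K' : Type u} [CommRing A] [IsNoetherianRing A] [CommRing B] [CommRing R] [IsDomain R] [IsLocalRing R]
    [IsNoetherianRing R] [Field K'] [Algebra A K'] [Algebra A B] [Algebra B K'] [IsScalarTower A B K'] [Algebra.IsIntegral A B]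
    (m : Ideal B) [m.IsPrime] [Algebra B R] [IsLocalization m.primeCompl R] [Algebra R K'] [IsScalarTower B R K']
    [Algebra A R] [IsScalarTower A R K'] [IsFractionRing R K'] [Module.Finite A (R ⧸ maximalIdeal R)] :
    {M : Ideal (integralClosure A K') | M.IsMaximal ∧
      ∀ b : B, ∀ h : IsIntegral A (algebraMap B K' b), (⟨algebraMap B K' b, h⟩ : integralClosure A K') ∈ M → b ∈ m}.Finite ∧
    ∀ M : Ideal (integralClosure A K'), M.IsMaximal →
      (∀ b : B, ∀ h : IsIntegral A (algebraMap B K' b), (⟨algebraMap B K' b, h⟩ : integralClosure A K') ∈ M → b ∈ m) →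
      Module.Finite A (integralClosure A K' ⧸ M) := by
  refine ⟨?_, fun M hM hMm => ?_⟩
  · refine Set.Finite.of_finite_image (f := fun M : Ideal (integralClosure A K') => (M : Set (integralClosure A K'))) ?_
      SetLike.coe_injective.injOn
    refine ((CAlgH3.Mori.finite_maximal_ideals R K').image fun N => {x : integralClosure A K' |
      (⟨x, x.2.tower_top⟩ : integralClosure R K') ∈ N}).subset ?_
    rintro _ ⟨M, ⟨hM', hMm⟩, rfl⟩
    obtain ⟨N, -, -, hN, hMN⟩ := exists_maximal_comap (R := R) m M hMm
    exact ⟨N, hN, (Set.ext fun x => hMN x).symm⟩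
  · obtain ⟨N, g, hg, hN, -⟩ := exists_maximal_comap (R := R) m M hMm
    haveI := finite_residue R K' N
    haveI : Module.Finite A (integralClosure R K' ⧸ N) := finite_trans_residue (R := R) N
    exact Module.Finite.of_injective g.toLinearMap hg

/-- Semilocality and finiteness of residue fields for the integral closure in a finite extension. -/
theorem main {A K' : Type u} [CommRing A] [IsDomain A] [IsLocalRing A] [IsNoetherianRing A]
    [Field K'] [Algebra A K'] [Algebra (FractionRing A) K'] [IsScalarTower A (FractionRing A) K']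
    [FiniteDimensional (FractionRing A) K'] :
    {m : Ideal (integralClosure A K') | m.IsMaximal}.Finite ∧
      ∀ (m : Ideal (integralClosure A K')), m.IsMaximal → Module.Finite A (integralClosure A K' ⧸ m) := by
  classical
  let K := FractionRing A
  have hinjA : Function.Injective (algebraMap A K') := by
    rw [IsScalarTower.algebraMap_eq A K K']
    exact (algebraMap K K').injective.comp (IsFractionRing.injective A K)
  haveI : FaithfulSMul A K' := (faithfulSMul_iff_algebraMap_injective A K').2 hinjA
  haveI : Algebra.IsAlgebraic A K' :=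
    (IsFractionRing.comap_isAlgebraic_iff (A := A) (K := K) (C := K')).2 inferInstance
  let b := Module.finBasis K K'
  obtain ⟨y, hy0, hy⟩ := Algebra.IsAlgebraic.exists_integral_multiples A (Finset.univ.image b)
  let S : Set K' := Set.range fun i => y • b i
  have hS : ∀ x ∈ S, IsIntegral A x := by
    rintro _ ⟨i, rfl⟩; exact hy _ (Finset.mem_image_of_mem _ (Finset.mem_univ i))
  let B := Algebra.adjoin A S
  haveI : Module.Finite A B := Module.Finite.iff_fg.2 (fg_adjoin_of_finite (Set.finite_range _) hS)
  haveI : IsNoetherianRing B := isNoetherianRing_of_fg (Subalgebra.fg_of_fg_toSubmodule (fg_adjoin_of_finite (Set.finite_range _) hS))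
  haveI : FaithfulSMul B K' := (faithfulSMul_iff_algebraMap_injective B K').2 Subtype.val_injective
  haveI : IsFractionRing B K' := IsFractionRing.of_field B K' fun z => by
    obtain ⟨⟨d, hd⟩, hd'⟩ := IsLocalization.exist_integer_multiples (nonZeroDivisors A) (Finset.univ : Finset (Fin (Module.finrank K K')))
      (fun i => b.repr z i)
    choose w hw using fun i => hd' i (Finset.mem_univ i)
    have hnum : (d * y) • z ∈ B := by
      rw [← b.sum_repr z, Finset.smul_sum]
      refine Subalgebra.sum_mem _ fun i _ => ?_
      rw [show (d * y) • (b.repr z i • b i) = w i • (y • b i) by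
        rw [← algebraMap_smul K (w i) (y • b i), hw]
        simp only [Algebra.smul_def, map_mul, ← IsScalarTower.algebraMap_apply]
        ring]
      exact Subalgebra.smul_mem _ (Algebra.subset_adjoin (Set.mem_range_self i)) _
    refine ⟨⟨_, hnum⟩, algebraMap A B (d * y), ?_⟩
    show z = ((d * y) • z) / algebraMap A K' (d * y)
    rw [Algebra.smul_def, mul_div_cancel_left₀]
    exact fun h => (mul_ne_zero (nonZeroDivisors.ne_zero hd) hy0) (hinjA (h.trans (map_zero _).symm))
  let ι : B →ₐ[A] integralClosure A K' :=
    B.val.codRestrict _ fun x => (Algebra.IsIntegral.isIntegral (R := A) x).algebraMap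
  have hfinB : {m : Ideal B | m.IsMaximal}.Finite := by
    refine (Algebra.QuasiFinite.finite_primesOver (R := A) (S := B) (maximalIdeal A)).subset fun q hq => ?_
    have : q.IsMaximal := hq
    exact ⟨hq.isPrime, ⟨(IsLocalRing.eq_maximalIdeal (Ideal.isMaximal_comap_of_isIntegral_of_isMaximal q)).symm⟩⟩
  have hmax : ∀ M : Ideal (integralClosure A K'), M.IsMaximal → (M.comap ι).IsMaximal := fun M hM => by
    refine Ideal.isMaximal_of_isIntegral_of_isMaximal_comap (R := A) _ ?_
    have h : (M.comap ι).comap (algebraMap A B) = M.comap (algebraMap A (integralClosure A K')) :=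
      Ideal.ext fun a => by simp only [Ideal.mem_comap, AlgHom.commutes]
    rw [h]
    exact Ideal.isMaximal_comap_of_isIntegral_of_isMaximal M
  -- work over one maximal ideal of `B` at a time
  have key : ∀ (m : Ideal B), m.IsMaximal →
      {M : Ideal (integralClosure A K') | M.IsMaximal ∧ M.comap ι = m}.Finite ∧
        ∀ M : Ideal (integralClosure A K'), M.IsMaximal → M.comap ι = m → Module.Finite A (integralClosure A K' ⧸ M) := by
    intro m hm
    let R := Localization.AtPrime m
    have hu : ∀ t : m.primeCompl, IsUnit (algebraMap B K' t) := fun t => isUnit_iff_ne_zero.2 fun h =>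
      t.2 (by rw [show (t : B) = 0 from Subtype.val_injective h]; exact m.zero_mem)
    letI : Algebra R K' := (IsLocalization.lift hu).toAlgebra
    haveI : IsScalarTower B R K' := IsScalarTower.of_algebraMap_eq fun x => (IsLocalization.lift_eq hu x).symm
    haveI : IsScalarTower A R K' := IsScalarTower.of_algebraMap_eq fun a => by
      rw [IsScalarTower.algebraMap_apply A B R, ← IsScalarTower.algebraMap_apply B R K', ← IsScalarTower.algebraMap_apply A B K']
    haveI : IsFractionRing R K' := IsFractionRing.isFractionRing_of_isDomain_of_isLocalization m.primeCompl R K'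
    haveI : IsNoetherianRing R := IsLocalization.isNoetherianRing m.primeCompl R inferInstance
    haveI : IsDomain R := IsLocalization.isDomain_localization m.primeCompl_le_nonZeroDivisors
    haveI : Module.Finite A (R ⧸ maximalIdeal R) := by
      haveI : Module.Finite A (B ⧸ m) := inferInstance
      let e : (B ⧸ m) →ₐ[A] R ⧸ maximalIdeal R := Ideal.quotientMapₐ _ (IsScalarTower.toAlgHom A B R) fun x hx =>
        (IsLocalization.AtPrime.to_map_mem_maximal_iff R m x).2 hx
      refine Module.Finite.of_surjective e.toLinearMap fun z => ?_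
      obtain ⟨x, hx⟩ := (IsLocalization.AtPrime.equivQuotMaximalIdeal m R).surjective z
      obtain ⟨x, rfl⟩ := Ideal.Quotient.mk_surjective x
      exact ⟨Ideal.Quotient.mk m x, hx⟩
    obtain ⟨h1, h2⟩ := over_one (A := A) (R := R) (K' := K') m
    exact ⟨h1.subset fun M hM => ⟨hM.1, fun b _ hb => hM.2.le hb⟩,
      fun M hM hMm => h2 M hM fun b _ hb => hMm.le hb⟩
  refine ⟨(hfinB.biUnion fun m hm => (key m hm).1).subset fun M hM => ?_, fun M hM => (key _ (hmax M hM)).2 M hM rfl⟩
  exact Set.mem_biUnion (hmax M hM) ⟨hM, rfl⟩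

end Groth.Agent.EGA41Lib.SLC
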