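import Mathlib
import Groth.Prelude.Def_EGA41
import Groth.Prelude.Def_CAlgX
import Groth.Agent.EGA41Lib.SymGrPrime
import Groth.Agent.CAlgH.AdicSmoothField
import Groth.Agent.CAlgH.AdicSmoothPowerSeries
import Groth.Agent.CAlgH.AdicSmoothModel

/-!
# Formally smooth local algebras with given residue field

EGA 0 22.2.6.
-/

set_option autoImplicit false
set_option maxHeartbeats 1000000
set_option synthInstance.maxHeartbeats 100000
set_option backward.isDefEq.respectTransparency.types false

universe u

open IsLocalRing TensorProduct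

namespace Groth.Agent.EGA41Lib.SLR

variable {k K : Type u} [Field k] [Field K] [Algebra k K]

/-- The imperfection module of the residue field of a formally smooth Noetherian local algebra is finite. -/
theorem finite_imperfection (A : Type u) [CommRing A] [IsLocalRing A] [IsNoetherianRing A] [Algebra k A]
    (hA : CAlgX.IsAdicFormallySmooth k A (maximalIdeal A)) (e : ResidueField A ≃ₐ[k] K) :
    Module.Finite K (EGA41.imperfection ℤ k K) := by
  letI : Algebra A K := (e.toRingEquiv.toRingHom.comp (residue A)).toAlgebra
  have hsurj : Function.Surjective (algebraMap A K) := e.surjective.comp IsLocalRing.residue_surjective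
  haveI : IsScalarTower k A K := IsScalarTower.of_algebraMap_eq fun c => by
    show algebraMap k K c = e (residue A (algebraMap k A c))
    rw [← IsLocalRing.ResidueField.algebraMap_eq, ← IsScalarTower.algebraMap_apply, e.commutes]
  haveI : @IsScalarTower ℤ A K Algebra.toSMul Algebra.toSMul Algebra.toSMul :=
    IsScalarTower.of_algebraMap_eq fun z => by simp
  let Ψ : K ⊗[k] Ω[k⁄ℤ] →ₗ[K] K ⊗[A] Ω[A⁄ℤ] := LinearMap.liftBaseChange K
    ((TensorProduct.mk A K Ω[A⁄ℤ] 1).restrictScalars k ∘ₗ KaehlerDifferential.map ℤ ℤ k A)
  -- comparison with the map on residue fields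
  let eA : ResidueField A ≃ₗ[A] K := LinearEquiv.ofBijective
    { toFun := e
      map_add' := map_add e
      map_smul' := fun a x => by
        rw [RingHom.id_apply, Algebra.smul_def a x, map_mul, Algebra.smul_def a (e x)]
        rfl } e.bijective
  have h0 := (SymGr.isAdicFormallySmooth_iff_field.1 hA).2
  let cb := TensorProduct.AlgebraTensorModule.cancelBaseChange k A A (ResidueField A) Ω[k⁄ℤ]
  let ek := TensorProduct.congr e.toLinearEquiv (LinearEquiv.refl k Ω[k⁄ℤ])
  let eΩ := TensorProduct.congr eA (LinearEquiv.refl A Ω[A⁄ℤ])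
  have hΨ : ∀ z, Ψ z = eΩ ((KaehlerDifferential.mapBaseChange ℤ k A).lTensor (ResidueField A)
      (cb.symm (ek.symm z))) := fun z => by
    induction z with
    | zero => simp only [map_zero]
    | add x y hx hy => simp only [map_add, hx, hy]
    | tmul a ω =>
      rw [show ek.symm (a ⊗ₜ[k] ω) = (e.symm a) ⊗ₜ[k] ω from rfl,
        show cb.symm ((e.symm a) ⊗ₜ[k] ω) = (e.symm a) ⊗ₜ[A] ((1 : A) ⊗ₜ[k] ω) from
          TensorProduct.AlgebraTensorModule.cancelBaseChange_symm_tmul ..,
        LinearMap.lTensor_tmul, KaehlerDifferential.mapBaseChange_tmul, one_smul]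
      show a • ((1 : K) ⊗ₜ[A] KaehlerDifferential.map ℤ ℤ k A ω) = e (e.symm a) ⊗ₜ[A] KaehlerDifferential.map ℤ ℤ k A ω
      rw [TensorProduct.smul_tmul', smul_eq_mul, mul_one, AlgEquiv.apply_symm_apply]
  have hinj : Function.Injective Ψ := fun x y h => by
    rw [hΨ, hΨ] at h
    exact ek.symm.injective (cb.symm.injective (h0 (eΩ.injective h)))
  -- the image lands in the image of the cotangent space
  let N : Submodule K (K ⊗[A] Ω[A⁄ℤ]) := LinearMap.ker (KaehlerDifferential.mapBaseChange ℤ A K)
  haveI : Module.Finite K N := by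
    haveI : Module.Finite A (RingHom.ker (algebraMap A K)) := Module.Finite.iff_fg.2 (IsNoetherian.noetherian _)
    haveI : Module.Finite A (RingHom.ker (algebraMap A K)).Cotangent :=
      Module.Finite.of_surjective _ (Ideal.toCotangent_surjective _)
    haveI : Module.Finite A (LinearMap.range (KaehlerDifferential.kerCotangentToTensor ℤ A K)) := inferInstance
    have hrange : ∀ x, x ∈ N ↔ x ∈ LinearMap.range (KaehlerDifferential.kerCotangentToTensor ℤ A K) := fun x =>
      KaehlerDifferential.exact_kerCotangentToTensor_mapBaseChange ℤ A K hsurj x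
    obtain ⟨s, hs⟩ := (inferInstance : Module.Finite A (LinearMap.range (KaehlerDifferential.kerCotangentToTensor ℤ A K))).1
    refine Module.Finite.iff_fg.2 ⟨s.map (Function.Embedding.subtype _), ?_⟩
    rw [Finset.coe_map, Function.Embedding.coe_subtype]
    refine le_antisymm (Submodule.span_le.2 ?_) fun x hx => ?_
    · rintro _ ⟨y, -, rfl⟩; exact (hrange _).2 y.2
    · have hy : (⟨x, (hrange x).1 hx⟩ : LinearMap.range (KaehlerDifferential.kerCotangentToTensor ℤ A K)) ∈
          Submodule.span A (s : Set _) := hs ▸ Submodule.mem_top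
      have := Submodule.mem_map_of_mem (f := (LinearMap.range (KaehlerDifferential.kerCotangentToTensor ℤ A K)).subtype) hy
      rw [Submodule.map_span] at this
      exact Submodule.span_le_restrictScalars A K _ this
  have hmaps : ∀ z ∈ EGA41.imperfection ℤ k K, Ψ z ∈ N := fun z hz => by
    have e : ∀ z, KaehlerDifferential.mapBaseChange ℤ A K (Ψ z) = KaehlerDifferential.mapBaseChange ℤ k K z := fun z => by
      induction z with
      | zero => simp only [map_zero]
      | add x y hx hy => simp only [map_add, hx, hy]
      | tmul a ω =>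
        show KaehlerDifferential.mapBaseChange ℤ A K (a • ((1 : K) ⊗ₜ[A] KaehlerDifferential.map ℤ ℤ k A ω)) = _
        rw [map_smul, KaehlerDifferential.mapBaseChange_tmul, KaehlerDifferential.mapBaseChange_tmul, one_smul]
        congr 1
        have hω : ω ∈ Submodule.span k (Set.range (KaehlerDifferential.D ℤ k)) := by
          rw [KaehlerDifferential.span_range_derivation]; trivial
        induction hω using Submodule.span_induction with
        | mem x hx =>
          obtain ⟨b, rfl⟩ := hx
          rw [KaehlerDifferential.map_D, KaehlerDifferential.map_D, KaehlerDifferential.map_D,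
            ← IsScalarTower.algebraMap_apply]
        | zero => simp only [map_zero]
        | add x y _ _ hx hy => simp only [map_add, hx, hy]
        | smul b x _ hx => rw [map_smul, LinearMap.map_smul_of_tower, hx, map_smul]
    show KaehlerDifferential.mapBaseChange ℤ A K (Ψ z) = 0
    rw [e]; exact hz
  haveI : IsNoetherian K N := isNoetherian_of_isNoetherianRing_of_finite K N
  exact Module.Finite.of_injective (LinearMap.restrict Ψ hmaps)
    (fun x y h => Subtype.ext (hinj (congrArg Subtype.val h)))

/-- A formally smooth complete algebra with given residue field and given first-order structure. -/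
theorem exists_smooth {n : ℕ} (φ : K ⊗[k] Ω[k⁄ℤ] →ₗ[K] (Fin n → K))
    (hφ : ∀ z ∈ EGA41.imperfection ℤ k K, φ z = 0 → z = 0) :
    ∃ (A : Type u) (_ : CommRing A) (_ : IsLocalRing A) (_ : IsNoetherianRing A) (_ : Algebra k A),
      IsAdicComplete (maximalIdeal A) A ∧ CAlgX.IsAdicFormallySmooth k A (maximalIdeal A) ∧
      Nonempty (ResidueField A ≃ₐ[k] K) ∧ ringKrullDim A = n := by
  classical
  let T := MvPowerSeries (Fin n) K
  haveI : IsRegularLocalRing T := (CAlgH.isRegularLocalRing_mvPowerSeries K n).1
  have hmT : maximalIdeal T = Ideal.span (Set.range MvPowerSeries.X) := CAlgH3.maximalIdeal_mvPowerSeries_eq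
  haveI : IsAdicComplete (maximalIdeal T) T := by rw [hmT]; exact CAlgH.isAdicComplete_mvPowerSeries (Fin n) K
  haveI := CAlgH.AdicSmooth.isAdicComplete_pow (maximalIdeal T) 2 two_ne_zero
  let P := (⊥ : Subfield k)
  haveI := SymGr.perfectField_bot (k := k)
  let D : Derivation ℤ k (Fin n → K) :=
    (φ.restrictScalars k ∘ₗ TensorProduct.mk k K Ω[k⁄ℤ] 1).compDer (KaehlerDifferential.D ℤ k)
  have hDP : ∀ x : P, D (x : k) = 0 := fun x => by
    have h : KaehlerDifferential.map ℤ ℤ P k (KaehlerDifferential.D ℤ P x) = KaehlerDifferential.D ℤ k (x : k) :=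
      KaehlerDifferential.map_D ℤ ℤ P k x
    show (φ.restrictScalars k ∘ₗ TensorProduct.mk k K Ω[k⁄ℤ] 1) (KaehlerDifferential.D ℤ k (x : k)) = 0
    rw [← h, Subsingleton.elim (KaehlerDifferential.D ℤ P x) 0, map_zero, map_zero]
  let lin : k → T := fun c => MvPowerSeries.C (algebraMap k K c) + ∑ i, MvPowerSeries.C (D c i) * MvPowerSeries.X i
  have hX : ∀ i : Fin n, MvPowerSeries.X i ∈ maximalIdeal T := fun i => hmT ▸ Ideal.subset_span ⟨i, rfl⟩
  have hlin : ∀ c, lin c - MvPowerSeries.C (algebraMap k K c) ∈ maximalIdeal T := fun c => by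
    rw [add_sub_cancel_left]; exact Ideal.sum_mem _ fun i _ => Ideal.mul_mem_left _ _ (hX i)
  have hadd : ∀ a b, lin (a + b) = lin a + lin b := fun a b => by
    simp only [lin, map_add, Pi.add_apply, add_mul, Finset.sum_add_distrib]; ring
  let ψ : k →+* T ⧸ maximalIdeal T ^ 2 :=
    { toFun := fun c => Ideal.Quotient.mk _ (lin c)
      map_one' := by simp [lin, D.map_one_eq_zero]
      map_zero' := by simp [lin]
      map_add' := fun a b => by rw [hadd, map_add]
      map_mul' := fun a b => by
        rw [← map_mul, Ideal.Quotient.eq]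
        have e : ∑ i, MvPowerSeries.C (D (a * b) i) * MvPowerSeries.X i =
            MvPowerSeries.C (algebraMap k K a) * ∑ i, MvPowerSeries.C (D b i) * MvPowerSeries.X i +
            MvPowerSeries.C (algebraMap k K b) * ∑ i, MvPowerSeries.C (D a i) * MvPowerSeries.X i := by
          rw [Finset.mul_sum, Finset.mul_sum, ← Finset.sum_add_distrib]
          refine Finset.sum_congr rfl fun i _ => ?_
          rw [D.leibniz, Pi.add_apply, Pi.smul_apply, Pi.smul_apply, Algebra.smul_def, Algebra.smul_def, map_add,
            map_mul, map_mul]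
          ring
        have hS : ∀ c, (∑ i, MvPowerSeries.C (D c i) * MvPowerSeries.X i : T) ∈ maximalIdeal T := fun c =>
          Ideal.sum_mem _ fun i _ => Ideal.mul_mem_left _ _ (hX i)
        rw [show lin (a * b) - lin a * lin b = -((∑ i, MvPowerSeries.C (D a i) * MvPowerSeries.X i : T) *
            ∑ i, MvPowerSeries.C (D b i) * MvPowerSeries.X i) by simp only [lin]; rw [e, map_mul, map_mul]; ring,
          neg_mem_iff, pow_two]
        exact Ideal.mul_mem_mul (hS a) (hS b) }
  -- the symmetric algebra of the cotangent space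
  have hsym : PP16.SymGrBijective T (maximalIdeal T) := by
    haveI : Algebra.FormallySmooth P K := CAlgH.formallySmooth_of_perfectField_any P K
    letI : Field (T ⧸ maximalIdeal T) := Ideal.Quotient.field _
    haveI : Algebra.FormallySmooth P (T ⧸ maximalIdeal T) := CAlgH.formallySmooth_of_perfectField_any P _
    exact SymGr.symGrBijective (CAlgH.AdicSmooth.trans (𝔫 := (⊥ : Ideal K)) (by rw [Ideal.map_bot]; exact bot_le)
      (CAlgH.AdicSmooth.of_formallySmooth (R := P) (S := K) (𝔫 := ⊥)) (CAlgH.AdicSmooth.mvPowerSeries_of_isMaximal _))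
  let f : P →+* T := MvPowerSeries.C.comp ((algebraMap k K).comp P.subtype)
  obtain ⟨χ, -, hχψ⟩ := CAlgH.AdicSmooth.exists_lift_complete (R := P) (S := k) (𝔫 := ⊥)
    (h := by
      haveI : Algebra.FormallySmooth P k := CAlgH.formallySmooth_of_perfectField_any P k
      exact CAlgH.AdicSmooth.of_formallySmooth)
    f (maximalIdeal T ^ 2) ψ (RingHom.ext fun x => by
      show Ideal.Quotient.mk _ (lin (x : k)) = Ideal.Quotient.mk _ (f x)
      simp only [lin, hDP, Pi.zero_apply, map_zero, zero_mul, Finset.sum_const_zero, add_zero]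
      rfl)
    ⟨1, fun x hx => by rw [pow_one, Ideal.mem_bot] at hx; rw [hx, map_zero]⟩
  letI algT : Algebra k T := χ.toAlgebra
  have hχ : ∀ c, algebraMap k T c - lin c ∈ maximalIdeal T ^ 2 := fun c => by
    rw [← Ideal.Quotient.eq]; exact RingHom.congr_fun hχψ c
  let cc : T →+* K := MvPowerSeries.constantCoeff
  have hcc0 : ∀ t ∈ maximalIdeal T, cc t = 0 := fun t ht => by
    rw [mem_maximalIdeal, mem_nonunits_iff, MvPowerSeries.isUnit_iff_constantCoeff, isUnit_iff_ne_zero, not_not] at ht
    exact ht
  have hcc : ∀ c, cc (algebraMap k T c) = algebraMap k K c := fun c => by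
    have h1 := hcc0 _ ((add_mem (Ideal.pow_le_self two_ne_zero (hχ c)) (hlin c)) :
      algebraMap k T c - lin c + (lin c - MvPowerSeries.C (algebraMap k K c)) ∈ maximalIdeal T)
    rw [sub_add_sub_cancel, map_sub, sub_eq_zero] at h1
    rw [h1]; exact MvPowerSeries.constantCoeff_C _
  letI algK : Algebra T K := cc.toAlgebra
  haveI : @IsScalarTower ℤ k T Algebra.toSMul Algebra.toSMul Algebra.toSMul :=
    IsScalarTower.of_algebraMap_eq fun z => by simp
  haveI : IsScalarTower k T K := IsScalarTower.of_algebraMap_eq fun c => (hcc c).symm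
  -- the residue field
  haveI : IsLocalHom cc := IsLocalHom.of_surjective cc fun x => ⟨MvPowerSeries.C x, MvPowerSeries.constantCoeff_C x⟩
  let eK : ResidueField T ≃ₐ[k] K :=
    { RingEquiv.ofBijective (IsLocalRing.ResidueField.lift cc)
        ⟨(IsLocalRing.ResidueField.lift cc).injective, fun x => ⟨residue T (MvPowerSeries.C x), by
          rw [IsLocalRing.ResidueField.lift_residue_apply]; exact MvPowerSeries.constantCoeff_C x⟩⟩ with
      commutes' := fun c => by
        show IsLocalRing.ResidueField.lift cc (algebraMap k (ResidueField T) c) = _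
        rw [IsScalarTower.algebraMap_apply k T (ResidueField T), IsLocalRing.ResidueField.algebraMap_eq]
        simp [hcc] }
  refine ⟨T, inferInstance, inferInstance, inferInstance, algT, inferInstance,
    SymGr.isAdicFormallySmooth_iff_field.2 ⟨hsym, ?_⟩, ⟨eK⟩, ?_⟩
  · haveI : @IsScalarTower ℤ T K Algebra.toSMul Algebra.toSMul Algebra.toSMul :=
      IsScalarTower.of_algebraMap_eq fun z => by simp
    -- linear coefficients
    let δ : Derivation ℤ T (Fin n → K) := Derivation.mk'
      ({ toFun := fun t i => MvPowerSeries.coeff (Finsupp.single i 1) t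
         map_zero' := funext fun i => map_zero _
         map_add' := fun a b => funext fun i => map_add _ _ _ } : T →+ (Fin n → K)).toIntLinearMap
      fun a b => funext fun i => by
        show MvPowerSeries.coeff (Finsupp.single i 1) (a * b) = cc a * MvPowerSeries.coeff (Finsupp.single i 1) b +
          cc b * MvPowerSeries.coeff (Finsupp.single i 1) a
        rw [MvPowerSeries.coeff_mul, Finsupp.antidiagonal_single, Finset.sum_map,
          show Finset.HasAntidiagonal.antidiagonal (1 : ℕ) = ({(0, 1), (1, 0)} : Finset (ℕ × ℕ)) from rfl, Finset.sum_pair (by simp)]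
        simp [cc, mul_comm]
    have hδ2 : ∀ t ∈ maximalIdeal T ^ 2, δ t = 0 := fun t ht => by
      rw [pow_two] at ht
      refine Submodule.mul_induction_on ht (fun a ha b hb => ?_) fun a b ha hb => by rw [map_add, ha, hb, add_zero]
      rw [δ.leibniz, ← algebraMap_smul K a, ← algebraMap_smul K b]
      show cc a • δ b + cc b • δ a = 0
      rw [hcc0 a ha, hcc0 b hb, zero_smul, zero_smul, add_zero]
    have hδC : ∀ x, δ (MvPowerSeries.C x) = 0 := fun x => funext fun i => by
      show MvPowerSeries.coeff (Finsupp.single i 1) (MvPowerSeries.C x) = 0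
      rw [MvPowerSeries.coeff_C, if_neg (by simp)]
    have hδX : ∀ j, δ (MvPowerSeries.X j) = Pi.single j 1 := fun j => funext fun i => by
      show MvPowerSeries.coeff (Finsupp.single i 1) (MvPowerSeries.X j) = _
      rw [MvPowerSeries.coeff_X, Pi.single_apply]
      by_cases h : i = j
      · subst h; simp
      · rw [if_neg h, if_neg]
        intro h'
        exact h ((Finsupp.single_eq_single_iff ..).1 h' |>.elim (fun x => x.1) (fun x => absurd x.1 one_ne_zero))
    have hδk : ∀ c, δ (algebraMap k T c) = D c := fun c => by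
      have h1 : δ (algebraMap k T c) = δ (lin c) := by
        rw [← sub_eq_zero, ← map_sub]; exact hδ2 _ (hχ c)
      rw [h1]
      simp only [lin, map_add, map_sum, hδC, zero_add, δ.leibniz, hδX, smul_zero, add_zero]
      funext i
      rw [Finset.sum_apply, Finset.sum_eq_single i (fun j _ hj => by
        rw [Pi.smul_apply, Pi.single_eq_of_ne (Ne.symm hj), smul_zero]) (fun h => absurd (Finset.mem_univ i) h),
        Pi.smul_apply, Pi.single_eq_same, Algebra.smul_def, mul_one]
      exact MvPowerSeries.constantCoeff_C _
    let L1 : Ω[T⁄ℤ] →ₗ[T] Ω[K⁄ℤ] × (Fin n → K) :=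
      (KaehlerDifferential.map ℤ ℤ T K).prod δ.liftKaehlerDifferential
    let Φ : K ⊗[k] Ω[k⁄ℤ] →ₗ[K] Ω[K⁄ℤ] × (Fin n → K) := (KaehlerDifferential.mapBaseChange ℤ k K).prod φ
    have hΦ : ∀ z, Φ z = 0 → z = 0 := fun z hz => hφ z (congrArg Prod.fst hz) (congrArg Prod.snd hz)
    let eL : ResidueField T →ₗ[T] K :=
      { toFun := eK
        map_add' := map_add eK
        map_smul' := fun t x => by
          obtain ⟨x, rfl⟩ := IsLocalRing.residue_surjective x
          show eK (residue T (t * x)) = cc t * eK (residue T x)
          exact map_mul cc t x }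
    let Θ : ResidueField T ⊗[T] Ω[T⁄ℤ] →ₗ[T] Ω[K⁄ℤ] × (Fin n → K) :=
      ((LinearMap.liftBaseChange K L1).restrictScalars T) ∘ₗ TensorProduct.map eL LinearMap.id
    let cb := TensorProduct.AlgebraTensorModule.cancelBaseChange k T T (ResidueField T) Ω[k⁄ℤ]
    let ek := TensorProduct.congr eK.toLinearEquiv (LinearEquiv.refl k Ω[k⁄ℤ])
    have hcomp : ∀ z, Θ ((KaehlerDifferential.mapBaseChange ℤ k T).lTensor (ResidueField T) z) = Φ (ek (cb z)) := by
      intro z
      induction z with
      | zero => simp only [map_zero]
      | add x y hx hy => simp only [map_add, hx, hy]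
      | tmul x y =>
        induction y with
        | zero => simp only [TensorProduct.tmul_zero, map_zero]
        | add y y' hy hy' => simp only [TensorProduct.tmul_add, map_add, hy, hy']
        | tmul t ω =>
          rw [LinearMap.lTensor_tmul, KaehlerDifferential.mapBaseChange_tmul,
            TensorProduct.AlgebraTensorModule.cancelBaseChange_tmul, TensorProduct.congr_tmul]
          show eK x • L1 (t • KaehlerDifferential.map ℤ ℤ k T ω) = Φ (eK (t • x) ⊗ₜ[k] ω)
          have hω : L1 (KaehlerDifferential.map ℤ ℤ k T ω) = Φ ((1 : K) ⊗ₜ[k] ω) := by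
            have hω : ω ∈ Submodule.span k (Set.range (KaehlerDifferential.D ℤ k)) := by
              rw [KaehlerDifferential.span_range_derivation]; trivial
            induction hω using Submodule.span_induction with
            | mem w hw =>
              obtain ⟨b, rfl⟩ := hw
              refine Prod.ext ?_ ?_
              · show KaehlerDifferential.map ℤ ℤ T K (KaehlerDifferential.map ℤ ℤ k T (KaehlerDifferential.D ℤ k b)) =
                  KaehlerDifferential.mapBaseChange ℤ k K ((1 : K) ⊗ₜ[k] KaehlerDifferential.D ℤ k b)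
                rw [KaehlerDifferential.map_D, KaehlerDifferential.map_D, KaehlerDifferential.mapBaseChange_tmul,
                  one_smul, KaehlerDifferential.map_D, ← IsScalarTower.algebraMap_apply]
              · show δ.liftKaehlerDifferential (KaehlerDifferential.map ℤ ℤ k T (KaehlerDifferential.D ℤ k b)) = _
                rw [KaehlerDifferential.map_D, Derivation.liftKaehlerDifferential_comp_D, hδk]
                rfl
            | zero => simp only [TensorProduct.tmul_zero, map_zero]
            | add w w' _ _ hw hw' => simp only [TensorProduct.tmul_add, map_add, hw, hw']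
            | smul b w _ hw =>
              rw [map_smul (KaehlerDifferential.map ℤ ℤ k T), TensorProduct.tmul_smul,
                ← algebraMap_smul T b (KaehlerDifferential.map ℤ ℤ k T w), map_smul L1,
                ← algebraMap_smul K b ((1 : K) ⊗ₜ[k] w), map_smul Φ, hw, ← algebraMap_smul K (algebraMap k T b),
                ← IsScalarTower.algebraMap_apply k T K]
          rw [map_smul, hω, show eK (t • x) = cc t * eK x from map_smul eL t x,
            ← algebraMap_smul K t (Φ _), smul_smul, mul_comm (eK x)]
          show (cc t * eK x) • Φ ((1 : K) ⊗ₜ[k] ω) = _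
          rw [← map_smul, TensorProduct.smul_tmul', smul_eq_mul, mul_one]
    rw [injective_iff_map_eq_zero]
    intro z hz
    have h1 : Θ 0 = Φ (ek (cb z)) := by rw [← hcomp z]; exact congrArg Θ hz.symm
    rw [map_zero] at h1
    exact cb.injective (ek.injective ((hΦ _ h1.symm).trans (by rw [map_zero, map_zero])))
  · rw [CAlgH.AdicSmooth.ringKrullDim_mvPowerSeries_regular, ringKrullDim_eq_zero_of_field, zero_add]

/-- Linear forms separating a finite-dimensional subspace. -/
theorem exists_forms_injOn {V : Type*} [AddCommGroup V] [Module K V] (U : Submodule K V) [FiniteDimensional K U] {n : ℕ}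
    (hn : Module.finrank K U ≤ n) : ∃ φ : V →ₗ[K] (Fin n → K), ∀ z ∈ U, φ z = 0 → z = 0 := by
  let b := Module.finBasis K U
  let φ₀ := b.constr K fun i => Pi.basisFun K (Fin n) (Fin.castLE hn i)
  have hinj : Function.Injective φ₀ := by
    rw [← LinearMap.ker_eq_bot, LinearMap.ker_eq_bot']
    intro z hz
    have hli := (Pi.basisFun K (Fin n)).linearIndependent.comp _ (Fin.castLE_injective hn)
    rw [Module.Basis.constr_apply_fintype] at hz
    have h := Fintype.linearIndependent_iff.1 hli _ hz
    exact b.repr.injective (Finsupp.ext fun i => by simpa using h i)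
  obtain ⟨φ, hφ⟩ := φ₀.exists_extend
  refine ⟨φ, fun z hz h0 => ?_⟩
  have : φ₀ ⟨z, hz⟩ = 0 := by rw [← hφ]; exact h0
  exact congrArg Subtype.val (hinj (this.trans (map_zero _).symm))

end Groth.Agent.EGA41Lib.SLR
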