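import Mathlib
import Groth.Agent.EGA41Lib.SmoothQuotientLocus

/-!
# The injectivity criterion for formal smoothness of quotients at a prime
-/

set_option autoImplicit false

universe u

open TensorProduct

namespace Groth.Agent.EGA41Lib.SQL

section Residue

variable {B C : Type u} [CommRing B] [CommRing C] [Algebra B C] (hsurj : Function.Surjective (algebraMap B C))
  (p : Ideal C) [p.IsPrime]

theorem algebraMap_residueField_eq (b : B) :
    algebraMap B p.ResidueField b = algebraMap C p.ResidueField (algebraMap B C b) :=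
  IsScalarTower.algebraMap_apply B C p.ResidueField b

theorem algebraMap_residueField_ne_zero {b : B} (hb : algebraMap B C b ∉ p) : algebraMap B p.ResidueField b ≠ 0 := by
  rw [algebraMap_residueField_eq, Ne, Ideal.algebraMap_residueField_eq_zero]
  exact hb

include hsurj in
theorem isLocalizedModule_residue : IsLocalizedModule (p.comap (algebraMap B C)).primeCompl
    ((Submodule.liftQ (p.comap (algebraMap B C)) (Algebra.linearMap B p.ResidueField) fun x hx => by
      rw [LinearMap.mem_ker, Algebra.linearMap_apply, algebraMap_residueField_eq, Ideal.algebraMap_residueField_eq_zero]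
      exact hx) : B ⧸ p.comap (algebraMap B C) →ₗ[B] p.ResidueField) := by
  constructor
  · intro t
    have ht : algebraMap B p.ResidueField (t : B) ≠ 0 := algebraMap_residueField_ne_zero p t.2
    refine (Module.End.isUnit_iff _).2 ⟨fun a b hab => ?_, fun a => ⟨(algebraMap B p.ResidueField (t : B))⁻¹ * a, ?_⟩⟩
    · simp only [Module.algebraMap_end_apply, Algebra.smul_def] at hab
      exact mul_left_cancel₀ ht hab
    · simp only [Module.algebraMap_end_apply, Algebra.smul_def]
      rw [mul_inv_cancel_left₀ ht]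
  · intro y
    obtain ⟨a, s, hs, rfl⟩ := IsFractionRing.div_surjective (A := C ⧸ p) y
    obtain ⟨a', rfl⟩ := Ideal.Quotient.mk_surjective a
    obtain ⟨s', rfl⟩ := Ideal.Quotient.mk_surjective s
    obtain ⟨a'', rfl⟩ := hsurj a'
    obtain ⟨s'', rfl⟩ := hsurj s'
    have hs' : algebraMap B C s'' ∉ p := fun h =>
      nonZeroDivisors.ne_zero hs (Ideal.Quotient.eq_zero_iff_mem.2 h)
    refine ⟨(Ideal.Quotient.mk _ a'', ⟨s'', hs'⟩), ?_⟩
    rw [Submonoid.smul_def, Algebra.smul_def, Ideal.algebraMap_quotient_residueField_mk,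
      Ideal.algebraMap_quotient_residueField_mk, ← algebraMap_residueField_eq, ← algebraMap_residueField_eq,
      mul_div_cancel₀ _ (algebraMap_residueField_ne_zero p hs')]
    rfl
  · intro x y hxy
    refine ⟨1, ?_⟩
    obtain ⟨x', rfl⟩ := Submodule.Quotient.mk_surjective _ x
    obtain ⟨y', rfl⟩ := Submodule.Quotient.mk_surjective _ y
    congr 1
    rw [Submodule.liftQ_apply, Submodule.liftQ_apply, Algebra.linearMap_apply, Algebra.linearMap_apply, ← sub_eq_zero,
      ← map_sub, algebraMap_residueField_eq, Ideal.algebraMap_residueField_eq_zero] at hxy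
    exact (Submodule.Quotient.eq _).2 hxy

variable {M : Type u} [AddCommGroup M] [Module B M]

include hsurj in
theorem exists_smul_eq_one_tmul (z : p.ResidueField ⊗[B] M) :
    ∃ s : B, algebraMap B C s ∉ p ∧ ∃ m : M, s • z = (1 : p.ResidueField) ⊗ₜ[B] m := by
  haveI := isLocalizedModule_residue hsurj p
  obtain ⟨⟨w, s⟩, hw⟩ := IsLocalizedModule.surj (p.comap (algebraMap B C)).primeCompl
    (TensorProduct.AlgebraTensorModule.rTensor B M ((Submodule.liftQ (p.comap (algebraMap B C)) (Algebra.linearMap B p.ResidueField) fun x hx => by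
      rw [LinearMap.mem_ker, Algebra.linearMap_apply, algebraMap_residueField_eq, Ideal.algebraMap_residueField_eq_zero]
      exact hx) : B ⧸ p.comap (algebraMap B C) →ₗ[B] p.ResidueField)) z
  obtain ⟨m, rfl⟩ : ∃ m : M, (1 : B ⧸ p.comap (algebraMap B C)) ⊗ₜ[B] m = w := by
    clear hw
    induction w with
    | zero => exact ⟨0, TensorProduct.tmul_zero _ _⟩
    | add a b ha hb =>
      obtain ⟨ma, rfl⟩ := ha; obtain ⟨mb, rfl⟩ := hb
      exact ⟨ma + mb, TensorProduct.tmul_add _ _ _⟩
    | tmul q m =>
      obtain ⟨c, rfl⟩ := Ideal.Quotient.mk_surjective q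
      refine ⟨c • m, ?_⟩
      rw [← TensorProduct.smul_tmul, ← Ideal.Quotient.algebraMap_eq, Algebra.algebraMap_eq_smul_one]
  refine ⟨s, s.2, m, hw.trans ?_⟩
  show _ ⊗ₜ[B] m = _
  congr 1
  exact (Submodule.liftQ_apply _ _ 1).trans (map_one (algebraMap B p.ResidueField))

include hsurj in
theorem exists_smul_mem_of_one_tmul_eq_zero {m : M} (h : (1 : p.ResidueField) ⊗ₜ[B] m = 0) :
    ∃ t : B, algebraMap B C t ∉ p ∧ t • m ∈ p.comap (algebraMap B C) • (⊤ : Submodule B M) := by
  haveI := isLocalizedModule_residue hsurj p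
  let g : B ⧸ p.comap (algebraMap B C) →ₗ[B] p.ResidueField :=
    Submodule.liftQ (p.comap (algebraMap B C)) (Algebra.linearMap B p.ResidueField) fun x hx => by
      rw [LinearMap.mem_ker, Algebra.linearMap_apply, algebraMap_residueField_eq, Ideal.algebraMap_residueField_eq_zero]
      exact hx
  have h1 : TensorProduct.AlgebraTensorModule.rTensor B M g ((1 : B ⧸ p.comap (algebraMap B C)) ⊗ₜ[B] m) = TensorProduct.AlgebraTensorModule.rTensor B M g 0 := by
    rw [map_zero]
    refine Eq.trans ?_ h
    show g 1 ⊗ₜ[B] m = _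
    congr 1
    exact (Submodule.liftQ_apply _ _ 1).trans (map_one (algebraMap B p.ResidueField))
  haveI : IsLocalizedModule (p.comap (algebraMap B C)).primeCompl g := isLocalizedModule_residue hsurj p
  obtain ⟨t, ht⟩ := IsLocalizedModule.exists_of_eq (S := (p.comap (algebraMap B C)).primeCompl) (f := TensorProduct.AlgebraTensorModule.rTensor B M g) h1
  refine ⟨t, t.2, ?_⟩
  rw [smul_zero, Submonoid.smul_def, ← TensorProduct.tmul_smul] at ht
  have h2 := congrArg (TensorProduct.quotTensorEquivQuotSMul M (p.comap (algebraMap B C))) ht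
  rw [map_zero, ← map_one (Ideal.Quotient.mk (p.comap (algebraMap B C))), TensorProduct.quotTensorEquivQuotSMul_mk_tmul,
    one_smul, Submodule.Quotient.mk_eq_zero] at h2
  exact h2

end Residue

open KaehlerDifferential

variable {A B C : Type u} [CommRing A] [CommRing B] [CommRing C] [Algebra A B] [Algebra B C] [Algebra A C]
  [IsScalarTower A B C] (hsurj : Function.Surjective (algebraMap B C)) (p : Ideal C) [p.IsPrime]

include hsurj in
/-- A derivation inducing the canonical map modulo the prime gives injectivity. -/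
theorem injective_of_derivation (D : Derivation A B (p.ResidueField ⊗[B] (RingHom.ker (algebraMap B C)).Cotangent))
    (hD : ∀ x : RingHom.ker (algebraMap B C),
      D x = (1 : p.ResidueField) ⊗ₜ[B] (RingHom.ker (algebraMap B C)).toCotangent x) :
    Function.Injective ((kerCotangentToTensor A B C).lTensor p.ResidueField) := by
  haveI : IsScalarTower B C (p.ResidueField ⊗[B] (RingHom.ker (algebraMap B C)).Cotangent) :=
    IsScalarTower.of_algebraMap_smul fun b z => by
      rw [← algebraMap_smul p.ResidueField (algebraMap B C b) z, ← algebraMap_residueField_eq, algebraMap_smul]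
  let r := (D.liftKaehlerDifferential.liftBaseChange C).restrictScalars B
  refine Function.LeftInverse.injective (g := (r.liftBaseChange p.ResidueField)) fun z => ?_
  induction z with
  | zero => rw [map_zero, map_zero]
  | add a b ha hb => rw [map_add, map_add, ha, hb]
  | tmul c m =>
    obtain ⟨x, rfl⟩ := (RingHom.ker (algebraMap B C)).toCotangent_surjective m
    rw [LinearMap.lTensor_tmul, LinearMap.liftBaseChange_tmul, KaehlerDifferential.kerCotangentToTensor_toCotangent]
    show c • ((1 : C) • D.liftKaehlerDifferential (KaehlerDifferential.D A B x)) = _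
    rw [one_smul, Derivation.liftKaehlerDifferential_comp_D, hD, TensorProduct.smul_tmul', smul_eq_mul, mul_one]

include hsurj in
theorem injective_of_good {b : B} (hb : algebraMap B C b ∉ p) (hgood : Good A B C b) :
    Function.Injective ((kerCotangentToTensor A B C).lTensor p.ResidueField) := by
  obtain ⟨D, hD⟩ := hgood
  let g : (RingHom.ker (algebraMap B C)).Cotangent →ₗ[B] p.ResidueField ⊗[B] (RingHom.ker (algebraMap B C)).Cotangent :=
    TensorProduct.mk B p.ResidueField _ (algebraMap B p.ResidueField b)⁻¹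
  refine injective_of_derivation hsurj p (g.compDer D) fun x => ?_
  show (algebraMap B p.ResidueField b)⁻¹ ⊗ₜ[B] D x = _
  rw [hD, ← TensorProduct.smul_tmul, Algebra.smul_def, mul_inv_cancel₀ (algebraMap_residueField_ne_zero p hb)]

include hsurj in
theorem exists_good_of_injective [Algebra.FormallySmooth A B] [Module.Finite B (RingHom.ker (algebraMap B C)).Cotangent]
    (hinj : Function.Injective ((kerCotangentToTensor A B C).lTensor p.ResidueField)) :
    ∃ b : B, algebraMap B C b ∉ p ∧ Good A B C b := by
  classical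
  let J := RingHom.ker (algebraMap B C)
  let P := p.comap (algebraMap B C)
  obtain ⟨r, hr⟩ := ((kerCotangentToTensor A B C).baseChange p.ResidueField).exists_leftInverse_of_injective
    (LinearMap.ker_eq_bot.2 hinj)
  let ρ : Ω[B⁄A] →ₗ[B] p.ResidueField ⊗[B] J.Cotangent :=
    (r.restrictScalars B) ∘ₗ (TensorProduct.mk B p.ResidueField (C ⊗[B] Ω[B⁄A]) 1) ∘ₗ (TensorProduct.mk B C Ω[B⁄A] 1)
  have hρ : ∀ x : J, ρ (KaehlerDifferential.D A B x) = (1 : p.ResidueField) ⊗ₜ[B] J.toCotangent x := fun x => by
    exact LinearMap.congr_fun hr ((1 : p.ResidueField) ⊗ₜ[B] J.toCotangent x)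
  let F : Type u := Ω[B⁄A] →₀ B
  let pr : F →ₗ[B] Ω[B⁄A] := Finsupp.linearCombination B id
  obtain ⟨ι, hι⟩ := Module.projective_lifting_property pr LinearMap.id
    (Finsupp.linearCombination_surjective _ Function.surjective_id)
  obtain ⟨n, gen, hgen⟩ := Module.Finite.exists_fin (R := B) (M := J.Cotangent)
  choose x hx using fun i => J.toCotangent_surjective (gen i)
  let supp : Finset (Ω[B⁄A]) := Finset.univ.biUnion fun i => (ι (KaehlerDifferential.D A B (x i))).support
  choose t ht m hm using fun e : Ω[B⁄A] => exists_smul_eq_one_tmul hsurj p (ρ e)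
  let s := ∏ e ∈ supp, t e
  let val : Ω[B⁄A] → J.Cotangent := fun e => if e ∈ supp then (∏ e' ∈ supp.erase e, t e') • m e else 0
  let L : Ω[B⁄A] →ₗ[B] J.Cotangent := (Finsupp.linearCombination B val) ∘ₗ ι
  have hLx : ∀ i, (1 : p.ResidueField) ⊗ₜ[B] L (KaehlerDifferential.D A B (x i)) =
      s • ((1 : p.ResidueField) ⊗ₜ[B] gen i) := fun i => by
    let c := ι (KaehlerDifferential.D A B (x i))
    have hsub : c.support ⊆ supp := fun e he => Finset.mem_biUnion.2 ⟨i, Finset.mem_univ _, he⟩
    have hc : KaehlerDifferential.D A B (x i) = ∑ e ∈ supp, c e • e := by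
      rw [← show pr c = KaehlerDifferential.D A B (x i) from LinearMap.congr_fun hι _, Finsupp.linearCombination_apply,
        Finsupp.sum_of_support_subset _ hsub _ (by simp)]
      rfl
    rw [← hx, ← hρ, show L (KaehlerDifferential.D A B (x i)) = ∑ e ∈ supp, c e • val e by
      show Finsupp.linearCombination B val c = _
      rw [Finsupp.linearCombination_apply, Finsupp.sum_of_support_subset _ hsub _ (by simp)], hc, map_sum,
      Finset.smul_sum, TensorProduct.tmul_sum]
    refine Finset.sum_congr rfl fun e he => ?_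
    simp only [val, if_pos he, map_smul, TensorProduct.tmul_smul, ← hm e, smul_smul]
    congr 1
    rw [show s = t e * ∏ e' ∈ supp.erase e, t e' from (Finset.mul_prod_erase supp t he).symm]
    ring
  -- linearity on the ideal
  have hlin : ∀ (c : B) (y : J), L (KaehlerDifferential.D A B (c * y)) = c • L (KaehlerDifferential.D A B y) := fun c y => by
    rw [Derivation.leibniz, map_add, map_smul, map_smul]
    refine add_eq_left.2 ?_
    obtain ⟨w, hw⟩ := J.toCotangent_surjective (L (KaehlerDifferential.D A B c))
    rw [← hw, ← map_smul, Ideal.toCotangent_eq_zero, sq]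
    exact Ideal.mul_mem_mul y.2 w.2
  let ε₀ : J →ₗ[B] J.Cotangent :=
    { toFun := fun y => L (KaehlerDifferential.D A B y)
      map_add' := fun a b => by rw [Submodule.coe_add, map_add, map_add]
      map_smul' := fun c y => by rw [Submodule.coe_smul, smul_eq_mul, hlin, RingHom.id_apply] }
  have hker : LinearMap.ker J.toCotangent ≤ LinearMap.ker ε₀ := fun y hy => by
    rw [LinearMap.mem_ker, Ideal.toCotangent_eq_zero] at hy
    rw [LinearMap.mem_ker]
    show L (KaehlerDifferential.D A B (y : B)) = 0
    rw [sq] at hy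
    refine Submodule.mul_induction_on hy (fun a ha b hb => ?_)
      fun a b ha hb => by rw [map_add, map_add, ha, hb, add_zero]
    rw [hlin a ⟨b, hb⟩]
    obtain ⟨w, hw⟩ := J.toCotangent_surjective (L (KaehlerDifferential.D A B b))
    rw [← hw, ← map_smul, Ideal.toCotangent_eq_zero, sq]
    exact Ideal.mul_mem_mul ha w.2
  let ε : J.Cotangent →ₗ[B] J.Cotangent :=
    (LinearMap.ker J.toCotangent).liftQ ε₀ hker ∘ₗ (J.toCotangent.quotKerEquivOfSurjective J.toCotangent_surjective).symm
  have hε : ∀ y : J, ε (J.toCotangent y) = L (KaehlerDifferential.D A B y) := fun y => by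
    show (LinearMap.ker J.toCotangent).liftQ ε₀ hker
      ((J.toCotangent.quotKerEquivOfSurjective J.toCotangent_surjective).symm (J.toCotangent y)) = _
    rw [show (J.toCotangent.quotKerEquivOfSurjective J.toCotangent_surjective).symm (J.toCotangent y) =
        Submodule.Quotient.mk y by rw [LinearEquiv.symm_apply_eq]; rfl]
    rfl
  have hgi : ∀ i, ∃ u : B, algebraMap B C u ∉ p ∧ u • (ε (gen i) - s • gen i) ∈ P • (⊤ : Submodule B J.Cotangent) :=
    fun i => exists_smul_mem_of_one_tmul_eq_zero hsurj p (by
      rw [TensorProduct.tmul_sub, TensorProduct.tmul_smul, ← hx, hε, hLx, hx, sub_self])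
  choose u hu hum using hgi
  let U := ∏ i, u i
  let η : Module.End B J.Cotangent := U • ε - algebraMap B (Module.End B J.Cotangent) (U * s)
  have hη : LinearMap.range η ≤ P • (⊤ : Submodule B J.Cotangent) := by
    rw [← Submodule.map_top, ← hgen, Submodule.map_span, Submodule.span_le]
    rintro _ ⟨_, ⟨i, rfl⟩, rfl⟩
    show U • ε (gen i) - (U * s) • gen i ∈ (P • Submodule.span B (Set.range gen) : Submodule B J.Cotangent)
    rw [hgen, mul_smul, ← smul_sub]
    obtain ⟨w, hw⟩ : u i ∣ U := Finset.dvd_prod_of_mem _ (Finset.mem_univ i)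
    rw [hw, mul_comm, mul_smul]
    exact Submodule.smul_mem _ _ (hum i)
  obtain ⟨f, hf, -, hcoef, hf0⟩ :=
    LinearMap.exists_monic_and_natDegree_eq_and_coeff_mem_pow_and_aeval_eq_zero B η P hη
  let q := f.comp (Polynomial.X - Polynomial.C (U * s))
  have hq : Polynomial.aeval (U • ε) q = 0 := by
    rw [Polynomial.aeval_comp, map_sub, Polynomial.aeval_X, Polynomial.aeval_C]
    exact hf0
  have hs : algebraMap B C (U * s) ∉ p := by
    have h1 : s ∈ P.primeCompl := prod_mem fun e _ => ht e
    have h2 : U ∈ P.primeCompl := prod_mem fun i _ => hu i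
    exact P.primeCompl.mul_mem h2 h1
  have hq0 : algebraMap B C (q.coeff 0) ∉ p := by
    have hmap : f.map (Ideal.Quotient.mk P) = Polynomial.X ^ f.natDegree := by
      ext j
      rw [Polynomial.coeff_map, Polynomial.coeff_X_pow]
      split_ifs with hj
      · rw [hj, hf.coeff_natDegree, map_one]
      · rcases lt_or_gt_of_ne hj with h | h
        · exact Ideal.Quotient.eq_zero_iff_mem.2 (Ideal.pow_le_self (by omega) (hcoef j))
        · rw [Polynomial.coeff_eq_zero_of_natDegree_lt h, map_zero]
    have h0 : Ideal.Quotient.mk P (q.coeff 0) = (-(Ideal.Quotient.mk P (U * s))) ^ f.natDegree := by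
      rw [Polynomial.coeff_zero_eq_eval_zero, Polynomial.eval_comp, Polynomial.eval_sub, Polynomial.eval_X,
        Polynomial.eval_C, zero_sub, ← Polynomial.eval_map_apply, hmap, Polynomial.eval_pow, Polynomial.eval_X, map_neg]
    intro h
    have h1 : Ideal.Quotient.mk P (q.coeff 0) = 0 := Ideal.Quotient.eq_zero_iff_mem.2 h
    rw [h1] at h0
    refine hs (Ideal.Quotient.eq_zero_iff_mem.1 (neg_eq_zero.1 (eq_zero_of_pow_eq_zero h0.symm)) : _)
  refine ⟨q.coeff 0, hq0, (-(Polynomial.aeval (U • ε) q.divX ∘ₗ (U • L))).compDer (KaehlerDifferential.D A B), fun y => ?_⟩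
  show -((Polynomial.aeval (U • ε) q.divX) (U • L (KaehlerDifferential.D A B y))) = _
  have h1 := LinearMap.congr_fun hq (J.toCotangent y)
  rw [← Polynomial.divX_mul_X_add q, map_add, map_mul, Polynomial.aeval_X, Polynomial.aeval_C] at h1
  rw [← hε, neg_eq_iff_add_eq_zero]
  exact h1

end Groth.Agent.EGA41Lib.SQL
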