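import Mathlib
import Groth.Prelude.Def_CAlgX
import Groth.Agent.CAlgH.AdicSmooth
import Groth.Agent.EGA41Lib.SmoothQuotientCrit

/-!
# Adic formal smoothness of a local ring of a quotient gives injectivity
-/

set_option autoImplicit false

universe u

open TensorProduct KaehlerDifferential IsLocalRing

namespace Groth.Agent.EGA41Lib.SQL

variable {A B C : Type u} [CommRing A] [CommRing B] [CommRing C] [Algebra A B] [Algebra B C] [Algebra A C]
  [IsScalarTower A B C]

theorem exists_factor (hsurj : Function.Surjective (algebraMap B C)) {T : Type u} [CommRing T] [Algebra A T]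
    (f : B →ₐ[A] T) (hf : ∀ x : B, algebraMap B C x = 0 → f x = 0) :
    ∃ θ : C →ₐ[A] T, ∀ y, θ (algebraMap B C y) = f y :=
  ⟨AlgHom.liftOfSurjective (IsScalarTower.toAlgHom A B C) hsurj f fun x hx => hf x hx,
    fun y => AlgHom.liftOfSurjective_apply _ _ _ _ y⟩

theorem map_map_pow_eq_bot {R S U : Type u} [CommRing R] [CommRing S] [CommRing U] (f : R →+* S) (g : S →+* U)
    (m : Ideal R) (N : ℕ) (h : (m ^ N).map f = ⊥) : ((m.map f).map g) ^ N = ⊥ := by
  rw [← Ideal.map_pow, ← Ideal.map_pow, h, Ideal.map_bot]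

theorem exists_lift_vanishing (p : Ideal C) [p.IsPrime] {S : Type u} [CommRing S] [Algebra A S] (θ : C →ₐ[A] S)
    (hunit : ∀ s : p.primeCompl, IsUnit (θ s)) (M : Ideal S) (hM : ∀ c ∈ p, θ c ∈ M) (N : ℕ) (hN : M ^ N = ⊥) :
    ∃ ψ : Localization.AtPrime p →ₐ[A] S, (∀ c, ψ (algebraMap C _ c) = θ c) ∧
      ∀ x ∈ maximalIdeal (Localization.AtPrime p) ^ N, ψ x = 0 := by
  let ψ0 : Localization.AtPrime p →+* S :=
    IsLocalization.lift (M := p.primeCompl) (S := Localization.AtPrime p) (g := θ.toRingHom) hunit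
  have h0 : ∀ c, ψ0 (algebraMap C _ c) = θ c := fun c => IsLocalization.lift_eq _ c
  refine ⟨⟨ψ0, fun a => by
    show ψ0 (algebraMap A _ a) = _
    rw [IsScalarTower.algebraMap_apply A C (Localization.AtPrime p), h0]
    exact θ.commutes a⟩, h0, fun x hx => ?_⟩
  have hle : (maximalIdeal (Localization.AtPrime p)).map ψ0 ≤ M := by
    rw [← IsLocalization.AtPrime.map_eq_maximalIdeal p (Localization.AtPrime p), Ideal.map_map,
      Ideal.map_le_iff_le_comap]
    intro c hc
    show ψ0 (algebraMap C _ c) ∈ M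
    rw [h0]; exact hM c hc
  have h2 := Ideal.mem_map_of_mem ψ0 hx
  rw [Ideal.map_pow] at h2
  have h3 := Ideal.pow_right_mono hle N h2
  rw [hN, Ideal.mem_bot] at h3
  exact h3

theorem injective_of_fractions (hsurj : Function.Surjective (algebraMap B C)) (p : Ideal C) [p.IsPrime]
    {T : Type u} [CommRing T] [Algebra A T] (I : Ideal T) (hI : I ^ 2 = ⊥) (q v : B →ₐ[A] T)
    (hv : ∀ x : RingHom.ker (algebraMap B C), v x = 0) (hvI : ∀ y, q y - v y ∈ I)
    (hex : ∀ z ∈ I, ∃ s : B, algebraMap B C s ∉ p ∧ ∃ j : RingHom.ker (algebraMap B C), z * q s = q j)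
    (hzero : ∀ j : RingHom.ker (algebraMap B C), q j = 0 →
      (1 : p.ResidueField) ⊗ₜ[B] (RingHom.ker (algebraMap B C)).toCotangent j = 0) :
    Function.Injective ((kerCotangentToTensor A B C).lTensor p.ResidueField) := by
  classical
  let J := RingHom.ker (algebraMap B C)
  choose s hs j hj using fun y => hex _ (hvI y)
  let d : B → p.ResidueField ⊗[B] J.Cotangent := fun y =>
    (algebraMap B p.ResidueField (s y))⁻¹ • ((1 : p.ResidueField) ⊗ₜ[B] J.toCotangent (j y))
  have hd : ∀ y (s' : B) (j' : J), algebraMap B C s' ∉ p → (q y - v y) * q s' = q j' →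
      d y = (algebraMap B p.ResidueField s')⁻¹ • ((1 : p.ResidueField) ⊗ₜ[B] J.toCotangent j') := fun y s' j' hs' hj' => by
    have h1 := hzero (s' • j y - s y • j') (by
      rw [Submodule.coe_sub, Submodule.coe_smul, Submodule.coe_smul, smul_eq_mul, smul_eq_mul, map_sub, map_mul, map_mul,
        ← hj, ← hj']
      ring)
    rw [map_sub, map_smul, map_smul, TensorProduct.tmul_sub, TensorProduct.tmul_smul, TensorProduct.tmul_smul,
      sub_eq_zero, ← algebraMap_smul p.ResidueField s', ← algebraMap_smul p.ResidueField (s y)] at h1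
    have ne1 := algebraMap_residueField_ne_zero p hs'
    have ne2 := algebraMap_residueField_ne_zero p (hs y)
    simp only [d]
    refine (smul_right_injective _ ne1) ?_
    dsimp only
    rw [smul_inv_smul₀ ne1, smul_comm, h1, inv_smul_smul₀ ne2]
  have hK : ∀ {a : B}, algebraMap B C a ∉ p → algebraMap B p.ResidueField a ≠ 0 := algebraMap_residueField_ne_zero p
  have hmul : ∀ {a b : B}, algebraMap B C a ∉ p → algebraMap B C b ∉ p → algebraMap B C (a * b) ∉ p := fun ha hb => by
    rw [map_mul]; exact p.primeCompl.mul_mem ha hb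
  let D : Derivation A B (p.ResidueField ⊗[B] J.Cotangent) := Derivation.mk'
    { toFun := d
      map_add' := fun x y => by
        rw [hd (x + y) (s x * s y) (s y • j x + s x • j y) (hmul (hs x) (hs y)) (by
          simp only [Submodule.coe_add, Submodule.coe_smul, smul_eq_mul, map_add, map_mul, ← hj]
          ring)]
        simp only [d, map_add, map_smul, TensorProduct.tmul_add, TensorProduct.tmul_smul, smul_add, map_mul]
        rw [← algebraMap_smul p.ResidueField (s y), ← algebraMap_smul p.ResidueField (s x), smul_smul, smul_smul]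
        have h1 := hK (hs x)
        have h2 := hK (hs y)
        congr 2 <;> field_simp
      map_smul' := fun a y => by
        rw [RingHom.id_apply, hd (a • y) (s y) (algebraMap A B a • j y) (hs y) (by
          rw [map_smul, map_smul, Submodule.coe_smul, smul_eq_mul, map_mul, AlgHom.commutes, ← hj, Algebra.smul_def,
            Algebra.smul_def]
          ring)]
        simp only [d, map_smul, TensorProduct.tmul_smul]
        rw [← algebraMap_smul B a ((algebraMap B p.ResidueField (s y))⁻¹ • ((1 : p.ResidueField) ⊗ₜ[B] J.toCotangent (j y))),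
          smul_comm] }
    fun x y => by
      show d (x * y) = x • d y + y • d x
      rw [hd (x * y) (s x * s y) ((x * s x) • j y + (y * s y) • j x) (hmul (hs x) (hs y)) (by
        have h0 : (q x - v x) * (q y - v y) = 0 := by
          have := Ideal.mul_mem_mul (hvI x) (hvI y)
          rwa [← sq, hI, Ideal.mem_bot] at this
        simp only [Submodule.coe_add, Submodule.coe_smul, smul_eq_mul, map_add, map_mul, ← hj]
        linear_combination (- q (s x) * q (s y)) * h0)]
      simp only [d, map_add, map_smul, TensorProduct.tmul_add, TensorProduct.tmul_smul, smul_add, map_mul]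
      rw [← algebraMap_smul p.ResidueField (x * s x), ← algebraMap_smul p.ResidueField (y * s y),
        ← algebraMap_smul p.ResidueField x ((_ : p.ResidueField) • _), ← algebraMap_smul p.ResidueField y ((_ : p.ResidueField) • _),
        smul_smul, smul_smul, smul_smul, smul_smul, map_mul, map_mul]
      have h1 := hK (hs x)
      have h2 := hK (hs y)
      congr 2 <;> field_simp
  refine injective_of_derivation hsurj p D fun x => ?_
  show d x = _
  rw [hd x 1 x (by rw [map_one]; exact p.primeCompl.one_mem) (by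
    rw [hv, sub_zero, map_one, mul_one]), map_one, inv_one, one_smul]


theorem mem_mul_of_mem_sup {R : Type u} [CommRing R] {m J : Ideal R} {N : ℕ} (hJm : J ≤ m)
    (hAR : m ^ N ⊓ J ≤ m * J) {x : R} (hxJ : x ∈ J) (hx : x ∈ m * J ⊔ m ^ N) : x ∈ m * J := by
  obtain ⟨a, ha, b, hb, hab⟩ := Submodule.mem_sup.1 hx
  rw [← hab]
  refine add_mem ha (hAR ⟨hb, ?_⟩)
  show b ∈ J
  rw [show b = x - a by rw [← hab]; ring]
  exact J.sub_mem hxJ (Ideal.mul_le_inf ha).2

theorem exists_mul_mk_eq {R : Type u} [CommRing R] [Algebra B R] (M : Submonoid B) [IsLocalization M R] (J : Ideal B)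
    (Q : Ideal R) (z : R ⧸ Q) (hz : z ∈ (J.map (algebraMap B R)).map (Ideal.Quotient.mk Q)) :
    ∃ s ∈ M, ∃ j : J, z * Ideal.Quotient.mk Q (algebraMap B R s) = Ideal.Quotient.mk Q (algebraMap B R j) := by
  obtain ⟨x, hx, rfl⟩ := (Ideal.mem_map_iff_of_surjective _ Ideal.Quotient.mk_surjective).1 hz
  obtain ⟨⟨j, s⟩, hjs⟩ := (IsLocalization.mem_map_algebraMap_iff M R).1 hx
  exact ⟨s, s.2, j, by rw [← map_mul, hjs]⟩

theorem one_tmul_eq_zero_of_mem_mul (p : Ideal C) [p.IsPrime] [(p.comap (algebraMap B C)).IsPrime]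
    (j : RingHom.ker (algebraMap B C))
    (h2 : algebraMap B (Localization.AtPrime (p.comap (algebraMap B C))) (j : B) ∈
      maximalIdeal (Localization.AtPrime (p.comap (algebraMap B C))) *
        (RingHom.ker (algebraMap B C)).map (algebraMap B (Localization.AtPrime (p.comap (algebraMap B C))))) :
    (1 : p.ResidueField) ⊗ₜ[B] (RingHom.ker (algebraMap B C)).toCotangent j = 0 := by
  let J := RingHom.ker (algebraMap B C)
  let P := p.comap (algebraMap B C)
  let BP := Localization.AtPrime P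
  rw [← IsLocalization.AtPrime.map_eq_maximalIdeal P BP, ← Ideal.map_mul,
    IsLocalization.algebraMap_mem_map_algebraMap_iff P.primeCompl] at h2
  obtain ⟨t, ht, htj⟩ := h2
  have h3 : (1 : p.ResidueField) ⊗ₜ[B] J.toCotangent (t • j) = 0 := by
    have key : ∀ x ∈ P * J, ∃ hx : x ∈ J, (1 : p.ResidueField) ⊗ₜ[B] J.toCotangent ⟨x, hx⟩ = 0 := fun x hx => by
      refine Submodule.mul_induction_on hx (fun a ha b hb => ⟨Ideal.mul_mem_left _ _ hb, ?_⟩) fun a b ⟨ha, ha'⟩ ⟨hb, hb'⟩ => ⟨add_mem ha hb, ?_⟩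
      · rw [show (⟨a * b, Ideal.mul_mem_left J a hb⟩ : J) = a • ⟨b, hb⟩ from rfl, map_smul, ← TensorProduct.smul_tmul,
          Algebra.smul_def, mul_one, algebraMap_residueField_eq,
          Ideal.algebraMap_residueField_eq_zero.2 (show algebraMap B C a ∈ p from ha), TensorProduct.zero_tmul]
      · rw [show (⟨a + b, add_mem ha hb⟩ : J) = ⟨a, ha⟩ + ⟨b, hb⟩ from rfl, map_add, TensorProduct.tmul_add, ha', hb',
          add_zero]
    obtain ⟨hx, hx'⟩ := key _ htj
    exact hx'
  rw [map_smul, TensorProduct.tmul_smul, ← algebraMap_smul p.ResidueField t] at h3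
  exact (smul_eq_zero.1 h3).resolve_left (algebraMap_residueField_ne_zero p ht)


theorem injective_of_adicSmooth_aux (hsurj : Function.Surjective (algebraMap B C))
    (p : Ideal C) [p.IsPrime]
    (h : CAlgX.IsAdicFormallySmooth A (Localization.AtPrime p) (maximalIdeal (Localization.AtPrime p)))
    {T : Type u} [CommRing T] [Algebra A T] (q : B →ₐ[A] T) (I M : Ideal T) (N : ℕ) (hI : I ^ 2 = ⊥) (hM : M ^ N = ⊥)
    (hqJ : ∀ x : B, algebraMap B C x = 0 → q x ∈ I) (hqu : ∀ y : B, algebraMap B C y ∉ p → IsUnit (q y))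
    (hqM : ∀ y : B, algebraMap B C y ∈ p → q y ∈ M)
    (hex : ∀ z ∈ I, ∃ s : B, algebraMap B C s ∉ p ∧ ∃ j : RingHom.ker (algebraMap B C), z * q s = q j)
    (hzero : ∀ j : RingHom.ker (algebraMap B C), q j = 0 →
      (1 : p.ResidueField) ⊗ₜ[B] (RingHom.ker (algebraMap B C)).toCotangent j = 0) :
    Function.Injective ((kerCotangentToTensor A B C).lTensor p.ResidueField) := by
  obtain ⟨θ, hθ⟩ := exists_factor (A := A) hsurj ((Ideal.Quotient.mkₐ A I).comp q) fun x hx => by
    show Ideal.Quotient.mk I (q x) = 0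
    exact Ideal.Quotient.eq_zero_iff_mem.2 (hqJ x hx)
  have hunit : ∀ s : p.primeCompl, IsUnit (θ s) := fun s => by
    obtain ⟨s', hs'⟩ := hsurj s
    rw [← hs', hθ]
    exact (hqu s' (fun hm => s.2 (hs' ▸ hm))).map (Ideal.Quotient.mk I)
  have hMN : (M.map (Ideal.Quotient.mk I)) ^ N = ⊥ := by
    rw [← Ideal.map_pow, hM, Ideal.map_bot]
  obtain ⟨ψ, hψ, hψN⟩ := exists_lift_vanishing (A := A) p θ hunit _ (fun c hc => by
    obtain ⟨y, rfl⟩ := hsurj c
    rw [hθ]
    exact Ideal.mem_map_of_mem (Ideal.Quotient.mk I) (hqM y hc)) N hMN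
  obtain ⟨χ, hχ⟩ := h T I hI ψ ⟨N, hψN⟩
  let v : B →ₐ[A] T := χ.comp ((IsScalarTower.toAlgHom A C _).comp (IsScalarTower.toAlgHom A B C))
  have hvI : ∀ y, q y - v y ∈ I := fun y => Ideal.Quotient.eq.1 (by
    rw [show Ideal.Quotient.mk I (v y) = ψ (algebraMap C _ (algebraMap B C y)) from AlgHom.congr_fun hχ _, hψ, hθ]
    rfl)
  exact injective_of_fractions hsurj p I hI q v (fun x => by
    show χ (algebraMap C _ (algebraMap B C x)) = 0
    rw [RingHom.mem_ker.1 x.2, map_zero, map_zero]) hvI hex hzero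

theorem injective_of_adicSmooth [IsNoetherianRing B] (hsurj : Function.Surjective (algebraMap B C))
    (p : Ideal C) [p.IsPrime]
    (h : CAlgX.IsAdicFormallySmooth A (Localization.AtPrime p) (maximalIdeal (Localization.AtPrime p))) :
    Function.Injective ((kerCotangentToTensor A B C).lTensor p.ResidueField) := by
  classical
  let J := RingHom.ker (algebraMap B C)
  let P := p.comap (algebraMap B C)
  haveI : P.IsPrime := Ideal.comap_isPrime _ _
  let BP := Localization.AtPrime P
  haveI : IsNoetherianRing BP := IsLocalization.isNoetherianRing P.primeCompl BP inferInstance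
  let JP := J.map (algebraMap B BP)
  have hJP : J ≤ P := fun x hx => by
    show algebraMap B C x ∈ p
    rw [RingHom.mem_ker.1 hx]; exact zero_mem _
  have hJm : JP ≤ maximalIdeal BP := by
    rw [← IsLocalization.AtPrime.map_eq_maximalIdeal P BP]
    exact Ideal.map_mono hJP
  obtain ⟨k, hk⟩ := Ideal.exists_pow_inf_eq_pow_smul (M := BP) (maximalIdeal BP) JP
  let N := k + 1
  have hAR : maximalIdeal BP ^ N ⊓ JP ≤ maximalIdeal BP * JP := by
    have h1 := hk N (Nat.le_succ k)
    simp only [smul_eq_mul, Ideal.mul_top] at h1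
    rw [h1, show N - k = 1 from Nat.add_sub_cancel_left k 1, pow_one]
    exact Ideal.mul_mono_right inf_le_right
  let Q := maximalIdeal BP * JP ⊔ maximalIdeal BP ^ N
  let T := BP ⧸ Q
  let I : Ideal T := JP.map (Ideal.Quotient.mk Q)
  have hI : I ^ 2 = ⊥ := by
    rw [sq, ← Ideal.map_mul, eq_bot_iff, Ideal.map_le_iff_le_comap]
    intro x hx
    rw [Ideal.mem_comap, Ideal.mem_bot, Ideal.Quotient.eq_zero_iff_mem]
    exact Ideal.mem_sup_left (Ideal.mul_mono_left hJm hx)
  let q : B →ₐ[A] T := (Ideal.Quotient.mkₐ A Q).comp (IsScalarTower.toAlgHom A B BP)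
  have hqu : ∀ y : B, algebraMap B C y ∉ p → IsUnit (q y) := fun y hy =>
    ((IsLocalization.map_units BP (⟨y, hy⟩ : P.primeCompl)).map (Ideal.Quotient.mk Q))
  have hqM : ∀ y : B, algebraMap B C y ∈ p → q y ∈ (maximalIdeal BP).map (Ideal.Quotient.mk Q) := fun y hy => by
    refine Ideal.mem_map_of_mem (Ideal.Quotient.mk Q) ?_
    rw [← IsLocalization.AtPrime.map_eq_maximalIdeal P BP]
    exact Ideal.mem_map_of_mem (algebraMap B BP) hy
  -- fractions
  have hex : ∀ z ∈ I, ∃ s : B, algebraMap B C s ∉ p ∧ ∃ j : J, z * q s = q j := fun z hz => by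
    obtain ⟨s, hs, j, hj⟩ := exists_mul_mk_eq P.primeCompl J Q z hz
    exact ⟨s, hs, j, hj⟩
  have hzero : ∀ j : J, q j = 0 → (1 : p.ResidueField) ⊗ₜ[B] J.toCotangent j = 0 := fun j hj =>
    one_tmul_eq_zero_of_mem_mul p j (mem_mul_of_mem_sup hJm hAR (Ideal.mem_map_of_mem _ j.2)
      (Ideal.Quotient.eq_zero_iff_mem.1 hj))
  have hM : ((maximalIdeal BP).map (Ideal.Quotient.mk Q)) ^ N = ⊥ := by
    rw [← Ideal.map_pow]
    exact eq_bot_iff.2 (Ideal.map_le_iff_le_comap.2
      fun x hx => Ideal.Quotient.eq_zero_iff_mem.2 (Ideal.mem_sup_right hx))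
  exact injective_of_adicSmooth_aux hsurj p h q I _ N hI hM
    (fun x hx => Ideal.mem_map_of_mem (Ideal.Quotient.mk Q) (Ideal.mem_map_of_mem (algebraMap B BP) (RingHom.mem_ker.2 hx)))
    hqu hqM hex hzero

end Groth.Agent.EGA41Lib.SQL
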