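import Mathlib.LinearAlgebra.TensorPower.Symmetric
import Mathlib.LinearAlgebra.SymmetricAlgebra.Basic
import Mathlib.LinearAlgebra.Finsupp.LinearCombination
import Mathlib.RingTheory.MvPolynomial.Ideal
import Mathlib.Algebra.Module.Projective
import Mathlib.Algebra.Module.Torsion.Basic
import Mathlib.LinearAlgebra.Multilinear.Basic

/-!
# Symmetric powers inside symmetric algebras

For a projective module `M` over `B ⧸ J`, the symmetric powers over `B` inject in the graded pieces
of the symmetric algebra over `B ⧸ J`.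
-/

set_option autoImplicit false

universe u

namespace Groth.Agent.EGA41Lib.SymGr

section Lift

variable {R ι : Type u} [CommRing R] {M N : Type u} [AddCommGroup M] [Module R M] [AddCommGroup N] [Module R N]

/-- The linear map on a symmetric power given by a symmetric multilinear map. -/
theorem exists_liftSym (f : MultilinearMap R (fun _ : ι => M) N)
    (hf : ∀ (e : Equiv.Perm ι) (m : ι → M), f (fun i => m (e i)) = f m) :
    ∃ g : SymmetricPower R ι M →ₗ[R] N, ∀ m, g (SymmetricPower.tprod R m) = f m := by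
  let L := PiTensorProduct.lift f
  have hrel : ∀ {x y}, addConGen (SymmetricPower.Rel R ι M) x y → L x = L y := fun {x y} h => by
    induction h with
    | of x y h => cases h with
      | perm e m =>
        show L _ = L _
        rw [PiTensorProduct.lift.tprod, PiTensorProduct.lift.tprod, hf]
    | refl => rfl
    | symm _ ih => exact ih.symm
    | trans _ _ ih ih' => exact ih.trans ih'
    | add _ _ ih ih' => rw [map_add, map_add, ih, ih']
  let g₀ : SymmetricPower R ι M →+ N := AddCon.lift _ L.toAddMonoidHom (fun x y h => hrel h)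
  exact ⟨{ toFun := g₀
           map_add' := map_add g₀
           map_smul' := fun r x => AddCon.induction_on x fun t => L.map_smul r t },
    fun m => PiTensorProduct.lift.tprod m⟩

theorem symPower_induction {p : SymmetricPower R ι M → Prop} (h0 : p 0)
    (ht : ∀ (r : R) (m : ι → M), p (r • SymmetricPower.tprod R m)) (hadd : ∀ x y, p x → p y → p (x + y))
    (x : SymmetricPower R ι M) : p x := by
  have hx : x ∈ Submodule.span R (Set.range (SymmetricPower.tprod R (ι := ι) (M := M))) := by
    rw [SymmetricPower.span_tprod_eq_top]; trivial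
  obtain ⟨c, rfl⟩ := Finsupp.mem_span_range_iff_exists_finsupp.1 hx
  clear hx
  rw [Finsupp.sum]
  exact Finset.sum_induction _ p hadd h0 fun a _ => ht (c a) a

end Lift

/-- Two lists with the same multiset differ by a permutation. -/
theorem exists_perm_of_sum_single_eq {κ ι : Type u} [Fintype ι] (f g : ι → κ)
    (h : ∑ i, Finsupp.single (f i) 1 = (∑ i, Finsupp.single (g i) 1 : κ →₀ ℕ)) :
    ∃ e : Equiv.Perm ι, ∀ i, g (e i) = f i := by
  classical
  have hc : ∀ (k : ι → κ) (x : κ), (∑ i, Finsupp.single (k i) 1 : κ →₀ ℕ) x = Fintype.card {i // k i = x} :=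
    fun k x => by
      rw [Finsupp.finsetSum_apply, Fintype.card_subtype, Finset.card_filter]
      exact Finset.sum_congr rfl fun i _ => Finsupp.single_apply
  have e : ∀ x, {i // f i = x} ≃ {i // g i = x} := fun x => Fintype.equivOfCardEq (by rw [← hc, ← hc, h])
  exact ⟨Equiv.ofFiberEquiv e, fun i => Equiv.ofFiberEquiv_map e i⟩

variable {B : Type u} [CommRing B] {J : Ideal B} {M : Type u} [AddCommGroup M] [Module B M] [Module (B ⧸ J) M]
  [IsScalarTower B (B ⧸ J) M] {ι : Type u}

variable (J M) in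
/-- The ideal generated by the degree one part. -/
noncomputable def augIdeal : Ideal (SymmetricAlgebra (B ⧸ J) M) :=
  Ideal.span (Set.range (SymmetricAlgebra.ι (B ⧸ J) M))

theorem ι_mem (m : M) : SymmetricAlgebra.ι (B ⧸ J) M m ∈ augIdeal J M := Ideal.subset_span ⟨m, rfl⟩

theorem isTorsionBySet_symPower [Nonempty ι] :
    Module.IsTorsionBySet B (SymmetricPower B ι M) (J : Set B) := by
  classical
  intro x b
  induction x using symPower_induction with
  | h0 => exact smul_zero _
  | hadd x y hx hy => rw [smul_add, hx, hy, add_zero]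
  | ht r m =>
    obtain ⟨i⟩ := ‹Nonempty ι›
    have h0 : (b : B) • m i = 0 := by
      rw [← algebraMap_smul (B ⧸ J) (b : B) (m i), Ideal.Quotient.algebraMap_eq,
        Ideal.Quotient.eq_zero_iff_mem.2 b.2, zero_smul]
    rw [smul_comm]
    conv_lhs => rw [← Function.update_eq_self i m]
    rw [← MultilinearMap.map_update_smul, h0, MultilinearMap.map_update_zero, smul_zero]

variable (J M ι) in
/-- The products of degree one elements, as a multilinear map. -/
noncomputable def prodι [Fintype ι] : MultilinearMap B (fun _ : ι => M) (SymmetricAlgebra (B ⧸ J) M) :=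
  (MultilinearMap.mkPiAlgebra B ι (SymmetricAlgebra (B ⧸ J) M)).compLinearMap
    fun _ => (SymmetricAlgebra.ι (B ⧸ J) M).restrictScalars B

variable (J M ι) in
/-- `Sym^ι M → SymmetricAlgebra M`. -/
theorem exists_sigma [Fintype ι] : ∃ σ : SymmetricPower B ι M →ₗ[B] SymmetricAlgebra (B ⧸ J) M,
    (∀ m, σ (SymmetricPower.tprod B m) = ∏ i, SymmetricAlgebra.ι (B ⧸ J) M (m i)) ∧
      ∀ z, σ z ∈ augIdeal J M ^ Fintype.card ι := by
  obtain ⟨σ, hσ⟩ := exists_liftSym (prodι J M ι) (fun e m => by
    simp only [prodι, MultilinearMap.compLinearMap_apply, MultilinearMap.mkPiAlgebra_apply]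
    exact Equiv.prod_comp e fun i => SymmetricAlgebra.ι (B ⧸ J) M (m i))
  have hσ' : ∀ m, σ (SymmetricPower.tprod B m) = ∏ i, SymmetricAlgebra.ι (B ⧸ J) M (m i) := fun m => by
    rw [hσ]; simp [prodι]
  refine ⟨σ, hσ', fun z => ?_⟩
  induction z using symPower_induction with
  | h0 => rw [map_zero]; exact zero_mem _
  | hadd x y hx hy => rw [map_add]; exact add_mem hx hy
  | ht r m =>
    rw [map_smul, hσ', Algebra.smul_def]
    refine Ideal.mul_mem_left _ _ ?_
    rw [← Finset.card_univ, ← Finset.prod_const]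
    exact Ideal.prod_mem_prod fun i _ => ι_mem (m i)

/-- For a projective module the symmetric power injects in the graded piece. -/
theorem eq_zero_of_sigma_mem [Fintype ι] [Nonempty ι] [Module.Projective (B ⧸ J) M]
    (σ : SymmetricPower B ι M →ₗ[B] SymmetricAlgebra (B ⧸ J) M)
    (hσ : ∀ m, σ (SymmetricPower.tprod B m) = ∏ i, SymmetricAlgebra.ι (B ⧸ J) M (m i))
    (z : SymmetricPower B ι M) (hz : σ z ∈ augIdeal J M ^ (Fintype.card ι + 1)) : z = 0 := by
  classical
  obtain ⟨i, hi⟩ := Module.projective_def'.1 (inferInstance : Module.Projective (B ⧸ J) M)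
  letI := (isTorsionBySet_symPower (B := B) (J := J) (M := M) (ι := ι)).module
  haveI : IsScalarTower B (B ⧸ J) (SymmetricPower B ι M) := Module.IsTorsionBySet.isScalarTower _
  let v : (M →₀ ℕ) → SymmetricPower B ι M := fun d =>
    if h : ∃ f : ι → M, ∑ j, Finsupp.single (f j) 1 = d then SymmetricPower.tprod B h.choose else 0
  have hv : ∀ f : ι → M, v (∑ j, Finsupp.single (f j) 1) = SymmetricPower.tprod B f := fun f => by
    have h : ∃ g : ι → M, ∑ j, Finsupp.single (g j) 1 = ∑ j, Finsupp.single (f j) (1 : ℕ) := ⟨f, rfl⟩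
    simp only [v, dif_pos h]
    obtain ⟨e, he⟩ := exists_perm_of_sum_single_eq f h.choose h.choose_spec.symm
    exact (SymmetricPower.tprod_equiv e h.choose).symm.trans (congrArg _ (funext he))
  let ψ : MvPolynomial M (B ⧸ J) →ₗ[B ⧸ J] SymmetricPower B ι M :=
    (MvPolynomial.basisMonomials M (B ⧸ J)).constr (B ⧸ J) v
  have hψ : ∀ d c, ψ (MvPolynomial.monomial d c) = c • v d := fun d c => by
    rw [show MvPolynomial.monomial d c = c • MvPolynomial.monomial d (1 : B ⧸ J) by
      rw [MvPolynomial.smul_monomial, smul_eq_mul, mul_one], map_smul]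
    congr 1
    exact ((MvPolynomial.basisMonomials M (B ⧸ J)).constr_basis (B ⧸ J) v d)
  have hv0 : ∀ d, d.degree ≠ Fintype.card ι → v d = 0 := fun d hd => by
    refine dif_neg fun ⟨f, hf⟩ => hd ?_
    rw [← hf, map_sum]
    simp
  let lin : (M →₀ B ⧸ J) →ₗ[B ⧸ J] MvPolynomial M (B ⧸ J) := Finsupp.linearCombination (B ⧸ J) MvPolynomial.X
  let E : SymmetricAlgebra (B ⧸ J) M →ₐ[B ⧸ J] MvPolynomial M (B ⧸ J) := SymmetricAlgebra.lift (lin ∘ₗ i)
  -- the two multilinear maps agree
  let f1 : MultilinearMap B (fun _ : ι => M →₀ B ⧸ J) (SymmetricPower B ι M) :=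
    (ψ.restrictScalars B).compMultilinearMap
      ((MultilinearMap.mkPiAlgebra B ι (MvPolynomial M (B ⧸ J))).compLinearMap fun _ => lin.restrictScalars B)
  let f2 : MultilinearMap B (fun _ : ι => M →₀ B ⧸ J) (SymmetricPower B ι M) :=
    (SymmetricPower.tprod B (ι := ι) (M := M)).compLinearMap
      fun _ => (Finsupp.linearCombination (B ⧸ J) (id : M → M)).restrictScalars B
  have hsingle : ∀ (x : ι → M) (c : ι → B ⧸ J),
      f1 (fun j => Finsupp.single (x j) (c j)) = f2 fun j => Finsupp.single (x j) (c j) := fun x c => by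
    choose b hb using fun j => Ideal.Quotient.mk_surjective (c j)
    simp only [f1, f2, LinearMap.compMultilinearMap_apply, MultilinearMap.compLinearMap_apply,
      MultilinearMap.mkPiAlgebra_apply, LinearMap.restrictScalars_apply, lin, Finsupp.linearCombination_single, id_eq]
    have h1 : ∏ j, c j • (MvPolynomial.X (x j) : MvPolynomial M (B ⧸ J)) =
        MvPolynomial.monomial (∑ j, Finsupp.single (x j) 1) (∏ j, c j) := by
      rw [MvPolynomial.monomial_sum_index, map_prod, ← Finset.prod_mul_distrib]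
      refine Finset.prod_congr rfl fun j _ => ?_
      rw [← MvPolynomial.C_mul', MvPolynomial.X]
    rw [h1, hψ, hv, show (fun j => c j • x j) = fun j => b j • x j from funext fun j => by
      rw [← hb j]; exact algebraMap_smul (B ⧸ J) (b j) (x j), MultilinearMap.map_smul_univ]
    rw [show ∏ j, c j = algebraMap B (B ⧸ J) (∏ j, b j) by rw [map_prod]; exact Finset.prod_congr rfl fun j _ => (hb j).symm,
      algebraMap_smul]
  have key : ∀ p, f1 p = f2 p := fun p => by
    have hp : p = fun j => ∑ x ∈ (p j).support, Finsupp.single x (p j x) := funext fun j => (Finsupp.sum_single (p j)).symm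
    conv_lhs => rw [hp]
    conv_rhs => rw [hp]
    rw [MultilinearMap.map_sum_finset, MultilinearMap.map_sum_finset]
    exact Finset.sum_congr rfl fun r _ => hsingle r fun j => p j (r j)
  have hback : ∀ y, ψ (E (σ y)) = y := fun y => by
    induction y using symPower_induction with
    | h0 => rw [map_zero, map_zero, map_zero]
    | hadd x y hx hy => rw [map_add, map_add, map_add, hx, hy]
    | ht r m =>
      rw [map_smul, hσ]
      have h1 := key fun j => i (m j)
      simp only [f1, f2, LinearMap.compMultilinearMap_apply, MultilinearMap.compLinearMap_apply,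
        MultilinearMap.mkPiAlgebra_apply, LinearMap.restrictScalars_apply] at h1
      rw [← algebraMap_smul (B ⧸ J) r (∏ j, SymmetricAlgebra.ι (B ⧸ J) M (m j)), map_smul, map_smul, algebraMap_smul,
        map_prod]
      congr 1
      refine Eq.trans ?_ (h1.trans (congrArg _ (funext fun j => LinearMap.congr_fun hi (m j))))
      congr 1
      exact Finset.prod_congr rfl fun j _ => SymmetricAlgebra.lift_ι_apply _ _
  have hle : (augIdeal J M).map E ≤ MvPolynomial.idealOfVars M (B ⧸ J) := by
    rw [augIdeal, Ideal.map_span, Ideal.span_le]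
    rintro _ ⟨_, ⟨m, rfl⟩, rfl⟩
    rw [SetLike.mem_coe, SymmetricAlgebra.lift_ι_apply, LinearMap.comp_apply]
    simp only [lin, Finsupp.linearCombination_apply]
    refine sum_mem fun x _ => ?_
    simp only [MvPolynomial.smul_eq_C_mul]
    exact Ideal.mul_mem_left _ _ (Ideal.subset_span ⟨x, rfl⟩)
  have hE : E (σ z) ∈ MvPolynomial.idealOfVars M (B ⧸ J) ^ (Fintype.card ι + 1) := by
    have h := Ideal.mem_map_of_mem E hz
    rw [Ideal.map_pow] at h
    exact Ideal.pow_right_mono hle _ h
  rw [← hback z, (E (σ z)).as_sum, map_sum]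
  refine Finset.sum_eq_zero fun d hd => ?_
  rw [hψ, hv0 d (fun hdeg => ?_), smul_zero]
  exact absurd ((MvPolynomial.mem_pow_idealOfVars_iff _ _).1 hE d hd) (by omega)

theorem augIdeal_pow_eq_span : ∀ n : ℕ, augIdeal J M ^ n =
    Ideal.span (Set.range fun f : Fin n → M => ∏ i, SymmetricAlgebra.ι (B ⧸ J) M (f i)) := by
  intro n
  induction n with
  | zero => simp [Ideal.one_eq_top]
  | succ n ih =>
    rw [pow_succ, ih, augIdeal, Ideal.span_mul_span']
    congr 1
    ext x
    simp only [Set.mem_mul, Set.mem_range]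
    constructor
    · rintro ⟨_, ⟨f, rfl⟩, _, ⟨m, rfl⟩, rfl⟩
      exact ⟨Fin.snoc f m, by simp [Fin.prod_univ_castSucc]⟩
    · rintro ⟨f, rfl⟩
      exact ⟨_, ⟨Fin.init f, rfl⟩, _, ⟨f (Fin.last n), rfl⟩, by simp [Fin.prod_univ_castSucc, Fin.init]⟩

theorem exists_const_add (r : SymmetricAlgebra (B ⧸ J) M) :
    ∃ b : B, r - algebraMap B (SymmetricAlgebra (B ⧸ J) M) b ∈ augIdeal J M := by
  induction r using SymmetricAlgebra.induction with
  | algebraMap c =>
    obtain ⟨b, rfl⟩ := Ideal.Quotient.mk_surjective c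
    refine ⟨b, ?_⟩
    rw [IsScalarTower.algebraMap_apply B (B ⧸ J) (SymmetricAlgebra (B ⧸ J) M) b, Ideal.Quotient.algebraMap_eq, sub_self]
    exact zero_mem _
  | ι m => exact ⟨0, by rw [map_zero, sub_zero]; exact ι_mem m⟩
  | mul a b ha hb =>
    obtain ⟨x, hx⟩ := ha; obtain ⟨y, hy⟩ := hb
    refine ⟨x * y, ?_⟩
    rw [map_mul, show a * b - algebraMap B (SymmetricAlgebra (B ⧸ J) M) x * algebraMap B (SymmetricAlgebra (B ⧸ J) M) y =
      (a - algebraMap B (SymmetricAlgebra (B ⧸ J) M) x) * b +
      algebraMap B (SymmetricAlgebra (B ⧸ J) M) x * (b - algebraMap B (SymmetricAlgebra (B ⧸ J) M) y) by ring]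
    exact add_mem (Ideal.mul_mem_right _ _ hx) (Ideal.mul_mem_left _ _ hy)
  | add a b ha hb =>
    obtain ⟨x, hx⟩ := ha; obtain ⟨y, hy⟩ := hb
    exact ⟨x + y, by rw [map_add, add_sub_add_comm]; exact add_mem hx hy⟩

theorem exists_sub_sigma_mem [Fintype ι] (σ : SymmetricPower B ι M →ₗ[B] SymmetricAlgebra (B ⧸ J) M)
    (hσ : ∀ m, σ (SymmetricPower.tprod B m) = ∏ i, SymmetricAlgebra.ι (B ⧸ J) M (m i))
    {x : SymmetricAlgebra (B ⧸ J) M} (hx : x ∈ augIdeal J M ^ Fintype.card ι) :
    ∃ z, x - σ z ∈ augIdeal J M ^ (Fintype.card ι + 1) := by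
  rw [augIdeal_pow_eq_span, Ideal.span, Finsupp.mem_span_range_iff_exists_finsupp] at hx
  obtain ⟨c, rfl⟩ := hx
  rw [Finsupp.sum]
  refine Finset.sum_induction _ (fun x => ∃ z, x - σ z ∈ augIdeal J M ^ (Fintype.card ι + 1))
    (fun a b ⟨z, hz⟩ ⟨w, hw⟩ => ⟨z + w, by rw [map_add, add_sub_add_comm]; exact add_mem hz hw⟩)
    ⟨0, by simp⟩ fun f _ => ?_
  obtain ⟨b, hb⟩ := exists_const_add (c f)
  refine ⟨b • SymmetricPower.tprod B (f ∘ Fintype.equivFin ι), ?_⟩
  rw [map_smul, hσ]
  rw [show (∏ j, SymmetricAlgebra.ι (B ⧸ J) M ((f ∘ Fintype.equivFin ι) j)) = ∏ k, SymmetricAlgebra.ι (B ⧸ J) M (f k) from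
      Equiv.prod_comp (Fintype.equivFin ι) fun k => SymmetricAlgebra.ι (B ⧸ J) M (f k), smul_eq_mul, Algebra.smul_def, ← sub_mul,
    pow_succ']
  refine Ideal.mul_mem_mul hb ?_
  rw [augIdeal_pow_eq_span]
  exact Ideal.subset_span ⟨f, rfl⟩

end Groth.Agent.EGA41Lib.SymGr
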