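import Groth.Prelude.Def_PP16
import Groth.Prelude.Def_CAlgX
import Groth.Agent.EGA41Lib.SymGrSym
import Groth.Agent.CAlgH.AdicSmooth
import Mathlib

/-!
# Adic formal smoothness and the symmetric algebra of the cotangent module
-/

set_option autoImplicit false

universe u

namespace Groth.Agent.EGA41Lib.SymGr

variable {A B : Type u} [CommRing A] [CommRing B] [Algebra A B] {J : Ideal B}

instance isScalarTower_cotangent : IsScalarTower A (B ⧸ J) J.Cotangent :=
  ⟨fun a c x => by
    obtain ⟨b, rfl⟩ := Ideal.Quotient.mk_surjective c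
    rw [show a • Ideal.Quotient.mk J b = Ideal.Quotient.mk J (a • b) from (map_smul (Ideal.Quotient.mkₐ A J) a b).symm,
      ← Ideal.Quotient.algebraMap_eq, algebraMap_smul, algebraMap_smul, smul_assoc]⟩

/-- `φ` is compatible with the two projections. -/
structure IsModel {m : ℕ} (φ : SymmetricAlgebra (B ⧸ J) J.Cotangent →ₐ[A] B ⧸ J ^ m) : Prop where
  alg : ∀ b : B, φ (algebraMap B (SymmetricAlgebra (B ⧸ J) J.Cotangent) b) - Ideal.Quotient.mk (J ^ m) b ∈
    J.map (Ideal.Quotient.mk (J ^ m))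
  gen : ∀ x : J, φ (SymmetricAlgebra.ι (B ⧸ J) J.Cotangent (J.toCotangent x)) - Ideal.Quotient.mk (J ^ m) x ∈
    (J ^ 2).map (Ideal.Quotient.mk (J ^ m))

/-- A model exists. -/
theorem exists_model [Algebra.FormallySmooth A (B ⧸ J)] [Module.Projective (B ⧸ J) J.Cotangent] (m : ℕ) (hm : 2 ≤ m) :
    ∃ φ : SymmetricAlgebra (B ⧸ J) J.Cotangent →ₐ[A] B ⧸ J ^ m, IsModel φ := by
  have hle : J ^ m ≤ J := Ideal.pow_le_self (by omega)
  have hle2 : J ^ m ≤ J ^ 2 := Ideal.pow_le_pow_right hm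
  let q : B ⧸ J ^ m →ₐ[A] B ⧸ J := Ideal.Quotient.factorₐ A hle
  have hq : Function.Surjective q := Ideal.Quotient.factor_surjective hle
  have hker : RingHom.ker q.toRingHom = J.map (Ideal.Quotient.mk (J ^ m)) := by
    exact Ideal.Quotient.factor_ker hle
  have hnil : IsNilpotent (RingHom.ker q.toRingHom) := ⟨m, by
    rw [hker, ← Ideal.map_pow, Ideal.map_quotient_self]; rfl⟩
  let s : B ⧸ J →ₐ[A] B ⧸ J ^ m :=
    Algebra.FormallySmooth.liftOfSurjective (AlgHom.id A (B ⧸ J)) q hq hnil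
  have hs : ∀ c, q (s c) = c := fun c => Algebra.FormallySmooth.liftOfSurjective_apply _ q hq hnil c
  have hsb : ∀ b : B, s (Ideal.Quotient.mk J b) - Ideal.Quotient.mk (J ^ m) b ∈ J.map (Ideal.Quotient.mk (J ^ m)) :=
    fun b => by
      rw [← hker, RingHom.mem_ker, map_sub]
      exact sub_eq_zero.2 ((hs _).trans (Ideal.Quotient.factor_mk hle b).symm)
  let q2 : B ⧸ J ^ m →ₐ[A] B ⧸ J ^ 2 := Ideal.Quotient.factorₐ A hle2
  letI : Algebra (B ⧸ J) (B ⧸ J ^ m) := s.toRingHom.toAlgebra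
  letI : Algebra (B ⧸ J) (B ⧸ J ^ 2) := (q2.toRingHom.comp s.toRingHom).toAlgebra
  haveI : IsScalarTower A (B ⧸ J) (B ⧸ J ^ m) := IsScalarTower.of_algebraMap_eq fun a => (s.commutes a).symm
  let h : B ⧸ J ^ m →ₐ[B ⧸ J] B ⧸ J ^ 2 := { q2.toRingHom with commutes' := fun c => rfl }
  -- the inclusion of the cotangent module
  let j : J.Cotangent →ₗ[B ⧸ J] B ⧸ J ^ 2 :=
    { toFun := J.cotangentToQuotientSquare
      map_add' := map_add _
      map_smul' := fun c x => by
        obtain ⟨b, rfl⟩ := Ideal.Quotient.mk_surjective c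
        rw [RingHom.id_apply, show (Ideal.Quotient.mk J b) • x = b • x from algebraMap_smul (B ⧸ J) b x, map_smul,
          Algebra.smul_def, Algebra.smul_def, Ideal.Quotient.algebraMap_eq]
        show _ = q2 (s (Ideal.Quotient.mk J b)) * _
        obtain ⟨y, rfl⟩ := J.toCotangent_surjective x
        rw [Ideal.toCotangent_to_quotient_square]
        have h1 : q2 (s (Ideal.Quotient.mk J b)) - Ideal.Quotient.mk (J ^ 2) b ∈ J.map (Ideal.Quotient.mk (J ^ 2)) := by
          have h2 := Ideal.mem_map_of_mem q2.toRingHom (hsb b)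
          rw [Ideal.map_map] at h2
          rwa [← Ideal.Quotient.factor_mk hle2 b, show Ideal.Quotient.factor hle2 (Ideal.Quotient.mk (J ^ m) b) =
            q2 (Ideal.Quotient.mk (J ^ m) b) from rfl, ← map_sub]
        have h3 : (q2 (s (Ideal.Quotient.mk J b)) - Ideal.Quotient.mk (J ^ 2) b) * Ideal.Quotient.mk (J ^ 2) (y : B) = 0 := by
          have h4 : J.map (Ideal.Quotient.mk (J ^ 2)) * J.map (Ideal.Quotient.mk (J ^ 2)) = ⊥ := by
            rw [← Ideal.map_mul, ← sq, Ideal.map_quotient_self]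
          rw [← Ideal.mem_bot, ← h4]
          exact Ideal.mul_mem_mul h1 (Ideal.mem_map_of_mem _ y.2)
        rw [sub_mul, sub_eq_zero] at h3
        exact h3.symm }
  obtain ⟨ℓ, hℓ⟩ := Module.projective_lifting_property h.toLinearMap j (Ideal.Quotient.factor_surjective hle2)
  refine ⟨(SymmetricAlgebra.lift ℓ).restrictScalars A, ⟨fun b => ?_, fun x => ?_⟩⟩
  · rw [IsScalarTower.algebraMap_apply B (B ⧸ J), AlgHom.restrictScalars_apply, AlgHom.commutes,
      Ideal.Quotient.algebraMap_eq]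
    exact hsb b
  · rw [AlgHom.restrictScalars_apply, SymmetricAlgebra.lift_ι_apply]
    have h1 := LinearMap.congr_fun hℓ (J.toCotangent x)
    have h2 : Ideal.Quotient.factor hle2 (ℓ (J.toCotangent x)) =
        Ideal.Quotient.factor hle2 (Ideal.Quotient.mk (J ^ m) x) :=
      h1.trans ((Ideal.toCotangent_to_quotient_square J x).trans (Ideal.Quotient.factor_mk hle2 _).symm)
    rw [← Ideal.Quotient.factor_ker hle2, RingHom.mem_ker, map_sub, h2, sub_self]

variable {m : ℕ} {φ : SymmetricAlgebra (B ⧸ J) J.Cotangent →ₐ[A] B ⧸ J ^ m}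

theorem IsModel.map_augIdeal_le (hφ : IsModel φ) :
    (augIdeal J J.Cotangent).map φ ≤ J.map (Ideal.Quotient.mk (J ^ m)) := by
  rw [augIdeal, Ideal.map_span, Ideal.span_le]
  rintro _ ⟨_, ⟨p, rfl⟩, rfl⟩
  obtain ⟨x, rfl⟩ := J.toCotangent_surjective p
  have h := add_mem (Ideal.map_mono (Ideal.pow_le_self two_ne_zero) (hφ.gen x))
    (Ideal.mem_map_of_mem (Ideal.Quotient.mk (J ^ m)) x.2)
  rwa [sub_add_cancel] at h

theorem IsModel.pow_le_ker (hφ : IsModel φ) : augIdeal J J.Cotangent ^ m ≤ RingHom.ker φ := by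
  intro x hx
  have h := Ideal.mem_map_of_mem φ hx
  rw [Ideal.map_pow] at h
  replace h := Ideal.pow_right_mono hφ.map_augIdeal_le m h
  rw [← Ideal.map_pow, Ideal.map_quotient_self] at h
  exact h

theorem IsModel.map_pow_augIdeal (hφ : IsModel φ) (n : ℕ) :
    (augIdeal J J.Cotangent ^ n).map φ ≤ (J ^ n).map (Ideal.Quotient.mk (J ^ m)) := by
  rw [Ideal.map_pow, Ideal.map_pow]
  exact Ideal.pow_right_mono hφ.map_augIdeal_le n

/-- Every element is reached. -/
theorem IsModel.exists_sub_mem (hφ : IsModel φ) : ∀ (n : ℕ) (y : B), y ∈ J ^ n →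
    ∃ t ∈ augIdeal J J.Cotangent ^ n,
      φ t - Ideal.Quotient.mk (J ^ m) y ∈ (J ^ (n + 1)).map (Ideal.Quotient.mk (J ^ m)) := by
  intro n
  induction n with
  | zero =>
    intro y _
    exact ⟨algebraMap B _ y, by simp, by simpa using hφ.alg y⟩
  | succ n ih =>
    intro y hy
    rw [pow_succ] at hy
    induction hy using Submodule.mul_induction_on' with
    | mem_mul_mem a ha x hx =>
      obtain ⟨t, ht, ht'⟩ := ih a ha
      refine ⟨t * SymmetricAlgebra.ι (B ⧸ J) J.Cotangent (J.toCotangent ⟨x, hx⟩), by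
        rw [pow_succ]; exact Ideal.mul_mem_mul ht (ι_mem _), ?_⟩
      have hg := hφ.gen ⟨x, hx⟩
      rw [map_mul, map_mul, show φ t * φ (SymmetricAlgebra.ι (B ⧸ J) J.Cotangent (J.toCotangent ⟨x, hx⟩)) -
          Ideal.Quotient.mk (J ^ m) a * Ideal.Quotient.mk (J ^ m) x =
        (φ t - Ideal.Quotient.mk (J ^ m) a) * φ (SymmetricAlgebra.ι (B ⧸ J) J.Cotangent (J.toCotangent ⟨x, hx⟩)) +
        Ideal.Quotient.mk (J ^ m) a * (φ (SymmetricAlgebra.ι (B ⧸ J) J.Cotangent (J.toCotangent ⟨x, hx⟩)) -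
          Ideal.Quotient.mk (J ^ m) x) by ring]
      refine add_mem ?_ ?_
      · rw [show n + 1 + 1 = (n + 1) + 1 from rfl, pow_succ J (n + 1), Ideal.map_mul]
        exact Ideal.mul_mem_mul ht' (hφ.map_augIdeal_le (Ideal.mem_map_of_mem φ (ι_mem _)))
      · rw [show n + 1 + 1 = n + 2 from rfl, pow_add J n 2, Ideal.map_mul]
        exact Ideal.mul_mem_mul (Ideal.mem_map_of_mem _ ha) hg
    | add a _ b _ iha ihb =>
      obtain ⟨t, ht, ht'⟩ := iha
      obtain ⟨t', ht1, ht2⟩ := ihb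
      exact ⟨t + t', add_mem ht ht1, by rw [map_add, map_add, add_sub_add_comm]; exact add_mem ht' ht2⟩

theorem IsModel.exists_preimage (hφ : IsModel φ) : ∀ (d n : ℕ) (y : B), m ≤ n + d → y ∈ J ^ n →
    ∃ t ∈ augIdeal J J.Cotangent ^ n, φ t = Ideal.Quotient.mk (J ^ m) y := by
  intro d
  induction d with
  | zero =>
    intro n y hn hy
    exact ⟨0, zero_mem _, by rw [map_zero, Ideal.Quotient.eq_zero_iff_mem.2 (Ideal.pow_le_pow_right hn hy)]⟩
  | succ d ih =>
    intro n y hn hy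
    obtain ⟨t, ht, ht'⟩ := hφ.exists_sub_mem n y hy
    obtain ⟨z, hz, hz'⟩ := (Ideal.mem_map_iff_of_surjective _ Ideal.Quotient.mk_surjective).1 ht'
    obtain ⟨t', ht1, ht2⟩ := ih (n + 1) z (by omega) hz
    refine ⟨t - t', sub_mem ht (Ideal.pow_le_pow_right (Nat.le_succ n) ht1), ?_⟩
    rw [map_sub, ht2, hz', sub_sub_cancel]

theorem IsModel.surjective (hφ : IsModel φ) : Function.Surjective φ := fun y => by
  obtain ⟨b, rfl⟩ := Ideal.Quotient.mk_surjective y
  obtain ⟨t, _, ht⟩ := hφ.exists_preimage m 0 b (by omega) (by simp)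
  exact ⟨t, ht⟩

theorem IsModel.map_smul_sub_mem (hφ : IsModel φ) (b : B) {t : SymmetricAlgebra (B ⧸ J) J.Cotangent} {n : ℕ}
    (ht : t ∈ augIdeal J J.Cotangent ^ n) :
    φ (b • t) - Ideal.Quotient.mk (J ^ m) b * φ t ∈ (J ^ (n + 1)).map (Ideal.Quotient.mk (J ^ m)) := by
  rw [Algebra.smul_def, map_mul, ← sub_mul, pow_succ', Ideal.map_mul]
  exact Ideal.mul_mem_mul (hφ.alg b) (hφ.map_pow_augIdeal n (Ideal.mem_map_of_mem φ ht))

variable (J) in
theorem span_tprod_toCotangent (ι : Type u) [Fintype ι] :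
    Submodule.span B (Set.range fun x : ι → J => SymmetricPower.tprod B fun i => J.toCotangent (x i)) = ⊤ := by
  rw [eq_top_iff, ← SymmetricPower.span_tprod_eq_top]
  refine Submodule.span_mono ?_
  rintro _ ⟨p, rfl⟩
  choose x hx using fun i => J.toCotangent_surjective (p i)
  exact ⟨x, by simp only [hx]⟩

theorem IsModel.gen_prod (hφ : IsModel φ) {ι : Type u} [Fintype ι] (x : ι → J) (s : Finset ι) :
    φ (∏ i ∈ s, SymmetricAlgebra.ι (B ⧸ J) J.Cotangent (J.toCotangent (x i))) -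
      Ideal.Quotient.mk (J ^ m) (∏ i ∈ s, (x i : B)) ∈ (J ^ (s.card + 1)).map (Ideal.Quotient.mk (J ^ m)) := by
  classical
  induction s using Finset.induction_on with
  | empty => simp
  | insert a s ha ih =>
    rw [Finset.prod_insert ha, Finset.prod_insert ha, map_mul, map_mul, Finset.card_insert_of_notMem ha]
    rw [show φ (SymmetricAlgebra.ι (B ⧸ J) J.Cotangent (J.toCotangent (x a))) *
        φ (∏ i ∈ s, SymmetricAlgebra.ι (B ⧸ J) J.Cotangent (J.toCotangent (x i))) -
        Ideal.Quotient.mk (J ^ m) (x a) * Ideal.Quotient.mk (J ^ m) (∏ i ∈ s, (x i : B)) =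
      (φ (SymmetricAlgebra.ι (B ⧸ J) J.Cotangent (J.toCotangent (x a))) - Ideal.Quotient.mk (J ^ m) (x a)) *
        φ (∏ i ∈ s, SymmetricAlgebra.ι (B ⧸ J) J.Cotangent (J.toCotangent (x i))) +
      Ideal.Quotient.mk (J ^ m) (x a) * (φ (∏ i ∈ s, SymmetricAlgebra.ι (B ⧸ J) J.Cotangent (J.toCotangent (x i))) -
        Ideal.Quotient.mk (J ^ m) (∏ i ∈ s, (x i : B))) by ring]
    refine add_mem ?_ ?_
    · rw [show s.card + 1 + 1 = 2 + s.card by omega, pow_add, Ideal.map_mul]
      refine Ideal.mul_mem_mul (hφ.gen _) (hφ.map_pow_augIdeal _ (Ideal.mem_map_of_mem φ ?_))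
      rw [← Finset.prod_const]
      exact Ideal.prod_mem_prod fun i _ => ι_mem _
    · rw [show s.card + 1 + 1 = 1 + (s.card + 1) by omega, pow_add J 1, Ideal.map_mul, pow_one]
      exact Ideal.mul_mem_mul (Ideal.mem_map_of_mem _ (x a).2) ih

/-- A map with the prescribed values agrees with the model. -/
theorem IsModel.sigma_sub_mem (hφ : IsModel φ) {ι : Type u} [Fintype ι]
    (σ : SymmetricPower B ι J.Cotangent →ₗ[B] SymmetricAlgebra (B ⧸ J) J.Cotangent)
    (hσ : ∀ p, σ (SymmetricPower.tprod B p) = ∏ i, SymmetricAlgebra.ι (B ⧸ J) J.Cotangent (p i))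
    (φn : SymmetricPower B ι J.Cotangent →ₗ[B] PP16.grJ B J (Fintype.card ι))
    (hφn : ∀ x : ι → J, φn (SymmetricPower.tprod B fun i => J.toCotangent (x i)) = PP16.zetaJ B J x)
    (z : SymmetricPower B ι J.Cotangent) : ∀ y : ↥(J ^ Fintype.card ι), φn z = Submodule.Quotient.mk y →
      φ (σ z) - Ideal.Quotient.mk (J ^ m) y ∈ (J ^ (Fintype.card ι + 1)).map (Ideal.Quotient.mk (J ^ m)) := by
  have hσmem : ∀ z, σ z ∈ augIdeal J J.Cotangent ^ Fintype.card ι := fun z => by
    induction z using symPower_induction with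
    | h0 => rw [map_zero]; exact zero_mem _
    | hadd x y hx hy => rw [map_add]; exact add_mem hx hy
    | ht r p =>
      rw [map_smul, hσ, Algebra.smul_def]
      refine Ideal.mul_mem_left _ _ ?_
      rw [← Finset.card_univ, ← Finset.prod_const]
      exact Ideal.prod_mem_prod fun i _ => ι_mem (p i)
  have hex : ∀ z, ∃ y : ↥(J ^ Fintype.card ι), φn z = Submodule.Quotient.mk y ∧
      φ (σ z) - Ideal.Quotient.mk (J ^ m) y ∈ (J ^ (Fintype.card ι + 1)).map (Ideal.Quotient.mk (J ^ m)) := by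
    intro z
    have hz : z ∈ Submodule.span B (Set.range fun x : ι → J => SymmetricPower.tprod B fun i => J.toCotangent (x i)) := by
      rw [span_tprod_toCotangent J ι]; trivial
    induction hz using Submodule.span_induction with
    | mem p hp =>
      obtain ⟨x, rfl⟩ := hp
      refine ⟨_, hφn x, ?_⟩
      rw [hσ]
      simpa using hφ.gen_prod x Finset.univ
    | zero => exact ⟨0, by simp, by simp⟩
    | add a b _ _ ha hb =>
      obtain ⟨y, hy, hy'⟩ := ha; obtain ⟨w, hw, hw'⟩ := hb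
      refine ⟨y + w, by rw [map_add, hy, hw]; rfl, ?_⟩
      rw [map_add, map_add, Submodule.coe_add, map_add, add_sub_add_comm]
      exact add_mem hy' hw'
    | smul r a _ ha =>
      obtain ⟨y, hy, hy'⟩ := ha
      refine ⟨r • y, by rw [map_smul, hy]; rfl, ?_⟩
      rw [map_smul, Submodule.coe_smul, smul_eq_mul, map_mul]
      rw [show φ (r • σ a) - Ideal.Quotient.mk (J ^ m) r * Ideal.Quotient.mk (J ^ m) (y : B) =
        (φ (r • σ a) - Ideal.Quotient.mk (J ^ m) r * φ (σ a)) +
        Ideal.Quotient.mk (J ^ m) r * (φ (σ a) - Ideal.Quotient.mk (J ^ m) (y : B)) by ring]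
      exact add_mem (hφ.map_smul_sub_mem r (hσmem a)) (Ideal.mul_mem_left _ _ hy')
  intro y hy
  obtain ⟨w, hw, hw'⟩ := hex z
  have h : ((y : B) - w) ∈ J ^ (Fintype.card ι + 1) := by
    have := (Submodule.Quotient.eq _).1 (hy.symm.trans hw)
    simpa using this
  rw [show φ (σ z) - Ideal.Quotient.mk (J ^ m) (y : B) =
    (φ (σ z) - Ideal.Quotient.mk (J ^ m) (w : B)) - Ideal.Quotient.mk (J ^ m) ((y : B) - w) by rw [map_sub]; ring]
  exact sub_mem hw' (Ideal.mem_map_of_mem _ h)

theorem IsModel.ker_le_of_symGr [Module.Projective (B ⧸ J) J.Cotangent] (hφ : IsModel φ) (hm : 2 ≤ m)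
    (hgr : PP16.SymGrBijective B J) : RingHom.ker φ ≤ augIdeal J J.Cotangent ^ m := by
  intro x hx
  rw [RingHom.mem_ker] at hx
  have key : ∀ n ≤ m, x ∈ augIdeal J J.Cotangent ^ n := by
    intro n
    induction n with
    | zero => simp
    | succ n ih =>
      intro hn
      have hxn := ih (by omega)
      rcases Nat.eq_zero_or_pos n with rfl | hn0
      · obtain ⟨b, hb⟩ := exists_const_add x
        have h1 := hφ.map_augIdeal_le (Ideal.mem_map_of_mem φ hb)
        rw [map_sub, hx, zero_sub] at h1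
        have h2 := add_mem h1 (hφ.alg b)
        rw [neg_add_eq_sub, sub_sub_cancel_left, ← neg_mem_iff, neg_neg,
          Ideal.mem_map_iff_of_surjective _ Ideal.Quotient.mk_surjective] at h2
        obtain ⟨c, hc, hcb⟩ := h2
        have hbJ : b ∈ J := by
          have := add_mem hc (Ideal.pow_le_self (show m ≠ 0 by omega) ((Ideal.Quotient.eq).1 hcb.symm))
          rwa [add_sub_cancel] at this
        rw [zero_add, pow_one]
        rw [IsScalarTower.algebraMap_apply B (B ⧸ J), Ideal.Quotient.algebraMap_eq,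
          Ideal.Quotient.eq_zero_iff_mem.2 hbJ, map_zero, sub_zero] at hb
        exact hb
      · let ι := ULift.{u} (Fin n)
        haveI : Nonempty ι := ⟨⟨⟨0, hn0⟩⟩⟩
        have hcard : Fintype.card ι = n := by simp [ι]
        obtain ⟨φn, hφn, hbij⟩ := hgr ι
        obtain ⟨σ, hσ, hσmem⟩ := exists_sigma J J.Cotangent ι
        obtain ⟨z, hz⟩ := exists_sub_sigma_mem σ hσ (x := x) (by rwa [hcard])
        obtain ⟨y, hy⟩ := Submodule.Quotient.mk_surjective _ (φn z)
        have h1 := hφ.map_pow_augIdeal _ (Ideal.mem_map_of_mem φ hz)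
        rw [map_sub, hx, zero_sub] at h1
        have h2 := add_mem h1 (hφ.sigma_sub_mem σ hσ φn hφn z y hy.symm)
        rw [neg_add_eq_sub, sub_sub_cancel_left, ← neg_mem_iff, neg_neg,
          Ideal.mem_map_iff_of_surjective _ Ideal.Quotient.mk_surjective] at h2
        obtain ⟨c, hc, hcy⟩ := h2
        have hy0 : (y : B) ∈ J ^ (Fintype.card ι + 1) := by
          have := add_mem hc (Ideal.pow_le_pow_right (show Fintype.card ι + 1 ≤ m by omega) ((Ideal.Quotient.eq).1 hcy.symm))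
          rwa [add_sub_cancel] at this
        have hz0 : z = 0 := hbij.1 (by
          rw [map_zero, ← hy, Submodule.Quotient.mk_eq_zero]
          exact hy0)
        rw [hz0, map_zero, sub_zero, hcard] at hz
        exact hz
  exact key m le_rfl

theorem isAdicFormallySmooth_of_symGr [Algebra.FormallySmooth A (B ⧸ J)] [Module.Projective (B ⧸ J) J.Cotangent]
    (hgr : PP16.SymGrBijective B J) : CAlgX.IsAdicFormallySmooth A B J := by
  intro T _ _ I hI ψ ⟨k, hk⟩
  obtain ⟨φ, hφ⟩ := exists_model (A := A) (J := J) (2 * (k + 1)) (by omega)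
  have hker := hφ.ker_le_of_symGr (by omega) hgr
  -- the composite
  let ψk : B ⧸ J ^ (k + 1) →ₐ[A] T ⧸ I :=
    Ideal.Quotient.liftₐ (J ^ (k + 1)) ψ fun x hx => hk x (Ideal.pow_le_pow_right (Nat.le_succ k) hx)
  let g : SymmetricAlgebra (B ⧸ J) J.Cotangent →ₐ[A] T ⧸ I :=
    ψk.comp ((Ideal.Quotient.factorₐ A (Ideal.pow_le_pow_right (show k + 1 ≤ 2 * (k + 1) by omega))).comp φ)
  -- lift the composite
  let χ₀ : B ⧸ J →ₐ[A] T := Algebra.FormallySmooth.lift I ⟨2, hI⟩ (g.comp (IsScalarTower.toAlgHom A (B ⧸ J) _))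
  have hχ₀ : ∀ c, Ideal.Quotient.mk I (χ₀ c) = g (algebraMap (B ⧸ J) _ c) := fun c =>
    Algebra.FormallySmooth.mk_lift I ⟨2, hI⟩ _ c
  letI : Algebra (B ⧸ J) T := χ₀.toRingHom.toAlgebra
  haveI : IsScalarTower A (B ⧸ J) T := IsScalarTower.of_algebraMap_eq fun a => (χ₀.commutes a).symm
  let gl : J.Cotangent →ₗ[B ⧸ J] T ⧸ I :=
    { toFun := fun p => g (SymmetricAlgebra.ι (B ⧸ J) J.Cotangent p)
      map_add' := fun p q => by rw [map_add, map_add]
      map_smul' := fun c p => by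
        rw [map_smul, Algebra.smul_def, map_mul, ← hχ₀, RingHom.id_apply]
        obtain ⟨w, hw⟩ := Ideal.Quotient.mk_surjective (g (SymmetricAlgebra.ι (B ⧸ J) J.Cotangent p))
        rw [← hw]
        rfl }
  obtain ⟨ℓ, hℓ⟩ := Module.projective_lifting_property (Ideal.Quotient.mkₐ (B ⧸ J) I).toLinearMap gl
    Ideal.Quotient.mk_surjective
  let G : SymmetricAlgebra (B ⧸ J) J.Cotangent →ₐ[A] T := (SymmetricAlgebra.lift ℓ).restrictScalars A
  have hG : ∀ t, Ideal.Quotient.mk I (G t) = g t := fun t => by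
    induction t using SymmetricAlgebra.induction with
    | algebraMap c =>
      rw [← hχ₀]
      exact congrArg _ ((SymmetricAlgebra.lift ℓ).commutes c)
    | ι p =>
      rw [AlgHom.restrictScalars_apply, SymmetricAlgebra.lift_ι_apply]
      exact LinearMap.congr_fun hℓ p
    | mul a b ha hb => rw [map_mul, map_mul, map_mul, ha, hb]
    | add a b ha hb => rw [map_add, map_add, map_add, ha, hb]
  have hker' : RingHom.ker φ ≤ RingHom.ker G := by
    refine hker.trans fun t ht => ?_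
    rw [RingHom.mem_ker]
    rw [show 2 * (k + 1) = (k + 1) * 2 by ring, pow_mul] at ht
    have h1 : (augIdeal J J.Cotangent ^ (k + 1)).map G ≤ I := by
      rw [Ideal.map_le_iff_le_comap]
      intro s hs
      rw [Ideal.mem_comap, ← Ideal.Quotient.eq_zero_iff_mem, hG]
      have h2 := hφ.map_pow_augIdeal (k + 1) (Ideal.mem_map_of_mem φ hs)
      have h3 := Ideal.mem_map_of_mem (Ideal.Quotient.factor (Ideal.pow_le_pow_right (I := J)
        (show k + 1 ≤ 2 * (k + 1) by omega))) h2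
      rw [Ideal.map_map, Ideal.Quotient.factor_comp_mk, Ideal.map_quotient_self, Ideal.mem_bot] at h3
      exact (congrArg ψk h3).trans (map_zero ψk)
    have h4 := Ideal.mem_map_of_mem G ht
    rw [Ideal.map_pow] at h4
    replace h4 := Ideal.pow_right_mono h1 2 h4
    rw [hI] at h4
    exact h4
  refine ⟨(AlgHom.liftOfSurjective φ hφ.surjective G hker').comp (Ideal.Quotient.mkₐ A _), AlgHom.ext fun b => ?_⟩
  obtain ⟨t, ht⟩ := hφ.surjective (Ideal.Quotient.mk _ b)
  rw [AlgHom.comp_apply, AlgHom.comp_apply, Ideal.Quotient.mkₐ_eq_mk, Ideal.Quotient.mkₐ_eq_mk, ← ht,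
    AlgHom.liftOfSurjective_apply, hG]
  exact (congrArg (fun y => ψk (Ideal.Quotient.factor (Ideal.pow_le_pow_right (show k + 1 ≤ 2 * (k + 1) by omega)) y))
    ht).trans rfl

theorem projective_cotangent [Algebra.FormallySmooth A (B ⧸ J)] (h : CAlgX.IsAdicFormallySmooth A B J) :
    Module.Projective (B ⧸ J) J.Cotangent := by
  have hle : J ^ 2 ≤ J := Ideal.pow_le_self two_ne_zero
  let q : B ⧸ J ^ 2 →ₐ[A] B ⧸ J := Ideal.Quotient.factorₐ A hle
  have hq : Function.Surjective q := Ideal.Quotient.factor_surjective hle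
  have hker : RingHom.ker q.toRingHom = J.map (Ideal.Quotient.mk (J ^ 2)) := by
    exact Ideal.Quotient.factor_ker hle
  have hnil : IsNilpotent (RingHom.ker q.toRingHom) := ⟨2, by rw [hker, ← Ideal.map_pow, Ideal.map_quotient_self]; rfl⟩
  let s : B ⧸ J →ₐ[A] B ⧸ J ^ 2 := Algebra.FormallySmooth.liftOfSurjective (AlgHom.id A (B ⧸ J)) q hq hnil
  have hs : ∀ c, q (s c) = c := fun c => Algebra.FormallySmooth.liftOfSurjective_apply _ q hq hnil c
  let F : Type u := J.Cotangent →₀ B ⧸ J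
  let u : F →ₗ[B ⧸ J] J.Cotangent := Finsupp.linearCombination (B ⧸ J) id
  have hu : Function.Surjective u := Finsupp.linearCombination_surjective _ Function.surjective_id
  -- products in the square-zero part
  have hsq : ∀ (a a' : B ⧸ J ^ 2), a ∈ J.map (Ideal.Quotient.mk (J ^ 2)) → a' ∈ J.map (Ideal.Quotient.mk (J ^ 2)) →
      a * a' = 0 := fun a a' ha ha' => by
    have h1 := Ideal.mul_mem_mul ha ha'
    rwa [← Ideal.map_mul, ← sq, Ideal.map_quotient_self, Ideal.mem_bot] at h1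
  have hjmem : ∀ p, J.cotangentToQuotientSquare p ∈ J.map (Ideal.Quotient.mk (J ^ 2)) := fun p => by
    obtain ⟨x, rfl⟩ := J.toCotangent_surjective p
    exact Ideal.mem_map_of_mem _ x.2
  have hjs : ∀ (c : B ⧸ J) p, J.cotangentToQuotientSquare (c • p) = s c * J.cotangentToQuotientSquare p := fun c p => by
    obtain ⟨b, rfl⟩ := Ideal.Quotient.mk_surjective c
    rw [show (Ideal.Quotient.mk J b) • p = b • p from algebraMap_smul (B ⧸ J) b p, map_smul, Algebra.smul_def,
      Ideal.Quotient.algebraMap_eq, ← sub_eq_zero, ← sub_mul]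
    refine hsq _ _ ?_ (hjmem p)
    rw [← hker, RingHom.mem_ker, map_sub]
    exact sub_eq_zero.2 ((Ideal.Quotient.factor_mk hle b).trans (hs _).symm)
  let ρ : TrivSqZeroExt (B ⧸ J) F →ₐ[A] B ⧸ J ^ 2 :=
    { toFun := fun e => s e.fst + J.cotangentToQuotientSquare (u e.snd)
      map_one' := by simp
      map_zero' := by simp
      map_add' := fun e e' => by simp only [TrivSqZeroExt.fst_add, TrivSqZeroExt.snd_add, map_add]; abel
      map_mul' := fun e e' => by
        simp only [TrivSqZeroExt.fst_mul, TrivSqZeroExt.snd_mul, op_smul_eq_smul, map_mul, map_add, map_smul, hjs]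
        linear_combination (-1 : B ⧸ J ^ 2) * hsq _ _ (hjmem (u e.snd)) (hjmem (u e'.snd))
      commutes' := fun a => by
        simp [TrivSqZeroExt.algebraMap_eq_inl'] }
  have hρq : ∀ e, q (ρ e) = e.fst := fun e => by
    show q (s e.fst + J.cotangentToQuotientSquare (u e.snd)) = e.fst
    rw [map_add, hs, show q (J.cotangentToQuotientSquare (u e.snd)) = 0 from
      (RingHom.mem_ker (f := q.toRingHom)).1 (hker ▸ hjmem _), add_zero]
  have hρ : Function.Surjective ρ := fun y => by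
    have hy : y - s (q y) ∈ J.map (Ideal.Quotient.mk (J ^ 2)) := by
      rw [← hker, RingHom.mem_ker, map_sub]
      exact sub_eq_zero.2 (hs _).symm
    obtain ⟨x, hx, hx'⟩ := (Ideal.mem_map_iff_of_surjective _ Ideal.Quotient.mk_surjective).1 hy
    obtain ⟨f, hf⟩ := hu (J.toCotangent ⟨x, hx⟩)
    refine ⟨TrivSqZeroExt.inl (q y) + TrivSqZeroExt.inr f, ?_⟩
    show s (_ : B ⧸ J) + J.cotangentToQuotientSquare (u _) = y
    simp only [TrivSqZeroExt.fst_add, TrivSqZeroExt.fst_inl, TrivSqZeroExt.fst_inr, add_zero, TrivSqZeroExt.snd_add,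
      TrivSqZeroExt.snd_inl, TrivSqZeroExt.snd_inr, zero_add, hf, Ideal.toCotangent_to_quotient_square]
    rw [show (J ^ 2).mkQ ((⟨x, hx⟩ : J) : B) = y - s (q y) from hx']
    abel
  have hρker : (RingHom.ker ρ) ^ 2 = ⊥ := by
    rw [sq, ← le_bot_iff, Ideal.mul_le]
    intro a ha b hb
    have ha' : a.fst = 0 := by rw [← hρq, (RingHom.mem_ker).1 ha, map_zero]
    have hb' : b.fst = 0 := by rw [← hρq, (RingHom.mem_ker).1 hb, map_zero]
    rw [Ideal.mem_bot]
    ext
    · simp [ha']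
    · simp [ha', hb']
  let e := Ideal.quotientKerAlgEquivOfSurjective hρ
  obtain ⟨χ, hχ⟩ := h _ (RingHom.ker ρ) hρker (e.symm.toAlgHom.comp (Ideal.Quotient.mkₐ A (J ^ 2))) ⟨2, fun x hx => by
    rw [AlgHom.comp_apply, Ideal.Quotient.mkₐ_eq_mk, Ideal.Quotient.eq_zero_iff_mem.2 hx, map_zero]⟩
  have hχ' : ∀ b, ρ (χ b) = Ideal.Quotient.mk (J ^ 2) b := fun b => by
    have h1 := congrArg e (AlgHom.congr_fun hχ b)
    rw [AlgHom.comp_apply, AlgHom.comp_apply] at h1
    simpa [e] using h1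
  have hfst : ∀ b, (χ b).fst = Ideal.Quotient.mk J b := fun b => by
    rw [← hρq, hχ']; exact Ideal.Quotient.factor_mk hle b
  have hkill : ∀ x ∈ J ^ 2, χ x = 0 := fun x hx => by
    rw [sq] at hx
    induction hx using Submodule.mul_induction_on' with
    | mem_mul_mem a ha b hb =>
      rw [map_mul]
      ext
      · simp [hfst, Ideal.Quotient.eq_zero_iff_mem.2 ha]
      · simp [hfst, Ideal.Quotient.eq_zero_iff_mem.2 ha, Ideal.Quotient.eq_zero_iff_mem.2 hb]
    | add a _ b _ ha hb => rw [map_add, ha, hb, add_zero]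
  have hwell : ∀ x y : J, J.toCotangent x = J.toCotangent y → (χ x).snd = (χ y).snd := fun x y hxy => by
    have h1 := hkill _ (J.toCotangent_eq.1 hxy)
    rw [map_sub, sub_eq_zero] at h1
    rw [h1]
  choose g hg using J.toCotangent_surjective
  let v : J.Cotangent →ₗ[B ⧸ J] F :=
    { toFun := fun p => (χ (g p)).snd
      map_add' := fun p p' => by
        rw [hwell _ (g p + g p') (by rw [hg, map_add, hg, hg]), Submodule.coe_add, map_add, TrivSqZeroExt.snd_add]
      map_smul' := fun c p => by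
        obtain ⟨b, rfl⟩ := Ideal.Quotient.mk_surjective c
        rw [hwell _ (b • g p) (by rw [hg, map_smul, hg]; exact algebraMap_smul (B ⧸ J) b p), Submodule.coe_smul,
          smul_eq_mul, map_mul, TrivSqZeroExt.snd_mul, hfst, hfst, Ideal.Quotient.eq_zero_iff_mem.2 (g p).2]
        simp }
  refine Module.Projective.of_split v u (LinearMap.ext fun p => J.cotangentToQuotientSquare_injective ?_)
  obtain ⟨x, hx⟩ : ∃ x, g p = x := ⟨_, rfl⟩
  have h1 := hχ' (x : B)
  change s (χ (x : B)).fst + J.cotangentToQuotientSquare (u (χ (x : B)).snd) = _ at h1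
  rw [hfst, Ideal.Quotient.eq_zero_iff_mem.2 x.2, map_zero, zero_add, ← hx] at h1
  rw [LinearMap.comp_apply, LinearMap.id_apply]
  exact h1.trans ((Ideal.toCotangent_to_quotient_square J _).symm.trans (congrArg _ (hg p)))

theorem ker_le_pow_of_adicSmooth {S : Type u} [CommRing S] [Algebra A S] (h : CAlgX.IsAdicFormallySmooth A B J)
    {m : ℕ} (φ : S →ₐ[A] B ⧸ J ^ m) (hsurj : Function.Surjective φ) (I : Ideal S) (hm : 2 ≤ m)
    (hpow : I ^ m ≤ RingHom.ker φ) (hK2 : RingHom.ker φ ≤ I ^ 2)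
    (hJ : ∀ x ∈ J, ∃ t ∈ I, φ t = Ideal.Quotient.mk (J ^ m) x) : RingHom.ker φ ≤ I ^ m := by
  -- lift the identity
  let π := Ideal.Quotient.mkₐ A (I ^ m)
  let φ' : S ⧸ I ^ m →ₐ[A] B ⧸ J ^ m :=
    Ideal.Quotient.liftₐ _ φ hpow
  have hφ' : Function.Surjective φ' := fun y => by
    obtain ⟨t, ht⟩ := hsurj y
    exact ⟨π t, ht⟩
  have hφ'2 : RingHom.ker φ' ≤ (I ^ 2).map π := by
    intro a ha
    obtain ⟨t, rfl⟩ := Ideal.Quotient.mk_surjective a
    exact Ideal.mem_map_of_mem π (hK2 (show φ t = 0 from ha))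
  have hnil : (RingHom.ker φ') ^ m = ⊥ := by
    rw [← le_bot_iff]
    refine (Ideal.pow_right_mono (hφ'2.trans (Ideal.map_mono (Ideal.pow_le_self two_ne_zero))) m).trans ?_
    rw [← Ideal.map_pow]
    exact (Ideal.map_quotient_self _).le
  let e := Ideal.quotientKerAlgEquivOfSurjective hφ'
  obtain ⟨χ, hχ1, hχ2⟩ := Groth.Agent.CAlgH.AdicSmooth.exists_lift_nilpotent h (algebraMap A _) (RingHom.ker φ') hnil
    (e.symm.toAlgHom.comp (Ideal.Quotient.mkₐ A (J ^ m))).toRingHom
    (RingHom.ext fun a => AlgHom.commutes (e.symm.toAlgHom.comp (Ideal.Quotient.mkₐ A (J ^ m))) a)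
    ⟨m, fun x hx => by
      show e.symm (Ideal.Quotient.mk (J ^ m) x) = 0
      rw [Ideal.Quotient.eq_zero_iff_mem.2 hx, map_zero]⟩
  have hχ' : ∀ b, φ' (χ b) = Ideal.Quotient.mk (J ^ m) b := fun b => by
    have h1 := congrArg e (RingHom.congr_fun hχ2 b)
    simpa [e] using h1
  have hθ : ∀ t b, φ t = Ideal.Quotient.mk (J ^ m) b → χ b - π t ∈ (I ^ 2).map π :=
    fun t b ht => hφ'2 (by rw [RingHom.mem_ker, map_sub, hχ', ← ht]; exact sub_self _)
  have hχJ : J.map χ ≤ (I).map π := by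
    rw [Ideal.map_le_iff_le_comap]
    intro x hx
    obtain ⟨t, ht, ht'⟩ := hJ x hx
    have h2 := add_mem (Ideal.map_mono (Ideal.pow_le_self two_ne_zero) (hθ t x ht')) (Ideal.mem_map_of_mem π ht)
    rwa [sub_add_cancel] at h2
  have hχm : ∀ x ∈ J ^ m, χ x = 0 := fun x hx => by
    have h2 := Ideal.mem_map_of_mem χ hx
    rw [Ideal.map_pow] at h2
    replace h2 := Ideal.pow_right_mono hχJ m h2
    rw [← Ideal.map_pow] at h2
    exact (Ideal.mem_bot).1 ((Ideal.map_quotient_self _).le h2)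
  let θ : S →+* S ⧸ I ^ m :=
    (Ideal.Quotient.lift (J ^ m) χ hχm).comp φ.toRingHom
  have hθ' : ∀ t, θ t - π t ∈ (I ^ 2).map π := fun t => by
    obtain ⟨b, hb⟩ := Ideal.Quotient.mk_surjective (φ t)
    show Ideal.Quotient.lift (J ^ m) χ hχm (φ t) - π t ∈ _
    rw [← hb, Ideal.Quotient.lift_mk]
    exact hθ t b hb.symm
  have hθI : ∀ n, (I ^ n).map θ ≤ (I ^ n).map π := fun n => by
    rw [Ideal.map_pow, Ideal.map_pow]
    refine Ideal.pow_right_mono ?_ n
    rw [Ideal.map_le_iff_le_comap]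
    intro t ht
    have h2 := add_mem (Ideal.map_mono (Ideal.pow_le_self two_ne_zero) (hθ' t)) (Ideal.mem_map_of_mem π ht)
    rwa [sub_add_cancel] at h2
  have hstep : ∀ n, ∀ t ∈ I ^ n, θ t - π t ∈ (I ^ (n + 1)).map π := by
    intro n
    induction n with
    | zero => exact fun t _ => Ideal.map_mono (Ideal.pow_le_pow_right (by omega)) (hθ' t)
    | succ n ih =>
      intro t ht
      rw [pow_succ] at ht
      induction ht using Submodule.mul_induction_on' with
      | mem_mul_mem a ha x hx =>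
        rw [map_mul, map_mul, show θ a * θ x - π a * π x = (θ a - π a) * θ x + π a * (θ x - π x) by ring]
        refine add_mem ?_ ?_
        · rw [pow_succ _ (n + 1), Ideal.map_mul]
          refine Ideal.mul_mem_mul (ih a ha) ?_
          have := hθI 1
          rw [pow_one] at this
          exact this (Ideal.mem_map_of_mem θ hx)
        · rw [show n + 1 + 1 = n + 2 from rfl, pow_add, Ideal.map_mul]
          exact Ideal.mul_mem_mul (Ideal.mem_map_of_mem π ha) (hθ' x)
      | add a _ b _ ha hb => rw [map_add, map_add, add_sub_add_comm]; exact add_mem ha hb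
  intro x hx
  rw [RingHom.mem_ker] at hx
  have hθx : θ x = 0 := by
    show Ideal.Quotient.lift (J ^ m) χ hχm (φ x) = 0
    rw [hx, map_zero]
  have key : ∀ n ≤ m, x ∈ I ^ n := by
    intro n
    induction n with
    | zero => simp
    | succ n ih =>
      intro hn
      have h2 := hstep n x (ih (by omega))
      rw [hθx, zero_sub, neg_mem_iff] at h2
      obtain ⟨y, hy, hyx⟩ := (Ideal.mem_map_iff_of_surjective π (Ideal.Quotient.mkₐ_surjective A _)).1 h2
      have := add_mem hy (Ideal.pow_le_pow_right hn ((Ideal.Quotient.eq).1 hyx.symm))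
      rwa [add_sub_cancel] at this
  exact key m le_rfl

theorem IsModel.ker_le [Module.Projective (B ⧸ J) J.Cotangent] (hφ : IsModel φ) (hm : 2 ≤ m)
    (h : CAlgX.IsAdicFormallySmooth A B J) : RingHom.ker φ ≤ augIdeal J J.Cotangent ^ m := by
  -- the kernel lies in the square of the augmentation ideal
  have hK2 : RingHom.ker φ ≤ augIdeal J J.Cotangent ^ 2 := fun x hx => by
    rw [RingHom.mem_ker] at hx
    obtain ⟨b, hb⟩ := exists_const_add x
    have h1 := hφ.map_augIdeal_le (Ideal.mem_map_of_mem φ hb)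
    rw [map_sub, hx, zero_sub] at h1
    have h2 := add_mem h1 (hφ.alg b)
    rw [neg_add_eq_sub, sub_sub_cancel_left, ← neg_mem_iff, neg_neg,
      Ideal.mem_map_iff_of_surjective _ Ideal.Quotient.mk_surjective] at h2
    obtain ⟨c, hc, hcb⟩ := h2
    have hbJ : b ∈ J := by
      have := add_mem hc (Ideal.pow_le_self (show m ≠ 0 by omega) ((Ideal.Quotient.eq).1 hcb.symm))
      rwa [add_sub_cancel] at this
    rw [IsScalarTower.algebraMap_apply B (B ⧸ J), Ideal.Quotient.algebraMap_eq,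
      Ideal.Quotient.eq_zero_iff_mem.2 hbJ, map_zero, sub_zero] at hb
    let ι := ULift.{u} (Fin 1)
    have hcard : Fintype.card ι = 1 := by simp [ι]
    obtain ⟨σ, hσ, hσmem⟩ := exists_sigma J J.Cotangent ι
    obtain ⟨z, hz⟩ := exists_sub_sigma_mem σ hσ (x := x) (by rwa [hcard, pow_one])
    rw [hcard] at hz
    -- the degree one part is the image of a cotangent vector
    obtain ⟨p, hp⟩ : ∃ p, σ z = SymmetricAlgebra.ι (B ⧸ J) J.Cotangent p := by
      clear hz
      induction z using symPower_induction with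
      | h0 => exact ⟨0, by rw [map_zero, map_zero]⟩
      | hadd a b ha hb =>
        obtain ⟨p, hp⟩ := ha; obtain ⟨p', hp'⟩ := hb
        exact ⟨p + p', by rw [map_add, map_add, hp, hp']⟩
      | ht r q => exact ⟨r • q ⟨0⟩, by rw [map_smul, hσ, Fintype.prod_unique, LinearMap.map_smul_of_tower]; rfl⟩
    obtain ⟨y, rfl⟩ := J.toCotangent_surjective p
    have h3 := hφ.map_pow_augIdeal _ (Ideal.mem_map_of_mem φ hz)
    rw [map_sub, hx, zero_sub, hp] at h3
    have h4 := add_mem h3 (hφ.gen y)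
    rw [neg_add_eq_sub, sub_sub_cancel_left, ← neg_mem_iff, neg_neg,
      Ideal.mem_map_iff_of_surjective _ Ideal.Quotient.mk_surjective] at h4
    obtain ⟨c, hc, hcy⟩ := h4
    have hy0 : J.toCotangent y = 0 := by
      rw [Ideal.toCotangent_eq_zero]
      have := add_mem hc (Ideal.pow_le_pow_right hm ((Ideal.Quotient.eq).1 hcy.symm))
      rwa [add_sub_cancel] at this
    rwa [hp, hy0, map_zero, sub_zero] at hz
  exact ker_le_pow_of_adicSmooth h φ hφ.surjective (augIdeal J J.Cotangent) hm hφ.pow_le_ker hK2 fun x hx => by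
    obtain ⟨t, ht, ht'⟩ := hφ.exists_preimage m 1 x (by omega) (by rwa [pow_one])
    exact ⟨t, by rwa [pow_one] at ht, ht'⟩

theorem symGrBijective [Algebra.FormallySmooth A (B ⧸ J)] (h : CAlgX.IsAdicFormallySmooth A B J) :
    PP16.SymGrBijective B J := by
  haveI := projective_cotangent h
  intro ι _ _
  obtain ⟨φ, hφ⟩ := exists_model (A := A) (J := J) (Fintype.card ι + 1) (by have := Fintype.card_pos (α := ι); omega)
  have hker := hφ.ker_le (by have := Fintype.card_pos (α := ι); omega) h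
  obtain ⟨σ, hσ, hσmem⟩ := exists_sigma J J.Cotangent ι
  let g : PP16.grJ B J (Fintype.card ι) →ₗ[B] B ⧸ J ^ (Fintype.card ι + 1) :=
    Submodule.liftQ _ ((J ^ (Fintype.card ι + 1)).mkQ ∘ₗ (J ^ Fintype.card ι).subtype) fun y hy => by
      rw [LinearMap.mem_ker, LinearMap.comp_apply]
      exact Ideal.Quotient.eq_zero_iff_mem.2 hy
  have hg : Function.Injective g := by
    rw [← LinearMap.ker_eq_bot, ← le_bot_iff]
    intro y hy
    obtain ⟨w, rfl⟩ := Submodule.Quotient.mk_surjective _ y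
    rw [Submodule.mem_bot, Submodule.Quotient.mk_eq_zero]
    exact Ideal.Quotient.eq_zero_iff_mem.1 hy
  have hzero : ∀ {a : B ⧸ J ^ (Fintype.card ι + 1)},
      a ∈ (J ^ (Fintype.card ι + 1)).map (Ideal.Quotient.mk (J ^ (Fintype.card ι + 1))) → a = 0 := fun {a} ha => by
    rwa [Ideal.map_quotient_self, Ideal.mem_bot] at ha
  let L : SymmetricPower B ι J.Cotangent →ₗ[B] B ⧸ J ^ (Fintype.card ι + 1) :=
    { toFun := fun z => φ (σ z)
      map_add' := fun a b => by rw [map_add, map_add]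
      map_smul' := fun r z => by
        rw [map_smul, RingHom.id_apply, Algebra.smul_def r (φ (σ z)), Ideal.Quotient.algebraMap_eq]
        exact sub_eq_zero.1 (hzero (hφ.map_smul_sub_mem r (hσmem z))) }
  have hL : ∀ z, L z ∈ LinearMap.range g := fun z => by
    obtain ⟨y, hy, hy'⟩ := (Ideal.mem_map_iff_of_surjective _ Ideal.Quotient.mk_surjective).1
      (hφ.map_pow_augIdeal _ (Ideal.mem_map_of_mem φ (hσmem z)))
    exact ⟨Submodule.Quotient.mk ⟨y, hy⟩, hy'⟩
  let φn := (LinearEquiv.ofInjective g hg).symm.toLinearMap ∘ₗ L.codRestrict (LinearMap.range g) hL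
  have hgφn : ∀ z, g (φn z) = φ (σ z) := fun z => by
    show g ((LinearEquiv.ofInjective g hg).symm ⟨L z, hL z⟩) = L z
    exact congrArg Subtype.val ((LinearEquiv.ofInjective g hg).apply_symm_apply ⟨L z, hL z⟩)
  refine ⟨φn, fun x => hg ?_, ?_, ?_⟩
  · rw [hgφn, hσ]
    have h1 := hφ.gen_prod x Finset.univ
    rw [Finset.card_univ] at h1
    exact (sub_eq_zero.1 (hzero h1)).trans rfl
  · rw [injective_iff_map_eq_zero]
    intro z hz
    refine eq_zero_of_sigma_mem σ hσ z (hker ?_)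
    rw [RingHom.mem_ker, ← hgφn, hz, map_zero]
  · intro y
    obtain ⟨⟨w, hw⟩, rfl⟩ := Submodule.Quotient.mk_surjective _ y
    obtain ⟨t, ht, ht'⟩ := hφ.exists_preimage 1 (Fintype.card ι) w le_rfl hw
    obtain ⟨z, hz⟩ := exists_sub_sigma_mem σ hσ ht
    refine ⟨z, hg ?_⟩
    rw [hgφn]
    have h1 := hzero (hφ.map_pow_augIdeal _ (Ideal.mem_map_of_mem φ hz))
    rw [map_sub, sub_eq_zero, ht'] at h1
    rw [← h1]
    rfl

end Groth.Agent.EGA41Lib.SymGr
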