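import Mathlib
import Groth.Agent.EGA41Lib.SymGrPrime

/-!
# Formally unramified adic algebras and differentials
-/

set_option autoImplicit false

universe u

open TensorProduct

namespace Groth.Agent.EGA41Lib.UR

variable {A B : Type u} [CommRing A] [CommRing B] [Algebra A B]

theorem pow_smul_top_eq {M : Type u} [AddCommGroup M] [Module B M] {𝔟 : Ideal B}
    (h : 𝔟 • (⊤ : Submodule B M) = ⊤) : ∀ n : ℕ, 𝔟 ^ n • (⊤ : Submodule B M) = ⊤
  | 0 => by rw [pow_zero, Ideal.one_eq_top, Submodule.top_smul]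
  | n + 1 => by rw [pow_succ, Submodule.mul_smul, h, pow_smul_top_eq h n]

/-- Two continuous lifts agree once the differentials are divisible by the ideal. -/
theorem eq_of_smul_top (𝔟 : Ideal B) (h : 𝔟 • (⊤ : Submodule B (Ω[B⁄A])) = ⊤) {E : Type u} [CommRing E]
    [Algebra A E] (J : Ideal E) (hJ : IsNilpotent J) (v₁ v₂ : B →ₐ[A] E) (h₁ : ∃ m : ℕ, ∀ x ∈ 𝔟 ^ m, v₁ x = 0)
    (hv : ∀ b : B, Ideal.Quotient.mk J (v₁ b) = Ideal.Quotient.mk J (v₂ b)) : v₁ = v₂ := by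
  obtain ⟨N, hN⟩ := hJ
  obtain ⟨m, hm⟩ := h₁
  have key : ∀ i : ℕ, ∀ b, v₁ b - v₂ b ∈ J ^ (i + 1) := by
    intro i
    induction i with
    | zero => intro b; rw [zero_add, pow_one]; exact Ideal.Quotient.eq.1 (hv b)
    | succ i ih =>
      intro b
      letI : Algebra B (E ⧸ J ^ (i + 1 + 1)) := ((Ideal.Quotient.mk (J ^ (i + 1 + 1))).comp v₁.toRingHom).toAlgebra
      haveI : IsScalarTower A B (E ⧸ J ^ (i + 1 + 1)) := IsScalarTower.of_algebraMap_eq fun a => by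
        show _ = Ideal.Quotient.mk _ (v₁ (algebraMap A B a))
        rw [AlgHom.commutes]; rfl
      let D : Derivation A B (E ⧸ J ^ (i + 1 + 1)) := Derivation.mk'
        ((Ideal.Quotient.mkₐ A (J ^ (i + 1 + 1))).toLinearMap ∘ₗ (v₁.toLinearMap - v₂.toLinearMap)) fun a c => by
        show Ideal.Quotient.mk _ (v₁ (a * c) - v₂ (a * c)) =
          Ideal.Quotient.mk _ (v₁ a) * Ideal.Quotient.mk _ (v₁ c - v₂ c) +
          Ideal.Quotient.mk _ (v₁ c) * Ideal.Quotient.mk _ (v₁ a - v₂ a)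
        rw [← map_mul, ← map_mul, ← map_add, Ideal.Quotient.eq, map_mul, map_mul,
          show v₁ a * v₁ c - v₂ a * v₂ c - (v₁ a * (v₁ c - v₂ c) + v₁ c * (v₁ a - v₂ a)) =
            -((v₁ a - v₂ a) * (v₁ c - v₂ c)) by ring, neg_mem_iff, pow_succ]
        exact Ideal.mul_mem_mul (ih a) (Ideal.pow_le_self (Nat.succ_ne_zero i) (ih c))
      have h0 : D b = 0 := by
        have hmem : KaehlerDifferential.D A B b ∈ 𝔟 ^ m • (⊤ : Submodule B (Ω[B⁄A])) := by
          rw [pow_smul_top_eq h m]; trivial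
        rw [← D.liftKaehlerDifferential_comp_D b]
        refine Submodule.smul_induction_on hmem (fun r hr x _ => ?_) fun x y hx hy => by rw [map_add, hx, hy, add_zero]
        rw [map_smul, Algebra.smul_def, show algebraMap B (E ⧸ J ^ (i + 1 + 1)) r = Ideal.Quotient.mk _ (v₁ r) from rfl,
          hm r hr, map_zero, zero_mul]
      exact Ideal.Quotient.eq_zero_iff_mem.1 h0
  refine AlgHom.ext fun b => sub_eq_zero.1 ?_
  have := Ideal.pow_le_pow_right (Nat.le_succ N) (key N b)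
  rwa [hN, Ideal.zero_eq_bot, Ideal.mem_bot] at this

/-- Uniqueness of lifts makes the differentials divisible by the ideal. -/
theorem smul_top_eq (𝔞 : Ideal A) (𝔟 : Ideal B) (hAB : ∃ k : ℕ, (𝔞 ^ k).map (algebraMap A B) ≤ 𝔟)
    (h : ∀ (E : Type u) [CommRing E] [Algebra A E], (∃ k : ℕ, (𝔞 ^ k).map (algebraMap A E) = ⊥) →
      ∀ J : Ideal E, IsNilpotent J → ∀ v₁ v₂ : B →ₐ[A] E,
        (∃ m : ℕ, ∀ x ∈ 𝔟 ^ m, v₁ x = 0) → (∃ m : ℕ, ∀ x ∈ 𝔟 ^ m, v₂ x = 0) →
        (∀ b : B, Ideal.Quotient.mk J (v₁ b) = Ideal.Quotient.mk J (v₂ b)) → v₁ = v₂) :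
    𝔟 • (⊤ : Submodule B (Ω[B⁄A])) = ⊤ := by
  let M := Ω[B⁄A] ⧸ (𝔟 • (⊤ : Submodule B (Ω[B⁄A])))
  haveI : IsScalarTower A (B ⧸ 𝔟) M := ⟨fun a r x => by
    obtain ⟨b, rfl⟩ := Ideal.Quotient.mk_surjective r
    rw [show a • Ideal.Quotient.mk 𝔟 b = Ideal.Quotient.mk 𝔟 (a • b) from (map_smul (Ideal.Quotient.mkₐ A 𝔟) a b).symm,
      ← Ideal.Quotient.algebraMap_eq, algebraMap_smul, algebraMap_smul, smul_assoc]⟩
  letI : Module (B ⧸ 𝔟)ᵐᵒᵖ M := Module.compHom M ((RingHom.id (B ⧸ 𝔟)).fromOpposite fun x y => mul_comm _ _)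
  haveI : IsCentralScalar (B ⧸ 𝔟) M := ⟨fun _ _ => rfl⟩
  let D : Derivation A B M := (Submodule.mkQ _).compDer (KaehlerDifferential.D A B)
  let v₁ : B →ₐ[A] (TrivSqZeroExt (B ⧸ 𝔟) M) := (TrivSqZeroExt.inlAlgHom A (B ⧸ 𝔟) M).comp (Ideal.Quotient.mkₐ A 𝔟)
  let v₂ : B →ₐ[A] (TrivSqZeroExt (B ⧸ 𝔟) M) :=
    { toFun := fun b => TrivSqZeroExt.inl (Ideal.Quotient.mk 𝔟 b) + TrivSqZeroExt.inr (D b)
      map_one' := by ext <;> simp
      map_zero' := by ext <;> simp
      map_add' := fun a b => by ext <;> simp <;> abel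
      map_mul' := fun a b => by
        refine TrivSqZeroExt.ext ?_ ?_
        · simp only [TrivSqZeroExt.fst_mul, TrivSqZeroExt.fst_add, TrivSqZeroExt.fst_inl, TrivSqZeroExt.fst_inr,
            add_zero, map_mul]
        · simp only [TrivSqZeroExt.snd_add, TrivSqZeroExt.snd_inl, TrivSqZeroExt.snd_inr, zero_add,
            TrivSqZeroExt.snd_mul, TrivSqZeroExt.fst_add, TrivSqZeroExt.fst_inl, TrivSqZeroExt.fst_inr, add_zero,
            op_smul_eq_smul, ← Ideal.Quotient.algebraMap_eq, algebraMap_smul, Derivation.leibniz]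
      commutes' := fun a => by
        rw [Derivation.map_algebraMap, TrivSqZeroExt.inr_zero, add_zero]
        rfl }
  let J : Ideal (TrivSqZeroExt (B ⧸ 𝔟) M) := RingHom.ker (TrivSqZeroExt.fstHom ℤ (B ⧸ 𝔟) M)
  have hJ : IsNilpotent J := ⟨2, by
    rw [sq, Ideal.zero_eq_bot, ← le_bot_iff, Ideal.mul_le]
    intro a ha b hb
    rw [Ideal.mem_bot]
    refine TrivSqZeroExt.ext ?_ ?_ <;> simp [show a.fst = 0 from ha, show b.fst = 0 from hb]⟩
  obtain ⟨k, hk⟩ := hAB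
  have hE : ∃ k : ℕ, (𝔞 ^ k).map (algebraMap A (TrivSqZeroExt (B ⧸ 𝔟) M)) = ⊥ := ⟨k, by
    rw [eq_bot_iff, Ideal.map_le_iff_le_comap]
    intro a ha
    rw [Ideal.mem_comap, Ideal.mem_bot]
    show TrivSqZeroExt.inl (Ideal.Quotient.mk 𝔟 (algebraMap A B a)) = (0 : (TrivSqZeroExt (B ⧸ 𝔟) M))
    rw [Ideal.Quotient.eq_zero_iff_mem.2 (hk (Ideal.mem_map_of_mem _ ha)), TrivSqZeroExt.inl_zero]⟩
  have hv : v₁ = v₂ := h (TrivSqZeroExt (B ⧸ 𝔟) M) hE J hJ v₁ v₂
    ⟨1, fun x hx => by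
      show TrivSqZeroExt.inl (Ideal.Quotient.mk 𝔟 x) = (0 : (TrivSqZeroExt (B ⧸ 𝔟) M))
      rw [Ideal.Quotient.eq_zero_iff_mem.2 (by simpa using hx), TrivSqZeroExt.inl_zero]⟩
    ⟨2, fun x hx => by
      rw [sq] at hx
      refine Submodule.mul_induction_on hx (fun a ha b hb => ?_) fun a b ha hb => by rw [map_add, ha, hb, add_zero]
      rw [map_mul]
      refine TrivSqZeroExt.ext ?_ ?_ <;>
        simp [v₂, Ideal.Quotient.eq_zero_iff_mem.2 ha, Ideal.Quotient.eq_zero_iff_mem.2 hb]⟩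
    fun b => Ideal.Quotient.eq.2 (show TrivSqZeroExt.fst (v₁ b - v₂ b) = 0 by simp [v₁, v₂])
  have hmem : ∀ b, KaehlerDifferential.D A B b ∈ 𝔟 • (⊤ : Submodule B (Ω[B⁄A])) := fun b => by
    have h1 := congrArg TrivSqZeroExt.snd (AlgHom.congr_fun hv b)
    simp only [v₁, v₂, AlgHom.comp_apply] at h1
    have h2 : D b = 0 := by simpa using h1.symm
    exact (Submodule.Quotient.mk_eq_zero _).1 h2
  have hspan : Submodule.span B (Set.range (KaehlerDifferential.D A B)) ≤ 𝔟 • (⊤ : Submodule B (Ω[B⁄A])) :=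
    Submodule.span_le.2 (by rintro _ ⟨b, rfl⟩; exact hmem b)
  rw [KaehlerDifferential.span_range_derivation] at hspan
  exact _root_.eq_top_iff.2 hspan

theorem subsingleton_completion_iff (𝔟 : Ideal B) (M : Type u) [AddCommGroup M] [Module B M] :
    Subsingleton (AdicCompletion 𝔟 M) ↔ 𝔟 • (⊤ : Submodule B M) = ⊤ := by
  constructor
  · intro h
    rw [_root_.eq_top_iff]
    intro x _
    have h1 := congrArg (AdicCompletion.eval 𝔟 M 1) (Subsingleton.elim (AdicCompletion.of 𝔟 M x) 0)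
    rw [map_zero, AdicCompletion.eval_of, Submodule.mkQ_apply, Submodule.Quotient.mk_eq_zero, pow_one] at h1
    exact h1
  · intro h
    refine subsingleton_of_forall_eq 0 fun x => AdicCompletion.ext fun n => ?_
    obtain ⟨y, hy⟩ := Submodule.Quotient.mk_surjective _ (x.val n)
    rw [← hy, AdicCompletion.val_zero_apply, Submodule.Quotient.mk_eq_zero, pow_smul_top_eq h n]
    trivial

/-- Divisibility of differentials is vanishing of the differentials of the fibre. -/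
theorem smul_top_eq_iff (𝔪 : Ideal A) :
    (𝔪.map (algebraMap A B)) • (⊤ : Submodule B (Ω[B⁄A])) = ⊤ ↔
      Subsingleton (Ω[B ⧸ 𝔪.map (algebraMap A B)⁄A ⧸ 𝔪]) := by
  let 𝔟 := 𝔪.map (algebraMap A B)
  let e := LinearEquiv.ofBijective (KaehlerDifferential.map A (A ⧸ 𝔪) (B ⧸ 𝔟) (B ⧸ 𝔟))
    (haveI : Subsingleton (Ω[A ⧸ 𝔪⁄A]) :=
      KaehlerDifferential.subsingleton_of_surjective _ _ Ideal.Quotient.mk_surjective
     Groth.Agent.EGA41Lib.SymGr.bijective_map_of_subsingleton)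
  rw [← e.toEquiv.subsingleton_congr]
  constructor
  · intro h
    refine subsingleton_of_forall_eq 0 fun z => ?_
    obtain ⟨y, rfl⟩ := KaehlerDifferential.mapBaseChange_surjective A B (B ⧸ 𝔟) Ideal.Quotient.mk_surjective z
    induction y with
    | zero => exact map_zero _
    | add x y hx hy => rw [map_add, hx, hy, add_zero]
    | tmul c ω =>
      rw [KaehlerDifferential.mapBaseChange_tmul]
      have hω : ω ∈ 𝔟 • (⊤ : Submodule B (Ω[B⁄A])) := by rw [h]; trivial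
      refine Submodule.smul_induction_on hω (fun r hr x _ => ?_) fun x y hx hy => by rw [map_add, smul_add, hx, hy, add_zero]
      rw [map_smul, ← algebraMap_smul (B ⧸ 𝔟) r, Ideal.Quotient.algebraMap_eq,
        Ideal.Quotient.eq_zero_iff_mem.2 hr, zero_smul, smul_zero]
  · intro h
    have hsurj : Function.Surjective (algebraMap B (B ⧸ 𝔟)) := Ideal.Quotient.mk_surjective
    have hzero : ∀ z : (B ⧸ 𝔟) ⊗[B] Ω[B⁄A], z = 0 := fun z => by
      obtain ⟨c, rfl⟩ := (KaehlerDifferential.exact_kerCotangentToTensor_mapBaseChange A B (B ⧸ 𝔟) hsurj z).1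
        (Subsingleton.elim _ _)
      obtain ⟨⟨x, hx⟩, rfl⟩ := Ideal.toCotangent_surjective _ c
      rw [KaehlerDifferential.kerCotangentToTensor_toCotangent]
      have hx' : x ∈ Submodule.span B (algebraMap A B '' 𝔪) := Ideal.Quotient.eq_zero_iff_mem.1 hx
      show (1 : B ⧸ 𝔟) ⊗ₜ[B] KaehlerDifferential.D A B x = 0
      clear hx
      induction hx' using Submodule.span_induction with
      | mem y hy =>
        obtain ⟨a, -, rfl⟩ := hy
        show (1 : B ⧸ 𝔟) ⊗ₜ[B] KaehlerDifferential.D A B (algebraMap A B a) = 0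
        rw [Derivation.map_algebraMap, TensorProduct.tmul_zero]
      | zero =>
        show (1 : B ⧸ 𝔟) ⊗ₜ[B] KaehlerDifferential.D A B 0 = 0
        rw [map_zero, TensorProduct.tmul_zero]
      | add y w _ _ hy hw =>
        show (1 : B ⧸ 𝔟) ⊗ₜ[B] KaehlerDifferential.D A B (y + w) = 0
        rw [map_add, TensorProduct.tmul_add, hy, hw, add_zero]
      | smul r y hy ih =>
        show (1 : B ⧸ 𝔟) ⊗ₜ[B] KaehlerDifferential.D A B (r * y) = 0
        rw [Derivation.leibniz, TensorProduct.tmul_add, TensorProduct.tmul_smul, ih, smul_zero, zero_add,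
          TensorProduct.tmul_smul, ← algebraMap_smul (B ⧸ 𝔟) y, Ideal.Quotient.algebraMap_eq,
          Ideal.Quotient.eq_zero_iff_mem.2 (show y ∈ 𝔟 from hy), zero_smul]
    rw [_root_.eq_top_iff]
    intro ω _
    have h1 := congrArg (TensorProduct.quotTensorEquivQuotSMul (Ω[B⁄A]) 𝔟) (hzero ((1 : B ⧸ 𝔟) ⊗ₜ ω))
    rw [map_zero, ← map_one (Ideal.Quotient.mk 𝔟), TensorProduct.quotTensorEquivQuotSMul_mk_tmul, one_smul,
      Submodule.Quotient.mk_eq_zero] at h1
    exact h1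

end Groth.Agent.EGA41Lib.UR
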